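import Mathlib

set_option autoImplicit false

/-!
# Basic facts on `SL₂` and `PSL₂` over a field (helper41)

Everything is stated on the level of the underlying matrices.
-/

namespace Cfsg.Agent.Lib.Helper41


variable {F : Type*} [Field F]

/-- the trace of an element of `SL₂` -/
def tr2 (A : Matrix.SpecialLinearGroup (Fin 2) F) : F := (A : Matrix (Fin 2) (Fin 2) F) 0 0 + (A : Matrix (Fin 2) (Fin 2) F) 1 1

theorem sl2_det (A : Matrix.SpecialLinearGroup (Fin 2) F) :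
    (A : Matrix (Fin 2) (Fin 2) F) 0 0 * (A : Matrix (Fin 2) (Fin 2) F) 1 1
      - (A : Matrix (Fin 2) (Fin 2) F) 0 1 * (A : Matrix (Fin 2) (Fin 2) F) 1 0 = 1 := by
  have := A.det_coe
  rwa [Matrix.det_fin_two] at this

theorem coe_inv_eq (A : Matrix.SpecialLinearGroup (Fin 2) F) :
    ((A⁻¹ : Matrix.SpecialLinearGroup (Fin 2) F) : Matrix (Fin 2) (Fin 2) F)
      = !![(A : Matrix (Fin 2) (Fin 2) F) 1 1, -(A : Matrix (Fin 2) (Fin 2) F) 0 1;
           -(A : Matrix (Fin 2) (Fin 2) F) 1 0, (A : Matrix (Fin 2) (Fin 2) F) 0 0] := by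
  rw [Matrix.SpecialLinearGroup.coe_inv, Matrix.adjugate_fin_two]

/-- `A + A⁻¹ = tr A` -/
theorem coe_add_coe_inv (A : Matrix.SpecialLinearGroup (Fin 2) F) :
    (A : Matrix (Fin 2) (Fin 2) F) + ((A⁻¹ : Matrix.SpecialLinearGroup (Fin 2) F) : Matrix (Fin 2) (Fin 2) F)
      = tr2 A • (1 : Matrix (Fin 2) (Fin 2) F) := by
  rw [coe_inv_eq]
  ext i j
  fin_cases i <;> fin_cases j <;> simp [tr2, add_comm]

theorem coe_mul_coe_inv (A : Matrix.SpecialLinearGroup (Fin 2) F) :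
    (A : Matrix (Fin 2) (Fin 2) F) * ((A⁻¹ : Matrix.SpecialLinearGroup (Fin 2) F) : Matrix (Fin 2) (Fin 2) F) = 1 := by
  rw [← Matrix.SpecialLinearGroup.coe_mul, mul_inv_cancel, Matrix.SpecialLinearGroup.coe_one]

theorem coe_inv_mul_coe (A : Matrix.SpecialLinearGroup (Fin 2) F) :
    ((A⁻¹ : Matrix.SpecialLinearGroup (Fin 2) F) : Matrix (Fin 2) (Fin 2) F) * (A : Matrix (Fin 2) (Fin 2) F) = 1 := by
  rw [← Matrix.SpecialLinearGroup.coe_mul, inv_mul_cancel, Matrix.SpecialLinearGroup.coe_one]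

/-- Cayley–Hamilton for `SL₂`: `A * A = tr A • A - 1` -/
theorem cayley_hamilton (A : Matrix.SpecialLinearGroup (Fin 2) F) :
    (A : Matrix (Fin 2) (Fin 2) F) * (A : Matrix (Fin 2) (Fin 2) F)
      = tr2 A • (A : Matrix (Fin 2) (Fin 2) F) - 1 := by
  have h := congrArg (fun M => (A : Matrix (Fin 2) (Fin 2) F) * M) (coe_add_coe_inv A)
  simp only [mul_add, coe_mul_coe_inv, Matrix.mul_smul, Matrix.mul_one] at h
  rw [← h]
  abel

/-- membership in the centre of `SL₂(F)` -/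
theorem mem_center_iff_pm (A : Matrix.SpecialLinearGroup (Fin 2) F) :
    A ∈ Subgroup.center (Matrix.SpecialLinearGroup (Fin 2) F) ↔
      (A : Matrix (Fin 2) (Fin 2) F) = 1 ∨ (A : Matrix (Fin 2) (Fin 2) F) = -1 := by
  rw [Matrix.SpecialLinearGroup.mem_center_iff]
  constructor
  · rintro ⟨r, hr, hA⟩
    rw [Fintype.card_fin] at hr
    have hr' : r = 1 ∨ r = -1 := by
      have : (r - 1) * (r + 1) = 0 := by ring_nf; rw [hr]; ring
      rcases mul_eq_zero.mp this with h | h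
      · left; exact sub_eq_zero.mp h
      · right; exact eq_neg_of_add_eq_zero_left h
    rcases hr' with rfl | rfl
    · left; rw [← hA]; simp
    · right; rw [← hA]; ext i j; fin_cases i <;> fin_cases j <;> simp
  · rintro (h | h)
    · exact ⟨1, by simp, by rw [h]; simp⟩
    · exact ⟨-1, by simp, by rw [h]; ext i j; fin_cases i <;> fin_cases j <;> simp⟩

/-- scalar matrices in `SL₂(F)` are central -/
theorem mem_center_of_scalar (A : Matrix.SpecialLinearGroup (Fin 2) F) (c : F)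
    (h : (A : Matrix (Fin 2) (Fin 2) F) = c • (1 : Matrix (Fin 2) (Fin 2) F)) :
    A ∈ Subgroup.center (Matrix.SpecialLinearGroup (Fin 2) F) := by
  rw [Matrix.SpecialLinearGroup.mem_center_iff]
  refine ⟨c, ?_, ?_⟩
  · have hd := A.det_coe
    rw [h, Matrix.det_fin_two] at hd
    simp at hd
    rw [Fintype.card_fin, pow_two]; exact hd
  · rw [h]; ext i j; simp [Matrix.one_apply, Matrix.scalar_apply, Matrix.diagonal_apply]

theorem mk_eq_one_iff (A : Matrix.SpecialLinearGroup (Fin 2) F) :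
    ((QuotientGroup.mk A : Matrix.ProjectiveSpecialLinearGroup (Fin 2) F) = 1) ↔
      (A : Matrix (Fin 2) (Fin 2) F) = 1 ∨ (A : Matrix (Fin 2) (Fin 2) F) = -1 := by
  rw [QuotientGroup.eq_one_iff, mem_center_iff_pm]

theorem mk_pow_eq_one_iff (A : Matrix.SpecialLinearGroup (Fin 2) F) (n : ℕ) :
    ((QuotientGroup.mk A : Matrix.ProjectiveSpecialLinearGroup (Fin 2) F) ^ n = 1) ↔
      (A : Matrix (Fin 2) (Fin 2) F) ^ n = 1 ∨ (A : Matrix (Fin 2) (Fin 2) F) ^ n = -1 := by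
  rw [← QuotientGroup.mk_pow, mk_eq_one_iff, Matrix.SpecialLinearGroup.coe_pow]

end Cfsg.Agent.Lib.Helper41
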