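import Mathlib
import Cfsg.Agent.Lib.Helper41.SL2Basic

set_option autoImplicit false

/-!
# Conjugation and traces in `SL₂` and `PSL₂` (helper41)
-/

namespace Cfsg.Agent.Lib.Helper41

variable {F : Type*} [Field F]

theorem tr2_eq_trace (A : Matrix.SpecialLinearGroup (Fin 2) F) :
    tr2 A = Matrix.trace (A : Matrix (Fin 2) (Fin 2) F) := by
  rw [Matrix.trace_fin_two]; rfl

theorem tr2_conj (W P : Matrix.SpecialLinearGroup (Fin 2) F) :
    tr2 (W * P * W⁻¹) = tr2 P := by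
  rw [tr2_eq_trace, tr2_eq_trace, Matrix.SpecialLinearGroup.coe_mul, Matrix.trace_mul_comm,
    ← Matrix.SpecialLinearGroup.coe_mul, ← mul_assoc, inv_mul_cancel, one_mul]

/-- equality in `PSL₂` in terms of matrices -/
theorem mk_eq_mk_iff (A B : Matrix.SpecialLinearGroup (Fin 2) F) :
    ((QuotientGroup.mk A : Matrix.ProjectiveSpecialLinearGroup (Fin 2) F) = QuotientGroup.mk B) ↔
      (A : Matrix (Fin 2) (Fin 2) F) = B ∨ (A : Matrix (Fin 2) (Fin 2) F) = -B := by
  rw [QuotientGroup.eq, mem_center_iff_pm, Matrix.SpecialLinearGroup.coe_mul]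
  have h1 : (A : Matrix (Fin 2) (Fin 2) F) *
      ((A⁻¹ : Matrix.SpecialLinearGroup (Fin 2) F) : Matrix (Fin 2) (Fin 2) F) = 1 := coe_mul_coe_inv A
  constructor
  · rintro (h | h)
    · left
      have := congrArg (fun M => (A : Matrix (Fin 2) (Fin 2) F) * M) h
      simp only [← mul_assoc, h1, one_mul, mul_one] at this
      exact this.symm
    · right
      have := congrArg (fun M => (A : Matrix (Fin 2) (Fin 2) F) * M) h
      simp only [← mul_assoc, h1, one_mul, mul_neg, mul_one] at this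
      rw [this, neg_neg]
  · rintro (h | h)
    · left; rw [← h, coe_inv_mul_coe]
    · right
      have : (B : Matrix (Fin 2) (Fin 2) F) = -A := by rw [h, neg_neg]
      rw [this, mul_neg, coe_inv_mul_coe]

theorem tr2_eq_of_coe_eq (A B : Matrix.SpecialLinearGroup (Fin 2) F)
    (h : (A : Matrix (Fin 2) (Fin 2) F) = B) : tr2 A = tr2 B := by
  unfold tr2; rw [h]

theorem tr2_eq_neg_of_coe_eq_neg (A B : Matrix.SpecialLinearGroup (Fin 2) F)
    (h : (A : Matrix (Fin 2) (Fin 2) F) = -B) : tr2 A = -tr2 B := by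
  unfold tr2; rw [h]; simp [add_comm]

/-- conjugate elements of `PSL₂` have lifts whose traces agree up to sign -/
theorem isConj_mk_tr2 (P Q : Matrix.SpecialLinearGroup (Fin 2) F)
    (h : IsConj (QuotientGroup.mk P : Matrix.ProjectiveSpecialLinearGroup (Fin 2) F)
      (QuotientGroup.mk Q)) : tr2 Q = tr2 P ∨ tr2 Q = -tr2 P := by
  rw [isConj_iff] at h
  obtain ⟨w, hw⟩ := h
  obtain ⟨W, rfl⟩ := QuotientGroup.mk_surjective w
  rw [← QuotientGroup.mk_inv, ← QuotientGroup.mk_mul, ← QuotientGroup.mk_mul, mk_eq_mk_iff] at hw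
  rcases hw with hw | hw
  · left; rw [← tr2_conj W P]; exact (tr2_eq_of_coe_eq _ _ hw).symm
  · right
    have : (Q : Matrix (Fin 2) (Fin 2) F) = -(W * P * W⁻¹ : Matrix.SpecialLinearGroup (Fin 2) F) := by
      rw [hw, neg_neg]
    rw [tr2_eq_neg_of_coe_eq_neg _ _ this, tr2_conj]

/-- upper unitriangular element -/
def upperU (u : F) : Matrix.SpecialLinearGroup (Fin 2) F :=
  ⟨!![1, u; 0, 1], by simp [Matrix.det_fin_two]⟩

/-- lower unitriangular element -/
def lowerU (u : F) : Matrix.SpecialLinearGroup (Fin 2) F :=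
  ⟨!![1, 0; u, 1], by simp [Matrix.det_fin_two]⟩

/-- the Weyl element -/
def weylW : Matrix.SpecialLinearGroup (Fin 2) F :=
  ⟨!![0, -1; 1, 0], by simp [Matrix.det_fin_two]⟩

theorem coe_upperU (u : F) : ((upperU u : Matrix.SpecialLinearGroup (Fin 2) F) :
    Matrix (Fin 2) (Fin 2) F) = !![1, u; 0, 1] := rfl

theorem coe_lowerU (u : F) : ((lowerU u : Matrix.SpecialLinearGroup (Fin 2) F) :
    Matrix (Fin 2) (Fin 2) F) = !![1, 0; u, 1] := rfl

theorem coe_weylW : ((weylW : Matrix.SpecialLinearGroup (Fin 2) F) :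
    Matrix (Fin 2) (Fin 2) F) = !![0, -1; 1, 0] := rfl

/-- entries of a general conjugate -/
theorem conj_lowerU_apply_one_zero (X : Matrix.SpecialLinearGroup (Fin 2) F) (v : F) :
    ((lowerU v * X * (lowerU v)⁻¹ : Matrix.SpecialLinearGroup (Fin 2) F) :
      Matrix (Fin 2) (Fin 2) F) 1 0 =
      (X : Matrix (Fin 2) (Fin 2) F) 1 0
        + v * ((X : Matrix (Fin 2) (Fin 2) F) 0 0 - (X : Matrix (Fin 2) (Fin 2) F) 1 1)
        - v ^ 2 * (X : Matrix (Fin 2) (Fin 2) F) 0 1 := by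
  simp only [Matrix.SpecialLinearGroup.coe_mul, coe_inv_eq, coe_lowerU, Matrix.mul_apply,
    Fin.sum_univ_two]
  simp
  ring

theorem conj_weylW_apply_one_zero (X : Matrix.SpecialLinearGroup (Fin 2) F) :
    ((weylW * X * (weylW)⁻¹ : Matrix.SpecialLinearGroup (Fin 2) F) :
      Matrix (Fin 2) (Fin 2) F) 1 0 = -(X : Matrix (Fin 2) (Fin 2) F) 0 1 := by
  simp only [Matrix.SpecialLinearGroup.coe_mul, coe_inv_eq, coe_weylW, Matrix.mul_apply,
    Fin.sum_univ_two]
  simp

/-- a non-central element of `SL₂(F)` has a conjugate with non-zero lower left entry -/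
theorem exists_conj_apply_one_zero_ne_zero (X : Matrix.SpecialLinearGroup (Fin 2) F)
    (hX : X ∉ Subgroup.center (Matrix.SpecialLinearGroup (Fin 2) F)) :
    ∃ W : Matrix.SpecialLinearGroup (Fin 2) F,
      ((W * X * W⁻¹ : Matrix.SpecialLinearGroup (Fin 2) F) : Matrix (Fin 2) (Fin 2) F) 1 0 ≠ 0 := by
  by_cases hc : (X : Matrix (Fin 2) (Fin 2) F) 1 0 = 0
  · by_cases hb : (X : Matrix (Fin 2) (Fin 2) F) 0 1 = 0
    · refine ⟨lowerU 1, ?_⟩
      rw [conj_lowerU_apply_one_zero, hc, hb]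
      simp only [zero_add, one_mul, one_pow, mul_zero, sub_zero]
      intro had
      apply hX
      apply mem_center_of_scalar X ((X : Matrix (Fin 2) (Fin 2) F) 0 0)
      ext i j
      fin_cases i <;> fin_cases j <;> simp [hc, hb]
      exact (sub_eq_zero.mp had).symm
    · refine ⟨weylW, ?_⟩
      rw [conj_weylW_apply_one_zero]
      exact neg_ne_zero.mpr hb
  · exact ⟨1, by simpa using hc⟩

/-- the trace of `(U_u X U_u⁻¹) Y` as a polynomial in `u` -/
theorem tr2_conj_upperU_mul (X Y : Matrix.SpecialLinearGroup (Fin 2) F) (u : F) :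
    tr2 (upperU u * X * (upperU u)⁻¹ * Y) = tr2 (X * Y)
      + u * ((X : Matrix (Fin 2) (Fin 2) F) 1 0 *
          ((Y : Matrix (Fin 2) (Fin 2) F) 0 0 - (Y : Matrix (Fin 2) (Fin 2) F) 1 1)
        - (Y : Matrix (Fin 2) (Fin 2) F) 1 0 *
          ((X : Matrix (Fin 2) (Fin 2) F) 0 0 - (X : Matrix (Fin 2) (Fin 2) F) 1 1))
      - u ^ 2 * ((X : Matrix (Fin 2) (Fin 2) F) 1 0 * (Y : Matrix (Fin 2) (Fin 2) F) 1 0) := by
  simp only [tr2, Matrix.SpecialLinearGroup.coe_mul, coe_inv_eq, coe_upperU, Matrix.mul_apply,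
    Fin.sum_univ_two]
  simp
  ring

end Cfsg.Agent.Lib.Helper41
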