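import Mathlib

set_option autoImplicit false

/-!
# Class number of a group with an index-2 subgroup inverted by the elements outside (helper41)

If `T ≤ N` has index 2 and every `g ∉ T` inverts `T` by conjugation (so `T` is abelian), then
`2 * k(N) = |T| + 3 * #{t ∈ T | t² = 1}`.  This covers dihedral, dicyclic (generalised quaternion)
groups, and the normalisers of the tori of `SL₂(q)`.
-/

namespace Cfsg.Agent.Lib.Helper41

open Classical in
theorem sum_card_commute_eq (G : Type*) [Group G] [Fintype G] :
    ∑ g : G, Fintype.card {h : G // Commute g h} = Nat.card (ConjClasses G) * Fintype.card G := by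
  rw [← Nat.card_eq_fintype_card (α := G), ← card_comm_eq_card_conjClasses_mul_card,
    Nat.card_eq_fintype_card,
    Fintype.card_congr (Equiv.subtypeProdEquivSigmaSubtype (Commute (S := G))), Fintype.card_sigma]

open Classical in
theorem two_mul_card_conjClasses_of_inverting {N : Type*} [Group N] [Finite N] (T : Subgroup N)
    (hidx : T.index = 2) (hinv : ∀ g : N, g ∉ T → ∀ t ∈ T, g * t * g⁻¹ = t⁻¹) :
    2 * Nat.card (ConjClasses N) = Nat.card T + 3 * Nat.card {t : N // t ∈ T ∧ t * t = 1} := by
  have := Fintype.ofFinite N
  -- an element outside `T`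
  obtain ⟨g0, hg0⟩ : ∃ g0 : N, g0 ∉ T := by
    by_contra hne
    push Not at hne
    have : T = ⊤ := eq_top_iff.mpr fun x _ => hne x
    rw [this, Subgroup.index_top] at hidx
    omega
  have hmul : ∀ {a b : N}, a * b ∈ T ↔ (a ∈ T ↔ b ∈ T) := fun {a b} =>
    Subgroup.mul_mem_iff_of_index_two hidx
  -- `T` is abelian
  have hab : ∀ a ∈ T, ∀ b ∈ T, a * b = b * a := by
    intro a ha b hb
    have h1 := hinv g0 hg0 (a * b) (T.mul_mem ha hb)
    have h2 := hinv g0 hg0 a ha
    have h3 := hinv g0 hg0 b hb
    have h4 : g0 * (a * b) * g0⁻¹ = (g0 * a * g0⁻¹) * (g0 * b * g0⁻¹) := by group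
    rw [h1, h2, h3, mul_inv_rev] at h4
    have := congrArg (fun x => x⁻¹) h4
    simpa using this
  set n := Fintype.card T with hn
  set m := Fintype.card {t : N // t ∈ T ∧ t * t = 1} with hm
  have hN : Fintype.card N = 2 * n := by
    have := T.card_mul_index
    rw [hidx, Nat.card_eq_fintype_card, Nat.card_eq_fintype_card] at this
    omega
  have hnpos : 0 < n := Fintype.card_pos
  -- centraliser sizes
  have hc1 : ∀ g ∈ T, g * g ≠ 1 → Fintype.card {h : N // Commute g h} = n := by
    intro g hg hgg
    apply Fintype.card_congr
    apply Equiv.subtypeEquivRight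
    intro h
    constructor
    · intro hc
      by_contra hh
      have h1 := hinv h hh g hg
      have h2 : h * g * h⁻¹ = g := by rw [← hc.eq]; group
      rw [h2] at h1
      apply hgg
      calc g * g = g * g⁻¹ := by rw [← h1]
        _ = 1 := mul_inv_cancel g
    · intro hh
      exact hab g hg h hh
  have hc2 : ∀ g ∈ T, g * g = 1 → Fintype.card {h : N // Commute g h} = 2 * n := by
    intro g hg hgg
    rw [← hN, ← Fintype.card_congr (Equiv.subtypeUnivEquiv (p := fun h : N => Commute g h) ?_)]
    intro h
    by_cases hh : h ∈ T
    · exact hab g hg h hh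
    · have h1 := hinv h hh g hg
      have h2 : g⁻¹ = g := inv_eq_of_mul_eq_one_right hgg
      rw [h2] at h1
      show g * h = h * g
      calc g * h = (h * g * h⁻¹) * h := by rw [h1]
        _ = h * g := by group
  have hc3 : ∀ g : N, g ∉ T → Fintype.card {h : N // Commute g h} = 2 * m := by
    intro g hg
    have hcomm_in : ∀ u ∈ T, (Commute g u ↔ u * u = 1) := by
      intro u hu
      have h1 := hinv g hg u hu
      constructor
      · intro hc
        have h2 : g * u * g⁻¹ = u := by rw [hc.eq]; group
        rw [h2] at h1
        calc u * u = u * u⁻¹ := by rw [← h1]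
          _ = 1 := mul_inv_cancel u
      · intro huu
        have h2 : u⁻¹ = u := inv_eq_of_mul_eq_one_right huu
        rw [h2] at h1
        show g * u = u * g
        calc g * u = (g * u * g⁻¹) * g := by group
          _ = u * g := by rw [h1]
    -- split the centraliser according to membership in `T`
    have e : {h : N // Commute g h} ≃ {t : N // t ∈ T ∧ t * t = 1} ⊕ {t : N // t ∈ T ∧ t * t = 1} :=
      { toFun := fun h =>
          if hh : (h : N) ∈ T then Sum.inl ⟨h, hh, (hcomm_in h hh).mp h.2⟩
          else Sum.inr ⟨g⁻¹ * h, by
            have hu : g⁻¹ * (h : N) ∈ T := by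
              rw [hmul]
              constructor
              · intro hgi; exact absurd (by simpa using T.inv_mem hgi) hg
              · intro hh'; exact absurd hh' hh
            refine ⟨hu, (hcomm_in _ hu).mp ?_⟩
            have hc : g * (h : N) = h * g := h.2.eq
            show g * (g⁻¹ * h) = g⁻¹ * h * g
            calc g * (g⁻¹ * (h : N)) = g⁻¹ * (g * h) := by group
              _ = g⁻¹ * (h * g) := by rw [hc]
              _ = g⁻¹ * h * g := by group⟩
        invFun := fun s => match s with
          | Sum.inl u => ⟨u, (hcomm_in u u.2.1).mpr u.2.2⟩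
          | Sum.inr u => ⟨g * u, by
              have hc : g * (u : N) = u * g := ((hcomm_in u u.2.1).mpr u.2.2).eq
              show g * (g * u) = g * u * g
              calc g * (g * (u : N)) = g * (u * g) := by rw [hc]
                _ = g * u * g := by group⟩
        left_inv := by
          intro h
          by_cases hh : (h : N) ∈ T
          · simp [hh]
          · simp [hh]
        right_inv := by
          rintro (u | u)
          · simp [u.2.1]
          · have : g * (u : N) ∉ T := by
              rw [hmul]
              intro hiff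
              exact hg (hiff.mpr u.2.1)
            simp [this] }
    rw [Fintype.card_congr e, Fintype.card_sum, ← hm]
    ring
  -- the sum of centraliser sizes
  have hsum : ∑ g : N, Fintype.card {h : N // Commute g h}
      = ∑ g : N, (if g ∈ T then (if g * g = 1 then 2 * n else n) else 2 * m) := by
    apply Finset.sum_congr rfl
    intro g _
    by_cases hg : g ∈ T
    · by_cases hgg : g * g = 1
      · simp [hg, hgg, hc2 g hg hgg]
      · simp [hg, hgg, hc1 g hg hgg]
    · simp [hg, hc3 g hg]
  have hcardT : (Finset.univ.filter (fun g : N => g ∈ T)).card = n := by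
    rw [hn, Fintype.card_subtype]
  have hcardnotT : (Finset.univ.filter (fun g : N => g ∉ T)).card = n := by
    have := Finset.card_filter_add_card_filter_not (s := (Finset.univ : Finset N))
      (fun g : N => g ∈ T)
    rw [hcardT, Finset.card_univ, hN] at this
    omega
  have hcardB : ((Finset.univ.filter (fun g : N => g ∈ T)).filter (fun g => g * g = 1)).card = m := by
    rw [hm, Fintype.card_subtype, Finset.filter_filter]
  have hcardA : ((Finset.univ.filter (fun g : N => g ∈ T)).filter (fun g => ¬ g * g = 1)).card
      = n - m := by
    have := Finset.card_filter_add_card_filter_not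
      (s := (Finset.univ.filter (fun g : N => g ∈ T))) (fun g : N => g * g = 1)
    rw [hcardB, hcardT] at this
    omega
  have hmn : m ≤ n := by
    rw [← hcardB, ← hcardT]
    exact Finset.card_le_card (Finset.filter_subset _ _)
  have htotal : ∑ g : N, Fintype.card {h : N // Commute g h}
      = m * (2 * n) + (n - m) * n + n * (2 * m) := by
    rw [hsum, Finset.sum_ite, Finset.sum_ite, Finset.sum_const, Finset.sum_const, Finset.sum_const,
      hcardB, hcardA, hcardnotT]
    simp only [smul_eq_mul]
  have hk := sum_card_commute_eq N
  rw [htotal, hN] at hk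
  have e1 : Nat.card T = n := Nat.card_eq_fintype_card
  have e2 : Nat.card {t : N // t ∈ T ∧ t * t = 1} = m := Nat.card_eq_fintype_card
  rw [e1, e2]
  -- arithmetic
  have h1 : m * (2 * n) + (n - m) * n + n * (2 * m) = n * (n + 3 * m) := by
    obtain ⟨d, hd⟩ := Nat.exists_eq_add_of_le hmn
    rw [hd, Nat.add_sub_cancel_left]
    ring
  rw [h1] at hk
  have h2 : n * (n + 3 * m) = n * (2 * Nat.card (ConjClasses N)) := by rw [hk]; ring
  exact (Nat.eq_of_mul_eq_mul_left hnpos h2).symm

end Cfsg.Agent.Lib.Helper41
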