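import Mathlib
import Cfsg.Agent.Lib.Helper41.SL2Basic
import Cfsg.Agent.Lib.Helper41.SL2Conj

set_option autoImplicit false

/-!
# Conjugacy classes of `SL₂(F)`, `F` finite, are determined by the trace `t` when `t² ≠ 4` (helper41)
-/

namespace Cfsg.Agent.Lib.Helper41

open Polynomial

variable {F : Type*} [Field F] [Fintype F]

/-- a non-degenerate binary quadratic form over a finite field represents `1` -/
theorem binary_form_represents_one (α β γ : F) (hD : β ^ 2 - 4 * α * γ ≠ 0) :
    ∃ x y : F, α * x ^ 2 + β * x * y + γ * y ^ 2 = 1 := by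
  by_cases hα : α = 0
  · subst hα
    have hβ : β ≠ 0 := by
      intro h; apply hD; rw [h]; ring
    refine ⟨(1 - γ) / β, 1, ?_⟩
    field_simp
    ring
  · by_cases hc : ringChar F = 2
    · obtain ⟨s, hs⟩ := FiniteField.isSquare_of_char_two hc (α⁻¹)
      refine ⟨s, 0, ?_⟩
      have : α * (s * s) = 1 := by rw [← hs]; exact mul_inv_cancel₀ hα
      rw [pow_two]; simp [this]
    · have hodd : Fintype.card F % 2 = 1 := FiniteField.odd_card_of_char_ne_two hc
      have h2 : (2 : F) ≠ 0 := Ring.two_ne_zero hc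
      set D := β ^ 2 - 4 * α * γ with hDdef
      have hf : degree (X ^ 2 : F[X]) = 2 := degree_X_pow 2
      have hg : degree (C (-D) * X ^ 2 - C (4 * α) : F[X]) = 2 := by
        have h1 : degree (C (-D) * X ^ 2 : F[X]) = 2 := by
          rw [degree_C_mul (neg_ne_zero.mpr hD)]; exact degree_X_pow 2
        rw [degree_sub_eq_left_of_degree_lt]
        · exact h1
        · rw [h1]
          exact lt_of_le_of_lt degree_C_le (by norm_num)
      obtain ⟨u, y, huy⟩ := FiniteField.exists_root_sum_quadratic hf hg hodd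
      simp only [eval_pow, eval_X, eval_sub, eval_mul, eval_C] at huy
      refine ⟨(u - β * y) / (2 * α), y, ?_⟩
      have h4 : (4 : F) ≠ 0 := by
        have : (4 : F) = 2 * 2 := by norm_num
        rw [this]; exact mul_ne_zero h2 h2
      field_simp
      rw [hDdef] at huy
      linear_combination huy

/-- the companion matrix of `X² - tX + 1` -/
def companion (t : F) : Matrix.SpecialLinearGroup (Fin 2) F :=
  ⟨!![0, -1; 1, t], by simp [Matrix.det_fin_two]⟩

omit [Fintype F] in
theorem coe_companion (t : F) : ((companion t : Matrix.SpecialLinearGroup (Fin 2) F) :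
    Matrix (Fin 2) (Fin 2) F) = !![0, -1; 1, t] := rfl

omit [Fintype F] in
theorem tr2_companion (t : F) : tr2 (companion t) = t := by
  simp [tr2, coe_companion]

/-- every element of `SL₂(F)` with trace `t`, `t² ≠ 4`, is conjugate (in `SL₂(F)`) to the companion
matrix -/
theorem exists_conj_companion (A : Matrix.SpecialLinearGroup (Fin 2) F)
    (ht : (tr2 A) ^ 2 ≠ 4) :
    ∃ P : Matrix.SpecialLinearGroup (Fin 2) F, A * P = P * companion (tr2 A) := by
  set a := (A : Matrix (Fin 2) (Fin 2) F) 0 0 with ha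
  set b := (A : Matrix (Fin 2) (Fin 2) F) 0 1 with hb
  set c := (A : Matrix (Fin 2) (Fin 2) F) 1 0 with hc
  set d := (A : Matrix (Fin 2) (Fin 2) F) 1 1 with hd
  have hdet : a * d - b * c = 1 := sl2_det A
  have htr : tr2 A = a + d := rfl
  have hD : (d - a) ^ 2 - 4 * c * (-b) ≠ 0 := by
    intro h
    apply ht
    rw [htr]
    linear_combination h + 4 * hdet
  obtain ⟨x, y, hxy⟩ := binary_form_represents_one c (d - a) (-b) hD
  have hPdet : (!![x, a * x + b * y; y, c * x + d * y] : Matrix (Fin 2) (Fin 2) F).det = 1 := by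
    rw [Matrix.det_fin_two]
    simp only [Matrix.of_apply, Matrix.cons_val', Matrix.cons_val_zero, Matrix.cons_val_one,
      Matrix.cons_val_fin_one]
    linear_combination hxy
  have hA : (A : Matrix (Fin 2) (Fin 2) F) = !![a, b; c, d] := by
    ext i j; fin_cases i <;> fin_cases j <;> rfl
  have hmat : (A : Matrix (Fin 2) (Fin 2) F) * !![x, a * x + b * y; y, c * x + d * y]
      = !![x, a * x + b * y; y, c * x + d * y] * !![0, -1; 1, tr2 A] := by
    rw [hA, htr]
    ext i j
    fin_cases i <;> fin_cases j <;>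
      simp [Matrix.mul_apply, Fin.sum_univ_two]
    · linear_combination (-x) * hdet
    · linear_combination (-y) * hdet
  refine ⟨⟨!![x, a * x + b * y; y, c * x + d * y], hPdet⟩, ?_⟩
  apply Subtype.ext
  exact hmat

/-- two elements of `SL₂(F)` with the same trace `t`, `t² ≠ 4`, are conjugate -/
theorem isConj_of_tr2_eq (A B : Matrix.SpecialLinearGroup (Fin 2) F)
    (ht : (tr2 A) ^ 2 ≠ 4) (hAB : tr2 A = tr2 B) : IsConj A B := by
  obtain ⟨P, hP⟩ := exists_conj_companion A ht
  obtain ⟨Q, hQ⟩ := exists_conj_companion B (hAB ▸ ht)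
  rw [isConj_iff]
  refine ⟨Q * P⁻¹, ?_⟩
  have hA : A = P * companion (tr2 A) * P⁻¹ := by rw [← hP]; group
  have hB : B = Q * companion (tr2 B) * Q⁻¹ := by rw [← hQ]; group
  rw [hB, ← hAB]
  conv_lhs => rw [hA]
  group

end Cfsg.Agent.Lib.Helper41
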