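import Mathlib
import Cfsg.Agent.Lib.Helper41.SL2Basic
import Cfsg.Agent.Lib.Helper41.SL2Trace

set_option autoImplicit false

/-!
# The non-split torus of `SL₂(F)`, `F` finite, via `QuadraticAlgebra F (-1) t` (helper41)
-/

namespace Cfsg.Agent.Lib.Helper41

variable {F : Type*} [Field F]

theorem coe_mul_self_eq (A : Matrix.SpecialLinearGroup (Fin 2) F) :
    (A : Matrix (Fin 2) (Fin 2) F) * (A : Matrix (Fin 2) (Fin 2) F)
      = (-1 : F) • (1 : Matrix (Fin 2) (Fin 2) F) + tr2 A • (A : Matrix (Fin 2) (Fin 2) F) := by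
  rw [cayley_hamilton, neg_smul, one_smul]; abel

/-- the algebra map `F[ω]/(ω² - tω + 1) → M₂(F)`, `ω ↦ A` -/
noncomputable def quadHom (A : Matrix.SpecialLinearGroup (Fin 2) F) :
    QuadraticAlgebra F (-1) (tr2 A) →ₐ[F] Matrix (Fin 2) (Fin 2) F :=
  QuadraticAlgebra.lift ⟨(A : Matrix (Fin 2) (Fin 2) F), coe_mul_self_eq A⟩

theorem quadHom_apply (A : Matrix.SpecialLinearGroup (Fin 2) F)
    (z : QuadraticAlgebra F (-1) (tr2 A)) :
    quadHom A z = z.re • (1 : Matrix (Fin 2) (Fin 2) F) + z.im • (A : Matrix (Fin 2) (Fin 2) F) := rfl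

theorem quadHom_omega (A : Matrix.SpecialLinearGroup (Fin 2) F) :
    quadHom A QuadraticAlgebra.omega = (A : Matrix (Fin 2) (Fin 2) F) := by
  rw [quadHom_apply]; simp

theorem det_quadHom (A : Matrix.SpecialLinearGroup (Fin 2) F)
    (z : QuadraticAlgebra F (-1) (tr2 A)) :
    (quadHom A z).det = QuadraticAlgebra.norm z := by
  rw [quadHom_apply, QuadraticAlgebra.norm_def, Matrix.det_fin_two]
  have hdet := sl2_det A
  simp only [Matrix.add_apply, Matrix.smul_apply, Matrix.one_apply_eq, smul_eq_mul, mul_one,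
    Matrix.one_apply_ne (show (0 : Fin 2) ≠ 1 by decide),
    Matrix.one_apply_ne (show (1 : Fin 2) ≠ 0 by decide), mul_zero, zero_add]
  unfold tr2
  linear_combination (z.im * z.im) * hdet

theorem algebra_norm_eq (a b : F) (z : QuadraticAlgebra F a b) :
    Algebra.norm F z = QuadraticAlgebra.norm z := by
  rw [Algebra.norm_apply, ← QuadraticAlgebra.det_toLinearMap_eq_norm]
  rfl

variable [Fintype F]

instance finite_quadraticAlgebra (a b : F) : Finite (QuadraticAlgebra F a b) :=
  Finite.of_equiv _ (QuadraticAlgebra.equivProd a b).symm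

omit [Field F] in
theorem card_quadraticAlgebra (a b : F) :
    Nat.card (QuadraticAlgebra F a b) = Fintype.card F ^ 2 := by
  rw [Nat.card_congr (QuadraticAlgebra.equivProd a b), Nat.card_prod, Nat.card_eq_fintype_card,
    pow_two]

theorem card_sub_one_div (a b : F) :
    (Nat.card (QuadraticAlgebra F a b) - 1) / (Nat.card F - 1) = Fintype.card F + 1 := by
  rw [card_quadraticAlgebra, Nat.card_eq_fintype_card]
  have h1 : 1 < Fintype.card F := Fintype.one_lt_card
  have : Fintype.card F ^ 2 - 1 = (Fintype.card F + 1) * (Fintype.card F - 1) := by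
    zify [show 1 ≤ Fintype.card F by omega, show 1 ≤ Fintype.card F ^ 2 from Nat.one_le_pow _ _ (by omega)]
    ring
  rw [this]
  exact Nat.mul_div_cancel _ (by omega)

/-- in the field `F[ω]`, the norm is the `(q+1)`-st power -/
theorem quad_pow_card_add_one (t : F) [Fact (∀ r : F, r ^ 2 ≠ -1 + t * r)]
    (z : QuadraticAlgebra F (-1) t) :
    z ^ (Fintype.card F + 1) = algebraMap F _ (QuadraticAlgebra.norm z) := by
  rw [← algebra_norm_eq, FiniteField.algebraMap_norm_eq_pow, card_sub_one_div]

/-- if `X² - tX + 1` has no root in `F`, `t = tr A`, then `A ^ (q + 1) = 1` -/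
theorem pow_card_add_one_eq_one (A : Matrix.SpecialLinearGroup (Fin 2) F)
    (h : ∀ r : F, r ^ 2 ≠ -1 + tr2 A * r) :
    (A : Matrix (Fin 2) (Fin 2) F) ^ (Fintype.card F + 1) = 1 := by
  have : Fact (∀ r : F, r ^ 2 ≠ -1 + tr2 A * r) := ⟨h⟩
  have h1 := quad_pow_card_add_one (tr2 A) (QuadraticAlgebra.omega)
  have h2 : QuadraticAlgebra.norm (QuadraticAlgebra.omega : QuadraticAlgebra F (-1) (tr2 A)) = 1 := by
    rw [QuadraticAlgebra.norm_def]; simp
  rw [h2, map_one] at h1
  have h3 := congrArg (quadHom A) h1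
  rwa [map_pow, quadHom_omega, map_one] at h3

/-- there is a trace `t` such that `X² - tX + 1` has no root in `F` -/
theorem exists_nonsplit_trace : ∃ t : F, ∀ r : F, r ^ 2 ≠ -1 + t * r := by
  classical
  have hcard : (Finset.univ.image (fun r : Fˣ => (r : F) + (r : F)⁻¹)).card < Fintype.card F := by
    calc (Finset.univ.image (fun r : Fˣ => (r : F) + (r : F)⁻¹)).card
        ≤ (Finset.univ : Finset Fˣ).card := Finset.card_image_le
      _ = Fintype.card Fˣ := Finset.card_univ
      _ = Fintype.card F - 1 := Fintype.card_units F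
      _ < Fintype.card F := Nat.sub_lt Fintype.card_pos one_pos
  have : ∃ t : F, t ∉ Finset.univ.image (fun r : Fˣ => (r : F) + (r : F)⁻¹) := by
    by_contra hne
    push Not at hne
    have : Finset.univ.image (fun r : Fˣ => (r : F) + (r : F)⁻¹) = Finset.univ :=
      Finset.eq_univ_iff_forall.mpr hne
    rw [this, Finset.card_univ] at hcard
    exact lt_irrefl _ hcard
  obtain ⟨t, ht⟩ := this
  refine ⟨t, fun r hr => ?_⟩
  have hr0 : r ≠ 0 := by
    rintro rfl
    simp at hr
  apply ht
  rw [Finset.mem_image]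
  refine ⟨Units.mk0 r hr0, Finset.mem_univ _, ?_⟩
  simp only [Units.val_mk0]
  field_simp
  linear_combination hr

/-- `SL₂(F)` has an element of order `q + 1` -/
theorem exists_orderOf_eq_card_add_one :
    ∃ Y : Matrix.SpecialLinearGroup (Fin 2) F, orderOf Y = Fintype.card F + 1 := by
  obtain ⟨t, ht⟩ := exists_nonsplit_trace (F := F)
  have : Fact (∀ r : F, r ^ 2 ≠ -1 + t * r) := ⟨ht⟩
  -- a generator of the unit group of `K = F[ω]`
  obtain ⟨ζ, hζ⟩ := IsCyclic.exists_generator (α := (QuadraticAlgebra F (-1) t)ˣ)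
  have hordζ : orderOf ζ = Fintype.card F ^ 2 - 1 := by
    rw [orderOf_eq_card_of_forall_mem_zpowers hζ, Nat.card_units, card_quadraticAlgebra]
  have h1 : 1 < Fintype.card F := Fintype.one_lt_card
  have hfac : Fintype.card F ^ 2 - 1 = (Fintype.card F + 1) * (Fintype.card F - 1) := by
    zify [show 1 ≤ Fintype.card F by omega, show 1 ≤ Fintype.card F ^ 2 from Nat.one_le_pow _ _ (by omega)]
    ring
  set y := ζ ^ (Fintype.card F - 1) with hy
  have hordy : orderOf y = Fintype.card F + 1 := by
    rw [hy, orderOf_pow, hordζ, hfac, Nat.gcd_mul_left_left]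
    exact Nat.mul_div_cancel _ (by omega)
  have hynorm : QuadraticAlgebra.norm (y : QuadraticAlgebra F (-1) t) = 1 := by
    have h2 := quad_pow_card_add_one t (y : QuadraticAlgebra F (-1) t)
    have h3 : (y : QuadraticAlgebra F (-1) t) ^ (Fintype.card F + 1) = 1 := by
      rw [← Units.val_pow_eq_pow_val, ← hordy, pow_orderOf_eq_one, Units.val_one]
    rw [h3] at h2
    exact (QuadraticAlgebra.algebraMap_injective (a := -1) (b := t)) (by rw [← h2, map_one])
  have htr : tr2 (companion t) = t := tr2_companion t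
  -- transport along `quadHom (companion t)`
  have hcast : QuadraticAlgebra F (-1) (tr2 (companion t)) = QuadraticAlgebra F (-1) t := by rw [htr]
  let ψ : QuadraticAlgebra F (-1) t →ₐ[F] Matrix (Fin 2) (Fin 2) F :=
    QuadraticAlgebra.lift ⟨(companion t : Matrix (Fin 2) (Fin 2) F), by
      have := coe_mul_self_eq (companion t); rwa [htr] at this⟩
  have hψ_apply : ∀ z : QuadraticAlgebra F (-1) t, ψ z = z.re • (1 : Matrix (Fin 2) (Fin 2) F)
      + z.im • (companion t : Matrix (Fin 2) (Fin 2) F) := fun z => rfl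
  have hψdet : ∀ z : QuadraticAlgebra F (-1) t, (ψ z).det = QuadraticAlgebra.norm z := by
    intro z
    rw [hψ_apply, QuadraticAlgebra.norm_def, Matrix.det_fin_two, coe_companion]
    simp
    ring
  have hψinj : Function.Injective ψ := ψ.toRingHom.injective
  have hdetY : (ψ (y : QuadraticAlgebra F (-1) t)).det = 1 := by rw [hψdet, hynorm]
  let Y : Matrix.SpecialLinearGroup (Fin 2) F := ⟨ψ (y : QuadraticAlgebra F (-1) t), hdetY⟩
  refine ⟨Y, ?_⟩
  rw [← hordy]
  -- order of the matrix equals order of `y`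
  have e1 : orderOf Y = orderOf (ψ (y : QuadraticAlgebra F (-1) t)) := by
    rw [← orderOf_injective (Matrix.SpecialLinearGroup.coeMonoidHom (ι := Fin 2) (R := F))
      Matrix.SpecialLinearGroup.coeMonoidHom_injective Y]
    rfl
  have e2 : orderOf (ψ (y : QuadraticAlgebra F (-1) t)) = orderOf (y : QuadraticAlgebra F (-1) t) :=
    orderOf_injective (ψ : QuadraticAlgebra F (-1) t →* Matrix (Fin 2) (Fin 2) F) hψinj _
  rw [e1, e2, orderOf_units]

end Cfsg.Agent.Lib.Helper41
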