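import Mathlib
import Cfsg.Agent.Lib.Helper41.SL2Basic
import Cfsg.Agent.Lib.Helper41.SL2Conj
import Cfsg.Agent.Lib.Helper41.SL2Trace
import Cfsg.Agent.Lib.Helper41.SL2Nonsplit

set_option autoImplicit false

/-!
# Element orders in `SL₂(F)` and `PSL₂(F)` (helper41)
-/

namespace Cfsg.Agent.Lib.Helper41

variable {F : Type*} [Field F]

/-- In odd characteristic the only involution of `SL₂(F)` is `-1`. -/
theorem eq_one_or_neg_one_of_mul_self (h2 : (2 : F) ≠ 0) (H : Matrix.SpecialLinearGroup (Fin 2) F)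
    (hH : (H : Matrix (Fin 2) (Fin 2) F) * (H : Matrix (Fin 2) (Fin 2) F) = 1) :
    (H : Matrix (Fin 2) (Fin 2) F) = 1 ∨ (H : Matrix (Fin 2) (Fin 2) F) = -1 := by
  have hinv : ((H⁻¹ : Matrix.SpecialLinearGroup (Fin 2) F) : Matrix (Fin 2) (Fin 2) F)
      = (H : Matrix (Fin 2) (Fin 2) F) := by
    calc ((H⁻¹ : Matrix.SpecialLinearGroup (Fin 2) F) : Matrix (Fin 2) (Fin 2) F)
        = ((H⁻¹ : Matrix.SpecialLinearGroup (Fin 2) F) : Matrix (Fin 2) (Fin 2) F)
            * ((H : Matrix (Fin 2) (Fin 2) F) * (H : Matrix (Fin 2) (Fin 2) F)) := by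
          rw [hH, mul_one]
      _ = (H : Matrix (Fin 2) (Fin 2) F) := by rw [← mul_assoc, coe_inv_mul_coe, one_mul]
  have h := coe_add_coe_inv H
  rw [hinv, ← two_smul F] at h
  have hscal : (H : Matrix (Fin 2) (Fin 2) F) = ((2 : F)⁻¹ * tr2 H) • (1 : Matrix (Fin 2) (Fin 2) F) := by
    rw [mul_smul, ← h, smul_smul, inv_mul_cancel₀ h2, one_smul]
  exact (mem_center_iff_pm H).mp (mem_center_of_scalar H _ hscal)

/-- in characteristic 2, `-1 = 1` for matrices -/
theorem neg_one_eq_one_of_two_eq_zero (h2 : (2 : F) = 0) :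
    (-1 : Matrix (Fin 2) (Fin 2) F) = 1 := by
  have : (1 : Matrix (Fin 2) (Fin 2) F) + 1 = 0 := by
    rw [← two_smul F (1 : Matrix (Fin 2) (Fin 2) F), h2, zero_smul]
  exact neg_eq_of_add_eq_zero_left this

theorem coe_pow_eq_one_iff (Y : Matrix.SpecialLinearGroup (Fin 2) F) (n : ℕ) :
    (Y : Matrix (Fin 2) (Fin 2) F) ^ n = 1 ↔ Y ^ n = 1 := by
  rw [← Matrix.SpecialLinearGroup.coe_pow]
  constructor
  · intro h; exact Subtype.ext (by rw [h]; rfl)
  · intro h; rw [h]; rfl

/-- the order of the image in `PSL₂`, characteristic 2 -/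
theorem orderOf_mk_char_two (h2 : (2 : F) = 0) (Y : Matrix.SpecialLinearGroup (Fin 2) F) :
    orderOf (QuotientGroup.mk Y : Matrix.ProjectiveSpecialLinearGroup (Fin 2) F) = orderOf Y := by
  rw [orderOf_eq_orderOf_iff]
  intro n
  rw [mk_pow_eq_one_iff, neg_one_eq_one_of_two_eq_zero h2, or_self, coe_pow_eq_one_iff]

/-- the order of the image in `PSL₂`, odd characteristic, for elements of even order -/
theorem orderOf_mk_odd (h2 : (2 : F) ≠ 0) (Y : Matrix.SpecialLinearGroup (Fin 2) F)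
    (k : ℕ) (hk : orderOf Y = 2 * k) :
    orderOf (QuotientGroup.mk Y : Matrix.ProjectiveSpecialLinearGroup (Fin 2) F) = k := by
  have key : ∀ n : ℕ, (QuotientGroup.mk Y : Matrix.ProjectiveSpecialLinearGroup (Fin 2) F) ^ n = 1
      ↔ k ∣ n := by
    intro n
    rw [mk_pow_eq_one_iff]
    constructor
    · intro h
      have hsq : Y ^ (2 * n) = 1 := by
        rw [← coe_pow_eq_one_iff, mul_comm, pow_mul, pow_two]
        rcases h with h | h <;> rw [h] <;> simp
      have := orderOf_dvd_of_pow_eq_one hsq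
      rw [hk] at this
      exact Nat.dvd_of_mul_dvd_mul_left (by norm_num) this
    · intro h
      have hsq : Y ^ (2 * n) = 1 := by
        apply orderOf_dvd_iff_pow_eq_one.mp
        rw [hk]; exact Nat.mul_dvd_mul_left 2 h
      have h' := eq_one_or_neg_one_of_mul_self h2 (Y ^ n) (by
        rw [← Matrix.SpecialLinearGroup.coe_mul, ← pow_two, ← pow_mul, mul_comm, hsq]; rfl)
      rwa [Matrix.SpecialLinearGroup.coe_pow] at h'
  apply Nat.dvd_antisymm
  · exact orderOf_dvd_of_pow_eq_one ((key k).mpr dvd_rfl)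
  · exact (key _).mp (pow_orderOf_eq_one _)

/-- diagonal elements -/
def diagEl (u : Fˣ) : Matrix.SpecialLinearGroup (Fin 2) F :=
  ⟨!![(u : F), 0; 0, ((u⁻¹ : Fˣ) : F)], by simp [Matrix.det_fin_two]⟩

theorem coe_diagEl (u : Fˣ) : ((diagEl u : Matrix.SpecialLinearGroup (Fin 2) F) :
    Matrix (Fin 2) (Fin 2) F) = !![(u : F), 0; 0, ((u⁻¹ : Fˣ) : F)] := rfl

/-- the diagonal torus as a homomorphism -/
def diagHom : Fˣ →* Matrix.SpecialLinearGroup (Fin 2) F where
  toFun u := diagEl u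
  map_one' := by
    apply Subtype.ext
    rw [coe_diagEl]
    ext i j; fin_cases i <;> fin_cases j <;> simp
  map_mul' u v := by
    apply Subtype.ext
    rw [Matrix.SpecialLinearGroup.coe_mul, coe_diagEl, coe_diagEl, coe_diagEl]
    ext i j
    fin_cases i <;> fin_cases j <;>
      simp [Matrix.mul_apply, Fin.sum_univ_two, mul_comm]

theorem coe_diagHom (u : Fˣ) : ((diagHom u : Matrix.SpecialLinearGroup (Fin 2) F) :
    Matrix (Fin 2) (Fin 2) F) = !![(u : F), 0; 0, ((u⁻¹ : Fˣ) : F)] := rfl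

theorem diagHom_injective : Function.Injective (diagHom : Fˣ →* Matrix.SpecialLinearGroup (Fin 2) F) := by
  intro u v h
  have := congrArg (fun A : Matrix.SpecialLinearGroup (Fin 2) F => (A : Matrix (Fin 2) (Fin 2) F) 0 0) h
  simp only [coe_diagHom] at this
  exact Units.ext (by simpa using this)

theorem tr2_diagHom (u : Fˣ) : tr2 (diagHom u) = (u : F) + ((u⁻¹ : Fˣ) : F) := by
  simp [tr2, coe_diagHom]

/-- unipotent case: `t² = 4` implies `A^p = ±1` -/
theorem pow_char_of_tr2_sq_eq_four (p : ℕ) [Fact p.Prime] [CharP F p]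
    (A : Matrix.SpecialLinearGroup (Fin 2) F) (ht : (tr2 A) ^ 2 = 4) :
    (A : Matrix (Fin 2) (Fin 2) F) ^ p = 1 ∨ (A : Matrix (Fin 2) (Fin 2) F) ^ p = -1 := by
  have hpp : p.Prime := Fact.out
  have hp2 : 2 ≤ p := hpp.two_le
  have ht' : tr2 A = 2 ∨ tr2 A = -2 := by
    have : (tr2 A - 2) * (tr2 A + 2) = 0 := by linear_combination ht
    rcases mul_eq_zero.mp this with h | h
    · left; exact sub_eq_zero.mp h
    · right; exact eq_neg_of_add_eq_zero_left h
  rcases ht' with ht' | ht'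
  · left
    have hsq : ((A : Matrix (Fin 2) (Fin 2) F) - 1) ^ 2 = 0 := by
      rw [pow_two, sub_mul, mul_sub, mul_one, one_mul, cayley_hamilton, ht', two_smul]
      abel
    have hpw : ((A : Matrix (Fin 2) (Fin 2) F) - 1) ^ p = 0 := by
      rw [show p = 2 + (p - 2) by omega, pow_add, hsq, zero_mul]
    rw [sub_pow_char_of_commute p (Commute.one_right _), one_pow] at hpw
    exact sub_eq_zero.mp hpw
  · right
    have hsq : ((A : Matrix (Fin 2) (Fin 2) F) + 1) ^ 2 = 0 := by
      rw [pow_two, add_mul, mul_add, mul_one, one_mul, cayley_hamilton, ht', neg_smul, two_smul]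
      abel
    have hpw : ((A : Matrix (Fin 2) (Fin 2) F) + 1) ^ p = 0 := by
      rw [show p = 2 + (p - 2) by omega, pow_add, hsq, zero_mul]
    rw [add_pow_char_of_commute p (Commute.one_right _), one_pow] at hpw
    exact eq_neg_of_add_eq_zero_left hpw

variable [Fintype F]

/-- split case: `t² ≠ 4` and `X² - tX + 1` has a root: `A` is conjugate to a diagonal element -/
theorem isConj_diagHom_of_root (A : Matrix.SpecialLinearGroup (Fin 2) F) (ht : (tr2 A) ^ 2 ≠ 4)
    (r : F) (hr : r ^ 2 = -1 + tr2 A * r) :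
    ∃ u : Fˣ, IsConj (diagHom u) A := by
  have hr0 : r ≠ 0 := by
    rintro rfl
    simp at hr
  refine ⟨Units.mk0 r hr0, ?_⟩
  have htr : tr2 (diagHom (Units.mk0 r hr0)) = tr2 A := by
    rw [tr2_diagHom]
    simp only [Units.val_mk0, Units.val_inv_eq_inv_val]
    field_simp
    linear_combination hr
  exact isConj_of_tr2_eq _ _ (by rw [htr]; exact ht) htr

end Cfsg.Agent.Lib.Helper41
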