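import Mathlib
import Cfsg.Agent.Lib.Helper41.SL2Basic
import Cfsg.Agent.Lib.Helper41.SL2Conj
import Cfsg.Agent.Lib.Helper41.SL2Order
import Cfsg.Agent.Lib.Helper41.InvertCount

set_option autoImplicit false

/-!
# The split torus of `SL₂(F)` and its normaliser (helper41)
-/

namespace Cfsg.Agent.Lib.Helper41

variable {F : Type*} [Field F]

theorem mul_apply_00 (g h : Matrix.SpecialLinearGroup (Fin 2) F) :
    ((g * h : Matrix.SpecialLinearGroup (Fin 2) F) : Matrix (Fin 2) (Fin 2) F) 0 0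
      = (g : Matrix (Fin 2) (Fin 2) F) 0 0 * (h : Matrix (Fin 2) (Fin 2) F) 0 0
        + (g : Matrix (Fin 2) (Fin 2) F) 0 1 * (h : Matrix (Fin 2) (Fin 2) F) 1 0 := by
  rw [Matrix.SpecialLinearGroup.coe_mul, Matrix.mul_apply, Fin.sum_univ_two]

theorem mul_apply_01 (g h : Matrix.SpecialLinearGroup (Fin 2) F) :
    ((g * h : Matrix.SpecialLinearGroup (Fin 2) F) : Matrix (Fin 2) (Fin 2) F) 0 1
      = (g : Matrix (Fin 2) (Fin 2) F) 0 0 * (h : Matrix (Fin 2) (Fin 2) F) 0 1
        + (g : Matrix (Fin 2) (Fin 2) F) 0 1 * (h : Matrix (Fin 2) (Fin 2) F) 1 1 := by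
  rw [Matrix.SpecialLinearGroup.coe_mul, Matrix.mul_apply, Fin.sum_univ_two]

theorem mul_apply_10 (g h : Matrix.SpecialLinearGroup (Fin 2) F) :
    ((g * h : Matrix.SpecialLinearGroup (Fin 2) F) : Matrix (Fin 2) (Fin 2) F) 1 0
      = (g : Matrix (Fin 2) (Fin 2) F) 1 0 * (h : Matrix (Fin 2) (Fin 2) F) 0 0
        + (g : Matrix (Fin 2) (Fin 2) F) 1 1 * (h : Matrix (Fin 2) (Fin 2) F) 1 0 := by
  rw [Matrix.SpecialLinearGroup.coe_mul, Matrix.mul_apply, Fin.sum_univ_two]

theorem mul_apply_11 (g h : Matrix.SpecialLinearGroup (Fin 2) F) :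
    ((g * h : Matrix.SpecialLinearGroup (Fin 2) F) : Matrix (Fin 2) (Fin 2) F) 1 1
      = (g : Matrix (Fin 2) (Fin 2) F) 1 0 * (h : Matrix (Fin 2) (Fin 2) F) 0 1
        + (g : Matrix (Fin 2) (Fin 2) F) 1 1 * (h : Matrix (Fin 2) (Fin 2) F) 1 1 := by
  rw [Matrix.SpecialLinearGroup.coe_mul, Matrix.mul_apply, Fin.sum_univ_two]

theorem inv_apply_00 (g : Matrix.SpecialLinearGroup (Fin 2) F) :
    ((g⁻¹ : Matrix.SpecialLinearGroup (Fin 2) F) : Matrix (Fin 2) (Fin 2) F) 0 0
      = (g : Matrix (Fin 2) (Fin 2) F) 1 1 := by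
  rw [coe_inv_eq]; simp

theorem inv_apply_01 (g : Matrix.SpecialLinearGroup (Fin 2) F) :
    ((g⁻¹ : Matrix.SpecialLinearGroup (Fin 2) F) : Matrix (Fin 2) (Fin 2) F) 0 1
      = -(g : Matrix (Fin 2) (Fin 2) F) 0 1 := by
  rw [coe_inv_eq]; simp

theorem inv_apply_10 (g : Matrix.SpecialLinearGroup (Fin 2) F) :
    ((g⁻¹ : Matrix.SpecialLinearGroup (Fin 2) F) : Matrix (Fin 2) (Fin 2) F) 1 0
      = -(g : Matrix (Fin 2) (Fin 2) F) 1 0 := by
  rw [coe_inv_eq]; simp

theorem inv_apply_11 (g : Matrix.SpecialLinearGroup (Fin 2) F) :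
    ((g⁻¹ : Matrix.SpecialLinearGroup (Fin 2) F) : Matrix (Fin 2) (Fin 2) F) 1 1
      = (g : Matrix (Fin 2) (Fin 2) F) 0 0 := by
  rw [coe_inv_eq]; simp

/-- extensionality by the four entries -/
theorem sl2_ext (g h : Matrix.SpecialLinearGroup (Fin 2) F)
    (h00 : (g : Matrix (Fin 2) (Fin 2) F) 0 0 = (h : Matrix (Fin 2) (Fin 2) F) 0 0)
    (h01 : (g : Matrix (Fin 2) (Fin 2) F) 0 1 = (h : Matrix (Fin 2) (Fin 2) F) 0 1)
    (h10 : (g : Matrix (Fin 2) (Fin 2) F) 1 0 = (h : Matrix (Fin 2) (Fin 2) F) 1 0)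
    (h11 : (g : Matrix (Fin 2) (Fin 2) F) 1 1 = (h : Matrix (Fin 2) (Fin 2) F) 1 1) : g = h := by
  apply Subtype.ext
  ext i j
  fin_cases i <;> fin_cases j <;> assumption

/-- diagonal predicate -/
def IsDiag (g : Matrix.SpecialLinearGroup (Fin 2) F) : Prop :=
  (g : Matrix (Fin 2) (Fin 2) F) 0 1 = 0 ∧ (g : Matrix (Fin 2) (Fin 2) F) 1 0 = 0

/-- antidiagonal predicate -/
def IsAntidiag (g : Matrix.SpecialLinearGroup (Fin 2) F) : Prop :=
  (g : Matrix (Fin 2) (Fin 2) F) 0 0 = 0 ∧ (g : Matrix (Fin 2) (Fin 2) F) 1 1 = 0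

theorem IsDiag.mul {g h : Matrix.SpecialLinearGroup (Fin 2) F} (hg : IsDiag g) (hh : IsDiag h) :
    IsDiag (g * h) := by
  refine ⟨?_, ?_⟩
  · rw [mul_apply_01, hg.1, hh.1]; ring
  · rw [mul_apply_10, hg.2, hh.2]; ring

theorem IsDiag.inv {g : Matrix.SpecialLinearGroup (Fin 2) F} (hg : IsDiag g) : IsDiag g⁻¹ := by
  refine ⟨?_, ?_⟩
  · rw [inv_apply_01, hg.1, neg_zero]
  · rw [inv_apply_10, hg.2, neg_zero]

theorem isDiag_one : IsDiag (1 : Matrix.SpecialLinearGroup (Fin 2) F) := by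
  refine ⟨?_, ?_⟩ <;> simp

theorem IsAntidiag.inv {g : Matrix.SpecialLinearGroup (Fin 2) F} (hg : IsAntidiag g) :
    IsAntidiag g⁻¹ := by
  refine ⟨?_, ?_⟩
  · rw [inv_apply_00, hg.2]
  · rw [inv_apply_11, hg.1]

theorem IsDiag.mul_antidiag {g h : Matrix.SpecialLinearGroup (Fin 2) F} (hg : IsDiag g)
    (hh : IsAntidiag h) : IsAntidiag (g * h) := by
  refine ⟨?_, ?_⟩
  · rw [mul_apply_00, hg.1, hh.1]; ring
  · rw [mul_apply_11, hg.2, hh.2]; ring

theorem IsAntidiag.mul_diag {g h : Matrix.SpecialLinearGroup (Fin 2) F} (hg : IsAntidiag g)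
    (hh : IsDiag h) : IsAntidiag (g * h) := by
  refine ⟨?_, ?_⟩
  · rw [mul_apply_00, hg.1, hh.2]; ring
  · rw [mul_apply_11, hg.2, hh.1]; ring

theorem IsAntidiag.mul {g h : Matrix.SpecialLinearGroup (Fin 2) F} (hg : IsAntidiag g)
    (hh : IsAntidiag h) : IsDiag (g * h) := by
  refine ⟨?_, ?_⟩
  · rw [mul_apply_01, hg.1, hh.2]; ring
  · rw [mul_apply_10, hg.2, hh.1]; ring

/-- diagonal and antidiagonal are exclusive -/
theorem IsDiag.not_antidiag {g : Matrix.SpecialLinearGroup (Fin 2) F} (hg : IsDiag g) :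
    ¬ IsAntidiag g := by
  intro h
  have := sl2_det g
  rw [hg.1, h.1] at this
  simp at this

/-- the diagonal subgroup -/
def diagSub (F : Type*) [Field F] : Subgroup (Matrix.SpecialLinearGroup (Fin 2) F) where
  carrier := {g | IsDiag g}
  mul_mem' := fun hg hh => hg.mul hh
  one_mem' := isDiag_one
  inv_mem' := fun hg => hg.inv

/-- the monomial subgroup (normaliser of the diagonal torus) -/
def monoSub (F : Type*) [Field F] : Subgroup (Matrix.SpecialLinearGroup (Fin 2) F) where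
  carrier := {g | IsDiag g ∨ IsAntidiag g}
  mul_mem' := by
    rintro g h (hg | hg) (hh | hh)
    · exact Or.inl (hg.mul hh)
    · exact Or.inr (hg.mul_antidiag hh)
    · exact Or.inr (hg.mul_diag hh)
    · exact Or.inl (hg.mul hh)
  one_mem' := Or.inl isDiag_one
  inv_mem' := by
    rintro g (hg | hg)
    · exact Or.inl hg.inv
    · exact Or.inr hg.inv

theorem mem_diagSub {g : Matrix.SpecialLinearGroup (Fin 2) F} : g ∈ diagSub F ↔ IsDiag g := Iff.rfl

theorem mem_monoSub {g : Matrix.SpecialLinearGroup (Fin 2) F} :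
    g ∈ monoSub F ↔ IsDiag g ∨ IsAntidiag g := Iff.rfl

theorem diagSub_le_monoSub : diagSub F ≤ monoSub F := fun _ hg => Or.inl hg

theorem diagSub_eq_range : diagSub F = (diagHom (F := F)).range := by
  ext g
  rw [mem_diagSub, MonoidHom.mem_range]
  constructor
  · intro hg
    have hdet := sl2_det g
    rw [hg.1, zero_mul, sub_zero] at hdet
    refine ⟨Units.mkOfMulEqOne _ _ hdet, ?_⟩
    apply sl2_ext
    · simp [coe_diagHom]
    · simp [coe_diagHom, hg.1]
    · simp [coe_diagHom, hg.2]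
    · simp [coe_diagHom]
      exact inv_eq_of_mul_eq_one_right hdet
  · rintro ⟨u, rfl⟩
    refine ⟨?_, ?_⟩ <;> simp [coe_diagHom]

theorem card_diagSub [Fintype F] : Nat.card (diagSub F) = Fintype.card F - 1 := by
  classical
  rw [diagSub_eq_range, Nat.card_congr (MonoidHom.ofInjective diagHom_injective).symm.toEquiv,
    Nat.card_eq_fintype_card, Fintype.card_units]

/-- the centraliser of a regular diagonal element is the diagonal subgroup -/
theorem centralizer_eq_diagSub (d : Matrix.SpecialLinearGroup (Fin 2) F) (hd : IsDiag d)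
    (hda : (d : Matrix (Fin 2) (Fin 2) F) 0 0 ^ 2 ≠ 1) :
    Subgroup.centralizer ({d} : Set (Matrix.SpecialLinearGroup (Fin 2) F)) = diagSub F := by
  have hdet := sl2_det d
  rw [hd.1, zero_mul, sub_zero] at hdet
  have hne : (d : Matrix (Fin 2) (Fin 2) F) 0 0 ≠ (d : Matrix (Fin 2) (Fin 2) F) 1 1 := by
    intro h
    apply hda
    rw [pow_two]
    nth_rewrite 2 [h]
    exact hdet
  ext g
  rw [Subgroup.mem_centralizer_iff, mem_diagSub]
  constructor
  · intro h
    have h' := h d (Set.mem_singleton d)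
    have e01 := congrArg (fun A : Matrix.SpecialLinearGroup (Fin 2) F =>
      (A : Matrix (Fin 2) (Fin 2) F) 0 1) h'
    have e10 := congrArg (fun A : Matrix.SpecialLinearGroup (Fin 2) F =>
      (A : Matrix (Fin 2) (Fin 2) F) 1 0) h'
    simp only [mul_apply_01, mul_apply_10, hd.1, hd.2, zero_mul, mul_zero, add_zero, zero_add] at e01 e10
    refine ⟨?_, ?_⟩
    · have : ((d : Matrix (Fin 2) (Fin 2) F) 0 0 - (d : Matrix (Fin 2) (Fin 2) F) 1 1)
          * (g : Matrix (Fin 2) (Fin 2) F) 0 1 = 0 := by linear_combination e01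
      rcases mul_eq_zero.mp this with h0 | h0
      · exact absurd (sub_eq_zero.mp h0) hne
      · exact h0
    · have : ((d : Matrix (Fin 2) (Fin 2) F) 0 0 - (d : Matrix (Fin 2) (Fin 2) F) 1 1)
          * (g : Matrix (Fin 2) (Fin 2) F) 1 0 = 0 := by linear_combination -e10
      rcases mul_eq_zero.mp this with h0 | h0
      · exact absurd (sub_eq_zero.mp h0) hne
      · exact h0
  · intro hg h hh
    rw [Set.mem_singleton_iff] at hh
    subst hh
    apply sl2_ext <;>
      simp only [mul_apply_00, mul_apply_01, mul_apply_10, mul_apply_11, hd.1, hd.2, hg.1, hg.2] <;>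
      ring

/-- the normaliser of the diagonal subgroup is the monomial subgroup, provided the diagonal subgroup
contains a regular element -/
theorem normalizer_diagSub (d : Matrix.SpecialLinearGroup (Fin 2) F) (hd : IsDiag d)
    (hda : (d : Matrix (Fin 2) (Fin 2) F) 0 0 ^ 2 ≠ 1) :
    Subgroup.normalizer ((diagSub F : Subgroup (Matrix.SpecialLinearGroup (Fin 2) F)) :
      Set (Matrix.SpecialLinearGroup (Fin 2) F)) = monoSub F := by
  have hdet := sl2_det d
  rw [hd.1, zero_mul, sub_zero] at hdet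
  have hne : (d : Matrix (Fin 2) (Fin 2) F) 0 0 ≠ (d : Matrix (Fin 2) (Fin 2) F) 1 1 := by
    intro h
    apply hda
    rw [pow_two]
    nth_rewrite 2 [h]
    exact hdet
  ext g
  rw [Subgroup.mem_set_normalizer_iff, mem_monoSub]
  constructor
  · intro h
    have h1 : IsDiag (g * d * g⁻¹) := (h d).mp hd
    have hgdet := sl2_det g
    obtain ⟨e01, e10⟩ := h1
    simp only [mul_apply_01, mul_apply_10, mul_apply_00, mul_apply_11, inv_apply_00, inv_apply_01,
      inv_apply_10, inv_apply_11, hd.1, hd.2, mul_zero, add_zero, zero_add] at e01 e10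
    have hab : (g : Matrix (Fin 2) (Fin 2) F) 0 0 * (g : Matrix (Fin 2) (Fin 2) F) 0 1 = 0 := by
      have : ((d : Matrix (Fin 2) (Fin 2) F) 1 1 - (d : Matrix (Fin 2) (Fin 2) F) 0 0)
          * ((g : Matrix (Fin 2) (Fin 2) F) 0 0 * (g : Matrix (Fin 2) (Fin 2) F) 0 1) = 0 := by
        linear_combination e01
      rcases mul_eq_zero.mp this with h0 | h0
      · exact absurd (sub_eq_zero.mp h0).symm hne
      · exact h0
    have hcd : (g : Matrix (Fin 2) (Fin 2) F) 1 0 * (g : Matrix (Fin 2) (Fin 2) F) 1 1 = 0 := by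
      have : ((d : Matrix (Fin 2) (Fin 2) F) 0 0 - (d : Matrix (Fin 2) (Fin 2) F) 1 1)
          * ((g : Matrix (Fin 2) (Fin 2) F) 1 0 * (g : Matrix (Fin 2) (Fin 2) F) 1 1) = 0 := by
        linear_combination e10
      rcases mul_eq_zero.mp this with h0 | h0
      · exact absurd (sub_eq_zero.mp h0) hne
      · exact h0
    rcases mul_eq_zero.mp hab with ha | hb
    · -- g 0 0 = 0
      right
      refine ⟨ha, ?_⟩
      rcases mul_eq_zero.mp hcd with hc | hd'
      · rw [ha, hc] at hgdet; simp at hgdet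
      · exact hd'
    · left
      refine ⟨hb, ?_⟩
      rcases mul_eq_zero.mp hcd with hc | hd'
      · exact hc
      · rw [hb, hd'] at hgdet; simp at hgdet
  · rintro (hg | hg) n
    · constructor
      · intro hn; exact (hg.mul hn).mul hg.inv
      · intro hn
        have : n = g⁻¹ * (g * n * g⁻¹) * g := by group
        rw [this]
        exact (hg.inv.mul hn).mul hg
    · constructor
      · intro hn; exact (hg.mul_diag hn).mul hg.inv
      · intro hn
        have : n = g⁻¹ * (g * n * g⁻¹) * g := by group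
        rw [this]
        exact (hg.inv.mul_diag hn).mul hg

/-- antidiagonal elements invert diagonal elements -/
theorem IsAntidiag.conj_diag {g t : Matrix.SpecialLinearGroup (Fin 2) F} (hg : IsAntidiag g)
    (ht : IsDiag t) : g * t * g⁻¹ = t⁻¹ := by
  have hgdet := sl2_det g
  rw [hg.1, hg.2] at hgdet
  apply sl2_ext <;>
    simp only [mul_apply_00, mul_apply_01, mul_apply_10, mul_apply_11, inv_apply_00, inv_apply_01,
      inv_apply_10, inv_apply_11, hg.1, hg.2, ht.1, ht.2]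
  · linear_combination (t : Matrix (Fin 2) (Fin 2) F) 1 1 * hgdet
  · ring
  · ring
  · linear_combination (t : Matrix (Fin 2) (Fin 2) F) 0 0 * hgdet

/-- antidiagonal elements square to `-1` -/
theorem IsAntidiag.mul_self {g : Matrix.SpecialLinearGroup (Fin 2) F} (hg : IsAntidiag g) :
    (g : Matrix (Fin 2) (Fin 2) F) * (g : Matrix (Fin 2) (Fin 2) F) = -1 := by
  have hgdet := sl2_det g
  rw [hg.1, hg.2] at hgdet
  rw [← Matrix.SpecialLinearGroup.coe_mul]
  ext i j
  fin_cases i <;> fin_cases j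
  · show ((g * g : Matrix.SpecialLinearGroup (Fin 2) F) : Matrix (Fin 2) (Fin 2) F) 0 0 = _
    rw [mul_apply_00, hg.1]; simp; linear_combination -hgdet
  · show ((g * g : Matrix.SpecialLinearGroup (Fin 2) F) : Matrix (Fin 2) (Fin 2) F) 0 1 = _
    rw [mul_apply_01, hg.1, hg.2]; simp
  · show ((g * g : Matrix.SpecialLinearGroup (Fin 2) F) : Matrix (Fin 2) (Fin 2) F) 1 0 = _
    rw [mul_apply_10, hg.1, hg.2]; simp
  · show ((g * g : Matrix.SpecialLinearGroup (Fin 2) F) : Matrix (Fin 2) (Fin 2) F) 1 1 = _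
    rw [mul_apply_11, hg.2]; simp; linear_combination -hgdet

end Cfsg.Agent.Lib.Helper41
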