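import Mathlib
import Cfsg.Prelude.Def_ParabolicCharacters
import Cfsg.Agent.Lib.Helper41.SL2Basic
import Cfsg.Agent.Lib.Helper41.SL2Torus

set_option autoImplicit false

/-!
# The Borel subgroup of `SL₂(F)` (helper41)
-/

namespace Cfsg.Agent.Lib.Helper41

variable {F : Type*} [Field F]

/-- the upper triangular subgroup of `SL₂(F)` -/
def borelSub (F : Type*) [Field F] : Subgroup (Matrix.SpecialLinearGroup (Fin 2) F) where
  carrier := {g | (g : Matrix (Fin 2) (Fin 2) F) 1 0 = 0}
  one_mem' := by simp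
  mul_mem' := by
    intro g h hg hh
    simp only [Set.mem_ofPred_eq] at hg hh ⊢
    rw [mul_apply_10, hg, hh]; ring
  inv_mem' := by
    intro g hg
    simp only [Set.mem_ofPred_eq] at hg ⊢
    rw [inv_apply_10, hg]; ring

theorem mem_borelSub {g : Matrix.SpecialLinearGroup (Fin 2) F} :
    g ∈ borelSub F ↔ (g : Matrix (Fin 2) (Fin 2) F) 1 0 = 0 := Iff.rfl

theorem comap_upperTriangularGL_eq :
    (Cfsg.upperTriangularGL 2 F).comap Matrix.SpecialLinearGroup.toGL = borelSub F := by
  ext g
  rw [Subgroup.mem_comap, mem_borelSub]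
  show ((Matrix.SpecialLinearGroup.toGL g : GL (Fin 2) F) :
    Matrix (Fin 2) (Fin 2) F).BlockTriangular id ↔ _
  rw [Matrix.SpecialLinearGroup.coe_GL_coe_matrix]
  constructor
  · intro h
    exact h (show id (0 : Fin 2) < id 1 by decide)
  · intro h i j hij
    fin_cases i <;> fin_cases j <;> simp_all

theorem borel_mul_diag {g : Matrix.SpecialLinearGroup (Fin 2) F} (hg : g ∈ borelSub F) :
    (g : Matrix (Fin 2) (Fin 2) F) 0 0 * (g : Matrix (Fin 2) (Fin 2) F) 1 1 = 1 := by
  have := sl2_det g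
  rw [mem_borelSub] at hg
  rw [hg, mul_zero, sub_zero] at this
  exact this

theorem borel_apply_00_ne_zero {g : Matrix.SpecialLinearGroup (Fin 2) F} (hg : g ∈ borelSub F) :
    (g : Matrix (Fin 2) (Fin 2) F) 0 0 ≠ 0 := by
  intro h
  have := borel_mul_diag hg
  rw [h, zero_mul] at this
  exact zero_ne_one this

theorem borel_apply_11 {g : Matrix.SpecialLinearGroup (Fin 2) F} (hg : g ∈ borelSub F) :
    (g : Matrix (Fin 2) (Fin 2) F) 1 1 = ((g : Matrix (Fin 2) (Fin 2) F) 0 0)⁻¹ :=
  eq_inv_of_mul_eq_one_right (borel_mul_diag hg)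

/-- the element `[[u, b], [0, u⁻¹]]` -/
def borelEl (u : Fˣ) (b : F) : Matrix.SpecialLinearGroup (Fin 2) F :=
  ⟨!![(u : F), b; 0, ((u⁻¹ : Fˣ) : F)], by simp [Matrix.det_fin_two]⟩

theorem coe_borelEl (u : Fˣ) (b : F) :
    ((borelEl u b : Matrix.SpecialLinearGroup (Fin 2) F) : Matrix (Fin 2) (Fin 2) F)
      = !![(u : F), b; 0, ((u⁻¹ : Fˣ) : F)] := rfl

theorem borelEl_mem (u : Fˣ) (b : F) : borelEl u b ∈ borelSub F := by
  rw [mem_borelSub, coe_borelEl]; simp

/-- the Borel subgroup as a set is `Fˣ × F` -/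
def borelEquiv : borelSub F ≃ Fˣ × F where
  toFun g := (Units.mk0 _ (borel_apply_00_ne_zero g.2), (g.1 : Matrix (Fin 2) (Fin 2) F) 0 1)
  invFun p := ⟨borelEl p.1 p.2, borelEl_mem p.1 p.2⟩
  left_inv := by
    rintro ⟨g, hg⟩
    apply Subtype.ext
    apply sl2_ext
    · simp [coe_borelEl]
    · simp [coe_borelEl]
    · simp only [coe_borelEl]
      rw [mem_borelSub] at hg
      simp [hg]
    · simp only [coe_borelEl]
      rw [borel_apply_11 hg]
      simp
  right_inv := by
    rintro ⟨u, b⟩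
    apply Prod.ext
    · apply Units.ext
      simp [coe_borelEl]
    · simp [coe_borelEl]

theorem borelEquiv_apply_fst (g : borelSub F) :
    ((borelEquiv g).1 : F) = (g.1 : Matrix (Fin 2) (Fin 2) F) 0 0 := rfl

theorem borelEquiv_apply_snd (g : borelSub F) :
    (borelEquiv g).2 = (g.1 : Matrix (Fin 2) (Fin 2) F) 0 1 := rfl

theorem card_borelSub [Fintype F] : Nat.card (borelSub F) = (Fintype.card F - 1) * Fintype.card F := by
  classical
  rw [Nat.card_congr borelEquiv, Nat.card_prod, Nat.card_eq_fintype_card, Nat.card_eq_fintype_card,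
    Fintype.card_units]

/-- `δ(u) = u - u⁻¹` -/
def unitDelta (u : Fˣ) : F := (u : F) - ((u⁻¹ : Fˣ) : F)

theorem borel_commute_iff (g h : borelSub F) :
    Commute g h ↔ (borelEquiv h).2 * unitDelta (borelEquiv g).1
      = (borelEquiv g).2 * unitDelta (borelEquiv h).1 := by
  obtain ⟨g, hg⟩ := g
  obtain ⟨h, hh⟩ := h
  have hg10 := mem_borelSub.mp hg
  have hh10 := mem_borelSub.mp hh
  have hg11 := borel_apply_11 hg
  have hh11 := borel_apply_11 hh
  rw [commute_iff_eq]
  simp only [unitDelta, borelEquiv_apply_snd, Units.val_inv_eq_inv_val, borelEquiv_apply_fst]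
  rw [← hg11, ← hh11]
  constructor
  · intro e
    have e' : g * h = h * g := congrArg Subtype.val e
    have e01 := congrArg (fun A : Matrix.SpecialLinearGroup (Fin 2) F =>
      (A : Matrix (Fin 2) (Fin 2) F) 0 1) e'
    simp only [mul_apply_01] at e01
    linear_combination e01
  · intro e
    apply Subtype.ext
    show g * h = h * g
    apply sl2_ext <;>
      simp only [mul_apply_00, mul_apply_01, mul_apply_10, mul_apply_11, hg10, hh10]
    · ring
    · linear_combination e
    · ring
    · ring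

end Cfsg.Agent.Lib.Helper41
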