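import Mathlib
import Cfsg.Prelude.Def_Characters
import Cfsg.Agent.Lib.Helper41.SL2Borel
import Cfsg.Agent.Lib.Helper41.SL2Conj

set_option autoImplicit false

/-!
# Functions on `SL₂(F)` induced from the Borel subgroup (helper41)
-/

namespace Cfsg.Agent.Lib.Helper41

variable {F : Type*} [Field F]

theorem conj_inv_apply_10 (x g : Matrix.SpecialLinearGroup (Fin 2) F) :
    ((x⁻¹ * g * x : Matrix.SpecialLinearGroup (Fin 2) F) : Matrix (Fin 2) (Fin 2) F) 1 0
      = (x : Matrix (Fin 2) (Fin 2) F) 0 0 ^ 2 * (g : Matrix (Fin 2) (Fin 2) F) 1 0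
        - (x : Matrix (Fin 2) (Fin 2) F) 1 0 ^ 2 * (g : Matrix (Fin 2) (Fin 2) F) 0 1
        + (x : Matrix (Fin 2) (Fin 2) F) 0 0 * (x : Matrix (Fin 2) (Fin 2) F) 1 0
          * ((g : Matrix (Fin 2) (Fin 2) F) 1 1 - (g : Matrix (Fin 2) (Fin 2) F) 0 0) := by
  simp only [mul_apply_10, mul_apply_11, inv_apply_10, inv_apply_11]
  ring

theorem conj_inv_apply_00 (x g : Matrix.SpecialLinearGroup (Fin 2) F) :
    ((x⁻¹ * g * x : Matrix.SpecialLinearGroup (Fin 2) F) : Matrix (Fin 2) (Fin 2) F) 0 0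
      = ((x : Matrix (Fin 2) (Fin 2) F) 1 1 * (g : Matrix (Fin 2) (Fin 2) F) 0 0
          - (x : Matrix (Fin 2) (Fin 2) F) 0 1 * (g : Matrix (Fin 2) (Fin 2) F) 1 0)
          * (x : Matrix (Fin 2) (Fin 2) F) 0 0
        + ((x : Matrix (Fin 2) (Fin 2) F) 1 1 * (g : Matrix (Fin 2) (Fin 2) F) 0 1
          - (x : Matrix (Fin 2) (Fin 2) F) 0 1 * (g : Matrix (Fin 2) (Fin 2) F) 1 1)
          * (x : Matrix (Fin 2) (Fin 2) F) 1 0 := by
  simp only [mul_apply_00, mul_apply_01, inv_apply_00, inv_apply_01]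
  ring

/-- extension by zero of `b ↦ α b₀₀` from the Borel subgroup -/
theorem extendByZero_borel [DecidableEq F] (α : F → ℂ) (y : Matrix.SpecialLinearGroup (Fin 2) F) :
    Cfsg.extendByZero (borelSub F)
      (fun b => α (((b : Matrix.SpecialLinearGroup (Fin 2) F) : Matrix (Fin 2) (Fin 2) F) 0 0)) y
      = if (y : Matrix (Fin 2) (Fin 2) F) 1 0 = 0 then α ((y : Matrix (Fin 2) (Fin 2) F) 0 0)
        else 0 := by
  unfold Cfsg.extendByZero
  split_ifs with h
  · exact Subtype.val_injective.extend_apply _ _ (⟨y, h⟩ : borelSub F)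
  · rw [Function.extend_apply']
    · rfl
    · rintro ⟨b, hb⟩
      exact h (hb ▸ b.2)

variable [Fintype F] [DecidableEq F]

theorem card_filter_apply_10 :
    (Finset.univ.filter (fun x : Matrix.SpecialLinearGroup (Fin 2) F =>
      (x : Matrix (Fin 2) (Fin 2) F) 1 0 = 0)).card = Nat.card (borelSub F) := by
  have : Nat.card (borelSub F) = Nat.card {x : Matrix.SpecialLinearGroup (Fin 2) F //
      (x : Matrix (Fin 2) (Fin 2) F) 1 0 = 0} := rfl
  rw [this, Nat.card_eq_fintype_card, Fintype.card_subtype]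

theorem card_filter_apply_00 :
    (Finset.univ.filter (fun x : Matrix.SpecialLinearGroup (Fin 2) F =>
      (x : Matrix (Fin 2) (Fin 2) F) 0 0 = 0)).card = Nat.card (borelSub F) := by
  rw [← card_filter_apply_10]
  apply Finset.card_equiv (Equiv.mulLeft (weylW : Matrix.SpecialLinearGroup (Fin 2) F))
  intro x
  simp only [Finset.mem_filter, Finset.mem_univ, true_and, Equiv.coe_mulLeft, mul_apply_10,
    coe_weylW]
  simp

omit [DecidableEq F] in
theorem card_borelSub_ne_zero : (Nat.card (borelSub F) : ℂ) ≠ 0 := by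
  have : Nat.card (borelSub F) ≠ 0 := Nat.card_pos.ne'
  exact_mod_cast this

/-- value of the induced function at a regular diagonal element -/
theorem indFun_borel_diag (α : F → ℂ) (g : Matrix.SpecialLinearGroup (Fin 2) F)
    (h01 : (g : Matrix (Fin 2) (Fin 2) F) 0 1 = 0) (h10 : (g : Matrix (Fin 2) (Fin 2) F) 1 0 = 0)
    (ha : (g : Matrix (Fin 2) (Fin 2) F) 0 0 ^ 2 ≠ 1) :
    Cfsg.indFun (borelSub F)
      (fun b => α (((b : Matrix.SpecialLinearGroup (Fin 2) F) : Matrix (Fin 2) (Fin 2) F) 0 0)) g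
      = α ((g : Matrix (Fin 2) (Fin 2) F) 0 0) + α ((g : Matrix (Fin 2) (Fin 2) F) 1 1) := by
  unfold Cfsg.indFun
  have hdet := sl2_det g
  rw [h01, zero_mul, sub_zero] at hdet
  have hne : (g : Matrix (Fin 2) (Fin 2) F) 1 1 - (g : Matrix (Fin 2) (Fin 2) F) 0 0 ≠ 0 := by
    intro h
    apply ha
    have : (g : Matrix (Fin 2) (Fin 2) F) 1 1 = (g : Matrix (Fin 2) (Fin 2) F) 0 0 := by
      linear_combination h
    rw [this] at hdet
    rw [pow_two]; exact hdet
  have key : ∀ x : Matrix.SpecialLinearGroup (Fin 2) F,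
      Cfsg.extendByZero (borelSub F)
        (fun b => α (((b : Matrix.SpecialLinearGroup (Fin 2) F) : Matrix (Fin 2) (Fin 2) F) 0 0))
        (x⁻¹ * g * x)
      = (if (x : Matrix (Fin 2) (Fin 2) F) 1 0 = 0 then α ((g : Matrix (Fin 2) (Fin 2) F) 0 0)
          else 0)
        + (if (x : Matrix (Fin 2) (Fin 2) F) 0 0 = 0 then α ((g : Matrix (Fin 2) (Fin 2) F) 1 1)
          else 0) := by
    intro x
    rw [extendByZero_borel, conj_inv_apply_10, conj_inv_apply_00, h01, h10]
    have hx := sl2_det x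
    by_cases hs : (x : Matrix (Fin 2) (Fin 2) F) 1 0 = 0
    · have hp : (x : Matrix (Fin 2) (Fin 2) F) 0 0 ≠ 0 := by
        intro hp; rw [hs, hp] at hx; simp at hx
      rw [hs] at hx ⊢
      simp only [hp, if_false, add_zero, mul_zero, sub_zero, zero_mul]
      simp only [if_true]
      congr 1
      linear_combination (g : Matrix (Fin 2) (Fin 2) F) 0 0 * hx
    · by_cases hp : (x : Matrix (Fin 2) (Fin 2) F) 0 0 = 0
      · rw [hp] at hx ⊢
        simp only [hs, if_false, zero_add, if_true, mul_zero, zero_mul, sub_zero]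
        congr 1
        linear_combination (g : Matrix (Fin 2) (Fin 2) F) 1 1 * hx
      · simp only [hs, hp, if_false, add_zero, mul_zero, sub_zero, zero_add]
        rw [if_neg]
        exact mul_ne_zero (mul_ne_zero hp hs) hne
  simp only [key]
  rw [Finset.sum_add_distrib, ← Finset.sum_filter, ← Finset.sum_filter, Finset.sum_const,
    Finset.sum_const, card_filter_apply_10, card_filter_apply_00, nsmul_eq_mul, nsmul_eq_mul,
    ← mul_add, ← mul_assoc, inv_mul_cancel₀ card_borelSub_ne_zero, one_mul]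

/-- value of the induced function at an element without eigenvector -/
theorem indFun_borel_no_eigenvector (α : F → ℂ) (g : Matrix.SpecialLinearGroup (Fin 2) F)
    (hg : ∀ (c : F) (v : Fin 2 → F), v ≠ 0 → (g : Matrix (Fin 2) (Fin 2) F).mulVec v ≠ c • v) :
    Cfsg.indFun (borelSub F)
      (fun b => α (((b : Matrix.SpecialLinearGroup (Fin 2) F) : Matrix (Fin 2) (Fin 2) F) 0 0)) g
      = 0 := by
  unfold Cfsg.indFun
  have key : ∀ x : Matrix.SpecialLinearGroup (Fin 2) F,
      Cfsg.extendByZero (borelSub F)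
        (fun b => α (((b : Matrix.SpecialLinearGroup (Fin 2) F) : Matrix (Fin 2) (Fin 2) F) 0 0))
        (x⁻¹ * g * x) = 0 := by
    intro x
    rw [extendByZero_borel, if_neg]
    intro h10
    set y := x⁻¹ * g * x with hy
    have hxy : g * x = x * y := by rw [hy]; group
    have e00 := congrArg (fun A : Matrix.SpecialLinearGroup (Fin 2) F =>
      (A : Matrix (Fin 2) (Fin 2) F) 0 0) hxy
    have e10 := congrArg (fun A : Matrix.SpecialLinearGroup (Fin 2) F =>
      (A : Matrix (Fin 2) (Fin 2) F) 1 0) hxy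
    simp only [mul_apply_00, mul_apply_10, h10, mul_zero, add_zero] at e00 e10
    have hx := sl2_det x
    apply hg ((y : Matrix (Fin 2) (Fin 2) F) 0 0)
      ![(x : Matrix (Fin 2) (Fin 2) F) 0 0, (x : Matrix (Fin 2) (Fin 2) F) 1 0]
    · intro hv
      have h0 := congrFun hv 0
      have h1 := congrFun hv 1
      simp only [Matrix.cons_val_zero, Matrix.cons_val_one, Pi.zero_apply] at h0 h1
      rw [h0, h1] at hx
      simp at hx
    · funext i
      fin_cases i
      · simp [Matrix.mulVec, dotProduct, Fin.sum_univ_two]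
        linear_combination e00
      · simp [Matrix.mulVec, dotProduct, Fin.sum_univ_two]
        linear_combination e10
  simp only [key, Finset.sum_const_zero, mul_zero]

/-- value of the induced function at a non-central element with a double eigenvalue -/
theorem indFun_borel_unipotent (α : F → ℂ) (g : Matrix.SpecialLinearGroup (Fin 2) F)
    (h10 : (g : Matrix (Fin 2) (Fin 2) F) 1 0 = 0)
    (hd : (g : Matrix (Fin 2) (Fin 2) F) 0 0 = (g : Matrix (Fin 2) (Fin 2) F) 1 1)
    (h01 : (g : Matrix (Fin 2) (Fin 2) F) 0 1 ≠ 0) :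
    Cfsg.indFun (borelSub F)
      (fun b => α (((b : Matrix.SpecialLinearGroup (Fin 2) F) : Matrix (Fin 2) (Fin 2) F) 0 0)) g
      = α ((g : Matrix (Fin 2) (Fin 2) F) 0 0) := by
  unfold Cfsg.indFun
  have key : ∀ x : Matrix.SpecialLinearGroup (Fin 2) F,
      Cfsg.extendByZero (borelSub F)
        (fun b => α (((b : Matrix.SpecialLinearGroup (Fin 2) F) : Matrix (Fin 2) (Fin 2) F) 0 0))
        (x⁻¹ * g * x)
      = (if (x : Matrix (Fin 2) (Fin 2) F) 1 0 = 0 then α ((g : Matrix (Fin 2) (Fin 2) F) 0 0)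
          else 0) := by
    intro x
    rw [extendByZero_borel, conj_inv_apply_10, conj_inv_apply_00, h10, ← hd]
    have hx := sl2_det x
    by_cases hs : (x : Matrix (Fin 2) (Fin 2) F) 1 0 = 0
    · rw [hs] at hx ⊢
      rw [if_pos (by ring), if_pos rfl]
      congr 1
      linear_combination (g : Matrix (Fin 2) (Fin 2) F) 0 0 * hx
    · rw [if_neg hs, if_neg]
      intro h
      apply hs
      have : (x : Matrix (Fin 2) (Fin 2) F) 1 0 ^ 2 * (g : Matrix (Fin 2) (Fin 2) F) 0 1 = 0 := by
        linear_combination -h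
      rcases mul_eq_zero.mp this with h' | h'
      · exact pow_eq_zero_iff (two_ne_zero) |>.mp h'
      · exact absurd h' h01
  simp only [key]
  rw [← Finset.sum_filter, Finset.sum_const, card_filter_apply_10, nsmul_eq_mul,
    ← mul_assoc, inv_mul_cancel₀ card_borelSub_ne_zero, one_mul]

/-- value of the induced function at a scalar element, in terms of the index -/
theorem indFun_borel_scalar (α : F → ℂ) (g : Matrix.SpecialLinearGroup (Fin 2) F)
    (h01 : (g : Matrix (Fin 2) (Fin 2) F) 0 1 = 0) (h10 : (g : Matrix (Fin 2) (Fin 2) F) 1 0 = 0)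
    (hd : (g : Matrix (Fin 2) (Fin 2) F) 0 0 = (g : Matrix (Fin 2) (Fin 2) F) 1 1) :
    Cfsg.indFun (borelSub F)
      (fun b => α (((b : Matrix.SpecialLinearGroup (Fin 2) F) : Matrix (Fin 2) (Fin 2) F) 0 0)) g
      = (Nat.card (borelSub F) : ℂ)⁻¹ * (Nat.card (Matrix.SpecialLinearGroup (Fin 2) F) : ℂ)
        * α ((g : Matrix (Fin 2) (Fin 2) F) 0 0) := by
  unfold Cfsg.indFun
  have key : ∀ x : Matrix.SpecialLinearGroup (Fin 2) F,
      Cfsg.extendByZero (borelSub F)
        (fun b => α (((b : Matrix.SpecialLinearGroup (Fin 2) F) : Matrix (Fin 2) (Fin 2) F) 0 0))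
        (x⁻¹ * g * x) = α ((g : Matrix (Fin 2) (Fin 2) F) 0 0) := by
    intro x
    rw [extendByZero_borel, conj_inv_apply_10, conj_inv_apply_00, h10, h01, ← hd]
    have hx := sl2_det x
    rw [if_pos (by ring)]
    congr 1
    linear_combination (g : Matrix (Fin 2) (Fin 2) F) 0 0 * hx
  simp only [key]
  rw [Finset.sum_const, Finset.card_univ, nsmul_eq_mul,
    ← Nat.card_eq_fintype_card (α := Matrix.SpecialLinearGroup (Fin 2) F), mul_assoc]

end Cfsg.Agent.Lib.Helper41
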