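import Mathlib
import Cfsg.Prelude.Def_Characters

set_option autoImplicit false

/-!
# Inner product of two functions induced from the same subgroup (helper41)

`⟨Ind θ, Ind ψ⟩ = |H|⁻² ∑_z ∑_h θ°(h) conj ψ°(z⁻¹ h z)` (the starting point of Mackey's formula).
-/

namespace Cfsg.Agent.Lib.Helper41

open scoped ComplexConjugate

universe u

theorem classInner_indFun_indFun {G : Type u} [Group G] [Fintype G] (H : Subgroup G)
    (θ ψ : H → ℂ) :
    Cfsg.classInner (Cfsg.indFun H θ) (Cfsg.indFun H ψ)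
      = (Nat.card H : ℂ)⁻¹ * (Nat.card H : ℂ)⁻¹ *
        ∑ z : G, ∑ h : G, Cfsg.extendByZero H θ h * conj (Cfsg.extendByZero H ψ (z⁻¹ * h * z)) := by
  unfold Cfsg.classInner Cfsg.indFun
  have hG : (Nat.card G : ℂ) ≠ 0 := by
    have : Nat.card G ≠ 0 := Nat.card_pos.ne'
    exact_mod_cast this
  have step1 : ∀ g : G,
      ((Nat.card H : ℂ)⁻¹ * ∑ x : G, Cfsg.extendByZero H θ (x⁻¹ * g * x)) *
        conj ((Nat.card H : ℂ)⁻¹ * ∑ y : G, Cfsg.extendByZero H ψ (y⁻¹ * g * y))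
      = (Nat.card H : ℂ)⁻¹ * (Nat.card H : ℂ)⁻¹ *
        ∑ x : G, ∑ y : G, Cfsg.extendByZero H θ (x⁻¹ * g * x) *
          conj (Cfsg.extendByZero H ψ (y⁻¹ * g * y)) := by
    intro g
    rw [map_mul, map_inv₀, Complex.conj_natCast, map_sum, ← Finset.sum_mul_sum]
    ring
  simp only [step1]
  rw [← Finset.mul_sum, Finset.sum_comm]
  -- for fixed `x`, reparametrise
  have step2 : ∀ x : G, ∑ g : G, ∑ y : G, Cfsg.extendByZero H θ (x⁻¹ * g * x) *
          conj (Cfsg.extendByZero H ψ (y⁻¹ * g * y))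
      = ∑ z : G, ∑ h : G, Cfsg.extendByZero H θ h *
          conj (Cfsg.extendByZero H ψ (z⁻¹ * h * z)) := by
    intro x
    rw [Finset.sum_comm]
    apply Fintype.sum_equiv (Equiv.mulLeft x⁻¹)
    intro y
    apply Fintype.sum_equiv (MulAut.conj x⁻¹).toEquiv
    intro g
    simp only [Equiv.coe_mulLeft, MulEquiv.toEquiv_eq_coe, MulEquiv.coe_toEquiv,
      MulAut.conj_apply, inv_inv, mul_inv_rev]
    congr 2
    congr 1
    group
  simp only [step2]
  rw [Finset.sum_const, Finset.card_univ, nsmul_eq_mul, ← Nat.card_eq_fintype_card]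
  field_simp

end Cfsg.Agent.Lib.Helper41
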