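import Mathlib
import Cfsg.Agent.Lib.Helper6.SzCh.Defs
import Cfsg.Agent.Lib.Helper41.IndInner
import Cfsg.Agent.Lib.Helper75.Clifford

/-!
# SZCH-[MACKEY] (helper41): Mackey's formula for `G = B ∪ BwB`, `B ∩ B^w = K`

`⟨Ind α, Ind β⟩ = ⟨α, β⟩_B + |K|⁻¹ ∑_{k ∈ K} α(k) conj β(k⁻¹)` for class functions `α`, `β` of `B = N(Q)`
in a group with Suzuki data.
-/

set_option autoImplicit false

namespace Cfsg.Agent.Lib.Helper41.SzCh

open Cfsg Cfsg.Agent.Lib.Helper6.SzCh Cfsg.Agent.Lib.Helper75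
open scoped ComplexConjugate Classical

universe u

variable {G : Type u} [Group G]

/-- the extension by zero of a class function of `H` is invariant under conjugation by `H` -/
theorem extendByZero_conj_mem (H : Subgroup G) {α : ↥H → ℂ} (hα : IsClassFunction ↥H α)
    {b : G} (hb : b ∈ H) (g : G) :
    extendByZero H α (b * g * b⁻¹) = extendByZero H α g := by
  by_cases hg : g ∈ H
  · have hbg : b * g * b⁻¹ ∈ H := H.mul_mem (H.mul_mem hb hg) (H.inv_mem hb)
    rw [extendByZero_of_mem H α hbg, extendByZero_of_mem H α hg]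
    exact hα ⟨g, hg⟩ ⟨b, hb⟩
  · have hbg : b * g * b⁻¹ ∉ H := by
      intro h
      apply hg
      have : g = b⁻¹ * (b * g * b⁻¹) * b := by group
      rw [this]
      exact H.mul_mem (H.mul_mem (H.inv_mem hb) h) hb
    rw [extendByZero_of_not_mem H α hbg, extendByZero_of_not_mem H α hg]

/-- the inner Mackey sum attached to `z` -/
noncomputable def mackeyInner [Fintype G] (H : Subgroup G) (α β : ↥H → ℂ) (z : G) : ℂ :=
  ∑ h : G, extendByZero H α h * conj (extendByZero H β (z⁻¹ * h * z))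

/-- the inner Mackey sum only depends on the double coset `H z H` -/
theorem mackeyInner_mul [Fintype G] (H : Subgroup G) {α β : ↥H → ℂ} (hα : IsClassFunction ↥H α)
    (hβ : IsClassFunction ↥H β) {b₁ b₂ : G} (h₁ : b₁ ∈ H) (h₂ : b₂ ∈ H) (z : G) :
    mackeyInner H α β (b₁ * z * b₂) = mackeyInner H α β z := by
  unfold mackeyInner
  symm
  apply Fintype.sum_equiv (MulAut.conj b₁).toEquiv
  intro h
  simp only [MulEquiv.toEquiv_eq_coe, MulEquiv.coe_toEquiv, MulAut.conj_apply]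
  rw [extendByZero_conj_mem H hα h₁]
  congr 2
  have : (b₁ * z * b₂)⁻¹ * (b₁ * h * b₁⁻¹) * (b₁ * z * b₂) = b₂⁻¹ * (z⁻¹ * h * z) * b₂⁻¹⁻¹ := by
    group
  rw [this, extendByZero_conj_mem H hβ (H.inv_mem h₂)]

/-- the inner Mackey sum at `1` -/
theorem mackeyInner_one [Fintype G] (H : Subgroup G) [Fintype ↥H] (α β : ↥H → ℂ) :
    mackeyInner H α β 1 = (Nat.card ↥H : ℂ) * classInner α β := by
  unfold mackeyInner classInner
  have hH : (Nat.card ↥H : ℂ) ≠ 0 := by
    have : Nat.card ↥H ≠ 0 := Nat.card_pos.ne'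
    exact_mod_cast this
  rw [← mul_assoc, mul_inv_cancel₀ hH, one_mul]
  simp only [inv_one, one_mul, mul_one]
  rw [sum_extendByZero_mul H α (fun h => conj (extendByZero H β h))]
  apply Finset.sum_congr rfl
  intro h _
  rw [extendByZero_coe]


/-! ### the Suzuki data -/

theorem szData_w_inv (D : SzData G) : D.w⁻¹ = D.w := inv_eq_of_mul_eq_one_left D.w_sq

theorem szData_Q_le_B (D : SzData G) : D.Q ≤ D.B := Subgroup.le_normalizer

theorem szData_Q_inf_K [Finite G] (D : SzData G) : D.Q ⊓ D.K = ⊥ := by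
  apply Disjoint.eq_bot
  apply Subgroup.disjoint_of_coprime_natCard
  rw [D.card_Q, D.card_K]
  apply Nat.Coprime.pow_left
  unfold qOf
  apply Nat.Coprime.pow_left
  rw [Nat.coprime_two_left]
  refine ⟨2 ^ (2 * D.m) - 1, ?_⟩
  have : 1 ≤ 2 ^ (2 * D.m) := Nat.one_le_two_pow
  rw [pow_succ]
  omega

/-- `|B| = |Q| |K|` -/
theorem szData_card_B [Finite G] (D : SzData G) :
    Nat.card ↥D.B = Nat.card ↥D.Q * Nat.card ↥D.K := by
  rw [← Nat.card_prod]
  symm
  let f : ↥D.Q × ↥D.K → ↥D.B := fun p =>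
    ⟨(p.1 : G) * (p.2 : G), D.B.mul_mem (szData_Q_le_B D p.1.2) (D.K_le p.2.2)⟩
  apply Nat.card_congr (Equiv.ofBijective f ⟨?_, ?_⟩)
  · rintro ⟨u, k⟩ ⟨u', k'⟩ h
    have h' : (u : G) * (k : G) = (u' : G) * (k' : G) := congrArg Subtype.val h
    have hmem : (u' : G)⁻¹ * (u : G) ∈ D.Q ⊓ D.K := by
      refine ⟨D.Q.mul_mem (D.Q.inv_mem u'.2) u.2, ?_⟩
      have : (u' : G)⁻¹ * (u : G) = (k' : G) * (k : G)⁻¹ := by
        rw [inv_mul_eq_iff_eq_mul, ← mul_assoc, ← h', mul_assoc, mul_inv_cancel, mul_one]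
      rw [this]
      exact D.K.mul_mem k'.2 (D.K.inv_mem k.2)
    rw [szData_Q_inf_K D, Subgroup.mem_bot] at hmem
    have hu : (u : G) = (u' : G) := by
      rw [inv_mul_eq_one] at hmem
      exact hmem.symm
    have hk : (k : G) = (k' : G) := by
      rw [hu] at h'
      exact mul_left_cancel h'
    exact Prod.ext (Subtype.ext hu) (Subtype.ext hk)
  · rintro ⟨g, hg⟩
    obtain ⟨u, hu, k, hk, rfl⟩ := D.norm_eq g hg
    exact ⟨(⟨u, hu⟩, ⟨k, hk⟩), rfl⟩

/-- the inner Mackey sum at `w` -/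
theorem mackeyInner_w [Fintype G] (D : SzData G) (α β : ↥D.B → ℂ) :
    mackeyInner D.B α β D.w = ∑ᶠ k : ↥D.K, α ⟨(k : G), D.K_le k.2⟩ *
        conj (β ⟨(k : G)⁻¹, D.K_le (D.K.inv_mem k.2)⟩) := by
  unfold mackeyInner
  rw [finsum_eq_sum_of_fintype]
  have hw := szData_w_inv D
  have hzero : ∀ h : G, h ∉ D.K →
      extendByZero D.B α h * conj (extendByZero D.B β (D.w⁻¹ * h * D.w)) = 0 := by
    intro h hK
    by_cases hB : h ∈ D.B
    · have : D.w⁻¹ * h * D.w ∉ D.B := by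
        intro h2
        apply hK
        apply D.inter_conj h hB
        have e : D.w * h * D.w⁻¹ = D.w⁻¹ * h * D.w := by rw [hw]
        rw [e]
        exact h2
      rw [extendByZero_of_not_mem D.B β this, map_zero, mul_zero]
    · rw [extendByZero_of_not_mem D.B α hB, zero_mul]
  have h1 : ∑ h : G, extendByZero D.B α h * conj (extendByZero D.B β (D.w⁻¹ * h * D.w)) =
      ∑ h ∈ Finset.univ.filter (· ∈ D.K),
        extendByZero D.B α h * conj (extendByZero D.B β (D.w⁻¹ * h * D.w)) := by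
    symm
    apply Finset.sum_filter_of_ne
    intro g _ hne
    by_contra hg
    exact hne (hzero g hg)
  rw [h1, Finset.sum_subtype (Finset.univ.filter (· ∈ D.K)) (p := (· ∈ D.K)) (by simp)]
  apply Finset.sum_congr rfl
  intro k _
  have e : D.w⁻¹ * (k : G) * D.w = (k : G)⁻¹ := by
    have := D.w_inv k k.2
    rw [hw] at this ⊢
    exact this
  rw [e, extendByZero_of_mem D.B α (D.K_le k.2),
    extendByZero_of_mem D.B β (D.K_le (D.K.inv_mem k.2))]

/-- **SZCH-[MACKEY]** -/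
theorem mackey [Fintype G] (D : SzData G) [Fintype ↥D.B] (α β : ↥D.B → ℂ)
    (hα : IsClassFunction ↥D.B α) (hβ : IsClassFunction ↥D.B β) :
    classInner (indFun D.B α) (indFun D.B β) = classInner α β +
      (Nat.card D.K : ℂ)⁻¹ * ∑ᶠ k : ↥D.K, α ⟨(k : G), D.K_le k.2⟩ *
        conj (β ⟨(k : G)⁻¹, D.K_le (D.K.inv_mem k.2)⟩) := by
  rw [← mackeyInner_w D α β, Cfsg.Agent.Lib.Helper41.classInner_indFun_indFun]
  have hsum : ∑ z : G, ∑ h : G, extendByZero D.B α h * conj (extendByZero D.B β (z⁻¹ * h * z)) =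
      ∑ z : G, mackeyInner D.B α β z := rfl
  rw [hsum, ← Finset.sum_filter_add_sum_filter_not Finset.univ (· ∈ D.B)]
  have hin : ∀ z ∈ Finset.univ.filter (· ∈ D.B), mackeyInner D.B α β z = mackeyInner D.B α β 1 := by
    intro z hz
    have hz' : z ∈ D.B := (Finset.mem_filter.mp hz).2
    have := mackeyInner_mul D.B hα hβ (D.B.one_mem) hz' 1
    rw [one_mul, one_mul] at this
    exact this
  have hout : ∀ z ∈ Finset.univ.filter (fun z : G => ¬ z ∈ D.B),
      mackeyInner D.B α β z = mackeyInner D.B α β D.w := by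
    intro z hz
    have hz' : z ∉ D.B := (Finset.mem_filter.mp hz).2
    rcases D.bruhat z with h | ⟨b, hb, b', hb', rfl⟩
    · exact absurd h hz'
    · exact mackeyInner_mul D.B hα hβ hb hb' D.w
  rw [Finset.sum_congr rfl hin, Finset.sum_congr rfl hout, Finset.sum_const, Finset.sum_const,
    mackeyInner_one, nsmul_eq_mul, nsmul_eq_mul]
  -- cardinalities
  have hcB : (Finset.univ.filter (· ∈ D.B)).card = Nat.card ↥D.B := by
    rw [Nat.card_eq_fintype_card, Fintype.card_subtype]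
  have hcG : (Finset.univ.filter (· ∈ D.B)).card + (Finset.univ.filter (fun z : G => ¬ z ∈ D.B)).card =
      Nat.card G := by
    rw [Finset.card_filter_add_card_filter_not, Finset.card_univ, Nat.card_eq_fintype_card]
  have hB := szData_card_B D
  have hG := D.card_G
  rw [D.card_Q, D.card_K] at hB
  have hq1 : 1 ≤ qOf D.m := Nat.one_le_two_pow
  set cB := (Finset.univ.filter (· ∈ D.B)).card with hcBdef
  set cN := (Finset.univ.filter (fun z : G => ¬ z ∈ D.B)).card with hcNdef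
  have hcN : (cN : ℂ) = (Nat.card G : ℂ) - (Nat.card ↥D.B : ℂ) := by
    rw [← hcG, hcB]; push_cast; ring
  rw [hcN, hcB, hG, hB, D.card_K]
  have hk : ((qOf D.m - 1 : ℕ) : ℂ) = (qOf D.m : ℂ) - 1 := by
    rw [Nat.cast_sub hq1]; simp
  have hq0 : (qOf D.m : ℂ) ≠ 0 := by
    have : qOf D.m ≠ 0 := by omega
    exact_mod_cast this
  have hk0 : (qOf D.m : ℂ) - 1 ≠ 0 := by
    have h2 : 2 ≤ qOf D.m := by
      unfold qOf
      calc 2 = 2 ^ 1 := by norm_num
        _ ≤ 2 ^ (2 * D.m + 1) := Nat.pow_le_pow_right (by norm_num) (by omega)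
    have : ((qOf D.m - 1 : ℕ) : ℂ) ≠ 0 := by
      have : qOf D.m - 1 ≠ 0 := by omega
      exact_mod_cast this
    rwa [hk] at this
  push_cast
  rw [hk]
  field_simp
  ring

end Cfsg.Agent.Lib.Helper41.SzCh
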