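import Mathlib
import Cfsg.Agent.Lib.Helper6.SzCh.Defs
import Cfsg.Agent.Lib.Helper78.CharOrtho
import Cfsg.Agent.Lib.Helper41.SzChMackey
import Cfsg.Agent.Lib.Helper52.BL.Gen
import Cfsg.Agent.S0148

/-!
# SZCH-[ALL-SUMS] (helper41): `∑_χ ⟨χ|_B, ξ⟩ ⟨χ|_B, ξ'⟩ = ⟨Ind ξ, Ind ξ'⟩` for `ξ, ξ' ∈ {φ, ψ₁, ψ₂}`
-/

set_option autoImplicit false

namespace Cfsg.Agent.Lib.Helper41.SzCh

open Cfsg Cfsg.Agent.Lib.Helper6.SzCh Cfsg.Agent.Lib.Helper75 Cfsg.Agent.Lib.Helper78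
open Cfsg.Agent.Lib.Helper52.BL
open scoped ComplexConjugate Classical

universe u

variable {G : Type u} [Group G]

/-- the multiplicity of `ξ` in `χ|_B` is the multiplicity of `χ` in `Ind ξ` -/
theorem floor_res_eq_mult [Fintype G] (D : SzData G) [Fintype ↥D.B] {ξ : ↥D.B → ℂ}
    (hξ : IsIrrCharacter ↥D.B ξ) (χ : IrrCharacter G) :
    ⌊(classInner (resB D χ.1) ξ).re⌋₊ = mult (indFun D.B ξ) χ.1 := by
  have hres : IsCharacter ↥D.B (resB D χ.1) :=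
    isCharacter_res D.B (IsIrrCharacter.isCharacter χ.2)
  have h1 : classInner (resB D χ.1) ξ = (mult (resB D χ.1) ξ : ℂ) := mult_spec hres hξ
  have h2 : classInner (indFun D.B ξ) χ.1 = classInner ξ (resB D χ.1) :=
    frobenius_reciprocity D.B ξ (isClassFunction_irr χ)
  have h3 : classInner ξ (resB D χ.1) = (mult (resB D χ.1) ξ : ℂ) := mult_spec' hres hξ
  rw [mult_def, h2, h3, h1]

/-- the sum over the irreducible characters of `G` of products of multiplicities -/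
theorem sum_floor_mul [Fintype G] (D : SzData G) [Fintype ↥D.B] {ξ ξ' : ↥D.B → ℂ}
    (hξ : IsIrrCharacter ↥D.B ξ) (hξ' : IsIrrCharacter ↥D.B ξ') :
    ((∑ χ : IrrCharacter G, ⌊(classInner (resB D χ.1) ξ).re⌋₊ *
        ⌊(classInner (resB D χ.1) ξ').re⌋₊ : ℕ) : ℂ) =
      classInner (indFun D.B ξ) (indFun D.B ξ') := by
  have hA : IsCharacter G (indFun D.B ξ) :=
    Cfsg.Agent.S0148.result D.B ξ (IsIrrCharacter.isCharacter hξ)
  have hB : IsCharacter G (indFun D.B ξ') :=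
    Cfsg.Agent.S0148.result D.B ξ' (IsIrrCharacter.isCharacter hξ')
  rw [classInner_eq_sum_mult hA hB]
  congr 1
  apply Finset.sum_congr rfl
  intro χ _
  rw [floor_res_eq_mult D hξ χ, floor_res_eq_mult D hξ' χ]


/-- the `K`-part of Mackey's formula for functions vanishing off `Q` -/
theorem finsum_K_off [Finite G] (D : SzData G) {ξ ξ' : ↥D.B → ℂ}
    (hoff : ∀ b : ↥D.B, (b : G) ∉ D.Q → ξ b = 0) :
    ∑ᶠ k : ↥D.K, ξ ⟨(k : G), D.K_le k.2⟩ * conj (ξ' ⟨(k : G)⁻¹, D.K_le (D.K.inv_mem k.2)⟩) =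
      ξ 1 * conj (ξ' 1) := by
  rw [finsum_eq_single _ (1 : ↥D.K)]
  · have e1 : (⟨((1 : ↥D.K) : G), D.K_le (1 : ↥D.K).2⟩ : ↥D.B) = 1 := Subtype.ext rfl
    have e2 : (⟨((1 : ↥D.K) : G)⁻¹, D.K_le (D.K.inv_mem (1 : ↥D.K).2)⟩ : ↥D.B) = 1 :=
      Subtype.ext (by simp)
    rw [e1, e2]
  · intro k hk
    have hkQ : (k : G) ∉ D.Q := by
      intro h
      apply hk
      have hmem : (k : G) ∈ D.Q ⊓ D.K := ⟨h, k.2⟩
      rw [szData_Q_inf_K D, Subgroup.mem_bot] at hmem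
      exact Subtype.ext hmem
    rw [hoff ⟨(k : G), D.K_le k.2⟩ hkQ, zero_mul]

theorem szData_two_le_q (D : SzData G) : 2 ≤ D.q := by
  unfold SzData.q qOf
  calc 2 = 2 ^ 1 := by norm_num
    _ ≤ 2 ^ (2 * D.m + 1) := Nat.pow_le_pow_right (by norm_num) (by omega)

theorem szData_two_le_h (D : SzData G) : 2 ≤ D.h := by
  unfold SzData.h hOf
  calc 2 = 2 ^ 1 := by norm_num
    _ ≤ 2 ^ D.m := Nat.pow_le_pow_right (by norm_num) D.hm

/-- there is an element of `Q \ Z` -/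
theorem szData_exists_QZ [Finite G] (D : SzData G) : ∃ x : G, x ∈ D.Q ∧ x ∉ D.Z := by
  by_contra hne
  push Not at hne
  have hle : D.Q ≤ D.Z := fun x hx => hne x hx
  have heq : D.Z = D.Q := le_antisymm inf_le_left hle
  have h1 : Nat.card ↥D.Z = qOf D.m := D.card_Z
  have h2 : Nat.card ↥D.Q = qOf D.m ^ 2 := D.card_Q
  rw [heq, h2] at h1
  have hq := szData_two_le_q D
  unfold SzData.q at hq
  nlinarith

/-- general form of the six sums -/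
theorem sum_floor_mul_eq [Fintype G] (D : SzData G) [Fintype ↥D.B] {ξ ξ' : ↥D.B → ℂ}
    (hξ : IsIrrCharacter ↥D.B ξ) (hξ' : IsIrrCharacter ↥D.B ξ')
    (hoff : ∀ b : ↥D.B, (b : G) ∉ D.Q → ξ b = 0) :
    ((∑ χ : IrrCharacter G, ⌊(classInner (resB D χ.1) ξ).re⌋₊ *
        ⌊(classInner (resB D χ.1) ξ').re⌋₊ : ℕ) : ℂ) =
      (if ξ = ξ' then 1 else 0) + ((D.q : ℂ) - 1)⁻¹ * (ξ 1 * conj (ξ' 1)) := by
  rw [sum_floor_mul D hξ hξ',
    mackey D ξ ξ' (IsCharacter.isClassFunction (IsIrrCharacter.isCharacter hξ))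
      (IsCharacter.isClassFunction (IsIrrCharacter.isCharacter hξ')),
    finsum_K_off D hoff, classInner_irr hξ hξ', D.card_K]
  have hq := szData_two_le_q D
  have : ((qOf D.m - 1 : ℕ) : ℂ) = (D.q : ℂ) - 1 := by
    unfold SzData.q at hq ⊢
    rw [Nat.cast_sub (by omega)]; simp
  rw [this]

/-- **SZCH-[ALL-SUMS]** -/
theorem all_sums [Fintype G] (D : SzData G) [Fintype ↥D.B] (T : BTable D) :
    ∑ χ : IrrCharacter G, T.pa χ.1 ^ 2 = D.q ∧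
    ∑ χ : IrrCharacter G, T.pa χ.1 * T.pb χ.1 = D.h * (D.q - 1) ∧
    ∑ χ : IrrCharacter G, T.pa χ.1 * T.pc χ.1 = D.h * (D.q - 1) ∧
    ∑ χ : IrrCharacter G, T.pb χ.1 ^ 2 = 1 + D.h ^ 2 * (D.q - 1) ∧
    ∑ χ : IrrCharacter G, T.pb χ.1 * T.pc χ.1 = D.h ^ 2 * (D.q - 1) ∧
    ∑ χ : IrrCharacter G, T.pc χ.1 ^ 2 = 1 + D.h ^ 2 * (D.q - 1) := by
  have hq := szData_two_le_q D
  have hh := szData_two_le_h D
  have hqC : ((D.q - 1 : ℕ) : ℂ) = (D.q : ℂ) - 1 := by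
    rw [Nat.cast_sub (by omega)]; simp
  have hq1 : (D.q : ℂ) - 1 ≠ 0 := by
    rw [← hqC]
    have : D.q - 1 ≠ 0 := by omega
    exact_mod_cast this
  have hZ1 : ((1 : ↥D.B) : G) ∈ D.Z := D.Z.one_mem
  have hφ1 : T.φ 1 = (D.q : ℂ) - 1 := T.φ_Z 1 hZ1
  have hψ₁1 := T.ψ₁_one
  have hψ₂1 := T.ψ₂_one
  have hcq : conj ((D.q : ℂ) - 1) = (D.q : ℂ) - 1 := by simp
  have hch : conj ((D.h : ℂ) * ((D.q : ℂ) - 1)) = (D.h : ℂ) * ((D.q : ℂ) - 1) := by simp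
  -- distinctness
  have hφψ₁ : T.φ ≠ T.ψ₁ := by
    intro h
    have := congrFun h 1
    rw [hφ1, hψ₁1] at this
    have h2 : ((D.h : ℂ) - 1) * ((D.q : ℂ) - 1) = 0 := by linear_combination -this
    rcases mul_eq_zero.mp h2 with h3 | h3
    · have : (D.h : ℂ) = 1 := by linear_combination h3
      have : D.h = 1 := by exact_mod_cast this
      omega
    · exact hq1 h3
  have hφψ₂ : T.φ ≠ T.ψ₂ := by
    intro h
    have := congrFun h 1
    rw [hφ1, hψ₂1] at this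
    have h2 : ((D.h : ℂ) - 1) * ((D.q : ℂ) - 1) = 0 := by linear_combination -this
    rcases mul_eq_zero.mp h2 with h3 | h3
    · have : (D.h : ℂ) = 1 := by linear_combination h3
      have : D.h = 1 := by exact_mod_cast this
      omega
    · exact hq1 h3
  have hψ₁ψ₂ : T.ψ₁ ≠ T.ψ₂ := by
    intro h
    obtain ⟨x, hxQ, hxZ⟩ := szData_exists_QZ D
    let b : ↥D.B := ⟨x, szData_Q_le_B D hxQ⟩
    have h1 := T.ψ_neg b hxQ hxZ
    have h2 := T.ψ_sq b hxQ hxZ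
    rw [← h] at h1
    have h3 : T.ψ₁ b = 0 := by linear_combination (1 / 2 : ℂ) * h1
    rw [h3] at h2
    have hh0 : (D.h : ℂ) ≠ 0 := by
      have : D.h ≠ 0 := by omega
      exact_mod_cast this
    have : (D.h : ℂ) ^ 2 = 0 := by
      have h4 : (0 : ℂ) ^ 2 = 0 := by norm_num
      rw [h4] at h2
      linear_combination h2
    exact hh0 (pow_eq_zero_iff (two_ne_zero) |>.mp this)
  have e_aa := sum_floor_mul_eq D T.irr_φ T.irr_φ T.φ_off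
  have e_ab := sum_floor_mul_eq D T.irr_φ T.irr_ψ₁ T.φ_off
  have e_ac := sum_floor_mul_eq D T.irr_φ T.irr_ψ₂ T.φ_off
  have e_bb := sum_floor_mul_eq D T.irr_ψ₁ T.irr_ψ₁ T.ψ₁_off
  have e_bc := sum_floor_mul_eq D T.irr_ψ₁ T.irr_ψ₂ T.ψ₁_off
  have e_cc := sum_floor_mul_eq D T.irr_ψ₂ T.irr_ψ₂ T.ψ₂_off
  rw [if_pos rfl, hφ1, hcq] at e_aa
  rw [if_neg hφψ₁, hφ1, hψ₁1, hch] at e_ab
  rw [if_neg hφψ₂, hφ1, hψ₂1, hch] at e_ac
  rw [if_pos rfl, hψ₁1, hch] at e_bb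
  rw [if_neg hψ₁ψ₂, hψ₁1, hψ₂1, hch] at e_bc
  rw [if_pos rfl, hψ₂1, hch] at e_cc
  refine ⟨?_, ?_, ?_, ?_, ?_, ?_⟩
  · have : ((∑ χ : IrrCharacter G, T.pa χ.1 ^ 2 : ℕ) : ℂ) = (D.q : ℂ) := by
      simp only [sq]
      unfold BTable.pa
      rw [e_aa]; field_simp; try ring
    exact_mod_cast this
  · have : ((∑ χ : IrrCharacter G, T.pa χ.1 * T.pb χ.1 : ℕ) : ℂ) = ((D.h * (D.q - 1) : ℕ) : ℂ) := by
      unfold BTable.pa BTable.pb
      rw [e_ab]; push_cast; rw [hqC]; field_simp; try ring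
    exact_mod_cast this
  · have : ((∑ χ : IrrCharacter G, T.pa χ.1 * T.pc χ.1 : ℕ) : ℂ) = ((D.h * (D.q - 1) : ℕ) : ℂ) := by
      unfold BTable.pa BTable.pc
      rw [e_ac]; push_cast; rw [hqC]; field_simp; try ring
    exact_mod_cast this
  · have : ((∑ χ : IrrCharacter G, T.pb χ.1 ^ 2 : ℕ) : ℂ) = ((1 + D.h ^ 2 * (D.q - 1) : ℕ) : ℂ) := by
      simp only [sq]
      unfold BTable.pb
      rw [e_bb]; push_cast; rw [hqC]; field_simp; try ring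
    exact_mod_cast this
  · have : ((∑ χ : IrrCharacter G, T.pb χ.1 * T.pc χ.1 : ℕ) : ℂ) = ((D.h ^ 2 * (D.q - 1) : ℕ) : ℂ) := by
      unfold BTable.pb BTable.pc
      rw [e_bc]; push_cast; rw [hqC]; field_simp; try ring
    exact_mod_cast this
  · have : ((∑ χ : IrrCharacter G, T.pc χ.1 ^ 2 : ℕ) : ℂ) = ((1 + D.h ^ 2 * (D.q - 1) : ℕ) : ℂ) := by
      simp only [sq]
      unfold BTable.pc
      rw [e_cc]; push_cast; rw [hqC]; field_simp; try ring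
    exact_mod_cast this

end Cfsg.Agent.Lib.Helper41.SzCh
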