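import Mathlib

set_option autoImplicit false

/-!
# Counting the union of conjugates of a TI subgroup (helper41)

`conjCover A` is the set of non-identity elements lying in some conjugate of `A`.  If `N` normalises
`A` and every `k` conjugating a non-identity element of `A` into `A` lies in `N`, then
`|conjCover A| = [K : N] * (|A| - 1)`.  (Generalises helper68's `S4116.card_covered`.)
-/

namespace Cfsg.Agent.Lib.Helper41

variable {K : Type*} [Group K]

/-- non-identity elements lying in a conjugate of `A` -/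
def conjCover (A : Subgroup K) : Set K :=
  {y | y ≠ 1 ∧ ∃ k : K, k⁻¹ * y * k ∈ A}

theorem mem_conjCover {A : Subgroup K} {y : K} :
    y ∈ conjCover A ↔ y ≠ 1 ∧ ∃ k : K, k⁻¹ * y * k ∈ A := Iff.rfl

theorem one_not_mem_conjCover (A : Subgroup K) : (1 : K) ∉ conjCover A := fun h => h.1 rfl

theorem card_conjCover [Finite K] (A N : Subgroup K)
    (hN : ∀ n ∈ N, ∀ z ∈ A, n * z * n⁻¹ ∈ A)
    (hTI : ∀ k : K, ∀ z ∈ A, z ≠ 1 → k * z * k⁻¹ ∈ A → k ∈ N) :
    Nat.card (conjCover A) = N.index * (Nat.card A - 1) := by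
  have hcard2 : Nat.card {z : A // z ≠ 1} = Nat.card A - 1 := by
    classical
    have := Fintype.ofFinite A
    rw [Nat.card_eq_fintype_card, Nat.card_eq_fintype_card, Fintype.card_subtype_compl,
      Fintype.card_subtype_eq]
  rw [Subgroup.index, ← hcard2, ← Nat.card_prod]
  symm
  let f : (K ⧸ N) × {z : A // z ≠ 1} → conjCover A := fun qz =>
    ⟨qz.1.out * (qz.2.1 : K) * qz.1.out⁻¹, by
      refine ⟨?_, qz.1.out, ?_⟩
      · intro h
        apply qz.2.2
        have : (qz.2.1 : K) = 1 := by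
          have h2 : (qz.2.1 : K) = qz.1.out⁻¹ * (qz.1.out * (qz.2.1 : K) * qz.1.out⁻¹) * qz.1.out := by
            group
          rw [h2, h]; group
        exact Subtype.ext this
      · have h2 : qz.1.out⁻¹ * (qz.1.out * (qz.2.1 : K) * qz.1.out⁻¹) * qz.1.out = (qz.2.1 : K) := by
          group
        rw [h2]; exact qz.2.1.2⟩
  apply Nat.card_eq_of_bijective f
  constructor
  · rintro ⟨q, z, hz⟩ ⟨q', z', hz'⟩ h
    have h' : q.out * (z : K) * q.out⁻¹ = q'.out * (z' : K) * q'.out⁻¹ := congrArg Subtype.val h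
    have hz1 : (z : K) ≠ 1 := fun h1 => hz (Subtype.ext h1)
    have hk : q'.out⁻¹ * q.out ∈ N := by
      apply hTI (q'.out⁻¹ * q.out) (z : K) z.2 hz1
      have : q'.out⁻¹ * q.out * (z : K) * (q'.out⁻¹ * q.out)⁻¹
          = q'.out⁻¹ * (q.out * (z : K) * q.out⁻¹) * q'.out := by group
      rw [this, h']
      have : q'.out⁻¹ * (q'.out * (z' : K) * q'.out⁻¹) * q'.out = (z' : K) := by group
      rw [this]; exact z'.2
    have hq : q' = q := by
      rw [← QuotientGroup.out_eq' q', ← QuotientGroup.out_eq' q]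
      exact QuotientGroup.eq.mpr hk
    subst hq
    have hz2 : (z : K) = z' := by
      have : (z : K) = q'.out⁻¹ * (q'.out * (z : K) * q'.out⁻¹) * q'.out := by group
      rw [this, h']; group
    have : z = z' := Subtype.ext hz2
    subst this
    rfl
  · rintro ⟨y, hy1, k, hk⟩
    obtain ⟨u, hu⟩ := QuotientGroup.mk_out_eq_mul N k
    have hzmem : (QuotientGroup.mk k : K ⧸ N).out⁻¹ * y * (QuotientGroup.mk k : K ⧸ N).out ∈ A := by
      rw [hu]
      have : (k * (u : K))⁻¹ * y * (k * (u : K)) = (u : K)⁻¹ * (k⁻¹ * y * k) * ((u : K)⁻¹)⁻¹ := by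
        group
      rw [this]
      exact hN _ (N.inv_mem u.2) _ hk
    refine ⟨⟨QuotientGroup.mk k, ⟨⟨_, hzmem⟩, ?_⟩⟩, ?_⟩
    · intro h
      apply hy1
      have h2 : (QuotientGroup.mk k : K ⧸ N).out⁻¹ * y * (QuotientGroup.mk k : K ⧸ N).out = 1 :=
        congrArg Subtype.val h
      have : y = (QuotientGroup.mk k : K ⧸ N).out *
          ((QuotientGroup.mk k : K ⧸ N).out⁻¹ * y * (QuotientGroup.mk k : K ⧸ N).out) *
          (QuotientGroup.mk k : K ⧸ N).out⁻¹ := by group
      rw [this, h2]; group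
    · apply Subtype.ext
      show (QuotientGroup.mk k : K ⧸ N).out *
          ((QuotientGroup.mk k : K ⧸ N).out⁻¹ * y * (QuotientGroup.mk k : K ⧸ N).out) *
          (QuotientGroup.mk k : K ⧸ N).out⁻¹ = y
      group

theorem ncard_conjCover [Finite K] (A N : Subgroup K)
    (hN : ∀ n ∈ N, ∀ z ∈ A, n * z * n⁻¹ ∈ A)
    (hTI : ∀ k : K, ∀ z ∈ A, z ≠ 1 → k * z * k⁻¹ ∈ A → k ∈ N) :
    (conjCover A).ncard = N.index * (Nat.card A - 1) := by
  rw [← card_conjCover A N hN hTI, Nat.card_coe_set_eq]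

end Cfsg.Agent.Lib.Helper41
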