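import Mathlib
import Cfsg.Agent.Lib.Helper41.TICount

set_option autoImplicit false

/-!
# A counting theorem for CA-groups with a "unipotent" predicate (helper41)

Abstract version of: a finite subgroup of odd order of `SL₂(F)` (char `F = p` odd) has a normal
Sylow `p`-subgroup.
-/

namespace Cfsg.Agent.Lib.Helper41

variable {K : Type*} [Group K]

/-- centraliser of an element -/
def cen (y : K) : Subgroup K := Subgroup.centralizer ({y} : Set K)

theorem mem_cen {x y : K} : x ∈ cen y ↔ Commute x y := by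
  unfold cen
  rw [Subgroup.mem_centralizer_singleton_iff]
  exact ⟨fun h => h, fun h => h⟩

theorem self_mem_cen (y : K) : y ∈ cen y := mem_cen.mpr (Commute.refl y)

/-- normaliser of the centraliser of an element -/
def nor (y : K) : Subgroup K := Subgroup.normalizer ((cen y : Subgroup K) : Set K)

theorem cen_le_nor (y : K) : cen y ≤ nor y := Subgroup.le_normalizer

theorem commute_conj_iff {x y k : K} : Commute x (k * y * k⁻¹) ↔ Commute (k⁻¹ * x * k) y := by
  unfold Commute SemiconjBy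
  constructor
  · intro hc
    have e1 : k⁻¹ * x * k * y = k⁻¹ * (x * (k * y * k⁻¹)) * k := by group
    rw [e1, hc]; group
  · intro hc
    have e1 : x * (k * y * k⁻¹) = k * (k⁻¹ * x * k * y) * k⁻¹ := by group
    rw [e1, hc]; group

theorem conj_ne_one {y k : K} (hy : y ≠ 1) : k * y * k⁻¹ ≠ 1 := by
  intro h
  apply hy
  have : y = k⁻¹ * (k * y * k⁻¹) * k := by group
  rw [this, h]; group

/-- the hypotheses -/
structure CAOdd (U : K → Prop) : Prop where
  ca : ∀ y a b : K, y ≠ 1 → Commute a y → Commute b y → Commute a b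
  one : U 1
  conj : ∀ k x : K, U x → U (k * x * k⁻¹)
  cent : ∀ u x : K, U u → u ≠ 1 → Commute x u → U x
  snorm : ∀ s n : K, ¬ U s → Commute (n * s * n⁻¹) s → Commute n s
  unorm : ∀ u n : K, U u → u ≠ 1 → U n → Commute (n * u * n⁻¹) u → Commute n u
  uab : ∀ u n m : K, U u → u ≠ 1 → Commute (n * u * n⁻¹) u → Commute (m * u * m⁻¹) u →
    Commute (n * m * n⁻¹ * m⁻¹) u

namespace CAOdd

variable {U : K → Prop}

theorem cen_eq (h : CAOdd U) {y a : K} (hy : y ≠ 1) (ha : a ≠ 1) (hay : Commute a y) :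
    cen a = cen y := by
  ext x
  simp only [mem_cen]
  constructor
  · intro hxa
    exact h.ca a x y ha hxa hay.symm
  · intro hxy
    exact h.ca y x a hy hxy hay

theorem mem_cen_conj {x y k : K} : x ∈ cen (k * y * k⁻¹) ↔ k⁻¹ * x * k ∈ cen y := by
  rw [mem_cen, mem_cen, commute_conj_iff]

theorem mem_nor_iff (h : CAOdd U) {y n : K} (hy : y ≠ 1) :
    n ∈ nor y ↔ Commute (n * y * n⁻¹) y := by
  constructor
  · intro hn
    have := (Subgroup.mem_normalizer_iff.mp hn y).mp (self_mem_cen y)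
    exact mem_cen.mp this
  · intro hc
    have hy' : n * y * n⁻¹ ≠ 1 := conj_ne_one hy
    have he : cen (n * y * n⁻¹) = cen y := h.cen_eq hy hy' hc
    unfold nor
    rw [Subgroup.mem_normalizer_iff]
    intro x
    have hg : n⁻¹ * (n * x * n⁻¹) * n = x := by group
    constructor
    · intro hx
      rw [← he, mem_cen_conj, hg]; exact hx
    · intro hx
      rw [← he, mem_cen_conj, hg] at hx; exact hx

theorem ti (h : CAOdd U) {y z k : K} (hy : y ≠ 1) (hz : z ∈ cen y) (hz1 : z ≠ 1)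
    (hk : k * z * k⁻¹ ∈ cen y) : k ∈ nor y := by
  have e1 : cen z = cen y := h.cen_eq hy hz1 (mem_cen.mp hz)
  have e2 : cen (k * z * k⁻¹) = cen y := h.cen_eq hy (conj_ne_one hz1) (mem_cen.mp hk)
  unfold nor
  rw [Subgroup.mem_normalizer_iff]
  intro x
  have hg : k⁻¹ * (k * x * k⁻¹) * k = x := by group
  constructor
  · intro hx
    rw [← e2, mem_cen_conj, hg, e1]; exact hx
  · intro hx
    rw [← e2, mem_cen_conj, hg, e1] at hx; exact hx

theorem nor_conj_mem {y n z : K} (hn : n ∈ nor y) (hz : z ∈ cen y) : n * z * n⁻¹ ∈ cen y :=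
  (Subgroup.mem_normalizer_iff.mp hn z).mp hz

theorem ncard_cover (h : CAOdd U) [Finite K] {y : K} (hy : y ≠ 1) :
    (conjCover (cen y)).ncard = (nor y).index * (Nat.card (cen y) - 1) :=
  ncard_conjCover (cen y) (nor y) (fun _ hn _ hz => nor_conj_mem hn hz)
    (fun _ _ hz hz1 hk => h.ti hy hz hz1 hk)

theorem self_mem_cover {y : K} (hy : y ≠ 1) : y ∈ conjCover (cen y) :=
  ⟨hy, 1, by simpa using self_mem_cen y⟩

theorem mem_cover_of_inter (h : CAOdd U) {x y y' : K} (hy : y ≠ 1) (hy' : y' ≠ 1)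
    (hx : x ∈ conjCover (cen y)) (hx' : x ∈ conjCover (cen y')) : y' ∈ conjCover (cen y) := by
  obtain ⟨hx1, k, hk⟩ := hx
  obtain ⟨-, k', hk'⟩ := hx'
  have hx1' : k⁻¹ * x * k ≠ 1 := by
    have := conj_ne_one (k := k⁻¹) hx1
    simpa using this
  have hx2' : k'⁻¹ * x * k' ≠ 1 := by
    have := conj_ne_one (k := k'⁻¹) hx1
    simpa using this
  have e1 : cen (k⁻¹ * x * k) = cen y := h.cen_eq hy hx1' (mem_cen.mp hk)
  have e2 : cen (k'⁻¹ * x * k') = cen y' := h.cen_eq hy' hx2' (mem_cen.mp hk')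
  refine ⟨hy', k'⁻¹ * k, ?_⟩
  -- y' commutes with k'⁻¹ x k'
  have hc : Commute y' (k'⁻¹ * x * k') := by
    have : y' ∈ cen (k'⁻¹ * x * k') := by rw [e2]; exact self_mem_cen y'
    exact mem_cen.mp this
  have hx2 : k'⁻¹ * x * k' = (k'⁻¹ * k) * (k⁻¹ * x * k) * (k'⁻¹ * k)⁻¹ := by group
  rw [hx2, commute_conj_iff] at hc
  rw [← e1]
  exact mem_cen.mpr hc

theorem U_of_mem_cover (h : CAOdd U) {u x : K} (hu : U u) (hu1 : u ≠ 1)
    (hx : x ∈ conjCover (cen u)) : U x := by
  obtain ⟨-, k, hk⟩ := hx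
  have h1 : U (k⁻¹ * x * k) := h.cent u _ hu hu1 (mem_cen.mp hk)
  have := h.conj k _ h1
  have e : k * (k⁻¹ * x * k) * k⁻¹ = x := by group
  rwa [e] at this

theorem not_U_of_mem_nor (h : CAOdd U) {u s : K} (hu : U u) (hu1 : u ≠ 1) (hs : s ∈ nor u)
    (hs' : s ∉ cen u) : ¬ U s := by
  intro hUs
  apply hs'
  exact mem_cen.mpr (h.unorm u s hu hu1 hUs ((h.mem_nor_iff hu1).mp hs))

theorem ne_one_of_not_U (h : CAOdd U) {s : K} (hs : ¬ U s) : s ≠ 1 := by
  rintro rfl; exact hs h.one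

theorem nor_eq_cen_of_not_U (h : CAOdd U) {s : K} (hs : ¬ U s) : nor s = cen s := by
  apply le_antisymm _ (cen_le_nor s)
  intro n hn
  exact mem_cen.mpr (h.snorm s n hs ((h.mem_nor_iff (h.ne_one_of_not_U hs)).mp hn))

theorem cen_inf_cen (h : CAOdd U) {u s : K} (hu : U u) (hu1 : u ≠ 1) (hs : ¬ U s) :
    cen u ⊓ cen s = ⊥ := by
  rw [eq_bot_iff]
  rintro x ⟨hxu, hxs⟩
  rw [Subgroup.mem_bot]
  by_contra hx1
  have hUx : U x := h.cent u x hu hu1 (mem_cen.mp hxu)
  exact hs (h.cent x s hUx hx1 (mem_cen.mp hxs).symm)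

theorem not_U_of_mem_cover (h : CAOdd U) {s x : K} (hs : ¬ U s) (hx : x ∈ conjCover (cen s)) :
    ¬ U x := by
  intro hUx
  obtain ⟨hx1, k, hk⟩ := hx
  have h1 : U (k⁻¹ * x * k) := by
    have := h.conj k⁻¹ x hUx
    simpa using this
  have h2 : k⁻¹ * x * k ≠ 1 := by
    have := conj_ne_one (k := k⁻¹) hx1
    simpa using this
  exact hs (h.cent _ s h1 h2 (mem_cen.mp hk).symm)

theorem two_le_card_cen [Finite K] {y : K} (hy : y ≠ 1) : 2 ≤ Nat.card (cen y) := by
  have : cen y ≠ ⊥ := fun hb => hy ((Subgroup.mem_bot).mp (hb ▸ self_mem_cen y))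
  exact (Subgroup.one_lt_card_iff_ne_bot _).mpr this

/-- every element of `nor u` is a product of an element of `cen u` and one of `cen s ⊓ nor u` -/
theorem exists_mul_of_mem_nor (h : CAOdd U) [Finite K] {u s : K} (hu : U u) (hu1 : u ≠ 1)
    (hs : s ∈ nor u) (hs' : s ∉ cen u) {n : K} (hn : n ∈ nor u) :
    ∃ x ∈ cen u, x⁻¹ * n ∈ cen s := by
  have hsU : ¬ U s := h.not_U_of_mem_nor hu hu1 hs hs'
  have hcs : Commute (s * u * s⁻¹) u := (h.mem_nor_iff hu1).mp hs
  have key : ∀ m ∈ nor u, m * s * m⁻¹ * s⁻¹ ∈ cen u := fun m hm =>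
    mem_cen.mpr (h.uab u m s hu hu1 ((h.mem_nor_iff hu1).mp hm) hcs)
  let φ : cen u → cen u := fun x => ⟨(x : K) * s * (x : K)⁻¹ * s⁻¹, key _ (cen_le_nor u x.2)⟩
  have hinj : Function.Injective φ := by
    intro x x' hxx
    have h1 : (x : K) * s * (x : K)⁻¹ * s⁻¹ = (x' : K) * s * (x' : K)⁻¹ * s⁻¹ :=
      congrArg Subtype.val hxx
    have h2 : ((x' : K)⁻¹ * x) * s = s * ((x' : K)⁻¹ * x) := by
      have h3 : (x : K) * s * (x : K)⁻¹ = (x' : K) * s * (x' : K)⁻¹ := by
        have := congrArg (· * s) h1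
        simpa using this
      have e1 : ((x' : K)⁻¹ * x) * s = (x' : K)⁻¹ * ((x : K) * s * (x : K)⁻¹) * x := by group
      rw [e1, h3]; group
    have h4 : (x' : K)⁻¹ * x ∈ cen u ⊓ cen s :=
      ⟨(cen u).mul_mem ((cen u).inv_mem x'.2) x.2, mem_cen.mpr h2⟩
    rw [h.cen_inf_cen hu hu1 hsU, Subgroup.mem_bot] at h4
    apply Subtype.ext
    have : (x : K) = x' * ((x' : K)⁻¹ * x) := by group
    rw [this, h4, mul_one]
  have hsurj : Function.Surjective φ := Finite.injective_iff_surjective.mp hinj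
  obtain ⟨x, hx⟩ := hsurj ⟨n * s * n⁻¹ * s⁻¹, key n hn⟩
  refine ⟨x, x.2, ?_⟩
  have h1 : (x : K) * s * (x : K)⁻¹ * s⁻¹ = n * s * n⁻¹ * s⁻¹ := congrArg Subtype.val hx
  have h3 : (x : K) * s * (x : K)⁻¹ = n * s * n⁻¹ := by
    have := congrArg (· * s) h1
    simpa using this
  rw [mem_cen]
  show (x : K)⁻¹ * n * s = s * ((x : K)⁻¹ * n)
  have e1 : (x : K)⁻¹ * n * s = (x : K)⁻¹ * (n * s * n⁻¹) * n := by group
  rw [e1, ← h3]; group

theorem card_nor_eq (h : CAOdd U) [Finite K] {u s : K} (hu : U u) (hu1 : u ≠ 1)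
    (hs : s ∈ nor u) (hs' : s ∉ cen u) :
    Nat.card (nor u) = Nat.card (cen u) * Nat.card ↥(cen s ⊓ nor u) := by
  have hsU : ¬ U s := h.not_U_of_mem_nor hu hu1 hs hs'
  rw [← Nat.card_prod]
  symm
  let f : (cen u) × ↥(cen s ⊓ nor u) → nor u := fun xa =>
    ⟨(xa.1 : K) * (xa.2 : K), (nor u).mul_mem (cen_le_nor u xa.1.2) xa.2.2.2⟩
  apply Nat.card_eq_of_bijective f
  constructor
  · rintro ⟨x, a⟩ ⟨x', a'⟩ hxa
    have h1 : (x : K) * (a : K) = (x' : K) * (a' : K) := congrArg Subtype.val hxa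
    have h2 : (x' : K)⁻¹ * x = (a' : K) * (a : K)⁻¹ := by
      have e1 : (x' : K)⁻¹ * x = (x' : K)⁻¹ * ((x : K) * (a : K)) * (a : K)⁻¹ := by group
      rw [e1, h1]; group
    have h4 : (x' : K)⁻¹ * x ∈ cen u ⊓ cen s :=
      ⟨(cen u).mul_mem ((cen u).inv_mem x'.2) x.2, by
        rw [h2]; exact (cen s).mul_mem a'.2.1 ((cen s).inv_mem a.2.1)⟩
    rw [h.cen_inf_cen hu hu1 hsU, Subgroup.mem_bot] at h4
    have hx : x = x' := by
      apply Subtype.ext
      have : (x : K) = x' * ((x' : K)⁻¹ * x) := by group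
      rw [this, h4, mul_one]
    subst hx
    have ha : a = a' := by
      apply Subtype.ext
      exact mul_left_cancel h1
    subst ha
    rfl
  · rintro ⟨n, hn⟩
    obtain ⟨x, hx, hxn⟩ := h.exists_mul_of_mem_nor hu hu1 hs hs' hn
    refine ⟨⟨⟨x, hx⟩, ⟨x⁻¹ * n, hxn, (nor u).mul_mem ((nor u).inv_mem (cen_le_nor u hx)) hn⟩⟩, ?_⟩
    apply Subtype.ext
    show x * (x⁻¹ * n) = n
    group

theorem cover_lower_bound (h : CAOdd U) [Finite K] {u y : K} (hu1 : u ≠ 1)
    (hmin : ∀ y : K, U y → y ≠ 1 → (nor u).index ≤ (nor y).index) (hy : y ≠ 1) :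
    (nor u).index ≤ (conjCover (cen y)).ncard := by
  rw [h.ncard_cover hy]
  have h2 := two_le_card_cen hy
  by_cases hUy : U y
  · have := hmin y hUy hy
    calc (nor u).index ≤ (nor y).index := this
      _ = (nor y).index * 1 := (mul_one _).symm
      _ ≤ (nor y).index * (Nat.card (cen y) - 1) := Nat.mul_le_mul_left _ (by omega)
  · rw [h.nor_eq_cen_of_not_U hUy]
    have e1 := (cen y).index_mul_card
    have e2 := (nor u).index_mul_card
    have h3 : 2 ≤ Nat.card (nor u) :=
      le_trans (two_le_card_cen hu1) (Subgroup.card_le_of_le (cen_le_nor u))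
    obtain ⟨a, ha⟩ : ∃ a, Nat.card (cen y) = a + 2 := ⟨Nat.card (cen y) - 2, by omega⟩
    obtain ⟨b, hb⟩ : ∃ b, Nat.card (nor u) = b + 2 := ⟨Nat.card (nor u) - 2, by omega⟩
    rw [ha] at e1 ⊢
    rw [hb] at e2
    have : a + 2 - 1 = a + 1 := by omega
    rw [this]
    nlinarith

theorem index_nor_eq_one (h : CAOdd U) [Finite K] {u : K} (hu : U u) (hu1 : u ≠ 1)
    (hmin : ∀ y : K, U y → y ≠ 1 → (nor u).index ≤ (nor y).index) : (nor u).index = 1 := by
  by_contra hne
  have hi0 : (nor u).index ≠ 0 := Subgroup.index_ne_zero_of_finite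
  have hi2 : 2 ≤ (nor u).index := by omega
  have hπ := two_le_card_cen hu1
  obtain ⟨Z, hZ1, hZcard, hZdisj⟩ : ∃ Z : Set K, (1 : K) ∈ Z ∧
      Z.ncard + (nor u).index = Nat.card K + 1 ∧ ∀ y ∉ Z, Disjoint (conjCover (cen y)) Z := by
    by_cases hBP : nor u ≤ cen u
    · have heq : nor u = cen u := le_antisymm hBP (cen_le_nor u)
      refine ⟨insert 1 (conjCover (cen u)), Set.mem_insert _ _, ?_, ?_⟩
      · rw [Set.ncard_insert_of_notMem (one_not_mem_conjCover _) (Set.toFinite _),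
          h.ncard_cover hu1]
        have e2 := (nor u).index_mul_card
        rw [heq] at e2 ⊢
        obtain ⟨a, ha⟩ : ∃ a, Nat.card (cen u) = a + 1 := ⟨Nat.card (cen u) - 1, by omega⟩
        rw [ha] at e2 ⊢
        have : a + 1 - 1 = a := by omega
        rw [this]
        nlinarith
      · intro y hyZ
        have hy1 : y ≠ 1 := fun h1 => hyZ (h1 ▸ Set.mem_insert _ _)
        rw [Set.disjoint_left]
        intro x hxy hxZ
        rcases Set.mem_insert_iff.mp hxZ with rfl | hxu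
        · exact one_not_mem_conjCover _ hxy
        · exact hyZ (Set.mem_insert_of_mem _ (h.mem_cover_of_inter hu1 hy1 hxu hxy))
    · obtain ⟨s, hs, hs'⟩ := SetLike.not_le_iff_exists.mp hBP
      have hsU : ¬ U s := h.not_U_of_mem_nor hu hu1 hs hs'
      have hs1 : s ≠ 1 := h.ne_one_of_not_U hsU
      have hdisj : Disjoint (conjCover (cen u)) (conjCover (cen s)) := by
        rw [Set.disjoint_left]
        intro x hxu hxs
        exact h.not_U_of_mem_cover hsU hxs (h.U_of_mem_cover hu hu1 hxu)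
      have h1not : (1 : K) ∉ conjCover (cen u) ∪ conjCover (cen s) := by
        rintro (h1 | h1)
        · exact one_not_mem_conjCover _ h1
        · exact one_not_mem_conjCover _ h1
      have hZc : (insert 1 (conjCover (cen u) ∪ conjCover (cen s))).ncard =
          (nor u).index * (Nat.card (cen u) - 1) + (cen s).index * (Nat.card (cen s) - 1) + 1 := by
        rw [Set.ncard_insert_of_notMem h1not (Set.toFinite _),
          Set.ncard_union_eq hdisj (Set.toFinite _) (Set.toFinite _), h.ncard_cover hu1,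
          h.ncard_cover hs1, h.nor_eq_cen_of_not_U hsU]
      have hle : (insert 1 (conjCover (cen u) ∪ conjCover (cen s))).ncard ≤ Nat.card K := by
        rw [← Set.ncard_univ]
        exact Set.ncard_le_ncard (Set.subset_univ _) (Set.toFinite _)
      refine ⟨insert 1 (conjCover (cen u) ∪ conjCover (cen s)), Set.mem_insert _ _, ?_, ?_⟩
      · rw [hZc] at hle ⊢
        have e_i := (nor u).index_mul_card
        have e_j := (cen s).index_mul_card
        have e_β := h.card_nor_eq hu hu1 hs hs'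
        have hdvd : Nat.card ↥(cen s ⊓ nor u) ∣ Nat.card (cen s) :=
          Subgroup.card_dvd_of_le inf_le_left
        have hν : 0 < Nat.card ↥(cen s ⊓ nor u) := Nat.card_pos
        have hα := two_le_card_cen hs1
        obtain ⟨m, hm⟩ := hdvd
        obtain ⟨π', hπ'⟩ : ∃ a, Nat.card (cen u) = a + 1 := ⟨Nat.card (cen u) - 1, by omega⟩
        obtain ⟨α', hα'⟩ : ∃ a, Nat.card (cen s) = a + 1 := ⟨Nat.card (cen s) - 1, by omega⟩
        have hπ1 : 1 ≤ π' := by omega
        set i := (nor u).index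
        set j := (cen s).index
        set ν := Nat.card ↥(cen s ⊓ nor u)
        rw [e_β, hπ'] at e_i
        rw [hπ'] at hle ⊢
        have hm0 : m ≠ 0 := by
          rintro rfl
          rw [mul_zero] at hm
          omega
        -- i * (π'+1) = j * m
        have hkey : i * (π' + 1) = j * m := by
          have : ν * (i * (π' + 1)) = ν * (j * m) := by
            have e1 : ν * (i * (π' + 1)) = i * ((π' + 1) * ν) := by ring
            have e2 : ν * (j * m) = j * (ν * m) := by ring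
            rw [e1, e2, ← hm, e_i, e_j]
          exact Nat.eq_of_mul_eq_mul_left hν this
        rw [hα'] at hle e_j ⊢
        have t1 : π' + 1 - 1 = π' := by omega
        have t2 : α' + 1 - 1 = α' := by omega
        rw [t1, t2] at hle ⊢
        have hm1 : m = 1 := by
          by_contra hm1
          have hm2 : 2 ≤ m := by omega
          have := Nat.mul_le_mul_left j hm2
          have := Nat.mul_le_mul_left i hπ1
          nlinarith
        rw [hm1, mul_one] at hkey
        nlinarith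
      · intro y hyZ
        have hy1 : y ≠ 1 := fun h1 => hyZ (h1 ▸ Set.mem_insert _ _)
        rw [Set.disjoint_left]
        intro x hxy hxZ
        rcases Set.mem_insert_iff.mp hxZ with rfl | hxu | hxs
        · exact one_not_mem_conjCover _ hxy
        · exact hyZ (Set.mem_insert_of_mem _ (Or.inl (h.mem_cover_of_inter hu1 hy1 hxu hxy)))
        · exact hyZ (Set.mem_insert_of_mem _ (Or.inr (h.mem_cover_of_inter hs1 hy1 hxs hxy)))
  have hZne : ∃ y, y ∉ Z := by
    by_contra hall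
    push Not at hall
    have : Z = Set.univ := Set.eq_univ_iff_forall.mpr hall
    rw [this, Set.ncard_univ] at hZcard
    omega
  obtain ⟨y, hyZ⟩ := hZne
  have hy1 : y ≠ 1 := fun h1 => hyZ (h1 ▸ hZ1)
  have hlow := h.cover_lower_bound hu1 hmin hy1
  have hdis := hZdisj y hyZ
  have hunion : (conjCover (cen y) ∪ Z).ncard = (conjCover (cen y)).ncard + Z.ncard :=
    Set.ncard_union_eq hdis (Set.toFinite _) (Set.toFinite _)
  have hle : (conjCover (cen y) ∪ Z).ncard ≤ Nat.card K := by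
    rw [← Set.ncard_univ]
    exact Set.ncard_le_ncard (Set.subset_univ _) (Set.toFinite _)
  omega

/-- main theorem: conjugates of a `U`-element commute with it -/
theorem commute_conj_of_U (h : CAOdd U) [Finite K] {u : K} (hu : U u) (hu1 : u ≠ 1) (k : K) :
    Commute (k * u * k⁻¹) u := by
  obtain ⟨u₀, ⟨hu₀, hu₀1⟩, hmin⟩ := Set.exists_min_image {y : K | U y ∧ y ≠ 1}
    (fun y => (nor y).index) (Set.toFinite _) ⟨u, hu, hu1⟩
  have h1 : (nor u₀).index = 1 :=
    h.index_nor_eq_one hu₀ hu₀1 (fun y hy hy1 => hmin y ⟨hy, hy1⟩)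
  have htop : nor u₀ = ⊤ := Subgroup.index_eq_one.mp h1
  have hu_nor : u ∈ nor u₀ := htop ▸ Subgroup.mem_top u
  have hc : Commute u u₀ := h.unorm u₀ u hu₀ hu₀1 hu ((h.mem_nor_iff hu₀1).mp hu_nor)
  have hcen : cen u = cen u₀ := h.cen_eq hu₀1 hu1 hc
  have hnor : nor u = ⊤ := by
    unfold nor at htop ⊢
    rw [hcen, htop]
  have hk : k ∈ nor u := hnor ▸ Subgroup.mem_top k
  exact (h.mem_nor_iff hu1).mp hk

/-- any two `U`-elements commute -/
theorem commute_of_U (h : CAOdd U) [Finite K] {a b : K} (ha : U a) (hb : U b) : Commute a b := by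
  by_cases ha1 : a = 1
  · rw [ha1]; exact Commute.one_left b
  exact (h.unorm a b ha ha1 hb (h.commute_conj_of_U ha ha1 b)).symm

end CAOdd

end Cfsg.Agent.Lib.Helper41
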