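import Mathlib
import Cfsg.Agent.Lib.Helper41.SL2Basic
import Cfsg.Agent.Lib.Helper41.SL2Conj
import Cfsg.Agent.Lib.Helper41.SL2Order
import Cfsg.Agent.Lib.Helper41.SL2Torus

set_option autoImplicit false

/-!
# Matrix lemmas on commuting elements of `SL₂(F)` (helper41)

Centraliser of a non-scalar `2 × 2` matrix is `F[y]`; consequences for unipotent (`tr = 2`) and
semisimple (`tr² ≠ 4`) elements of `SL₂(F)`.
-/

namespace Cfsg.Agent.Lib.Helper41

variable {F : Type*} [Field F]

/-- the scalar predicate on `2 × 2` matrices -/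
def IsScalarMat (Y : Matrix (Fin 2) (Fin 2) F) : Prop := Y 0 1 = 0 ∧ Y 1 0 = 0 ∧ Y 0 0 = Y 1 1

/-- the centraliser of a non-scalar `2 × 2` matrix `Y` is `F[Y]` -/
theorem exists_eq_smul_add (X Y : Matrix (Fin 2) (Fin 2) F) (hY : ¬ IsScalarMat Y)
    (hXY : X * Y = Y * X) : ∃ a b : F, X = a • (1 : Matrix (Fin 2) (Fin 2) F) + b • Y := by
  have e00 := congrFun (congrFun hXY 0) 0
  have e01 := congrFun (congrFun hXY 0) 1
  have e10 := congrFun (congrFun hXY 1) 0
  simp only [Matrix.mul_apply, Fin.sum_univ_two] at e00 e01 e10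
  have E1 : X 0 1 * Y 1 0 = Y 0 1 * X 1 0 := by linear_combination e00
  have E2 : Y 0 1 * (X 0 0 - X 1 1) = X 0 1 * (Y 0 0 - Y 1 1) := by linear_combination e01
  have E3 : X 1 0 * (Y 0 0 - Y 1 1) = Y 1 0 * (X 0 0 - X 1 1) := by linear_combination e10
  by_cases h01 : Y 0 1 = 0
  · by_cases h10 : Y 1 0 = 0
    · have hd : Y 0 0 - Y 1 1 ≠ 0 := by
        intro hd
        exact hY ⟨h01, h10, sub_eq_zero.mp hd⟩
      have hX01 : X 0 1 = 0 := by
        rw [h01, zero_mul] at E2
        rcases mul_eq_zero.mp E2.symm with h | h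
        · exact h
        · exact absurd h hd
      have hX10 : X 1 0 = 0 := by
        rw [h10, zero_mul] at E3
        rcases mul_eq_zero.mp E3 with h | h
        · exact h
        · exact absurd h hd
      refine ⟨X 0 0 - (X 0 0 - X 1 1) / (Y 0 0 - Y 1 1) * Y 0 0,
        (X 0 0 - X 1 1) / (Y 0 0 - Y 1 1), ?_⟩
      ext i j
      fin_cases i <;> fin_cases j
      · simp
      · simp [hX01, h01]
      · simp [hX10, h10]
      · simp only [Fin.mk_one, Fin.isValue, Matrix.add_apply, Matrix.smul_apply, Matrix.one_apply_eq,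
          smul_eq_mul, mul_one]
        field_simp
        ring
    · refine ⟨X 0 0 - X 1 0 / Y 1 0 * Y 0 0, X 1 0 / Y 1 0, ?_⟩
      have hX01 : X 0 1 = 0 := by
        rw [h01, zero_mul] at E1
        rcases mul_eq_zero.mp E1 with h | h
        · exact h
        · exact absurd h h10
      ext i j
      fin_cases i <;> fin_cases j
      · simp
      · simp [hX01, h01]
      · simp only [Fin.mk_one, Fin.isValue, Fin.zero_eta, Matrix.add_apply, Matrix.smul_apply,
          smul_eq_mul, ne_eq, one_ne_zero, not_false_eq_true, Matrix.one_apply_ne, mul_zero, zero_add]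
        field_simp
      · simp only [Fin.mk_one, Fin.isValue, Matrix.add_apply, Matrix.smul_apply, Matrix.one_apply_eq,
          smul_eq_mul, mul_one]
        field_simp
        linear_combination E3
  · refine ⟨X 0 0 - X 0 1 / Y 0 1 * Y 0 0, X 0 1 / Y 0 1, ?_⟩
    ext i j
    fin_cases i <;> fin_cases j
    · simp
    · simp only [Fin.zero_eta, Fin.isValue, Fin.mk_one, Matrix.add_apply, Matrix.smul_apply,
        smul_eq_mul, ne_eq, zero_ne_one, not_false_eq_true, Matrix.one_apply_ne, mul_zero, zero_add]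
      field_simp
    · simp only [Fin.mk_one, Fin.isValue, Fin.zero_eta, Matrix.add_apply, Matrix.smul_apply,
        smul_eq_mul, ne_eq, one_ne_zero, not_false_eq_true, Matrix.one_apply_ne, mul_zero, zero_add]
      field_simp
      linear_combination -E1
    · simp only [Fin.mk_one, Fin.isValue, Matrix.add_apply, Matrix.smul_apply, Matrix.one_apply_eq,
        smul_eq_mul, mul_one]
      field_simp
      linear_combination -E2

/-- a scalar element of `SL₂` is `1` or has trace `-2` -/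
theorem eq_one_or_tr2_of_isScalarMat (y : Matrix.SpecialLinearGroup (Fin 2) F)
    (hy : IsScalarMat (y : Matrix (Fin 2) (Fin 2) F)) : y = 1 ∨ tr2 y = -2 := by
  obtain ⟨h01, h10, h00⟩ := hy
  have hd := sl2_det y
  rw [h01, h10, h00] at hd
  have hc : ((y : Matrix (Fin 2) (Fin 2) F) 1 1 - 1) * ((y : Matrix (Fin 2) (Fin 2) F) 1 1 + 1) = 0 := by
    linear_combination hd
  rcases mul_eq_zero.mp hc with hc | hc
  · left
    have h11 : (y : Matrix (Fin 2) (Fin 2) F) 1 1 = 1 := sub_eq_zero.mp hc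
    apply sl2_ext
    · rw [h00, h11]; simp
    · rw [h01]; simp
    · rw [h10]; simp
    · rw [h11]; simp
  · right
    have h11 : (y : Matrix (Fin 2) (Fin 2) F) 1 1 = -1 := eq_neg_of_add_eq_zero_left hc
    unfold tr2
    rw [h00, h11]; ring

theorem not_isScalarMat_of_tr2_sq (s : Matrix.SpecialLinearGroup (Fin 2) F) (hs : (tr2 s) ^ 2 ≠ 4) :
    ¬ IsScalarMat (s : Matrix (Fin 2) (Fin 2) F) := by
  intro h
  rcases eq_one_or_tr2_of_isScalarMat s h with rfl | h
  · apply hs
    simp [tr2]; ring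
  · apply hs
    rw [h]; ring

/-- elements commuting with a unipotent element have trace `±2` -/
theorem tr2_of_commute_unipotent (u x : Matrix.SpecialLinearGroup (Fin 2) F) (hu : tr2 u = 2)
    (hns : ¬ IsScalarMat (u : Matrix (Fin 2) (Fin 2) F)) (hc : x * u = u * x) :
    tr2 x = 2 ∨ tr2 x = -2 := by
  have hc' : (x : Matrix (Fin 2) (Fin 2) F) * (u : Matrix (Fin 2) (Fin 2) F)
      = (u : Matrix (Fin 2) (Fin 2) F) * (x : Matrix (Fin 2) (Fin 2) F) := by
    rw [← Matrix.SpecialLinearGroup.coe_mul, hc, Matrix.SpecialLinearGroup.coe_mul]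
  obtain ⟨a, b, hab⟩ := exists_eq_smul_add _ _ hns hc'
  have x00 := congrFun (congrFun hab 0) 0
  have x01 := congrFun (congrFun hab 0) 1
  have x10 := congrFun (congrFun hab 1) 0
  have x11 := congrFun (congrFun hab 1) 1
  simp at x00 x01 x10 x11
  have hdx := sl2_det x
  have hdu := sl2_det u
  unfold tr2 at hu ⊢
  rw [x00, x01, x10, x11] at hdx
  have hsq : (a + b - 1) * (a + b + 1) = 0 := by
    linear_combination hdx - b ^ 2 * hdu - a * b * hu
  rw [x00, x11]
  rcases mul_eq_zero.mp hsq with h | h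
  · left
    linear_combination 2 * h + b * hu
  · right
    linear_combination 2 * h + b * hu

/-- an element commuting with a semisimple element `s` and with the same trace is `s` or `s⁻¹` -/
theorem eq_or_eq_inv_of_commute (s s' : Matrix.SpecialLinearGroup (Fin 2) F)
    (h2 : (2 : F) ≠ 0) (hs : (tr2 s) ^ 2 ≠ 4) (htr : tr2 s' = tr2 s) (hc : s' * s = s * s') :
    s' = s ∨ s' = s⁻¹ := by
  have hns := not_isScalarMat_of_tr2_sq s hs
  have hc' : (s' : Matrix (Fin 2) (Fin 2) F) * (s : Matrix (Fin 2) (Fin 2) F)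
      = (s : Matrix (Fin 2) (Fin 2) F) * (s' : Matrix (Fin 2) (Fin 2) F) := by
    rw [← Matrix.SpecialLinearGroup.coe_mul, hc, Matrix.SpecialLinearGroup.coe_mul]
  obtain ⟨a, b, hab⟩ := exists_eq_smul_add _ _ hns hc'
  have x00 := congrFun (congrFun hab 0) 0
  have x01 := congrFun (congrFun hab 0) 1
  have x10 := congrFun (congrFun hab 1) 0
  have x11 := congrFun (congrFun hab 1) 1
  simp at x00 x01 x10 x11
  have hdx := sl2_det s'
  have hdu := sl2_det s
  rw [x00, x01, x10, x11] at hdx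
  have hT : 2 * a + b * tr2 s - tr2 s = 0 := by
    have := htr
    unfold tr2 at this ⊢
    rw [x00, x11] at this
    linear_combination this
  have hD : a ^ 2 + a * b * tr2 s + b ^ 2 - 1 = 0 := by
    unfold tr2
    linear_combination hdx - b ^ 2 * hdu
  have hb : ((tr2 s) ^ 2 - 4) * ((1 - b) * (1 + b)) = 0 := by
    linear_combination 4 * hD - (2 * a + tr2 s + b * tr2 s) * hT
  have hs' : (tr2 s) ^ 2 - 4 ≠ 0 := sub_ne_zero.mpr hs
  rcases mul_eq_zero.mp (mul_eq_zero.mp hb |>.resolve_left hs') with hb1 | hb1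
  · left
    have hb1' : b = 1 := by linear_combination -hb1
    have ha : a = 0 := by
      have : 2 * a = 0 := by rw [hb1'] at hT; linear_combination hT
      rcases mul_eq_zero.mp this with h | h
      · exact absurd h h2
      · exact h
    apply Subtype.ext
    rw [hab, ha, hb1']; simp
  · right
    have hb1' : b = -1 := by linear_combination hb1
    have ha : a = tr2 s := by
      have : 2 * (a - tr2 s) = 0 := by rw [hb1'] at hT; linear_combination hT
      rcases mul_eq_zero.mp this with h | h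
      · exact absurd h h2
      · exact sub_eq_zero.mp h
    apply Subtype.ext
    have := coe_add_coe_inv s
    rw [hab, ha, hb1', ← this]
    simp

/-- a unipotent element commuting with the unipotent element `u ≠ 1` lies in `1 + F (u - 1)` -/
theorem exists_sub_one_eq_smul (u u' : Matrix.SpecialLinearGroup (Fin 2) F) (h2 : (2 : F) ≠ 0)
    (hu : tr2 u = 2) (hns : ¬ IsScalarMat (u : Matrix (Fin 2) (Fin 2) F)) (hu' : tr2 u' = 2)
    (hc : u' * u = u * u') :
    ∃ b : F, (u' : Matrix (Fin 2) (Fin 2) F) - 1 = b • ((u : Matrix (Fin 2) (Fin 2) F) - 1) := by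
  have hc' : (u' : Matrix (Fin 2) (Fin 2) F) * (u : Matrix (Fin 2) (Fin 2) F)
      = (u : Matrix (Fin 2) (Fin 2) F) * (u' : Matrix (Fin 2) (Fin 2) F) := by
    rw [← Matrix.SpecialLinearGroup.coe_mul, hc, Matrix.SpecialLinearGroup.coe_mul]
  obtain ⟨a, b, hab⟩ := exists_eq_smul_add _ _ hns hc'
  have x00 := congrFun (congrFun hab 0) 0
  have x11 := congrFun (congrFun hab 1) 1
  simp at x00 x11
  have ha : a = 1 - b := by
    have h1 : 2 * (a + b - 1) = 0 := by
      unfold tr2 at hu hu'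
      rw [x00, x11] at hu'
      linear_combination hu' - b * hu
    rcases mul_eq_zero.mp h1 with h | h
    · exact absurd h h2
    · linear_combination h
  refine ⟨b, ?_⟩
  rw [hab, ha]
  module

/-- conjugation of a matrix by an element of `SL₂` -/
def cj (g : Matrix.SpecialLinearGroup (Fin 2) F) (A : Matrix (Fin 2) (Fin 2) F) :
    Matrix (Fin 2) (Fin 2) F :=
  (g : Matrix (Fin 2) (Fin 2) F) * A * ((g⁻¹ : Matrix.SpecialLinearGroup (Fin 2) F) : Matrix (Fin 2) (Fin 2) F)

theorem cj_mul (g h : Matrix.SpecialLinearGroup (Fin 2) F) (A : Matrix (Fin 2) (Fin 2) F) :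
    cj (g * h) A = cj g (cj h A) := by
  unfold cj
  rw [mul_inv_rev, Matrix.SpecialLinearGroup.coe_mul, Matrix.SpecialLinearGroup.coe_mul]
  simp only [Matrix.mul_assoc]

theorem cj_smul (g : Matrix.SpecialLinearGroup (Fin 2) F) (b : F) (A : Matrix (Fin 2) (Fin 2) F) :
    cj g (b • A) = b • cj g A := by
  unfold cj
  rw [Matrix.mul_smul, Matrix.smul_mul]

theorem cj_one (A : Matrix (Fin 2) (Fin 2) F) : cj 1 A = A := by
  unfold cj
  simp

theorem cj_inv_cj (g : Matrix.SpecialLinearGroup (Fin 2) F) (A : Matrix (Fin 2) (Fin 2) F) :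
    cj g⁻¹ (cj g A) = A := by
  rw [← cj_mul, inv_mul_cancel, cj_one]

theorem cj_zero (g : Matrix.SpecialLinearGroup (Fin 2) F) : cj g 0 = 0 := by
  unfold cj; simp

theorem cj_sub_one (g u : Matrix.SpecialLinearGroup (Fin 2) F) :
    cj g ((u : Matrix (Fin 2) (Fin 2) F) - 1)
      = ((g * u * g⁻¹ : Matrix.SpecialLinearGroup (Fin 2) F) : Matrix (Fin 2) (Fin 2) F) - 1 := by
  unfold cj
  rw [Matrix.mul_sub, Matrix.sub_mul, Matrix.mul_one, coe_mul_coe_inv,
    Matrix.SpecialLinearGroup.coe_mul, Matrix.SpecialLinearGroup.coe_mul]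

theorem cj_pow (g : Matrix.SpecialLinearGroup (Fin 2) F) (b : F) (N : Matrix (Fin 2) (Fin 2) F)
    (h : cj g N = b • N) (k : ℕ) : cj (g ^ k) N = b ^ k • N := by
  induction k with
  | zero => simp [cj_one]
  | succ k ih =>
    rw [pow_succ, cj_mul, h, cj_smul, ih, smul_smul, pow_succ, mul_comm]

theorem cj_smul_eigen (g : Matrix.SpecialLinearGroup (Fin 2) F) (b : F) (N : Matrix (Fin 2) (Fin 2) F)
    (h : cj g N = b • N) (a : F) : cj g (a • N) = (a * b) • N := by
  rw [cj_smul, h, smul_smul]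

theorem cj_eq_self_of_coe (g : Matrix.SpecialLinearGroup (Fin 2) F)
    (hg : (g : Matrix (Fin 2) (Fin 2) F) = 1 ∨ (g : Matrix (Fin 2) (Fin 2) F) = -1)
    (A : Matrix (Fin 2) (Fin 2) F) : cj g A = A := by
  have hinv : ((g⁻¹ : Matrix.SpecialLinearGroup (Fin 2) F) : Matrix (Fin 2) (Fin 2) F)
      = (g : Matrix (Fin 2) (Fin 2) F) := by
    have h1 := coe_mul_coe_inv g
    rcases hg with hg | hg
    · rw [hg, Matrix.one_mul] at h1; rw [h1, hg]
    · rw [hg, neg_mul, Matrix.one_mul, neg_eq_iff_eq_neg] at h1; rw [h1, hg]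
  unfold cj
  rw [hinv]
  rcases hg with hg | hg
  · rw [hg]; simp
  · rw [hg]; simp

/-- `cj g (u - 1) = u - 1` means that `g` commutes with `u` -/
theorem commute_of_cj_eq (g u : Matrix.SpecialLinearGroup (Fin 2) F)
    (h : cj g ((u : Matrix (Fin 2) (Fin 2) F) - 1) = (u : Matrix (Fin 2) (Fin 2) F) - 1) :
    g * u = u * g := by
  rw [cj_sub_one] at h
  have h1 : ((g * u * g⁻¹ : Matrix.SpecialLinearGroup (Fin 2) F) : Matrix (Fin 2) (Fin 2) F)
      = (u : Matrix (Fin 2) (Fin 2) F) := by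
    have := congrArg (· + (1 : Matrix (Fin 2) (Fin 2) F)) h
    simpa using this
  have h2 : g * u * g⁻¹ = u := Subtype.ext h1
  calc g * u = g * u * g⁻¹ * g := by group
    _ = u * g := by rw [h2]

theorem sub_one_ne_zero_of_not_isScalarMat (u : Matrix.SpecialLinearGroup (Fin 2) F)
    (hns : ¬ IsScalarMat (u : Matrix (Fin 2) (Fin 2) F)) :
    (u : Matrix (Fin 2) (Fin 2) F) - 1 ≠ 0 := by
  intro h
  apply hns
  have h1 : (u : Matrix (Fin 2) (Fin 2) F) = 1 := sub_eq_zero.mp h
  rw [h1]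
  exact ⟨by simp, by simp, by simp⟩

/-- `n u n⁻¹` commuting with the unipotent `u` means `cj n (u - 1) = b • (u - 1)` -/
theorem exists_cj_eq_smul (u n : Matrix.SpecialLinearGroup (Fin 2) F) (h2 : (2 : F) ≠ 0)
    (hu : tr2 u = 2) (hns : ¬ IsScalarMat (u : Matrix (Fin 2) (Fin 2) F))
    (hc : (n * u * n⁻¹) * u = u * (n * u * n⁻¹)) :
    ∃ b : F, b ≠ 0 ∧ cj n ((u : Matrix (Fin 2) (Fin 2) F) - 1)
      = b • ((u : Matrix (Fin 2) (Fin 2) F) - 1) := by
  obtain ⟨b, hb⟩ := exists_sub_one_eq_smul u (n * u * n⁻¹) h2 hu hns (by rw [tr2_conj]; exact hu) hc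
  refine ⟨b, ?_, by rw [cj_sub_one]; exact hb⟩
  rintro rfl
  rw [zero_smul, ← cj_sub_one] at hb
  have := congrArg (cj n⁻¹) hb
  rw [cj_inv_cj, cj_zero] at this
  exact sub_one_ne_zero_of_not_isScalarMat u hns this

/-- the normaliser of a unipotent centraliser has abelian quotient -/
theorem commute_commutator (u n m : Matrix.SpecialLinearGroup (Fin 2) F) (h2 : (2 : F) ≠ 0)
    (hu : tr2 u = 2) (hns : ¬ IsScalarMat (u : Matrix (Fin 2) (Fin 2) F))
    (hn : (n * u * n⁻¹) * u = u * (n * u * n⁻¹)) (hm : (m * u * m⁻¹) * u = u * (m * u * m⁻¹)) :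
    (n * m * n⁻¹ * m⁻¹) * u = u * (n * m * n⁻¹ * m⁻¹) := by
  obtain ⟨b, hb0, hb⟩ := exists_cj_eq_smul u n h2 hu hns hn
  obtain ⟨c, hc0, hc⟩ := exists_cj_eq_smul u m h2 hu hns hm
  have hbi : cj n⁻¹ ((u : Matrix (Fin 2) (Fin 2) F) - 1) = b⁻¹ • ((u : Matrix (Fin 2) (Fin 2) F) - 1) := by
    have := congrArg (cj n⁻¹) hb
    rw [cj_inv_cj, cj_smul] at this
    calc cj n⁻¹ ((u : Matrix (Fin 2) (Fin 2) F) - 1)
        = b⁻¹ • (b • cj n⁻¹ ((u : Matrix (Fin 2) (Fin 2) F) - 1)) := by
          rw [smul_smul, inv_mul_cancel₀ hb0, one_smul]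
      _ = b⁻¹ • ((u : Matrix (Fin 2) (Fin 2) F) - 1) := by rw [← this]
  have hci : cj m⁻¹ ((u : Matrix (Fin 2) (Fin 2) F) - 1) = c⁻¹ • ((u : Matrix (Fin 2) (Fin 2) F) - 1) := by
    have := congrArg (cj m⁻¹) hc
    rw [cj_inv_cj, cj_smul] at this
    calc cj m⁻¹ ((u : Matrix (Fin 2) (Fin 2) F) - 1)
        = c⁻¹ • (c • cj m⁻¹ ((u : Matrix (Fin 2) (Fin 2) F) - 1)) := by
          rw [smul_smul, inv_mul_cancel₀ hc0, one_smul]
      _ = c⁻¹ • ((u : Matrix (Fin 2) (Fin 2) F) - 1) := by rw [← this]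
  apply commute_of_cj_eq
  rw [cj_mul, cj_mul, cj_mul, hci, cj_smul_eigen _ _ _ hbi, cj_smul_eigen _ _ _ hc,
    cj_smul_eigen _ _ _ hb]
  have : c⁻¹ * b⁻¹ * c * b = 1 := by field_simp
  rw [this, one_smul]

/-- a unipotent element normalising the centraliser of the unipotent `u` commutes with `u` -/
theorem commute_of_unipotent (p : ℕ) [Fact p.Prime] [CharP F p] (u n : Matrix.SpecialLinearGroup (Fin 2) F)
    (h2 : (2 : F) ≠ 0) (hu : tr2 u = 2) (hns : ¬ IsScalarMat (u : Matrix (Fin 2) (Fin 2) F))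
    (hn2 : tr2 n = 2) (hn : (n * u * n⁻¹) * u = u * (n * u * n⁻¹)) : n * u = u * n := by
  obtain ⟨b, hb0, hb⟩ := exists_cj_eq_smul u n h2 hu hns hn
  have hpow := cj_pow n b _ hb p
  have hnp : ((n ^ p : Matrix.SpecialLinearGroup (Fin 2) F) : Matrix (Fin 2) (Fin 2) F) = 1 ∨
      ((n ^ p : Matrix.SpecialLinearGroup (Fin 2) F) : Matrix (Fin 2) (Fin 2) F) = -1 := by
    rw [Matrix.SpecialLinearGroup.coe_pow]
    exact pow_char_of_tr2_sq_eq_four p n (by rw [hn2]; ring)
  rw [cj_eq_self_of_coe _ hnp] at hpow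
  have hN := sub_one_ne_zero_of_not_isScalarMat u hns
  have hbp : b ^ p = 1 := by
    by_contra hne
    have h1 : (b ^ p - 1) • ((u : Matrix (Fin 2) (Fin 2) F) - 1) = 0 := by
      rw [sub_smul, one_smul, ← hpow, sub_self]
    rcases smul_eq_zero.mp h1 with h | h
    · exact hne (sub_eq_zero.mp h)
    · exact hN h
  have hb1 : b = 1 := by
    have : (b - 1) ^ p = 0 := by
      rw [sub_pow_char, hbp, one_pow, sub_self]
    exact sub_eq_zero.mp (pow_eq_zero_iff (Fact.out : p.Prime).ne_zero |>.mp this)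
  rw [hb1, one_smul] at hb
  exact commute_of_cj_eq n u hb

/-- in odd characteristic an element of odd order of `SL₂(F)` does not have trace `-2` -/
theorem tr2_ne_neg_two_of_odd (p : ℕ) [Fact p.Prime] [CharP F p] (h2 : (2 : F) ≠ 0)
    (x : Matrix.SpecialLinearGroup (Fin 2) F) (k : ℕ) (hk : Odd k) (hx : x ^ k = 1) : tr2 x ≠ -2 := by
  intro ht
  have hpp : p.Prime := Fact.out
  have hp2 : 2 ≤ p := hpp.two_le
  have hpodd : Odd p := by
    rcases hpp.eq_two_or_odd' with h | h
    · exfalso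
      apply h2
      have := CharP.cast_eq_zero F p
      rw [h] at this
      exact_mod_cast this
    · exact h
  have hsq : ((x : Matrix (Fin 2) (Fin 2) F) + 1) ^ 2 = 0 := by
    rw [pow_two, add_mul, mul_add, mul_one, one_mul, cayley_hamilton, ht, neg_smul, two_smul]
    abel
  have hpw : ((x : Matrix (Fin 2) (Fin 2) F) + 1) ^ p = 0 := by
    rw [show p = 2 + (p - 2) by omega, pow_add, hsq, zero_mul]
  rw [add_pow_char_of_commute p (Commute.one_right _), one_pow] at hpw
  have hxp : (x : Matrix (Fin 2) (Fin 2) F) ^ p = -1 := eq_neg_of_add_eq_zero_left hpw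
  have h1 : ((x : Matrix (Fin 2) (Fin 2) F) ^ p) ^ k = -1 := by
    rw [hxp, hk.neg_one_pow]
  have h3 : ((x : Matrix (Fin 2) (Fin 2) F) ^ p) ^ k = 1 := by
    rw [← pow_mul, mul_comm, pow_mul, ← Matrix.SpecialLinearGroup.coe_pow, hx]
    simp
  rw [h3] at h1
  have := congrFun (congrFun h1 0) 0
  simp at this
  apply h2
  have h4 : (2 : F) = 1 + 1 := by norm_num
  rw [h4]
  nth_rewrite 1 [this]
  ring

end Cfsg.Agent.Lib.Helper41
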