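import Mathlib
import Cfsg.Agent.Lib.Helper41.CAOdd
import Cfsg.Agent.Lib.Helper41.SL2OddMat

set_option autoImplicit false

/-!
# Finite subgroups of odd order of `SL₂(F)`, `char F = p` odd (helper41)

The unipotent elements (`tr = 2`) of a finite subgroup `K` of odd order commute pairwise and
every conjugate of a unipotent element `u` commutes with `u`: `K` has a normal Sylow `p`-subgroup.
-/

namespace Cfsg.Agent.Lib.Helper41

variable {F : Type*} [Field F]

theorem commute_iff_coe {G : Type*} [Group G] {K : Subgroup G} (x y : K) :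
    Commute x y ↔ (x : G) * y = y * x := by
  constructor
  · intro h
    have := congrArg Subtype.val h.eq
    simpa using this
  · intro h
    exact Subtype.ext (by simpa using h)

theorem two_ne_zero_of_char (p : ℕ) [Fact p.Prime] [CharP F p] (hp : p ≠ 2) : (2 : F) ≠ 0 := by
  intro h
  have h2 : ((2 : ℕ) : F) = 0 := by exact_mod_cast h
  rw [CharP.cast_eq_zero_iff F p 2] at h2
  have := (Nat.prime_dvd_prime_iff_eq (Fact.out : p.Prime) Nat.prime_two).mp h2
  exact hp this

theorem exists_pow_sq_eq {G : Type*} [Group G] (n : G) (h : Odd (orderOf n)) :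
    ∃ m : ℕ, (n * n) ^ m = n := by
  obtain ⟨k, hk⟩ := h
  refine ⟨k + 1, ?_⟩
  rw [← pow_two, ← pow_mul]
  have : 2 * (k + 1) = orderOf n + 1 := by omega
  rw [this, pow_succ, pow_orderOf_eq_one, one_mul]

theorem caOdd_of_odd (p : ℕ) [Fact p.Prime] [CharP F p] (hp : p ≠ 2)
    (K : Subgroup (Matrix.SpecialLinearGroup (Fin 2) F)) [Finite K] (hodd : Odd (Nat.card K)) :
    CAOdd (fun x : K => tr2 (x : Matrix.SpecialLinearGroup (Fin 2) F) = 2) := by
  have h2 : (2 : F) ≠ 0 := two_ne_zero_of_char p hp
  have hpow : ∀ x : K, (x : Matrix.SpecialLinearGroup (Fin 2) F) ^ Nat.card K = 1 := by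
    intro x
    have h3 : x ^ Nat.card K = 1 := pow_card_eq_one'
    have h4 : ((x ^ Nat.card K : K) : Matrix.SpecialLinearGroup (Fin 2) F) = 1 := by rw [h3]; rfl
    rwa [Subgroup.coe_pow] at h4
  have hm2 : ∀ x : K, tr2 (x : Matrix.SpecialLinearGroup (Fin 2) F) ≠ -2 := fun x =>
    tr2_ne_neg_two_of_odd p h2 _ _ hodd (hpow x)
  have hns : ∀ x : K, x ≠ 1 →
      ¬ IsScalarMat ((x : Matrix.SpecialLinearGroup (Fin 2) F) : Matrix (Fin 2) (Fin 2) F) := by
    intro x hx hsc
    rcases eq_one_or_tr2_of_isScalarMat _ hsc with h | h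
    · exact hx (Subtype.ext h)
    · exact hm2 x h
  have hoddOrd : ∀ x : K, Odd (orderOf x) := fun x =>
    Odd.of_dvd_nat hodd (orderOf_dvd_natCard x)
  refine ⟨?_, ?_, ?_, ?_, ?_, ?_, ?_⟩
  · -- ca
    intro y a b hy hay hby
    rw [commute_iff_coe] at hay hby ⊢
    have hay' : ((a : Matrix.SpecialLinearGroup (Fin 2) F) : Matrix (Fin 2) (Fin 2) F)
        * ((y : Matrix.SpecialLinearGroup (Fin 2) F) : Matrix (Fin 2) (Fin 2) F)
        = ((y : Matrix.SpecialLinearGroup (Fin 2) F) : Matrix (Fin 2) (Fin 2) F)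
        * ((a : Matrix.SpecialLinearGroup (Fin 2) F) : Matrix (Fin 2) (Fin 2) F) := by
      rw [← Matrix.SpecialLinearGroup.coe_mul, hay, Matrix.SpecialLinearGroup.coe_mul]
    have hby' : ((b : Matrix.SpecialLinearGroup (Fin 2) F) : Matrix (Fin 2) (Fin 2) F)
        * ((y : Matrix.SpecialLinearGroup (Fin 2) F) : Matrix (Fin 2) (Fin 2) F)
        = ((y : Matrix.SpecialLinearGroup (Fin 2) F) : Matrix (Fin 2) (Fin 2) F)
        * ((b : Matrix.SpecialLinearGroup (Fin 2) F) : Matrix (Fin 2) (Fin 2) F) := by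
      rw [← Matrix.SpecialLinearGroup.coe_mul, hby, Matrix.SpecialLinearGroup.coe_mul]
    obtain ⟨a1, b1, hA⟩ := exists_eq_smul_add _ _ (hns y hy) hay'
    obtain ⟨a2, b2, hB⟩ := exists_eq_smul_add _ _ (hns y hy) hby'
    apply Subtype.ext
    rw [Matrix.SpecialLinearGroup.coe_mul, Matrix.SpecialLinearGroup.coe_mul, hA, hB]
    set Y := ((y : Matrix.SpecialLinearGroup (Fin 2) F) : Matrix (Fin 2) (Fin 2) F)
    have hc : Commute (a1 • (1 : Matrix (Fin 2) (Fin 2) F) + b1 • Y) (a2 • 1 + b2 • Y) := by
      apply Commute.add_left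
      · apply Commute.smul_left
        exact Commute.one_left _
      · apply Commute.smul_left
        apply Commute.add_right
        · apply Commute.smul_right
          exact Commute.one_right _
        · apply Commute.smul_right
          exact Commute.refl _
    exact hc.eq
  · -- one
    show tr2 ((1 : K) : Matrix.SpecialLinearGroup (Fin 2) F) = 2
    simp [tr2]
    norm_num
  · -- conj
    intro k x hx
    show tr2 ((k * x * k⁻¹ : K) : Matrix.SpecialLinearGroup (Fin 2) F) = 2
    rw [Subgroup.coe_mul, Subgroup.coe_mul, Subgroup.coe_inv, tr2_conj]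
    exact hx
  · -- cent
    intro u x hu hu1 hxu
    rw [commute_iff_coe] at hxu
    rcases tr2_of_commute_unipotent _ _ hu (hns u hu1) hxu with h | h
    · exact h
    · exact absurd h (hm2 x)
  · -- snorm
    intro s n hs hc
    have hs1 : s ≠ 1 := by
      rintro rfl
      apply hs
      show tr2 ((1 : K) : Matrix.SpecialLinearGroup (Fin 2) F) = 2
      simp [tr2]
      norm_num
    have hsq : (tr2 (s : Matrix.SpecialLinearGroup (Fin 2) F)) ^ 2 ≠ 4 := by
      intro h4
      have : (tr2 (s : Matrix.SpecialLinearGroup (Fin 2) F) - 2) *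
          (tr2 (s : Matrix.SpecialLinearGroup (Fin 2) F) + 2) = 0 := by linear_combination h4
      rcases mul_eq_zero.mp this with h | h
      · exact hs (sub_eq_zero.mp h)
      · exact hm2 s (eq_neg_of_add_eq_zero_left h)
    have hc' := (commute_iff_coe _ _).mp hc
    rw [Subgroup.coe_mul, Subgroup.coe_mul, Subgroup.coe_inv] at hc'
    rcases eq_or_eq_inv_of_commute _ _ h2 hsq (tr2_conj _ _) hc' with h | h
    · -- n s n⁻¹ = s
      have h' : n * s * n⁻¹ = s := Subtype.ext (by simpa using h)
      have : n * s = s * n := by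
        calc n * s = n * s * n⁻¹ * n := by group
          _ = s * n := by rw [h']
      exact this
    · -- n s n⁻¹ = s⁻¹
      exfalso
      have h' : n * s * n⁻¹ = s⁻¹ := Subtype.ext (by simpa using h)
      have hnn : Commute (n * n) s := by
        have e1 : n * n * s = n * (n * s * n⁻¹) * n := by group
        have e2 : s * (n * n) = (n * s * n⁻¹)⁻¹ * (n * n) := by rw [h', inv_inv]
        show n * n * s = s * (n * n)
        rw [e1, e2, h']
        have : n * s⁻¹ * n = (n * s * n⁻¹)⁻¹ * (n * n) := by group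
        rw [this, h']
      obtain ⟨m, hm⟩ := exists_pow_sq_eq n (hoddOrd n)
      have hns' : Commute n s := by
        rw [← hm]; exact hnn.pow_left m
      have : s = s⁻¹ := by
        rw [← h']
        have := hns'.eq
        calc s = s * n * n⁻¹ := by group
          _ = n * s * n⁻¹ := by rw [← this]
      have hss : s * s = 1 := by
        nth_rewrite 2 [this]
        group
      have hord : orderOf s ∣ 2 := orderOf_dvd_of_pow_eq_one (by rw [pow_two]; exact hss)
      have hodd_s := hoddOrd s
      have : orderOf s = 1 := by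
        rcases (Nat.dvd_prime Nat.prime_two).mp hord with h1 | h1
        · exact h1
        · rw [h1] at hodd_s; exact absurd hodd_s (by decide)
      exact hs1 (orderOf_eq_one_iff.mp this)
  · -- unorm
    intro u n hu hu1 hn hc
    rw [commute_iff_coe] at hc ⊢
    rw [Subgroup.coe_mul, Subgroup.coe_mul, Subgroup.coe_inv] at hc
    exact commute_of_unipotent p _ _ h2 hu (hns u hu1) hn hc
  · -- uab
    intro u n m hu hu1 hn hm
    rw [commute_iff_coe] at hn hm ⊢
    rw [Subgroup.coe_mul, Subgroup.coe_mul, Subgroup.coe_inv] at hn hm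
    rw [Subgroup.coe_mul, Subgroup.coe_mul, Subgroup.coe_mul, Subgroup.coe_inv, Subgroup.coe_inv]
    exact commute_commutator _ _ _ h2 hu (hns u hu1) hn hm

end Cfsg.Agent.Lib.Helper41
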