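import Mathlib
import Cfsg.Agent.Lib.Helper41.SL2OddOrder

set_option autoImplicit false

/-!
# Subgroups of `SL₂(F)` with cyclic Sylow `2`-subgroups have a normal Sylow `p`-subgroup (helper41)
-/

namespace Cfsg.Agent.Lib.Helper41

variable {F : Type*} [Field F]

/-- a `p`-element of `SL₂(F)`, `char F = p`, has trace `2` -/
theorem tr2_eq_two_of_pow (p : ℕ) [Fact p.Prime] [CharP F p]
    (x : Matrix.SpecialLinearGroup (Fin 2) F) (k : ℕ) (hx : x ^ (p ^ k) = 1) : tr2 x = 2 := by
  have hX : (x : Matrix (Fin 2) (Fin 2) F) ^ (p ^ k) = 1 := by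
    rw [← Matrix.SpecialLinearGroup.coe_pow, hx]; simp
  have hnil : ((x : Matrix (Fin 2) (Fin 2) F) - 1) ^ (p ^ k) = 0 := by
    rw [sub_pow_char_pow_of_commute p k (Commute.one_right _), one_pow, hX, sub_self]
  have h1 : IsNilpotent ((x : Matrix (Fin 2) (Fin 2) F) - 1).trace :=
    Matrix.isNilpotent_trace_of_isNilpotent ⟨p ^ k, hnil⟩
  have h3 := h1.eq_zero
  rw [Matrix.trace_sub, Matrix.trace_one, Matrix.trace_fin_two] at h3
  simp at h3
  unfold tr2
  linear_combination h3

/-- an element of trace `2` of `SL₂(F)`, `char F = p`, has `p`-th power `1` -/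
theorem pow_char_eq_one_of_tr2 (p : ℕ) [Fact p.Prime] [CharP F p]
    (x : Matrix.SpecialLinearGroup (Fin 2) F) (ht : tr2 x = 2) : x ^ p = 1 := by
  have hpp : p.Prime := Fact.out
  have hp2 : 2 ≤ p := hpp.two_le
  have hsq : ((x : Matrix (Fin 2) (Fin 2) F) - 1) ^ 2 = 0 := by
    rw [pow_two, sub_mul, mul_sub, mul_one, one_mul, cayley_hamilton, ht, two_smul]
    abel
  have hpw : ((x : Matrix (Fin 2) (Fin 2) F) - 1) ^ p = 0 := by
    rw [show p = 2 + (p - 2) by omega, pow_add, hsq, zero_mul]
  rw [sub_pow_char_of_commute p (Commute.one_right _), one_pow] at hpw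
  apply Subtype.ext
  rw [Matrix.SpecialLinearGroup.coe_pow, sub_eq_zero.mp hpw]
  simp

theorem tr2_inv (x : Matrix.SpecialLinearGroup (Fin 2) F) : tr2 x⁻¹ = tr2 x := by
  unfold tr2
  rw [coe_inv_eq]
  simp [add_comm]

/-- if the unipotent elements of `H` commute pairwise then `H` has a unique Sylow `p`-subgroup -/
theorem card_sylow_le_one_of_commute (p : ℕ) [Fact p.Prime] [CharP F p]
    (H : Subgroup (Matrix.SpecialLinearGroup (Fin 2) F)) [Finite H]
    (hcomm : ∀ x y : H, tr2 (x : Matrix.SpecialLinearGroup (Fin 2) F) = 2 →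
      tr2 (y : Matrix.SpecialLinearGroup (Fin 2) F) = 2 → Commute x y) :
    Nat.card (Sylow p H) ≤ 1 := by
  have hpowH : ∀ x : H, tr2 (x : Matrix.SpecialLinearGroup (Fin 2) F) = 2 → x ^ p = 1 := by
    intro x hx
    apply Subtype.ext
    rw [Subgroup.coe_pow, pow_char_eq_one_of_tr2 p _ hx]; rfl
  let T : Subgroup H :=
    { carrier := {x | tr2 (x : Matrix.SpecialLinearGroup (Fin 2) F) = 2}
      one_mem' := by
        show tr2 ((1 : H) : Matrix.SpecialLinearGroup (Fin 2) F) = 2
        simp [tr2]; norm_num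
      mul_mem' := by
        intro x y hx hy
        have hc : Commute x y := hcomm x y hx hy
        have h1 : (x * y) ^ p = 1 := by rw [hc.mul_pow, hpowH x hx, hpowH y hy, one_mul]
        have h3 : ((x * y : H) : Matrix.SpecialLinearGroup (Fin 2) F) ^ (p ^ 1) = 1 := by
          rw [pow_one, ← Subgroup.coe_pow, h1]; rfl
        exact tr2_eq_two_of_pow p _ 1 h3
      inv_mem' := by
        intro x hx
        show tr2 ((x⁻¹ : H) : Matrix.SpecialLinearGroup (Fin 2) F) = 2
        rw [Subgroup.coe_inv, tr2_inv]; exact hx }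
  have hT : IsPGroup p T := by
    intro x
    refine ⟨1, ?_⟩
    rw [pow_one]
    apply Subtype.ext
    rw [Subgroup.coe_pow, hpowH x.1 x.2]; rfl
  have hle : ∀ P : Sylow p H, (P : Subgroup H) = T := by
    intro P
    have hPT : (P : Subgroup H) ≤ T := by
      intro x hx
      obtain ⟨k, hk⟩ := (IsPGroup.iff_orderOf.mp P.2) ⟨x, hx⟩
      have hk' : orderOf x = p ^ k := by
        rw [← hk]; exact (Subgroup.orderOf_mk x hx).symm
      have h1 : x ^ (p ^ k) = 1 := by rw [← hk']; exact pow_orderOf_eq_one x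
      have h3 : (x : Matrix.SpecialLinearGroup (Fin 2) F) ^ (p ^ k) = 1 := by
        rw [← Subgroup.coe_pow, h1]; rfl
      exact tr2_eq_two_of_pow p _ k h3
    exact (P.is_maximal' hT hPT).symm
  rw [Finite.card_le_one_iff_subsingleton]
  constructor
  intro P Q
  exact Sylow.ext ((hle P).trans (hle Q).symm)

/-- unipotent elements of `H` commute when `H` has a normal subgroup of odd order containing all
elements of odd order -/
theorem commute_unipotent_of_odd_subgroup (p : ℕ) [Fact p.Prime] [CharP F p] (hp : p ≠ 2)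
    (H : Subgroup (Matrix.SpecialLinearGroup (Fin 2) F)) [Finite H] (N : Subgroup H)
    (hN : Odd (Nat.card N)) (hmem : ∀ x : H, Odd (orderOf x) → x ∈ N)
    (x y : H) (hx : tr2 (x : Matrix.SpecialLinearGroup (Fin 2) F) = 2)
    (hy : tr2 (y : Matrix.SpecialLinearGroup (Fin 2) F) = 2) : Commute x y := by
  have hpodd : Odd p := (Fact.out : p.Prime).odd_of_ne_two hp
  have hordodd : ∀ z : H, tr2 (z : Matrix.SpecialLinearGroup (Fin 2) F) = 2 → Odd (orderOf z) := by
    intro z hz
    have h1 : z ^ p = 1 := by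
      apply Subtype.ext
      rw [Subgroup.coe_pow, pow_char_eq_one_of_tr2 p _ hz]; rfl
    exact Odd.of_dvd_nat hpodd (orderOf_dvd_of_pow_eq_one h1)
  let K : Subgroup (Matrix.SpecialLinearGroup (Fin 2) F) := N.map H.subtype
  have hcard : Nat.card K = Nat.card N :=
    Subgroup.card_map_of_injective H.subtype_injective
  have : Finite K := by
    apply Nat.finite_of_card_ne_zero
    rw [hcard]
    exact Nat.card_pos.ne'
  have hKodd : Odd (Nat.card K) := hcard ▸ hN
  have hca := caOdd_of_odd p hp K hKodd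
  have hxK : (x : Matrix.SpecialLinearGroup (Fin 2) F) ∈ K :=
    ⟨x, hmem x (hordodd x hx), rfl⟩
  have hyK : (y : Matrix.SpecialLinearGroup (Fin 2) F) ∈ K :=
    ⟨y, hmem y (hordodd y hy), rfl⟩
  have hc : Commute (⟨x, hxK⟩ : K) ⟨y, hyK⟩ := hca.commute_of_U hx hy
  have hc' := (commute_iff_coe _ _).mp hc
  exact (commute_iff_coe x y).mpr hc'

/-- a subgroup of `SL₂(F)` (odd characteristic `p`) with more than one Sylow `p`-subgroup does
not have cyclic Sylow `2`-subgroups -/
theorem not_isCyclic_sylow_two (p : ℕ) [Fact p.Prime] [CharP F p] (hp : p ≠ 2)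
    (H : Subgroup (Matrix.SpecialLinearGroup (Fin 2) F)) [Finite H]
    (hH : 1 < Nat.card (Sylow p H)) (S : Sylow 2 H) : ¬ IsCyclic (S : Subgroup H) := by
  intro hcyc
  have hcontra : Nat.card (Sylow p H) ≤ 1 := by
    apply card_sylow_le_one_of_commute p H
    by_cases heven : 2 ∣ Nat.card H
    · have hmin : (Nat.card H).minFac = 2 := (Nat.minFac_eq_two_iff _).mpr heven
      have hnc := hcyc.normalizer_le_centralizer hmin
      exact commute_unipotent_of_odd_subgroup p hp H (MonoidHom.transferSylow S hnc).ker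
        (Nat.odd_iff.mpr (Nat.two_dvd_ne_zero.mp
          (MonoidHom.not_dvd_card_ker_transferSylow S hnc)))
        (by
          intro x hx
          rw [MonoidHom.mem_ker]
          set φ := MonoidHom.transferSylow S hnc
          have h1 : orderOf (φ x) ∣ orderOf x := orderOf_map_dvd φ x
          obtain ⟨k, hk⟩ := (IsPGroup.iff_orderOf.mp S.2) (φ x)
          have h3 : orderOf (φ x) = 1 := by
            have hodd : Odd (orderOf (φ x)) := Odd.of_dvd_nat hx h1
            rw [hk] at hodd ⊢
            rcases Nat.eq_zero_or_pos k with h0 | h0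
            · rw [h0, pow_zero]
            · exfalso
              have : Even (2 ^ k) := (Nat.even_pow' h0.ne').mpr even_two
              exact (Nat.not_even_iff_odd.mpr hodd) this
          exact orderOf_eq_one_iff.mp h3)
    · have hodd : Odd (Nat.card H) := Nat.odd_iff.mpr (Nat.two_dvd_ne_zero.mp heven)
      exact commute_unipotent_of_odd_subgroup p hp H ⊤
        (by rw [Subgroup.card_top]; exact hodd) (fun x _ => Subgroup.mem_top x)
  omega

end Cfsg.Agent.Lib.Helper41
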