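import Mathlib
import Cfsg.Agent.Lib.Helper16.PF13Defs

/-!
# PF sec.13, module PF13-[NUM-C] (helper41): `|C_U(P)| ≡ 1 (mod 2q)`

`C = C_U(P)` is normalized by `W₁`, and `C_C(x) ≤ U ∩ W₂ = 1` for `x ∈ W₁ \ 1`, so `W₁` (of prime
order `q`) acts on `C` with the identity as its only fixed point; `|C|` and `q` are odd.
-/

set_option autoImplicit false

namespace Cfsg.Agent.Lib.Helper41.PF13

open Cfsg Cfsg.Agent.Lib.Helper24.PFCyc Cfsg.Agent.Lib.Helper4.PF Cfsg.Agent.Lib.Helper16.PF13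

universe u

variable {G : Type u} [Group G]

/-- `M_F` is normalized by `M` -/
theorem conj_mem_fittingHallOf' (M : Subgroup G) {m x : G} (hm : m ∈ M)
    (hx : x ∈ fittingHallOf M) : m * x * m⁻¹ ∈ fittingHallOf M := by
  unfold fittingHallOf at hx ⊢
  rw [Subgroup.mem_map] at hx ⊢
  obtain ⟨y, hy, rfl⟩ := hx
  refine ⟨⟨m, hm⟩ * y * ⟨m, hm⟩⁻¹, ?_, ?_⟩
  · exact (fittingHall_normal M).conj_mem y hy ⟨m, hm⟩
  · simp

/-- arithmetic: `n` odd, `q` odd, `n ≡ 1 (mod q)` gives `n % (2q) = 1` -/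
theorem mod_two_mul_eq_one {n q : ℕ} (hn : Odd n) (hq : Odd q) (h : n ≡ 1 [MOD q]) :
    n % (2 * q) = 1 := by
  have h2 : n ≡ 1 [MOD 2] := by
    have := Nat.odd_iff.mp hn
    exact this
  have hcop : Nat.Coprime 2 q := by
    rw [Nat.coprime_comm]
    exact Nat.Coprime.symm (Nat.coprime_two_left.mpr hq)
  have h3 : n ≡ 1 [MOD 2 * q] := (Nat.modEq_and_modEq_iff_modEq_mul hcop).mp ⟨h2, h⟩
  have hq1 : 1 ≤ q := by
    rcases hq with ⟨k, rfl⟩
    omega
  have : (1 : ℕ) % (2 * q) = 1 := Nat.mod_eq_of_lt (by omega)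
  rw [← this]
  exact h3

section act

variable {W C : Subgroup G} (hnorm : ∀ w ∈ W, ∀ c ∈ C, w * c * w⁻¹ ∈ C)

/-- conjugation action of `W` on a subgroup `C` it normalizes -/
@[reducible] def conjAct (hnorm : ∀ w ∈ W, ∀ c ∈ C, w * c * w⁻¹ ∈ C) : MulAction ↥W ↥C where
  smul w c := ⟨(w : G) * (c : G) * (w : G)⁻¹, hnorm w w.2 c c.2⟩
  one_smul c := by
    apply Subtype.ext
    show ((1 : W) : G) * (c : G) * ((1 : W) : G)⁻¹ = c
    simp
  mul_smul a b c := by
    apply Subtype.ext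
    show ((a * b : W) : G) * (c : G) * ((a * b : W) : G)⁻¹ =
      (a : G) * ((b : G) * (c : G) * (b : G)⁻¹) * (a : G)⁻¹
    simp [mul_assoc]

end act

variable [Fintype G] {S W₁ U W₂ : Subgroup G} [Fintype S]
  {mu : WChar W₁ W₂ → (↥S → ℂ)} {dl : WChar W₁ W₂ → ℂ} {η : WChar W₁ W₂ → (G → ℂ)}

theorem card_cent_mod (h : PSide S W₁ U W₂ mu dl η) :
    Nat.card ↥(U ⊓ Subgroup.centralizer ((fittingHallOf S : Subgroup G) : Set G)) %
      (2 * Nat.card W₁) = 1 := by
  classical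
  set P : Subgroup G := fittingHallOf S with hPdef
  set C : Subgroup G := U ⊓ Subgroup.centralizer (P : Set G) with hCdef
  have hT := h.hP
  have hW₁S : W₁ ≤ S := hT.W₁_compl.2.1
  have hUK : U ≤ ⁅S, S⁆ := hT.U_compl.2.1
  have hPU : P ⊓ U = ⊥ := hT.U_compl.2.2.1
  have hW₂P : W₂ ≤ P := le_trans hT.W₂_le inf_le_left
  -- `W₁` normalizes `C`
  have hnorm : ∀ w ∈ W₁, ∀ c ∈ C, w * c * w⁻¹ ∈ C := by
    intro w hw c hc
    rw [hCdef, Subgroup.mem_inf] at hc ⊢
    refine ⟨?_, ?_⟩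
    · have := hT.U_normal hw
      rw [Subgroup.mem_normalizer_iff] at this
      exact (this c).mp hc.1
    · rw [Subgroup.mem_centralizer_iff]
      intro x hx
      have hx' : w⁻¹ * x * (w⁻¹)⁻¹ ∈ P :=
        conj_mem_fittingHallOf' S (S.inv_mem (hW₁S hw)) hx
      have hcx := (Subgroup.mem_centralizer_iff.mp hc.2) _ hx'
      -- hcx : w⁻¹ * x * w⁻¹⁻¹ * c = c * (w⁻¹ * x * w⁻¹⁻¹)
      rw [inv_inv] at hcx
      calc x * (w * c * w⁻¹) = w * ((w⁻¹ * x * w) * c) * w⁻¹ := by group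
        _ = w * (c * (w⁻¹ * x * w)) * w⁻¹ := by rw [hcx]
        _ = w * c * w⁻¹ * x := by group
  let _inst : MulAction ↥W₁ ↥C := conjAct hnorm
  have hq : (Nat.card W₁).Prime := h.hq
  have _hf : Fact (Nat.card W₁).Prime := ⟨hq⟩
  have hpg : IsPGroup (Nat.card W₁) ↥W₁ := IsPGroup.of_card (n := 1) (by simp)
  have hmod := hpg.card_modEq_card_fixedPoints (α := ↥C)
  -- the only fixed point is `1`
  have hfix : MulAction.fixedPoints ↥W₁ ↥C = {1} := by
    ext c
    simp only [MulAction.mem_fixedPoints, Set.mem_singleton_iff]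
    constructor
    · intro hc
      -- a non-identity element of `W₁`
      obtain ⟨x, hx, hx1⟩ : ∃ x ∈ W₁, x ≠ 1 := by
        by_contra hcon
        push Not at hcon
        apply hT.W₁_ne
        rw [Subgroup.eq_bot_iff_forall]
        exact hcon
      have hcx := hc ⟨x, hx⟩
      have hcx' : x * (c : G) * x⁻¹ = c := congrArg Subtype.val hcx
      have hcU : (c : G) ∈ U := (Subgroup.mem_inf.mp c.2).1
      have hcW₂ : (c : G) ∈ W₂ := by
        rw [← hT.W₂_centralizer x hx hx1, Subgroup.mem_inf]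
        refine ⟨hUK hcU, ?_⟩
        rw [Subgroup.mem_centralizer_iff]
        intro y hy
        rw [Set.mem_singleton_iff] at hy
        subst hy
        calc y * (c : G) = (y * (c : G) * y⁻¹) * y := by group
          _ = (c : G) * y := by rw [hcx']
      have : (c : G) ∈ P ⊓ U := Subgroup.mem_inf.mpr ⟨hW₂P hcW₂, hcU⟩
      rw [hPU, Subgroup.mem_bot] at this
      exact Subtype.ext this
    · rintro rfl w
      apply Subtype.ext
      show (w : G) * ((1 : C) : G) * (w : G)⁻¹ = ((1 : C) : G)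
      simp
  rw [hfix] at hmod
  have hmod' : Nat.card ↥C ≡ 1 [MOD Nat.card W₁] := by
    simpa using hmod
  -- parities
  have hoddG : Odd (Nat.card G) := h.hodd
  have hoddC : Odd (Nat.card ↥C) := Odd.of_dvd_nat hoddG (Subgroup.card_subgroup_dvd_card C)
  have hoddq : Odd (Nat.card W₁) := Odd.of_dvd_nat hoddG (Subgroup.card_subgroup_dvd_card W₁)
  exact mod_two_mul_eq_one hoddC hoddq hmod'

end Cfsg.Agent.Lib.Helper41.PF13
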