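import Mathlib

set_option autoImplicit false

/-!
# Hua's theorem for finite fields (helper41)

An additive map `a : F → F` on a finite field with `a 1 = 1` and `a x * a x⁻¹ = 1` for `x ≠ 0` is
multiplicative, hence a field automorphism.
-/

namespace Cfsg.Agent.Lib.Helper41

variable {F : Type*} [Field F]

/-- Hua's identity in a field -/
theorem hua_identity {x y : F} (hx : x ≠ 0) (hy : y ≠ 0) (hxy : x * y ≠ 1) :
    x - (x⁻¹ + (y⁻¹ - x)⁻¹)⁻¹ = x ^ 2 * y := by
  have h1 : y⁻¹ - x ≠ 0 := by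
    intro h
    apply hxy
    have : y⁻¹ = x := sub_eq_zero.mp h
    rw [← this, inv_mul_cancel₀ hy]
  have h1' : 1 - x * y ≠ 0 := fun h => hxy (sub_eq_zero.mp h).symm
  have h2 : x⁻¹ + (y⁻¹ - x)⁻¹ = (x * (1 - x * y))⁻¹ := by
    field_simp
    ring
  rw [h2, inv_inv]
  ring

theorem map_sq_mul_of_inv (a : F → F) (hadd : ∀ x y, a (x + y) = a x + a y)
    (hinv : ∀ x, x ≠ 0 → a x * a x⁻¹ = 1) {x y : F} (hx : x ≠ 0) (hy : y ≠ 0) (hxy : x * y ≠ 1) :
    a (x ^ 2 * y) = a x ^ 2 * a y := by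
  have ha0 : a 0 = 0 := by
    have := hadd 0 0
    rw [add_zero] at this
    exact left_eq_add.mp this
  have hneg : ∀ z, a (-z) = -a z := by
    intro z
    have := hadd z (-z)
    rw [add_neg_cancel, ha0] at this
    exact (neg_eq_of_add_eq_zero_right this.symm).symm
  have hsub : ∀ z w, a (z - w) = a z - a w := by
    intro z w
    rw [sub_eq_add_neg, hadd, hneg, sub_eq_add_neg]
  have hne : ∀ z, z ≠ 0 → a z ≠ 0 := fun z hz => left_ne_zero_of_mul_eq_one (hinv z hz)
  have hinv' : ∀ z, z ≠ 0 → a z⁻¹ = (a z)⁻¹ := by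
    intro z hz
    exact eq_inv_of_mul_eq_one_right (hinv z hz)
  have h1 : y⁻¹ - x ≠ 0 := by
    intro h
    apply hxy
    have : y⁻¹ = x := sub_eq_zero.mp h
    rw [← this, inv_mul_cancel₀ hy]
  have h3 : x⁻¹ + (y⁻¹ - x)⁻¹ ≠ 0 := by
    have h1' : 1 - x * y ≠ 0 := fun h => hxy (sub_eq_zero.mp h).symm
    have h2 : x⁻¹ + (y⁻¹ - x)⁻¹ = (x * (1 - x * y))⁻¹ := by
      field_simp
      ring
    rw [h2]
    exact inv_ne_zero (mul_ne_zero hx h1')
  have hX : a x ≠ 0 := hne x hx
  have hY : a y ≠ 0 := hne y hy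
  have hXY : a x * a y ≠ 1 := by
    intro h
    have h4 : a (y⁻¹ - x) ≠ 0 := hne _ h1
    rw [hsub, hinv' y hy] at h4
    apply h4
    rw [sub_eq_zero]
    exact (eq_inv_of_mul_eq_one_left h).symm
  rw [← hua_identity hx hy hxy, hsub, hinv' _ h3, hadd, hinv' x hx, hinv' _ h1, hsub, hinv' y hy,
    hua_identity hX hY hXY]

/-- Hua: an additive, inverse-preserving, unital self-map of a finite field is multiplicative -/
theorem map_mul_of_inv [Finite F] (a : F → F) (hadd : ∀ x y, a (x + y) = a x + a y)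
    (h1 : a 1 = 1) (hinv : ∀ x, x ≠ 0 → a x * a x⁻¹ = 1) (x y : F) :
    a (x * y) = a x * a y := by
  have ha0 : a 0 = 0 := by
    have := hadd 0 0
    rw [add_zero] at this
    exact left_eq_add.mp this
  have hneg : ∀ z, a (-z) = -a z := by
    intro z
    have := hadd z (-z)
    rw [add_neg_cancel, ha0] at this
    exact (neg_eq_of_add_eq_zero_right this.symm).symm
  have hsub : ∀ z w, a (z - w) = a z - a w := by
    intro z w
    rw [sub_eq_add_neg, hadd, hneg, sub_eq_add_neg]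
  have hinv' : ∀ z, z ≠ 0 → a z⁻¹ = (a z)⁻¹ := by
    intro z hz
    exact eq_inv_of_mul_eq_one_right (hinv z hz)
  have hne : ∀ z, z ≠ 0 → a z ≠ 0 := fun z hz => left_ne_zero_of_mul_eq_one (hinv z hz)
  -- squares
  have hsq : ∀ z, a (z ^ 2) = a z ^ 2 := by
    intro z
    by_cases hz : z = 0
    · rw [hz]; simp [ha0]
    by_cases hz1 : z = 1
    · rw [hz1]; simp [h1]
    have := map_sq_mul_of_inv a hadd hinv (x := z) (y := 1) hz one_ne_zero (by rwa [mul_one])
    rwa [mul_one, h1, mul_one] at this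
  have hsqmul : ∀ z w, a (z ^ 2 * w) = a (z ^ 2) * a w := by
    intro z w
    by_cases hz : z = 0
    · rw [hz]; simp [ha0]
    by_cases hw : w = 0
    · rw [hw]; simp [ha0]
    by_cases hzw : z * w = 1
    · have hw' : w = z⁻¹ := eq_inv_of_mul_eq_one_right hzw
      rw [hsq, hw', hinv' z hz]
      have : z ^ 2 * z⁻¹ = z := by field_simp
      rw [this]
      have := hne z hz
      field_simp
    · rw [map_sq_mul_of_inv a hadd hinv hz hw hzw, hsq]
  -- every element is a difference of two squares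
  have hdiff : ∀ s : F, ∃ u v : F, s = u ^ 2 - v ^ 2 := by
    intro s
    by_cases h2 : (2 : F) = 0
    · have : Fintype F := Fintype.ofFinite F
      have hchar : ringChar F = 2 := by
        have h3 : ((2 : ℕ) : F) = 0 := by exact_mod_cast h2
        have h4 := (ringChar.spec F 2).mp h3
        exact (Nat.prime_dvd_prime_iff_eq (CharP.char_is_prime F (ringChar F)) Nat.prime_two).mp h4
      obtain ⟨u, hu⟩ := FiniteField.isSquare_of_char_two hchar s
      exact ⟨u, 0, by rw [hu]; ring⟩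
    · refine ⟨(s + 1) / 2, (s - 1) / 2, ?_⟩
      field_simp
      ring
  obtain ⟨u, v, rfl⟩ := hdiff x
  rw [sub_mul, hsub, hsqmul, hsqmul, hsub, sub_mul]

end Cfsg.Agent.Lib.Helper41
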