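import Mathlib
import Cfsg.Agent.Lib.Helper41.SL2Torus

set_option autoImplicit false

/-!
# Automorphisms of `SL₂(F)` and `PSL₂(F)`: descent, field and diagonal automorphisms (helper41)
-/

namespace Cfsg.Agent.Lib.Helper41

variable {F : Type*} [Field F]

/-- an automorphism of `SL₂(F)` induces an automorphism of `PSL₂(F)` -/
noncomputable def descend (α : MulAut (Matrix.SpecialLinearGroup (Fin 2) F)) :
    MulAut (Matrix.ProjectiveSpecialLinearGroup (Fin 2) F) :=
  QuotientGroup.congr (Subgroup.center (Matrix.SpecialLinearGroup (Fin 2) F))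
    (Subgroup.center (Matrix.SpecialLinearGroup (Fin 2) F)) α
    (Subgroup.characteristic_iff_map_eq.mp Subgroup.centerCharacteristic α)

theorem descend_mk (α : MulAut (Matrix.SpecialLinearGroup (Fin 2) F))
    (x : Matrix.SpecialLinearGroup (Fin 2) F) :
    descend α (QuotientGroup.mk x : Matrix.ProjectiveSpecialLinearGroup (Fin 2) F)
      = QuotientGroup.mk (α x) :=
  QuotientGroup.congr_mk _ _ _ _ _

theorem descend_mul (α β : MulAut (Matrix.SpecialLinearGroup (Fin 2) F)) :
    descend (α * β) = descend α * descend β := by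
  apply MulEquiv.ext
  intro x
  obtain ⟨x, rfl⟩ := QuotientGroup.mk_surjective x
  rw [MulAut.mul_apply, descend_mk, descend_mk, descend_mk, MulAut.mul_apply]

theorem descend_one : descend (1 : MulAut (Matrix.SpecialLinearGroup (Fin 2) F)) = 1 := by
  apply MulEquiv.ext
  intro x
  obtain ⟨x, rfl⟩ := QuotientGroup.mk_surjective x
  rw [descend_mk]
  rfl

theorem descend_conj (g : Matrix.SpecialLinearGroup (Fin 2) F) :
    descend (MulAut.conj g)
      = MulAut.conj (QuotientGroup.mk g : Matrix.ProjectiveSpecialLinearGroup (Fin 2) F) := by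
  apply MulEquiv.ext
  intro x
  obtain ⟨x, rfl⟩ := QuotientGroup.mk_surjective x
  rw [descend_mk, MulAut.conj_apply, MulAut.conj_apply]
  rfl

/-- general naturality of inner automorphisms -/
theorem mulAut_mul_conj {G : Type*} [Group G] (α : MulAut G) (g : G) :
    α * MulAut.conj g = MulAut.conj (α g) * α := by
  apply MulEquiv.ext
  intro x
  simp [MulAut.mul_apply, MulAut.conj_apply]

/-- the automorphism of `SL₂(F)` induced by a field automorphism -/
def fieldAut (σ : RingAut F) : MulAut (Matrix.SpecialLinearGroup (Fin 2) F) where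
  toFun := Matrix.SpecialLinearGroup.map (σ : F →+* F)
  invFun := Matrix.SpecialLinearGroup.map (σ.symm : F →+* F)
  left_inv := by
    intro x
    apply Subtype.ext
    ext i j
    simp [Matrix.SpecialLinearGroup.map_apply_coe]
  right_inv := by
    intro x
    apply Subtype.ext
    ext i j
    simp [Matrix.SpecialLinearGroup.map_apply_coe]
  map_mul' := map_mul _

theorem fieldAut_apply (σ : RingAut F) (x : Matrix.SpecialLinearGroup (Fin 2) F) (i j : Fin 2) :
    ((fieldAut σ x : Matrix.SpecialLinearGroup (Fin 2) F) : Matrix (Fin 2) (Fin 2) F) i j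
      = σ ((x : Matrix (Fin 2) (Fin 2) F) i j) := by
  show ((Matrix.SpecialLinearGroup.map (σ : F →+* F) x : Matrix.SpecialLinearGroup (Fin 2) F) :
    Matrix (Fin 2) (Fin 2) F) i j = _
  rw [Matrix.SpecialLinearGroup.map_apply_coe]
  rfl

theorem fieldAut_mul (σ τ : RingAut F) : fieldAut (σ * τ) = fieldAut σ * fieldAut τ := by
  apply MulEquiv.ext
  intro x
  apply Subtype.ext
  ext i j
  rw [MulAut.mul_apply, fieldAut_apply, fieldAut_apply, fieldAut_apply, RingAut.mul_apply]

theorem fieldAut_one : fieldAut (1 : RingAut F) = 1 := by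
  apply MulEquiv.ext
  intro x
  apply Subtype.ext
  ext i j
  rw [fieldAut_apply]
  rfl

theorem fieldAut_upperU (σ : RingAut F) (x : F) : fieldAut σ (upperU x) = upperU (σ x) := by
  apply Subtype.ext
  ext i j
  rw [fieldAut_apply]
  fin_cases i <;> fin_cases j <;> simp [coe_upperU]

theorem fieldAut_lowerU (σ : RingAut F) (x : F) : fieldAut σ (lowerU x) = lowerU (σ x) := by
  apply Subtype.ext
  ext i j
  rw [fieldAut_apply]
  fin_cases i <;> fin_cases j <;> simp [coe_lowerU]

/-- conjugation by `diag(c, 1)` -/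
def diagAutFun (c : Fˣ) (x : Matrix.SpecialLinearGroup (Fin 2) F) :
    Matrix.SpecialLinearGroup (Fin 2) F :=
  ⟨!![(x : Matrix (Fin 2) (Fin 2) F) 0 0, (c : F) * (x : Matrix (Fin 2) (Fin 2) F) 0 1;
      ((c⁻¹ : Fˣ) : F) * (x : Matrix (Fin 2) (Fin 2) F) 1 0, (x : Matrix (Fin 2) (Fin 2) F) 1 1], by
    rw [Matrix.det_fin_two_of]
    have h := sl2_det x
    have hc : (c : F) * ((c⁻¹ : Fˣ) : F) = 1 := by rw [← Units.val_mul, mul_inv_cancel, Units.val_one]
    linear_combination h - (x : Matrix (Fin 2) (Fin 2) F) 0 1 * (x : Matrix (Fin 2) (Fin 2) F) 1 0 * hc⟩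

theorem coe_diagAutFun (c : Fˣ) (x : Matrix.SpecialLinearGroup (Fin 2) F) :
    ((diagAutFun c x : Matrix.SpecialLinearGroup (Fin 2) F) : Matrix (Fin 2) (Fin 2) F)
      = !![(x : Matrix (Fin 2) (Fin 2) F) 0 0, (c : F) * (x : Matrix (Fin 2) (Fin 2) F) 0 1;
      ((c⁻¹ : Fˣ) : F) * (x : Matrix (Fin 2) (Fin 2) F) 1 0, (x : Matrix (Fin 2) (Fin 2) F) 1 1] := rfl

theorem diagAutFun_mul (c : Fˣ) (x y : Matrix.SpecialLinearGroup (Fin 2) F) :
    diagAutFun c (x * y) = diagAutFun c x * diagAutFun c y := by
  have hc : (c : F) * ((c⁻¹ : Fˣ) : F) = 1 := by rw [← Units.val_mul, mul_inv_cancel, Units.val_one]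
  apply sl2_ext
  · rw [mul_apply_00]
    simp only [coe_diagAutFun, Matrix.of_apply, Matrix.cons_val', Matrix.cons_val_zero,
      Matrix.cons_val_one, Matrix.cons_val_fin_one]
    rw [mul_apply_00]
    linear_combination (-(x : Matrix (Fin 2) (Fin 2) F) 0 1 * (y : Matrix (Fin 2) (Fin 2) F) 1 0) * hc
  · rw [mul_apply_01]
    simp only [coe_diagAutFun, Matrix.of_apply, Matrix.cons_val', Matrix.cons_val_zero,
      Matrix.cons_val_one, Matrix.cons_val_fin_one]
    rw [mul_apply_01]
    ring
  · rw [mul_apply_10]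
    simp only [coe_diagAutFun, Matrix.of_apply, Matrix.cons_val', Matrix.cons_val_zero,
      Matrix.cons_val_one, Matrix.cons_val_fin_one]
    rw [mul_apply_10]
    ring
  · rw [mul_apply_11]
    simp only [coe_diagAutFun, Matrix.of_apply, Matrix.cons_val', Matrix.cons_val_zero,
      Matrix.cons_val_one, Matrix.cons_val_fin_one]
    rw [mul_apply_11]
    linear_combination (-(x : Matrix (Fin 2) (Fin 2) F) 1 0 * (y : Matrix (Fin 2) (Fin 2) F) 0 1) * hc

theorem diagAutFun_diagAutFun (c d : Fˣ) (x : Matrix.SpecialLinearGroup (Fin 2) F) :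
    diagAutFun c (diagAutFun d x) = diagAutFun (c * d) x := by
  apply sl2_ext <;>
  simp only [coe_diagAutFun, Matrix.of_apply, Matrix.cons_val', Matrix.cons_val_zero,
      Matrix.cons_val_one, Matrix.cons_val_fin_one, mul_inv, Units.val_mul] <;> ring

theorem diagAutFun_one (x : Matrix.SpecialLinearGroup (Fin 2) F) : diagAutFun 1 x = x := by
  apply sl2_ext <;>
  simp only [coe_diagAutFun, Matrix.of_apply, Matrix.cons_val', Matrix.cons_val_zero,
      Matrix.cons_val_one, Matrix.cons_val_fin_one, inv_one, Units.val_one, one_mul]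

/-- the diagonal automorphism: conjugation by `diag(c, 1)` -/
def diagAut (c : Fˣ) : MulAut (Matrix.SpecialLinearGroup (Fin 2) F) where
  toFun := diagAutFun c
  invFun := diagAutFun c⁻¹
  left_inv := by
    intro x
    rw [diagAutFun_diagAutFun, inv_mul_cancel, diagAutFun_one]
  right_inv := by
    intro x
    rw [diagAutFun_diagAutFun, mul_inv_cancel, diagAutFun_one]
  map_mul' := diagAutFun_mul c

theorem diagAut_apply (c : Fˣ) (x : Matrix.SpecialLinearGroup (Fin 2) F) :
    diagAut c x = diagAutFun c x := rfl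

theorem diagAut_mul (c d : Fˣ) : diagAut (c * d) = diagAut c * diagAut d := by
  apply MulEquiv.ext
  intro x
  rw [MulAut.mul_apply, diagAut_apply, diagAut_apply, diagAut_apply, diagAutFun_diagAutFun]

theorem diagAut_one : diagAut (1 : Fˣ) = 1 := by
  apply MulEquiv.ext
  intro x
  rw [diagAut_apply, diagAutFun_one]
  rfl

theorem diagAut_upperU (c : Fˣ) (x : F) : diagAut c (upperU x) = upperU ((c : F) * x) := by
  rw [diagAut_apply]
  apply sl2_ext <;> simp [coe_diagAutFun, coe_upperU]

theorem diagAut_lowerU (c : Fˣ) (x : F) :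
    diagAut c (lowerU x) = lowerU (((c⁻¹ : Fˣ) : F) * x) := by
  rw [diagAut_apply]
  apply sl2_ext <;> simp [coe_diagAutFun, coe_lowerU]

/-- field automorphisms normalise the diagonal automorphisms -/
theorem fieldAut_mul_diagAut (σ : RingAut F) (c : Fˣ) :
    fieldAut σ * diagAut c = diagAut (Units.map (σ : F →* F) c) * fieldAut σ := by
  apply MulEquiv.ext
  intro x
  rw [MulAut.mul_apply, MulAut.mul_apply, diagAut_apply, diagAut_apply]
  apply sl2_ext
  · rw [fieldAut_apply]
    simp only [coe_diagAutFun, Matrix.of_apply, Matrix.cons_val', Matrix.cons_val_zero,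
      Matrix.cons_val_one, Matrix.cons_val_fin_one]
    rw [fieldAut_apply]
  · rw [fieldAut_apply]
    simp only [coe_diagAutFun, Matrix.of_apply, Matrix.cons_val', Matrix.cons_val_zero,
      Matrix.cons_val_one, Matrix.cons_val_fin_one]
    rw [fieldAut_apply, map_mul]
    rfl
  · rw [fieldAut_apply]
    simp only [coe_diagAutFun, Matrix.of_apply, Matrix.cons_val', Matrix.cons_val_zero,
      Matrix.cons_val_one, Matrix.cons_val_fin_one]
    rw [fieldAut_apply, map_mul, ← map_inv]
    rfl
  · rw [fieldAut_apply]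
    simp only [coe_diagAutFun, Matrix.of_apply, Matrix.cons_val', Matrix.cons_val_zero,
      Matrix.cons_val_one, Matrix.cons_val_fin_one]
    rw [fieldAut_apply]

/-- the diagonal automorphism of a square is inner -/
theorem diagAut_sq (e : Fˣ) : diagAut (e * e) = MulAut.conj (diagHom e) := by
  have he : (e : F) * ((e⁻¹ : Fˣ) : F) = 1 := by rw [← Units.val_mul, mul_inv_cancel, Units.val_one]
  apply MulEquiv.ext
  intro x
  rw [diagAut_apply, MulAut.conj_apply]
  apply sl2_ext
  · rw [mul_apply_00, mul_apply_00, mul_apply_01, inv_apply_00, inv_apply_10]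
    simp only [coe_diagAutFun, coe_diagHom, Matrix.of_apply, Matrix.cons_val', Matrix.cons_val_zero,
      Matrix.cons_val_one, Matrix.cons_val_fin_one]
    linear_combination (-(x : Matrix (Fin 2) (Fin 2) F) 0 0) * he
  · rw [mul_apply_01, mul_apply_00, mul_apply_01, inv_apply_01, inv_apply_11]
    simp only [coe_diagAutFun, coe_diagHom, Matrix.of_apply, Matrix.cons_val', Matrix.cons_val_zero,
      Matrix.cons_val_one, Matrix.cons_val_fin_one, Units.val_mul]
    ring
  · rw [mul_apply_10, mul_apply_10, mul_apply_11, inv_apply_00, inv_apply_10]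
    simp only [coe_diagAutFun, coe_diagHom, Matrix.of_apply, Matrix.cons_val', Matrix.cons_val_zero,
      Matrix.cons_val_one, Matrix.cons_val_fin_one, Units.val_mul, mul_inv]
    ring
  · rw [mul_apply_11, mul_apply_10, mul_apply_11, inv_apply_01, inv_apply_11]
    simp only [coe_diagAutFun, coe_diagHom, Matrix.of_apply, Matrix.cons_val', Matrix.cons_val_zero,
      Matrix.cons_val_one, Matrix.cons_val_fin_one]
    linear_combination (-(x : Matrix (Fin 2) (Fin 2) F) 1 1) * he

end Cfsg.Agent.Lib.Helper41
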