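import Mathlib
import Cfsg.Agent.Lib.Helper41.PSL2Aut

set_option autoImplicit false

/-!
# Unipotent elements of `PSL₂(F)`: injectivity, conjugation formulas, generation (helper41)
-/

namespace Cfsg.Agent.Lib.Helper41

variable {F : Type*} [Field F]

/-- sign-free consequence of an equality in `PSL₂` -/
theorem mk_eq_mk_entries {A B : Matrix.SpecialLinearGroup (Fin 2) F}
    (h : (QuotientGroup.mk A : Matrix.ProjectiveSpecialLinearGroup (Fin 2) F) = QuotientGroup.mk B)
    (i j k l : Fin 2) :
    (A : Matrix (Fin 2) (Fin 2) F) i j * (A : Matrix (Fin 2) (Fin 2) F) k l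
      = (B : Matrix (Fin 2) (Fin 2) F) i j * (B : Matrix (Fin 2) (Fin 2) F) k l := by
  rcases (mk_eq_mk_iff A B).mp h with h | h
  · rw [h]
  · rw [h, Matrix.neg_apply, Matrix.neg_apply, neg_mul_neg]

theorem coe_eq_of_entries (X : Matrix.SpecialLinearGroup (Fin 2) F) (a b c d : F)
    (h00 : (X : Matrix (Fin 2) (Fin 2) F) 0 0 = a) (h01 : (X : Matrix (Fin 2) (Fin 2) F) 0 1 = b)
    (h10 : (X : Matrix (Fin 2) (Fin 2) F) 1 0 = c) (h11 : (X : Matrix (Fin 2) (Fin 2) F) 1 1 = d) :
    (X : Matrix (Fin 2) (Fin 2) F) = !![a, b; c, d] := by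
  rw [Matrix.eta_fin_two (X : Matrix (Fin 2) (Fin 2) F), h00, h01, h10, h11]

theorem mk_upperU_injective : Function.Injective
    (fun x : F => (QuotientGroup.mk (upperU x) : Matrix.ProjectiveSpecialLinearGroup (Fin 2) F)) := by
  intro x y h
  have := mk_eq_mk_entries h 0 0 0 1
  simpa [coe_upperU] using this

theorem mk_lowerU_injective : Function.Injective
    (fun x : F => (QuotientGroup.mk (lowerU x) : Matrix.ProjectiveSpecialLinearGroup (Fin 2) F)) := by
  intro x y h
  have := mk_eq_mk_entries h 1 1 1 0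
  simpa [coe_lowerU] using this

theorem eq_zero_of_mk_upperU_eq_mk_lowerU {x y : F}
    (h : (QuotientGroup.mk (upperU x) : Matrix.ProjectiveSpecialLinearGroup (Fin 2) F)
      = QuotientGroup.mk (lowerU y)) : x = 0 := by
  have := mk_eq_mk_entries h 0 0 0 1
  simpa [coe_upperU, coe_lowerU] using this

theorem upperU_add (x y : F) : upperU (x + y) = upperU x * upperU y := by
  apply sl2_ext
  · rw [mul_apply_00]; simp [coe_upperU]
  · rw [mul_apply_01]; simp [coe_upperU, add_comm]
  · rw [mul_apply_10]; simp [coe_upperU]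
  · rw [mul_apply_11]; simp [coe_upperU]

theorem upperU_zero : upperU (0 : F) = 1 := by
  apply sl2_ext <;> simp [coe_upperU]

theorem upperU_neg (x : F) : upperU (-x) = (upperU x)⁻¹ := by
  rw [eq_inv_iff_mul_eq_one, ← upperU_add, neg_add_cancel, upperU_zero]

/-- the conjugate of an upper unipotent element by an arbitrary element -/
theorem coe_conj_upperU (N : Matrix.SpecialLinearGroup (Fin 2) F) (s : F) :
    ((N * upperU s * N⁻¹ : Matrix.SpecialLinearGroup (Fin 2) F) : Matrix (Fin 2) (Fin 2) F)
      = !![1 - s * (N : Matrix (Fin 2) (Fin 2) F) 0 0 * (N : Matrix (Fin 2) (Fin 2) F) 1 0,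
            s * (N : Matrix (Fin 2) (Fin 2) F) 0 0 ^ 2;
          -(s * (N : Matrix (Fin 2) (Fin 2) F) 1 0 ^ 2),
            1 + s * (N : Matrix (Fin 2) (Fin 2) F) 0 0 * (N : Matrix (Fin 2) (Fin 2) F) 1 0] := by
  have hdet := sl2_det N
  apply coe_eq_of_entries
  · rw [mul_apply_00, mul_apply_00, mul_apply_01, inv_apply_00, inv_apply_10]
    simp only [coe_upperU, Matrix.of_apply, Matrix.cons_val', Matrix.cons_val_zero,
      Matrix.cons_val_one, Matrix.cons_val_fin_one]
    linear_combination hdet
  · rw [mul_apply_01, mul_apply_00, mul_apply_01, inv_apply_01, inv_apply_11]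
    simp only [coe_upperU, Matrix.of_apply, Matrix.cons_val', Matrix.cons_val_zero,
      Matrix.cons_val_one, Matrix.cons_val_fin_one]
    ring
  · rw [mul_apply_10, mul_apply_10, mul_apply_11, inv_apply_00, inv_apply_10]
    simp only [coe_upperU, Matrix.of_apply, Matrix.cons_val', Matrix.cons_val_zero,
      Matrix.cons_val_one, Matrix.cons_val_fin_one]
    ring
  · rw [mul_apply_11, mul_apply_10, mul_apply_11, inv_apply_01, inv_apply_11]
    simp only [coe_upperU, Matrix.of_apply, Matrix.cons_val', Matrix.cons_val_zero,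
      Matrix.cons_val_one, Matrix.cons_val_fin_one]
    linear_combination hdet

/-- conjugation by an upper triangular element -/
theorem conj_upperU_of_apply_10_eq_zero (N : Matrix.SpecialLinearGroup (Fin 2) F)
    (hN : (N : Matrix (Fin 2) (Fin 2) F) 1 0 = 0) (s : F) :
    N * upperU s * N⁻¹ = upperU (s * (N : Matrix (Fin 2) (Fin 2) F) 0 0 ^ 2) := by
  apply Subtype.ext
  rw [coe_conj_upperU, hN, coe_upperU]
  simp

/-- conjugation by an element with vanishing upper left entry -/
theorem conj_upperU_of_apply_00_eq_zero (N : Matrix.SpecialLinearGroup (Fin 2) F)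
    (hN : (N : Matrix (Fin 2) (Fin 2) F) 0 0 = 0) (s : F) :
    N * upperU s * N⁻¹ = lowerU (-(s * (N : Matrix (Fin 2) (Fin 2) F) 1 0 ^ 2)) := by
  apply Subtype.ext
  rw [coe_conj_upperU, hN, coe_lowerU]
  simp

theorem lowerU_eq_conj (y : F) : lowerU y = weylW * upperU (-y) * weylW⁻¹ := by
  rw [conj_upperU_of_apply_00_eq_zero weylW (by simp [coe_weylW])]
  simp [coe_weylW]

/-- the element `u(x) l(y) u(x)` -/
theorem coe_upper_lower_upper (x y : F) :
    ((upperU x * lowerU y * upperU x : Matrix.SpecialLinearGroup (Fin 2) F) :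
      Matrix (Fin 2) (Fin 2) F) = !![1 + x * y, x * (1 + x * y) + x; y, x * y + 1] := by
  apply coe_eq_of_entries
  · rw [mul_apply_00, mul_apply_00, mul_apply_01]
    simp only [coe_upperU, coe_lowerU, Matrix.of_apply, Matrix.cons_val', Matrix.cons_val_zero,
      Matrix.cons_val_one, Matrix.cons_val_fin_one]
    ring
  · rw [mul_apply_01, mul_apply_00, mul_apply_01]
    simp only [coe_upperU, coe_lowerU, Matrix.of_apply, Matrix.cons_val', Matrix.cons_val_zero,
      Matrix.cons_val_one, Matrix.cons_val_fin_one]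
    ring
  · rw [mul_apply_10, mul_apply_10, mul_apply_11]
    simp only [coe_upperU, coe_lowerU, Matrix.of_apply, Matrix.cons_val', Matrix.cons_val_zero,
      Matrix.cons_val_one, Matrix.cons_val_fin_one]
    ring
  · rw [mul_apply_11, mul_apply_10, mul_apply_11]
    simp only [coe_upperU, coe_lowerU, Matrix.of_apply, Matrix.cons_val', Matrix.cons_val_zero,
      Matrix.cons_val_one, Matrix.cons_val_fin_one]
    ring

/-- every element of `SL₂(F)` is a product of unipotent elements: homomorphisms agreeing on the unipotent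
elements agree -/
theorem monoidHom_ext_unipotent {H : Type*} [Group H]
    (f₁ f₂ : Matrix.SpecialLinearGroup (Fin 2) F →* H)
    (hu : ∀ x : F, f₁ (upperU x) = f₂ (upperU x)) (hl : ∀ x : F, f₁ (lowerU x) = f₂ (lowerU x)) :
    f₁ = f₂ := by
  have key : ∀ g : Matrix.SpecialLinearGroup (Fin 2) F, (g : Matrix (Fin 2) (Fin 2) F) 1 0 ≠ 0 →
      f₁ g = f₂ g := by
    intro g hc
    have hdet := sl2_det g
    have hg : g = upperU (((g : Matrix (Fin 2) (Fin 2) F) 0 0 - 1) / (g : Matrix (Fin 2) (Fin 2) F) 1 0)
        * lowerU ((g : Matrix (Fin 2) (Fin 2) F) 1 0)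
        * upperU (((g : Matrix (Fin 2) (Fin 2) F) 1 1 - 1) / (g : Matrix (Fin 2) (Fin 2) F) 1 0) := by
      apply sl2_ext
      · rw [mul_apply_00, mul_apply_00, mul_apply_01]
        simp only [coe_upperU, coe_lowerU, Matrix.of_apply, Matrix.cons_val', Matrix.cons_val_zero,
          Matrix.cons_val_one, Matrix.cons_val_fin_one]
        field_simp
        ring
      · rw [mul_apply_01, mul_apply_00, mul_apply_01]
        simp only [coe_upperU, coe_lowerU, Matrix.of_apply, Matrix.cons_val', Matrix.cons_val_zero,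
          Matrix.cons_val_one, Matrix.cons_val_fin_one]
        field_simp
        linear_combination (-(1 : F)) * hdet
      · rw [mul_apply_10, mul_apply_10, mul_apply_11]
        simp only [coe_upperU, coe_lowerU, Matrix.of_apply, Matrix.cons_val', Matrix.cons_val_zero,
          Matrix.cons_val_one, Matrix.cons_val_fin_one]
        ring
      · rw [mul_apply_11, mul_apply_10, mul_apply_11]
        simp only [coe_upperU, coe_lowerU, Matrix.of_apply, Matrix.cons_val', Matrix.cons_val_zero,
          Matrix.cons_val_one, Matrix.cons_val_fin_one]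
        field_simp
        ring
    rw [hg, map_mul, map_mul, map_mul, map_mul, hu, hl, hu]
  apply MonoidHom.ext
  intro g
  by_cases hc : (g : Matrix (Fin 2) (Fin 2) F) 1 0 = 0
  · have hdet := sl2_det g
    rw [hc, mul_zero, sub_zero] at hdet
    have ha : (g : Matrix (Fin 2) (Fin 2) F) 0 0 ≠ 0 := left_ne_zero_of_mul_eq_one hdet
    have h1 : f₁ (lowerU 1 * g) = f₂ (lowerU 1 * g) := by
      apply key
      rw [mul_apply_10]
      simp [coe_lowerU, hc, ha]
    rw [map_mul, map_mul, hl] at h1
    exact mul_left_cancel h1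
  · exact key g hc

/-- automorphisms of `PSL₂(F)` agreeing on the unipotent elements agree -/
theorem mulAut_ext_unipotent (α β : MulAut (Matrix.ProjectiveSpecialLinearGroup (Fin 2) F))
    (hu : ∀ x : F, α (QuotientGroup.mk (upperU x)) = β (QuotientGroup.mk (upperU x)))
    (hl : ∀ x : F, α (QuotientGroup.mk (lowerU x)) = β (QuotientGroup.mk (lowerU x))) : α = β := by
  have h := monoidHom_ext_unipotent
    (α.toMonoidHom.comp (QuotientGroup.mk' (Subgroup.center (Matrix.SpecialLinearGroup (Fin 2) F))))
    (β.toMonoidHom.comp (QuotientGroup.mk' (Subgroup.center (Matrix.SpecialLinearGroup (Fin 2) F))))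
    hu hl
  apply MulEquiv.ext
  intro x
  obtain ⟨x, rfl⟩ := QuotientGroup.mk_surjective x
  exact DFunLike.congr_fun h x

end Cfsg.Agent.Lib.Helper41
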