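import Mathlib

set_option autoImplicit false

/-!
# Sylow subgroups inside a self-centralising abelian subgroup (helper41)

If `A ≤ G` is abelian, `ℓ ∣ |A|`, `ℓ ∤ [G : A]` and `C_G(x) ≤ A` for every `x ∈ A` of order `ℓ`, then for
every Sylow `ℓ`-subgroup `P` of `G` there is `g` with `C_G(P) = g A g⁻¹` and `N_G(P) = g N_G(A) g⁻¹`.
-/

namespace Cfsg.Agent.Lib.Helper41

open scoped Pointwise

variable {G : Type*} [Group G]

theorem mem_conj_smul_iff (g x : G) (H : Subgroup G) :
    x ∈ MulAut.conj g • H ↔ g⁻¹ * x * g ∈ H := by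
  rw [Subgroup.mem_pointwise_smul_iff_inv_smul_mem]
  simp [MulAut.smul_def]

theorem centralizer_conj_smul (g : G) (H : Subgroup G) :
    Subgroup.centralizer ((MulAut.conj g • H : Subgroup G) : Set G)
      = MulAut.conj g • Subgroup.centralizer (H : Set G) := by
  ext x
  rw [mem_conj_smul_iff, Subgroup.mem_centralizer_iff, Subgroup.mem_centralizer_iff]
  constructor
  · intro hx h hh
    have h1 : g * h * g⁻¹ ∈ MulAut.conj g • H := by
      rw [mem_conj_smul_iff]
      have : g⁻¹ * (g * h * g⁻¹) * g = h := by group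
      rw [this]; exact hh
    have h2 := hx _ h1
    calc h * (g⁻¹ * x * g) = g⁻¹ * ((g * h * g⁻¹) * x) * g := by group
      _ = g⁻¹ * (x * (g * h * g⁻¹)) * g := by rw [h2]
      _ = g⁻¹ * x * g * h := by group
  · intro hx y hy
    rw [SetLike.mem_coe, mem_conj_smul_iff] at hy
    have h2 := hx _ hy
    calc y * x = g * ((g⁻¹ * y * g) * (g⁻¹ * x * g)) * g⁻¹ := by group
      _ = g * ((g⁻¹ * x * g) * (g⁻¹ * y * g)) * g⁻¹ := by rw [h2]
      _ = x * y := by group

theorem normalizer_conj_smul (g : G) (H : Subgroup G) :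
    Subgroup.normalizer ((MulAut.conj g • H : Subgroup G) : Set G)
      = MulAut.conj g • Subgroup.normalizer (H : Set G) := by
  ext x
  rw [mem_conj_smul_iff, Subgroup.mem_normalizer_iff, Subgroup.mem_normalizer_iff]
  constructor
  · intro hx h
    have h2 := hx (g * h * g⁻¹)
    rw [mem_conj_smul_iff, mem_conj_smul_iff] at h2
    have e1 : g⁻¹ * (g * h * g⁻¹) * g = h := by group
    have e2 : g⁻¹ * (x * (g * h * g⁻¹) * x⁻¹) * g = g⁻¹ * x * g * h * (g⁻¹ * x * g)⁻¹ := by group
    rw [e1, e2] at h2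
    exact h2
  · intro hx y
    rw [mem_conj_smul_iff, mem_conj_smul_iff]
    have h2 := hx (g⁻¹ * y * g)
    have e2 : g⁻¹ * x * g * (g⁻¹ * y * g) * (g⁻¹ * x * g)⁻¹ = g⁻¹ * (x * y * x⁻¹) * g := by group
    rw [e2] at h2
    exact h2

theorem card_conj_smul (g : G) (H : Subgroup G) :
    Nat.card (MulAut.conj g • H : Subgroup G) = Nat.card H :=
  (Nat.card_congr (Subgroup.equivSMul (MulAut.conj g) H).toEquiv).symm

theorem isCyclic_conj_smul (g : G) (H : Subgroup G) [IsCyclic H] :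
    IsCyclic (MulAut.conj g • H : Subgroup G) :=
  (Subgroup.equivSMul (MulAut.conj g) H).isCyclic.mp inferInstance


/-- Sylow subgroups in a self-centralising abelian subgroup of index prime to `ℓ` -/
theorem exists_conj_centralizer_normalizer_sylow [Finite G] (A : Subgroup G) (ℓ : ℕ)
    [Fact ℓ.Prime]
    (hA : ∀ a ∈ A, ∀ b ∈ A, a * b = b * a)
    (hℓA : ℓ ∣ Nat.card A) (hidx : ¬ ℓ ∣ A.index)
    (hC : ∀ x ∈ A, orderOf x = ℓ → Subgroup.centralizer ({x} : Set G) ≤ A)
    (P : Sylow ℓ G) :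
    ∃ g : G, Subgroup.centralizer ((P : Subgroup G) : Set G) = MulAut.conj g • A ∧
      Subgroup.normalizer ((P : Subgroup G) : Set G)
        = MulAut.conj g • Subgroup.normalizer (A : Set G) := by
  classical
  obtain ⟨Q₀⟩ := (inferInstance : Nonempty (Sylow ℓ A))
  -- `Q₀` is normal, hence the unique Sylow subgroup of `A`
  have hcommA : ∀ a b : A, a * b = b * a := fun a b => Subtype.ext (hA a a.2 b b.2)
  have hnormal : (Q₀ : Subgroup A).Normal := ⟨fun n hn g => by
    have : g * n * g⁻¹ = n := by rw [hcommA g n]; group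
    rw [this]; exact hn⟩
  have huniq : ∀ Q₁ : Sylow ℓ A, Q₁ = Q₀ := fun Q₁ =>
    (@Subsingleton.elim _ (Sylow.unique_of_normal Q₀ hnormal).instSubsingleton Q₁ Q₀)
  -- membership in `Q₀`
  have hmemQ₀ : ∀ a : A, a ∈ (Q₀ : Subgroup A) ↔ ∃ k : ℕ, a ^ (ℓ ^ k) = 1 := by
    intro a
    constructor
    · intro ha
      obtain ⟨k, hk⟩ := Q₀.isPGroup' ⟨a, ha⟩
      exact ⟨k, by simpa using congrArg Subtype.val hk⟩
    · rintro ⟨k, hk⟩
      have hp : IsPGroup ℓ (Subgroup.zpowers a) := by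
        apply IsPGroup.of_card_dvd_pow (n := k)
        rw [Nat.card_zpowers]
        exact orderOf_dvd_of_pow_eq_one hk
      obtain ⟨Q₁, hQ₁⟩ := hp.exists_le_sylow
      rw [huniq Q₁] at hQ₁
      exact hQ₁ (Subgroup.mem_zpowers a)
  set Q : Subgroup G := (Q₀ : Subgroup A).map A.subtype with hQdef
  have hQA : Q ≤ A := by
    rintro x ⟨a, _, rfl⟩
    exact a.2
  have hmemQ : ∀ x : G, x ∈ Q ↔ x ∈ A ∧ ∃ k : ℕ, x ^ (ℓ ^ k) = 1 := by
    intro x
    constructor
    · rintro ⟨a, ha, rfl⟩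
      refine ⟨a.2, ?_⟩
      obtain ⟨k, hk⟩ := (hmemQ₀ a).mp ha
      exact ⟨k, by simpa using congrArg Subtype.val hk⟩
    · rintro ⟨hxA, k, hk⟩
      refine ⟨⟨x, hxA⟩, (hmemQ₀ _).mpr ⟨k, Subtype.ext (by simpa using hk)⟩, rfl⟩
  -- `Q` is a Sylow subgroup of `G`
  have hcardQ : Nat.card Q = ℓ ^ (Nat.card G).factorization ℓ := by
    rw [hQdef, Subgroup.card_map_of_injective A.subtype_injective, Sylow.card_eq_multiplicity,
      ← A.card_mul_index, Nat.factorization_mul Nat.card_pos.ne' A.index_ne_zero_of_finite,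
      Finsupp.add_apply, Nat.factorization_eq_zero_of_not_dvd hidx, add_zero]
  obtain ⟨g, hg⟩ := MulAction.exists_smul_eq G (Sylow.ofCard Q hcardQ) P
  have hP : (P : Subgroup G) = MulAut.conj g • Q := by
    rw [← hg, Sylow.coe_subgroup_smul, Sylow.coe_ofCard]
  -- an element of order `ℓ` in `Q`
  obtain ⟨x₀, hx₀⟩ := exists_prime_orderOf_dvd_card' ℓ (Q₀.dvd_card_of_dvd_card hℓA)
  have hx₀Q : ((x₀ : A) : G) ∈ Q := ⟨(x₀ : A), x₀.2, rfl⟩
  have hx₀ord : orderOf ((x₀ : A) : G) = ℓ := by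
    rw [Subgroup.orderOf_coe, Subgroup.orderOf_coe, hx₀]
  -- centraliser
  have hCQ : Subgroup.centralizer (Q : Set G) = A := by
    apply le_antisymm
    · intro c hc
      apply hC _ (hQA hx₀Q) hx₀ord
      rw [Subgroup.mem_centralizer_iff] at hc ⊢
      intro y hy
      rw [Set.mem_singleton_iff] at hy
      rw [hy]
      exact hc _ hx₀Q
    · intro a ha
      rw [Subgroup.mem_centralizer_iff]
      intro y hy
      exact hA y (hQA hy) a ha
  -- normaliser
  have hNQ : Subgroup.normalizer (Q : Set G) = Subgroup.normalizer (A : Set G) := by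
    apply le_antisymm
    · intro n hn
      have hn' : n⁻¹ ∈ Subgroup.normalizer (Q : Set G) := Subgroup.inv_mem _ hn
      rw [Subgroup.mem_normalizer_iff] at hn hn' ⊢
      intro a
      rw [← hCQ, Subgroup.mem_centralizer_iff, Subgroup.mem_centralizer_iff]
      constructor
      · intro ha y hy
        have h1 := ha _ ((hn' y).mp hy)
        rw [inv_inv] at h1
        calc y * (n * a * n⁻¹) = n * ((n⁻¹ * y * n) * a) * n⁻¹ := by group
          _ = n * (a * (n⁻¹ * y * n)) * n⁻¹ := by rw [h1]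
          _ = n * a * n⁻¹ * y := by group
      · intro ha y hy
        have h1 := ha _ ((hn y).mp hy)
        calc y * a = n⁻¹ * ((n * y * n⁻¹) * (n * a * n⁻¹)) * n := by group
          _ = n⁻¹ * ((n * a * n⁻¹) * (n * y * n⁻¹)) * n := by rw [h1]
          _ = a * y := by group
    · intro n hn
      rw [Subgroup.mem_normalizer_iff] at hn ⊢
      intro q
      rw [hmemQ, hmemQ, ← hn q]
      apply and_congr_right
      intro _
      apply exists_congr
      intro k
      rw [conj_pow, conj_eq_one_iff]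
  refine ⟨g, ?_, ?_⟩
  · rw [hP, centralizer_conj_smul, hCQ]
  · rw [hP, normalizer_conj_smul, hNQ]

end Cfsg.Agent.Lib.Helper41
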