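import Mathlib
import Cfsg.Agent.Lib.Helper41.SylowAbelian

set_option autoImplicit false

/-!
# Sylow 2-subgroups of a group with a "dicyclic" torus normaliser (helper41)

Abstract setting modelled on `SL₂(q)`, `q` odd: `A` a cyclic self-centralising subgroup (a torus),
`N = N_G(A)` with `[N : A] = 2`, elements of `N \ A` invert `A` and square to the unique involution `z`,
`4 ∣ |A|` and `[G : A] ≡ 2 mod 4`.
-/

namespace Cfsg.Agent.Lib.Helper41

open scoped Pointwise

variable {G : Type*} [Group G]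

/-- the hypotheses on a torus `A` with central involution `z` -/
structure DicyclicTorus (A : Subgroup G) (z : G) : Prop where
  z_ne_one : z ≠ 1
  z_mul_self : z * z = 1
  z_mem : z ∈ A
  z_central : ∀ g : G, g * z = z * g
  invol : ∀ x : G, x * x = 1 → x = 1 ∨ x = z
  comm : ∀ a ∈ A, ∀ b ∈ A, a * b = b * a
  cyc : IsCyclic A
  cent : ∀ x ∈ A, x ≠ 1 → x ≠ z → Subgroup.centralizer ({x} : Set G) = A
  inv : ∀ g ∈ Subgroup.normalizer (A : Set G), g ∉ A → ∀ a ∈ A, g * a * g⁻¹ = a⁻¹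
  sq : ∀ g ∈ Subgroup.normalizer (A : Set G), g ∉ A → g * g = z
  idx : (A.subgroupOf (Subgroup.normalizer (A : Set G))).index = 2
  four_dvd : 4 ∣ Nat.card A
  index_mod : A.index % 4 = 2
  conj4 : ∀ x y : G, x * x = z → y * y = z → ∃ g : G, g * x * g⁻¹ = y

namespace DicyclicTorus

variable {A : Subgroup G} {z : G}

theorem mul_mem_iff (h : DicyclicTorus A z) {a b : G}
    (ha : a ∈ Subgroup.normalizer (A : Set G)) (hb : b ∈ Subgroup.normalizer (A : Set G)) :
    a * b ∈ A ↔ (a ∈ A ↔ b ∈ A) := by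
  have := Subgroup.mul_mem_iff_of_index_two h.idx
    (a := (⟨a, ha⟩ : Subgroup.normalizer (A : Set G))) (b := ⟨b, hb⟩)
  simpa [Subgroup.mem_subgroupOf] using this

/-- there is an element of the normaliser outside the torus -/
theorem exists_not_mem (h : DicyclicTorus A z) :
    ∃ w ∈ Subgroup.normalizer (A : Set G), w ∉ A := by
  by_contra hne
  push Not at hne
  have : A.subgroupOf (Subgroup.normalizer (A : Set G)) = ⊤ := by
    rw [eq_top_iff]
    rintro ⟨x, hx⟩ _
    exact hne x hx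
  have h2 := h.idx
  rw [this, Subgroup.index_top] at h2
  omega

/-- elements of order dividing 4 outside the torus -/
theorem inv_eq_of_not_mem (h : DicyclicTorus A z) {g : G}
    (hg : g ∈ Subgroup.normalizer (A : Set G)) (hgA : g ∉ A) : g⁻¹ = z * g := by
  have h1 := h.sq g hg hgA
  have : (z * g) * g = 1 := by rw [mul_assoc, h1, h.z_mul_self]
  exact (eq_inv_of_mul_eq_one_left this).symm

variable [Finite G]

omit [Finite G] in
/-- the index of the normaliser is odd -/
theorem index_normalizer_odd (h : DicyclicTorus A z) :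
    ¬ 2 ∣ (Subgroup.normalizer (A : Set G)).index := by
  have h1 := Subgroup.relIndex_mul_index (Subgroup.le_normalizer (H := A))
  have h2 : A.relIndex (Subgroup.normalizer (A : Set G)) = 2 := h.idx
  have h3 := h.index_mod
  rw [h2] at h1
  omega

/-- a Sylow 2-subgroup inside the normaliser of the torus, containing all 2-elements of the torus -/
theorem exists_sylow (h : DicyclicTorus A z) :
    ∃ S₁ : Sylow 2 G, (S₁ : Subgroup G) ≤ Subgroup.normalizer (A : Set G) ∧
      (∀ a ∈ A, (∃ k : ℕ, a ^ (2 ^ k) = 1) → a ∈ (S₁ : Subgroup G)) := by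
  set N := Subgroup.normalizer (A : Set G) with hN
  obtain ⟨P⟩ := (inferInstance : Nonempty (Sylow 2 N))
  have hp : IsPGroup 2 ((P : Subgroup N).map N.subtype) := P.isPGroup'.map _
  have hidx : ¬ 2 ∣ ((P : Subgroup N).map N.subtype).index := by
    rw [Subgroup.index_map_subtype]
    intro hdvd
    rcases (Nat.Prime.dvd_mul Nat.prime_two).mp hdvd with h' | h'
    · exact P.not_dvd_index h'
    · exact h.index_normalizer_odd h'
  refine ⟨hp.toSylow hidx, ?_, ?_⟩
  · rw [IsPGroup.toSylow_coe]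
    exact Subgroup.map_subtype_le _
  · rintro a ha ⟨k, hk⟩
    rw [IsPGroup.toSylow_coe]
    have haN : a ∈ N := Subgroup.le_normalizer ha
    have hpz : IsPGroup 2 (Subgroup.zpowers (⟨a, haN⟩ : N)) := by
      apply IsPGroup.of_card_dvd_pow (n := k)
      rw [Nat.card_zpowers]
      apply orderOf_dvd_of_pow_eq_one
      exact Subtype.ext (by simpa using hk)
    obtain ⟨P', hP'⟩ := hpz.exists_le_sylow
    obtain ⟨n, hn⟩ := MulAction.exists_smul_eq N P P'
    have h1 : (⟨a, haN⟩ : N) ∈ (P' : Subgroup N) := hP' (Subgroup.mem_zpowers _)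
    rw [← hn, Sylow.smul_def, Sylow.pointwise_smul_def] at h1
    have h2 : n⁻¹ * ⟨a, haN⟩ * n ∈ (P : Subgroup N) := (mem_conj_smul_iff n _ _).mp h1
    -- `n⁻¹ a n` is `a` or `a⁻¹`
    by_cases hnA : (n : G) ∈ A
    · have h3 : n⁻¹ * ⟨a, haN⟩ * n = ⟨a, haN⟩ := by
        apply Subtype.ext
        simp only [Subgroup.coe_mul, Subgroup.coe_inv]
        rw [mul_assoc, h.comm a ha n hnA, ← mul_assoc, inv_mul_cancel, one_mul]
      rw [h3] at h2
      exact ⟨⟨a, haN⟩, h2, rfl⟩
    · have hn' : (n : G)⁻¹ ∈ N := Subgroup.inv_mem _ n.2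
      have hn'A : (n : G)⁻¹ ∉ A := fun h' => hnA (by simpa using Subgroup.inv_mem _ h')
      have h3 := h.inv _ hn' hn'A a ha
      rw [inv_inv] at h3
      have h4 : n⁻¹ * ⟨a, haN⟩ * n = (⟨a, haN⟩ : N)⁻¹ := by
        apply Subtype.ext
        simp only [Subgroup.coe_mul, Subgroup.coe_inv]
        exact h3
      rw [h4] at h2
      have h5 : (⟨a, haN⟩ : N) ∈ (P : Subgroup N) := by
        simpa using Subgroup.inv_mem _ h2
      exact ⟨⟨a, haN⟩, h5, rfl⟩

/-- a Sylow 2-subgroup of the normaliser is not inside the torus -/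
theorem exists_mem_sylow_not_mem (h : DicyclicTorus A z) (S₁ : Sylow 2 G) :
    ∃ w ∈ (S₁ : Subgroup G), w ∉ A := by
  by_contra hne
  push Not at hne
  have hle : (S₁ : Subgroup G) ≤ A := hne
  have h1 := Subgroup.relIndex_mul_index hle
  have h2 := h.index_mod
  have h3 : 2 ∣ (S₁ : Subgroup G).index := by
    rw [← h1]
    exact Dvd.dvd.mul_left (by omega) _
  exact S₁.not_dvd_index h3

/-- an element of order 4 in the torus -/
theorem exists_sq_eq (h : DicyclicTorus A z) : ∃ i ∈ A, i * i = z := by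
  have := h.cyc
  obtain ⟨a₀, ha₀⟩ := IsCyclic.exists_generator (α := A)
  have hord : orderOf a₀ = Nat.card A := orderOf_eq_card_of_forall_mem_zpowers ha₀
  obtain ⟨m, hm⟩ := h.four_dvd
  have hmpos : m ≠ 0 := by
    rintro rfl
    rw [mul_zero] at hm
    exact Nat.card_pos.ne' hm
  have hord4 : orderOf (a₀ ^ m) = 4 := by
    rw [orderOf_pow_of_dvd hmpos (by rw [hord, hm]; exact Dvd.intro_left 4 rfl), hord, hm]
    exact Nat.mul_div_cancel _ (Nat.pos_of_ne_zero hmpos)
  set i : G := ((a₀ ^ m : A) : G) with hi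
  have hordi : orderOf i = 4 := by rw [hi, Subgroup.orderOf_coe, hord4]
  refine ⟨i, (a₀ ^ m).2, ?_⟩
  have h4 : i ^ 4 = 1 := by rw [← hordi]; exact pow_orderOf_eq_one i
  have h5 : (i * i) * (i * i) = 1 := by
    calc (i * i) * (i * i) = i ^ 4 := by
          rw [show (4 : ℕ) = 2 + 2 from rfl, pow_add, pow_two]
      _ = 1 := h4
  rcases h.invol _ h5 with h6 | h6
  · exfalso
    have : orderOf i ∣ 2 := orderOf_dvd_of_pow_eq_one (by rw [pow_two]; exact h6)
    rw [hordi] at this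
    omega
  · exact h6

/-- the properties of the Sylow subgroup produced by `exists_sylow` -/
structure GoodSylow (A : Subgroup G) (S₁ : Sylow 2 G) : Prop where
  le : (S₁ : Subgroup G) ≤ Subgroup.normalizer (A : Set G)
  mem : ∀ a ∈ A, (∃ k : ℕ, a ^ (2 ^ k) = 1) → a ∈ (S₁ : Subgroup G)

theorem exists_goodSylow (h : DicyclicTorus A z) : ∃ S₁ : Sylow 2 G, GoodSylow A S₁ := by
  obtain ⟨S₁, h1, h2⟩ := h.exists_sylow
  exact ⟨S₁, ⟨h1, h2⟩⟩

/-- the element of order 4 lies in the good Sylow subgroup -/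
theorem exists_sq_eq_mem (h : DicyclicTorus A z) {S₁ : Sylow 2 G} (hS : GoodSylow A S₁) :
    ∃ i ∈ A, i * i = z ∧ i ∈ (S₁ : Subgroup G) ∧ i ≠ 1 ∧ i ≠ z := by
  obtain ⟨i, hiA, hi⟩ := h.exists_sq_eq
  refine ⟨i, hiA, hi, hS.mem i hiA ⟨2, ?_⟩, ?_, ?_⟩
  · calc i ^ (2 ^ 2) = (i * i) * (i * i) := by
          rw [show (2 : ℕ) ^ 2 = 2 + 2 from rfl, pow_add, pow_two]
      _ = 1 := by rw [hi, h.z_mul_self]
  · rintro rfl
    rw [mul_one] at hi
    exact h.z_ne_one hi.symm
  · rintro rfl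
    rw [h.z_mul_self] at hi
    exact h.z_ne_one hi.symm

theorem centralizer_goodSylow (h : DicyclicTorus A z) {S₁ : Sylow 2 G} (hS : GoodSylow A S₁)
    (c : G) : c ∈ Subgroup.centralizer ((S₁ : Subgroup G) : Set G) ↔ c = 1 ∨ c = z := by
  constructor
  · intro hc
    rw [Subgroup.mem_centralizer_iff] at hc
    obtain ⟨i, hiA, hi, hiS, hi1, hiz⟩ := h.exists_sq_eq_mem hS
    obtain ⟨w, hwS, hwA⟩ := h.exists_mem_sylow_not_mem S₁
    have hcA : c ∈ A := by
      rw [← h.cent i hiA hi1 hiz, Subgroup.mem_centralizer_iff]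
      intro y hy
      rw [Set.mem_singleton_iff] at hy
      rw [hy]
      exact hc i hiS
    have h1 := h.inv w (hS.le hwS) hwA c hcA
    have h2 := hc w hwS
    have h3 : c = c⁻¹ := by
      calc c = w * c * w⁻¹ := by rw [h2]; group
        _ = c⁻¹ := h1
    apply h.invol
    calc c * c = c * c⁻¹ := by rw [← h3]
      _ = 1 := mul_inv_cancel c
  · rintro (rfl | rfl)
    · exact Subgroup.one_mem _
    · rw [Subgroup.mem_centralizer_iff]
      intro y _
      exact h.z_central y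

omit [Finite G] in
/-- elements of a Sylow 2-subgroup are 2-elements -/
theorem pow_eq_one_of_mem_sylow (S₁ : Sylow 2 G) {y : G} (hy : y ∈ (S₁ : Subgroup G)) :
    ∃ k : ℕ, y ^ (2 ^ k) = 1 := by
  obtain ⟨k, hk⟩ := S₁.isPGroup' ⟨y, hy⟩
  exact ⟨k, by simpa using congrArg Subtype.val hk⟩

theorem normalizer_inf_le (h : DicyclicTorus A z) {S₁ : Sylow 2 G} (hS : GoodSylow A S₁)
    {g : G} (hgS : g ∈ Subgroup.normalizer ((S₁ : Subgroup G) : Set G))
    (hgN : g ∈ Subgroup.normalizer (A : Set G)) : g ∈ (S₁ : Subgroup G) := by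
  obtain ⟨w, hwS, hwA⟩ := h.exists_mem_sylow_not_mem S₁
  have hwN := hS.le hwS
  -- first for `g ∈ A`
  have key : ∀ g : G, g ∈ Subgroup.normalizer ((S₁ : Subgroup G) : Set G) → g ∈ A →
      g ∈ (S₁ : Subgroup G) := by
    intro g hgS hgA
    have h1 : g * w * g⁻¹ ∈ (S₁ : Subgroup G) := (Subgroup.mem_normalizer_iff.mp hgS w).mp hwS
    have h2 : g * w * g⁻¹ * w⁻¹ ∈ (S₁ : Subgroup G) :=
      Subgroup.mul_mem _ h1 (Subgroup.inv_mem _ hwS)
    have h3 := h.inv w hwN hwA g⁻¹ (Subgroup.inv_mem _ hgA)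
    rw [inv_inv] at h3
    have h4 : g * w * g⁻¹ * w⁻¹ = g * g := by
      calc g * w * g⁻¹ * w⁻¹ = g * (w * g⁻¹ * w⁻¹) := by group
        _ = g * g := by rw [h3]
    rw [h4] at h2
    obtain ⟨k, hk⟩ := pow_eq_one_of_mem_sylow S₁ h2
    apply hS.mem g hgA ⟨k + 1, ?_⟩
    rw [pow_succ, pow_mul', pow_two]
    exact hk
  by_cases hgA : g ∈ A
  · exact key g hgS hgA
  · have hw' : w⁻¹ ∈ Subgroup.normalizer (A : Set G) := Subgroup.inv_mem _ hwN
    have hw'A : w⁻¹ ∉ A := fun h' => hwA (by simpa using Subgroup.inv_mem _ h')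
    have h1 : g * w⁻¹ ∈ A := (h.mul_mem_iff hgN hw').mpr
      ⟨fun h' => absurd h' hgA, fun h' => absurd h' hw'A⟩
    have h2 : g * w⁻¹ ∈ Subgroup.normalizer ((S₁ : Subgroup G) : Set G) :=
      Subgroup.mul_mem _ hgS (Subgroup.le_normalizer (Subgroup.inv_mem _ hwS))
    have h3 := key _ h2 h1
    have : g = g * w⁻¹ * w := by group
    rw [this]
    exact Subgroup.mul_mem _ h3 hwS

/-- if `8 ∣ |A|`, the good Sylow subgroup is self-normalising -/
theorem normalizer_goodSylow_of_eight_dvd (h : DicyclicTorus A z) {S₁ : Sylow 2 G}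
    (hS : GoodSylow A S₁) (h8 : 8 ∣ Nat.card A) :
    Subgroup.normalizer ((S₁ : Subgroup G) : Set G) = (S₁ : Subgroup G) := by
  apply le_antisymm _ Subgroup.le_normalizer
  intro g hg
  apply h.normalizer_inf_le hS hg
  -- an element of order 8 in `A`
  have := h.cyc
  obtain ⟨a₀, ha₀⟩ := IsCyclic.exists_generator (α := A)
  have hord : orderOf a₀ = Nat.card A := orderOf_eq_card_of_forall_mem_zpowers ha₀
  obtain ⟨m, hm⟩ := h8
  have hmpos : m ≠ 0 := by
    rintro rfl
    rw [mul_zero] at hm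
    exact Nat.card_pos.ne' hm
  have hord8 : orderOf (a₀ ^ m) = 8 := by
    rw [orderOf_pow_of_dvd hmpos (by rw [hord, hm]; exact Dvd.intro_left 8 rfl), hord, hm]
    exact Nat.mul_div_cancel _ (Nat.pos_of_ne_zero hmpos)
  set s : G := ((a₀ ^ m : A) : G) with hs
  have hsA : s ∈ A := (a₀ ^ m).2
  have hords : orderOf s = 8 := by rw [hs, Subgroup.orderOf_coe, hord8]
  have hsS : s ∈ (S₁ : Subgroup G) := hS.mem s hsA ⟨3, by
    rw [show (2 : ℕ) ^ 3 = 8 from rfl, ← hords]; exact pow_orderOf_eq_one s⟩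
  have hs1 : s ≠ 1 := by
    intro h'
    rw [h', orderOf_one] at hords
    omega
  have hsz : s ≠ z := by
    intro h'
    have : orderOf s ∣ 2 := orderOf_dvd_of_pow_eq_one (by rw [pow_two, h']; exact h.z_mul_self)
    rw [hords] at this
    omega
  -- the conjugate of `s` lies in `A`
  have hyS : g * s * g⁻¹ ∈ (S₁ : Subgroup G) := (Subgroup.mem_normalizer_iff.mp hg s).mp hsS
  have hyA : g * s * g⁻¹ ∈ A := by
    by_contra hyA
    have h1 := h.sq _ (hS.le hyS) hyA
    have h2 : g * (s * s) * g⁻¹ = z := by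
      rw [← h1]; group
    have h3 : s * s = z := by
      have : s * s = g⁻¹ * (g * (s * s) * g⁻¹) * g := by group
      rw [this, h2, mul_assoc, ← h.z_central g, ← mul_assoc, inv_mul_cancel, one_mul]
    have : orderOf s ∣ 4 := orderOf_dvd_of_pow_eq_one (by
      rw [show (4 : ℕ) = 2 + 2 from rfl, pow_add, pow_two, h3]; exact h.z_mul_self)
    rw [hords] at this
    omega
  have hy1 : g * s * g⁻¹ ≠ 1 := by
    intro h'
    exact hs1 (conj_eq_one_iff.mp h')
  have hyz : g * s * g⁻¹ ≠ z := by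
    intro h'
    apply hsz
    have : s = g⁻¹ * (g * s * g⁻¹) * g := by group
    rw [this, h', mul_assoc, ← h.z_central g, ← mul_assoc, inv_mul_cancel, one_mul]
  have hCs := h.cent s hsA hs1 hsz
  have hCy := h.cent _ hyA hy1 hyz
  rw [Subgroup.mem_normalizer_iff]
  intro a
  have e1 : a ∈ A ↔ a ∈ Subgroup.centralizer ({s} : Set G) := by rw [hCs]
  have e2 : g * a * g⁻¹ ∈ A ↔ g * a * g⁻¹ ∈ Subgroup.centralizer ({g * s * g⁻¹} : Set G) := by
    rw [hCy]
  show a ∈ A ↔ g * a * g⁻¹ ∈ A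
  rw [e1, e2, Subgroup.mem_centralizer_iff, Subgroup.mem_centralizer_iff]
  constructor
  · intro ha y hy
    rw [Set.mem_singleton_iff] at hy
    have h1 := ha s (Set.mem_singleton s)
    rw [hy]
    calc g * s * g⁻¹ * (g * a * g⁻¹) = g * (s * a) * g⁻¹ := by group
      _ = g * (a * s) * g⁻¹ := by rw [h1]
      _ = g * a * g⁻¹ * (g * s * g⁻¹) := by group
  · intro ha y hy
    rw [Set.mem_singleton_iff] at hy
    have h1 := ha _ (Set.mem_singleton _)
    rw [hy]
    calc s * a = g⁻¹ * ((g * s * g⁻¹) * (g * a * g⁻¹)) * g := by group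
      _ = g⁻¹ * ((g * a * g⁻¹) * (g * s * g⁻¹)) * g := by rw [h1]
      _ = a * s := by group

end DicyclicTorus

end Cfsg.Agent.Lib.Helper41
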