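import Mathlib
import Cfsg.Agent.Lib.Helper41.DicyclicSylow

set_option autoImplicit false

/-!
# Redundant Sylow subgroups (helper41)

A Sylow `p`-subgroup `Q` is *redundant* when every `p`-element lies in a Sylow `p`-subgroup other than `Q`.
General lemmas (conjugation invariance, cyclic Sylow subgroups are never redundant, transfer along a central
quotient) and the two abstract results for a group with a dicyclic torus normaliser.
-/

namespace Cfsg.Agent.Lib.Helper41

open scoped Pointwise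

variable {G : Type*} [Group G]

/-- `Q` is a redundant Sylow `p`-subgroup: every `p`-element lies in another Sylow `p`-subgroup -/
def IsRedundantSylow {p : ℕ} (Q : Sylow p G) : Prop :=
  ∀ x : G, (∃ k : ℕ, orderOf x = p ^ k) → ∃ P : Sylow p G, P ≠ Q ∧ x ∈ P

theorem mem_sylow_smul_iff {p : ℕ} (c x : G) (P : Sylow p G) :
    x ∈ c • P ↔ c⁻¹ * x * c ∈ P := by
  show x ∈ ((c • P : Sylow p G) : Subgroup G) ↔ c⁻¹ * x * c ∈ (P : Subgroup G)
  rw [Sylow.smul_def, Sylow.pointwise_smul_def, mem_conj_smul_iff]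

theorem orderOf_conj_eq (c x : G) : orderOf (c * x * c⁻¹) = orderOf x :=
  (MulAut.conj c).orderOf_eq x

theorem IsRedundantSylow.smul {p : ℕ} {Q : Sylow p G} (h : IsRedundantSylow Q) (c : G) :
    IsRedundantSylow (c • Q) := by
  intro x hx
  have hx' : ∃ k : ℕ, orderOf (c⁻¹ * x * c) = p ^ k := by
    obtain ⟨k, hk⟩ := hx
    refine ⟨k, ?_⟩
    rw [← hk]
    have := orderOf_conj_eq c⁻¹ x
    rwa [inv_inv] at this
  obtain ⟨P, hPQ, hxP⟩ := h _ hx'
  refine ⟨c • P, ?_, ?_⟩
  · intro heq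
    exact hPQ (MulAction.injective c heq)
  · rw [mem_sylow_smul_iff]
    exact hxP

theorem IsRedundantSylow.all [Finite G] {p : ℕ} [Fact p.Prime] {Q : Sylow p G}
    (h : IsRedundantSylow Q) (Q' : Sylow p G) : IsRedundantSylow Q' := by
  obtain ⟨c, rfl⟩ := MulAction.exists_smul_eq G Q Q'
  exact h.smul c

theorem not_isRedundantSylow_of_unique [Finite G] {p : ℕ} [Fact p.Prime] {Q₀ : Sylow p G} {x : G}
    (hx : ∃ k : ℕ, orderOf x = p ^ k) (huniq : ∀ P : Sylow p G, x ∈ P → P = Q₀) (Q : Sylow p G) :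
    ¬ IsRedundantSylow Q := by
  intro h
  obtain ⟨P, hP, hxP⟩ := h.all Q₀ x hx
  exact hP (huniq P hxP)

/-- if some element has order divisible by the full `p`-part of `|G|`, no Sylow `p`-subgroup is redundant -/
theorem not_isRedundantSylow_of_dvd_orderOf [Finite G] {p : ℕ} [Fact p.Prime] (g : G)
    (hg : p ^ (Nat.card G).factorization p ∣ orderOf g) (Q : Sylow p G) : ¬ IsRedundantSylow Q := by
  set n := (Nat.card G).factorization p with hn
  obtain ⟨m, hm⟩ := hg
  have hpos : 0 < orderOf g := orderOf_pos g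
  have hm0 : m ≠ 0 := by
    rintro rfl
    rw [mul_zero] at hm
    omega
  set h := g ^ m with hh
  have hord : orderOf h = p ^ n := by
    rw [hh, orderOf_pow_of_dvd hm0 (Dvd.intro_left _ hm.symm), hm]
    exact Nat.mul_div_cancel _ (Nat.pos_of_ne_zero hm0)
  have hpz : IsPGroup p (Subgroup.zpowers h) :=
    IsPGroup.of_card (n := n) (by rw [Nat.card_zpowers, hord])
  obtain ⟨Q₀, hQ₀⟩ := hpz.exists_le_sylow
  have hcard : Nat.card (Q₀ : Subgroup G) = p ^ n := Q₀.card_eq_multiplicity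
  have heq : Subgroup.zpowers h = (Q₀ : Subgroup G) :=
    Subgroup.eq_of_le_of_card_ge hQ₀ (by rw [hcard, Nat.card_zpowers, hord])
  apply not_isRedundantSylow_of_unique (Q₀ := Q₀) (x := h) ⟨n, hord⟩ _ Q
  intro P hP
  have hle : (Q₀ : Subgroup G) ≤ (P : Subgroup G) := by
    rw [← heq]
    exact (Subgroup.zpowers_le).mpr hP
  symm
  apply Sylow.ext
  exact Subgroup.eq_of_le_of_card_ge hle (by rw [P.card_eq_multiplicity, hcard])

namespace DicyclicTorus

variable {A : Subgroup G} {z : G}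

/-- if the torus is a 2-group, then no Sylow 2-subgroup is redundant -/
theorem not_isRedundantSylow [Finite G] (h : DicyclicTorus A z) {k : ℕ}
    (hk : Nat.card A = 2 ^ k) (Q : Sylow 2 G) : ¬ IsRedundantSylow Q := by
  set N := Subgroup.normalizer (A : Set G) with hN
  have hAN : A ≤ N := Subgroup.le_normalizer
  have hcardN : Nat.card N = 2 ^ (k + 1) := by
    have h1 := Subgroup.card_mul_index (A.subgroupOf N)
    rw [h.idx, Nat.card_congr (Subgroup.subgroupOfEquivOfLe hAN).toEquiv, hk] at h1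
    rw [← h1, pow_succ]
  have hpN : IsPGroup 2 N := IsPGroup.of_card hcardN
  have hS : ((hpN.toSylow h.index_normalizer_odd : Sylow 2 G) : Subgroup G) = N :=
    IsPGroup.toSylow_coe _ _
  set S : Sylow 2 G := hpN.toSylow h.index_normalizer_odd with hSdef
  have := h.cyc
  obtain ⟨a₀, ha₀⟩ := IsCyclic.exists_generator (α := A)
  have hord : orderOf a₀ = Nat.card A := orderOf_eq_card_of_forall_mem_zpowers ha₀
  have horda : orderOf (a₀ : G) = 2 ^ k := by rw [Subgroup.orderOf_coe, hord, hk]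
  have hzp : Subgroup.zpowers (a₀ : G) = A :=
    Subgroup.eq_of_le_of_card_ge ((Subgroup.zpowers_le).mpr a₀.2)
      (by rw [Nat.card_zpowers, horda, hk])
  apply not_isRedundantSylow_of_unique (Q₀ := S) (x := (a₀ : G)) ⟨k, horda⟩ _ Q
  intro P hP
  have hAP : A ≤ (P : Subgroup G) := by
    rw [← hzp]
    exact (Subgroup.zpowers_le).mpr hP
  have hcardP : Nat.card (P : Subgroup G) = 2 ^ (k + 1) := by
    rw [P.card_eq_multiplicity, ← S.card_eq_multiplicity, hS, hcardN]
  have hidx : (A.subgroupOf (P : Subgroup G)).index = 2 := by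
    have h1 := Subgroup.card_mul_index (A.subgroupOf (P : Subgroup G))
    rw [Nat.card_congr (Subgroup.subgroupOfEquivOfLe hAP).toEquiv, hk, hcardP, pow_succ] at h1
    exact Nat.eq_of_mul_eq_mul_left (by positivity) h1
  have hnorm : (A.subgroupOf (P : Subgroup G)).Normal := Subgroup.normal_of_index_eq_two hidx
  have hle : (P : Subgroup G) ≤ N := (Subgroup.normal_subgroupOf_iff_le_normalizer hAP).mp hnorm
  apply Sylow.ext
  rw [hS]
  exact Subgroup.eq_of_le_of_card_ge hle (by rw [hcardN, hcardP])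

/-- if the torus is not a 2-group, then every Sylow 2-subgroup is redundant -/
theorem isRedundantSylow [Finite G] (h : DicyclicTorus A z)
    (hk : ¬ ∃ k : ℕ, Nat.card A = 2 ^ k) (Q : Sylow 2 G) : IsRedundantSylow Q := by
  obtain ⟨r, hr, hrdvd, hrodd⟩ :=
    (Nat.eq_two_pow_or_exists_odd_prime_and_dvd (Nat.card A)).resolve_left hk
  have := Fact.mk hr
  obtain ⟨t₀, ht₀⟩ := exists_prime_orderOf_dvd_card' (G := A) r hrdvd
  have htA : (t₀ : G) ∈ A := t₀.2
  have hordt : orderOf (t₀ : G) = r := by rw [Subgroup.orderOf_coe]; exact ht₀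
  set t : G := (t₀ : G) with ht
  obtain ⟨S₁, hS⟩ := h.exists_goodSylow
  have hne : t • S₁ ≠ S₁ := by
    intro heq
    have htN : t ∈ Subgroup.normalizer ((S₁ : Subgroup G) : Set G) :=
      Sylow.smul_eq_iff_mem_normalizer.mp heq
    have htS := h.normalizer_inf_le hS htN (Subgroup.le_normalizer htA)
    obtain ⟨j, hj⟩ := pow_eq_one_of_mem_sylow S₁ htS
    have h1 : r ∣ 2 ^ j := by rw [← hordt]; exact orderOf_dvd_of_pow_eq_one hj
    have h2 := (Nat.prime_dvd_prime_iff_eq hr Nat.prime_two).mp (hr.dvd_of_dvd_pow h1)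
    rw [h2] at hrodd
    exact absurd hrodd (by decide)
  intro x hx
  have key : ∃ d : G, ∃ a ∈ A, a ∈ (S₁ : Subgroup G) ∧ x = d * a * d⁻¹ := by
    obtain ⟨k, hk⟩ := hx
    have hpz : IsPGroup 2 (Subgroup.zpowers x) :=
      IsPGroup.of_card (n := k) (by rw [Nat.card_zpowers, hk])
    obtain ⟨P', hP'⟩ := hpz.exists_le_sylow
    obtain ⟨c, hc⟩ := MulAction.exists_smul_eq G S₁ P'
    have hxP' : x ∈ P' := hP' (Subgroup.mem_zpowers x)
    rw [← hc, mem_sylow_smul_iff] at hxP'
    by_cases hyA : c⁻¹ * x * c ∈ A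
    · exact ⟨c, c⁻¹ * x * c, hyA, hxP', by group⟩
    · have hysq := h.sq _ (hS.le hxP') hyA
      obtain ⟨i, hiA, hi, hiS, -, -⟩ := h.exists_sq_eq_mem hS
      obtain ⟨g, hg⟩ := h.conj4 i _ hi hysq
      refine ⟨c * g, i, hiA, hiS, ?_⟩
      have h1 : x = c * (c⁻¹ * x * c) * c⁻¹ := by group
      rw [h1, ← hg]
      group
  obtain ⟨d, a, haA, haS, rfl⟩ := key
  by_cases hQ : d • S₁ = Q
  · refine ⟨(d * t) • S₁, ?_, ?_⟩
    · rw [← hQ, mul_smul]
      intro heq
      exact hne (MulAction.injective d heq)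
    · rw [mem_sylow_smul_iff]
      have h1 : (d * t)⁻¹ * (d * a * d⁻¹) * (d * t) = t⁻¹ * a * t := by group
      have h2 : t⁻¹ * a * t = a := by
        rw [mul_assoc, h.comm a haA t htA, ← mul_assoc, inv_mul_cancel, one_mul]
      rw [h1, h2]
      exact haS
  · refine ⟨d • S₁, hQ, ?_⟩
    rw [mem_sylow_smul_iff]
    have h1 : d⁻¹ * (d * a * d⁻¹) * d = a := by group
    rw [h1]
    exact haS

end DicyclicTorus

end Cfsg.Agent.Lib.Helper41
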