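import Mathlib
import Cfsg.Agent.Lib.Helper41.PSL2AutElem
import Cfsg.Agent.Lib.Helper41.RedundantSylow
import Cfsg.Agent.Lib.Helper5.PSL2Small

set_option autoImplicit false

/-!
# The unipotent Sylow subgroup of `PSL₂(F)` and its images under automorphisms (helper41)
-/

namespace Cfsg.Agent.Lib.Helper41

open scoped Pointwise

variable {F : Type*} [Field F]

/-- the image of the upper unipotent subgroup in `PSL₂(F)` -/
def upperBar (F : Type*) [Field F] : Subgroup (Matrix.ProjectiveSpecialLinearGroup (Fin 2) F) where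
  carrier := {y | ∃ x : F, y = QuotientGroup.mk (upperU x)}
  one_mem' := ⟨0, by rw [upperU_zero]; rfl⟩
  mul_mem' := by
    rintro _ _ ⟨x, rfl⟩ ⟨y, rfl⟩
    exact ⟨x + y, by rw [upperU_add]; rfl⟩
  inv_mem' := by
    rintro _ ⟨x, rfl⟩
    exact ⟨-x, by rw [upperU_neg]; rfl⟩

theorem mem_upperBar {y : Matrix.ProjectiveSpecialLinearGroup (Fin 2) F} :
    y ∈ upperBar F ↔ ∃ x : F, y = QuotientGroup.mk (upperU x) := Iff.rfl

theorem upperU_pow (x : F) (n : ℕ) : upperU x ^ n = upperU (n * x) := by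
  induction n with
  | zero => rw [pow_zero, Nat.cast_zero, zero_mul, upperU_zero]
  | succ k ih => rw [pow_succ, ih, ← upperU_add, Nat.cast_succ, add_mul, one_mul]

theorem isPGroup_upperBar (p : ℕ) [Fact p.Prime] [CharP F p] : IsPGroup p (upperBar F) := by
  rintro ⟨y, x, rfl⟩
  refine ⟨1, ?_⟩
  apply Subtype.ext
  rw [pow_one]
  show (QuotientGroup.mk (upperU x) : Matrix.ProjectiveSpecialLinearGroup (Fin 2) F) ^ p = 1
  rw [← QuotientGroup.mk_pow, upperU_pow, CharP.cast_eq_zero, zero_mul, upperU_zero]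
  rfl

theorem card_upperBar [Fintype F] : Nat.card (upperBar F) = Fintype.card F := by
  rw [← Nat.card_eq_fintype_card]
  symm
  apply Nat.card_eq_of_bijective
    (fun x : F => (⟨QuotientGroup.mk (upperU x), x, rfl⟩ : upperBar F))
  constructor
  · intro x y h
    exact mk_upperU_injective (congrArg Subtype.val h)
  · rintro ⟨y, x, rfl⟩
    exact ⟨x, rfl⟩

theorem not_dvd_index_upperBar [Fintype F] (p : ℕ) [Fact p.Prime] [CharP F p] :
    ¬ p ∣ (upperBar F).index := by
  intro hdvd
  have hp := (Fact.out : p.Prime)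
  have h1 := (upperBar F).card_mul_index
  rw [card_upperBar] at h1
  have h2 := Cfsg.Agent.Lib.Helper5.card_PSL2_mul (F := F)
  rw [← h1] at h2
  have hq : 0 < Fintype.card F := Fintype.card_pos
  have h3 : (upperBar F).index * Nat.card (Subgroup.center (Matrix.SpecialLinearGroup (Fin 2) F))
      = Fintype.card F ^ 2 - 1 := by
    apply Nat.eq_of_mul_eq_mul_left hq
    rw [← h2]; ring
  have h4 : p ∣ Fintype.card F ^ 2 - 1 := by
    rw [← h3]
    exact Dvd.dvd.mul_right hdvd _
  have h5 : p ∣ Fintype.card F := by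
    obtain ⟨n, -, hn⟩ := FiniteField.card F p
    rw [hn]
    exact dvd_pow_self p n.ne_zero
  have h6 : p ∣ Fintype.card F ^ 2 := Dvd.dvd.mul_right h5 _ |>.trans (by rw [pow_two])
  have h7 : 1 ≤ Fintype.card F ^ 2 := Nat.one_le_pow _ _ hq
  have h8 : p ∣ 1 := by
    have := (Nat.dvd_sub h6 h4)
    rwa [Nat.sub_sub_self h7] at this
  exact hp.one_lt.ne' (Nat.dvd_one.mp h8)

/-- any automorphism maps the unipotent Sylow subgroup to a conjugate of it -/
theorem exists_conj_upperBar [Fintype F] (p : ℕ) [Fact p.Prime] [CharP F p]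
    (α : MulAut (Matrix.ProjectiveSpecialLinearGroup (Fin 2) F)) :
    ∃ g : Matrix.ProjectiveSpecialLinearGroup (Fin 2) F, ∀ y ∈ upperBar F,
      g⁻¹ * α y * g ∈ upperBar F := by
  have hP : IsPGroup p (upperBar F) := isPGroup_upperBar p
  have hidx := not_dvd_index_upperBar (F := F) p
  set P : Sylow p (Matrix.ProjectiveSpecialLinearGroup (Fin 2) F) := hP.toSylow hidx with hPdef
  have hPcoe : (P : Subgroup (Matrix.ProjectiveSpecialLinearGroup (Fin 2) F)) = upperBar F :=
    IsPGroup.toSylow_coe _ _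
  obtain ⟨g, hg⟩ := MulAction.exists_smul_eq (Matrix.ProjectiveSpecialLinearGroup (Fin 2) F) P (α • P)
  refine ⟨g, fun y hy => ?_⟩
  have h1 : α y ∈ (α • P : Sylow p (Matrix.ProjectiveSpecialLinearGroup (Fin 2) F)) := by
    show α y ∈ ((α • P : Sylow p (Matrix.ProjectiveSpecialLinearGroup (Fin 2) F)) :
      Subgroup (Matrix.ProjectiveSpecialLinearGroup (Fin 2) F))
    rw [Sylow.pointwise_smul_def, hPcoe]
    exact Subgroup.smul_mem_pointwise_smul y α _ hy
  rw [← hg, mem_sylow_smul_iff] at h1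
  rw [← hPcoe]
  exact h1

end Cfsg.Agent.Lib.Helper41
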