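import Mathlib
import Cfsg.Agent.Lib.Helper41.PSL2AutSylow
import Cfsg.Agent.Lib.Helper41.HuaField

set_option autoImplicit false

/-!
# Every automorphism of `PSL₂(F)` is inner · diagonal · field (helper41)
-/

namespace Cfsg.Agent.Lib.Helper41

variable {F : Type*} [Field F]

/-- `α` maps the unipotent element `u(x)` to `u(a x)` -/
def MapsUpper (α : MulAut (Matrix.ProjectiveSpecialLinearGroup (Fin 2) F)) (a : F → F) : Prop :=
  ∀ x : F, α (QuotientGroup.mk (upperU x)) = QuotientGroup.mk (upperU (a x))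

namespace MapsUpper

variable {α : MulAut (Matrix.ProjectiveSpecialLinearGroup (Fin 2) F)} {a : F → F}

theorem add (h : MapsUpper α a) (x y : F) : a (x + y) = a x + a y := by
  apply mk_upperU_injective
  show (QuotientGroup.mk (upperU (a (x + y))) : Matrix.ProjectiveSpecialLinearGroup (Fin 2) F)
    = QuotientGroup.mk (upperU (a x + a y))
  rw [← h, upperU_add, QuotientGroup.mk_mul, map_mul, h, h, upperU_add, QuotientGroup.mk_mul]

theorem injective (h : MapsUpper α a) : Function.Injective a := by
  intro x y hxy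
  apply mk_upperU_injective
  apply α.injective
  show α (QuotientGroup.mk (upperU x)) = α (QuotientGroup.mk (upperU y))
  rw [h, h, hxy]

theorem zero (h : MapsUpper α a) : a 0 = 0 := by
  have := h.add 0 0
  rw [add_zero] at this
  exact left_eq_add.mp this

theorem neg (h : MapsUpper α a) (x : F) : a (-x) = -a x := by
  have := h.add x (-x)
  rw [add_neg_cancel, h.zero] at this
  exact (neg_eq_of_add_eq_zero_right this.symm).symm

theorem ne_zero (h : MapsUpper α a) {x : F} (hx : x ≠ 0) : a x ≠ 0 := by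
  intro h0
  apply hx
  apply h.injective
  rw [h0, h.zero]

end MapsUpper

/-- step 1: after an inner automorphism, `α` preserves the upper unipotent subgroup -/
theorem exists_mapsUpper [Fintype F] (p : ℕ) [Fact p.Prime] [CharP F p]
    (α : MulAut (Matrix.ProjectiveSpecialLinearGroup (Fin 2) F)) :
    ∃ g : Matrix.SpecialLinearGroup (Fin 2) F, ∃ a : F → F,
      MapsUpper ((MulAut.conj (QuotientGroup.mk g :
        Matrix.ProjectiveSpecialLinearGroup (Fin 2) F))⁻¹ * α) a := by
  obtain ⟨gb, hgb⟩ := exists_conj_upperBar p α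
  obtain ⟨g, rfl⟩ := QuotientGroup.mk_surjective gb
  have h1 : ∀ x : F, ∃ x' : F,
      ((MulAut.conj (QuotientGroup.mk g : Matrix.ProjectiveSpecialLinearGroup (Fin 2) F))⁻¹ * α)
        (QuotientGroup.mk (upperU x)) = QuotientGroup.mk (upperU x') := by
    intro x
    obtain ⟨x', hx'⟩ := hgb (QuotientGroup.mk (upperU x)) ⟨x, rfl⟩
    refine ⟨x', ?_⟩
    rw [MulAut.mul_apply, ← map_inv, MulAut.conj_apply, inv_inv]
    exact hx'
  choose a ha using h1
  exact ⟨g, a, ha⟩

/-- step 2: after a further inner automorphism by an upper unipotent element, `α` also preserves the lower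
unipotent subgroup -/
theorem exists_normalize [Finite F] {α : MulAut (Matrix.ProjectiveSpecialLinearGroup (Fin 2) F)}
    {a : F → F} (h : MapsUpper α a) :
    ∃ r κ : F, κ ≠ 0 ∧
      MapsUpper (MulAut.conj (QuotientGroup.mk (upperU r) :
        Matrix.ProjectiveSpecialLinearGroup (Fin 2) F) * α) a ∧
      ∀ y : F, (MulAut.conj (QuotientGroup.mk (upperU r) :
        Matrix.ProjectiveSpecialLinearGroup (Fin 2) F) * α) (QuotientGroup.mk (lowerU y))
          = QuotientGroup.mk (lowerU (κ * a y)) := by
  obtain ⟨n, hn⟩ := QuotientGroup.mk_surjective (α (QuotientGroup.mk (weylW :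
    Matrix.SpecialLinearGroup (Fin 2) F)))
  -- the image of a lower unipotent element
  have hlow : ∀ y : F, α (QuotientGroup.mk (lowerU y))
      = QuotientGroup.mk (n * upperU (a (-y)) * n⁻¹) := by
    intro y
    rw [lowerU_eq_conj, QuotientGroup.mk_mul, QuotientGroup.mk_mul, QuotientGroup.mk_inv, map_mul,
      map_mul, map_inv, h, ← hn, ← QuotientGroup.mk_inv, ← QuotientGroup.mk_mul,
      ← QuotientGroup.mk_mul]
  have hsurj : Function.Surjective a := Finite.injective_iff_surjective.mp h.injective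
  have hn10 : (n : Matrix (Fin 2) (Fin 2) F) 1 0 ≠ 0 := by
    intro h0
    have h1 := hlow 1
    rw [conj_upperU_of_apply_10_eq_zero n h0] at h1
    obtain ⟨z, hz⟩ := hsurj (a (-1) * (n : Matrix (Fin 2) (Fin 2) F) 0 0 ^ 2)
    rw [← hz, ← h] at h1
    have h2 := α.injective h1
    have hz0 : z = 0 := eq_zero_of_mk_upperU_eq_mk_lowerU h2.symm
    rw [hz0, upperU_zero] at h2
    have h3 : (QuotientGroup.mk (lowerU (1 : F)) : Matrix.ProjectiveSpecialLinearGroup (Fin 2) F)
        = QuotientGroup.mk (lowerU 0) := by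
      rw [h2]
      congr 1
      apply sl2_ext <;> simp [coe_lowerU]
    exact one_ne_zero (mk_lowerU_injective h3)
  set r : F := -((n : Matrix (Fin 2) (Fin 2) F) 0 0 / (n : Matrix (Fin 2) (Fin 2) F) 1 0) with hr
  have hm00 : ((upperU r * n : Matrix.SpecialLinearGroup (Fin 2) F) :
      Matrix (Fin 2) (Fin 2) F) 0 0 = 0 := by
    rw [mul_apply_00]
    simp only [coe_upperU, Matrix.of_apply, Matrix.cons_val', Matrix.cons_val_zero,
      Matrix.cons_val_one, Matrix.cons_val_fin_one]
    rw [hr]
    field_simp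
    ring
  have hm10 : ((upperU r * n : Matrix.SpecialLinearGroup (Fin 2) F) :
      Matrix (Fin 2) (Fin 2) F) 1 0 = (n : Matrix (Fin 2) (Fin 2) F) 1 0 := by
    rw [mul_apply_10]
    simp [coe_upperU]
  refine ⟨r, (n : Matrix (Fin 2) (Fin 2) F) 1 0 ^ 2, pow_ne_zero 2 hn10, ?_, ?_⟩
  · intro x
    rw [MulAut.mul_apply, h, MulAut.conj_apply, ← QuotientGroup.mk_mul, ← QuotientGroup.mk_inv,
      ← QuotientGroup.mk_mul, ← upperU_add, ← upperU_neg, ← upperU_add]
    congr 2
    ring
  · intro y
    rw [MulAut.mul_apply, hlow, MulAut.conj_apply, ← QuotientGroup.mk_mul, ← QuotientGroup.mk_inv,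
      ← QuotientGroup.mk_mul]
    have e1 : upperU r * (n * upperU (a (-y)) * n⁻¹) * (upperU r)⁻¹
        = (upperU r * n) * upperU (a (-y)) * (upperU r * n)⁻¹ := by group
    rw [e1, conj_upperU_of_apply_00_eq_zero _ hm00, hm10, h.neg]
    congr 2
    ring

/-- step 3: the key relation `a x * a x⁻¹ = κ⁻¹` -/
theorem mul_inv_of_normalized {α : MulAut (Matrix.ProjectiveSpecialLinearGroup (Fin 2) F)}
    {a : F → F} {κ : F} (h : MapsUpper α a)
    (hl : ∀ y : F, α (QuotientGroup.mk (lowerU y)) = QuotientGroup.mk (lowerU (κ * a y)))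
    {x : F} (hx : x ≠ 0) : κ * (a x * a x⁻¹) = 1 := by
  set W : Matrix.SpecialLinearGroup (Fin 2) F := upperU x * lowerU (-x⁻¹) * upperU x with hW
  have hW00 : (W : Matrix (Fin 2) (Fin 2) F) 0 0 = 0 := by
    rw [hW, coe_upper_lower_upper]
    simp only [Matrix.of_apply, Matrix.cons_val', Matrix.cons_val_zero, Matrix.cons_val_fin_one]
    field_simp
    ring
  have h1 := conj_upperU_of_apply_00_eq_zero W hW00 1
  have h2 := congrArg (fun z => α (QuotientGroup.mk z :
    Matrix.ProjectiveSpecialLinearGroup (Fin 2) F)) h1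
  beta_reduce at h2
  set N : Matrix.SpecialLinearGroup (Fin 2) F :=
    upperU (a x) * lowerU (κ * a (-x⁻¹)) * upperU (a x) with hN
  have hWN : α (QuotientGroup.mk W) = QuotientGroup.mk N := by
    rw [hW, hN, QuotientGroup.mk_mul, QuotientGroup.mk_mul, map_mul, map_mul, h, hl,
      ← QuotientGroup.mk_mul, ← QuotientGroup.mk_mul]
  rw [QuotientGroup.mk_mul, QuotientGroup.mk_mul, QuotientGroup.mk_inv, map_mul, map_mul, map_inv,
    hWN, h, hl, ← QuotientGroup.mk_inv, ← QuotientGroup.mk_mul, ← QuotientGroup.mk_mul] at h2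
  have h3 := mk_eq_mk_entries h2 0 1 0 1
  rw [coe_conj_upperU, coe_lowerU] at h3
  simp only [Matrix.of_apply, Matrix.cons_val', Matrix.cons_val_zero, Matrix.cons_val_one,
    Matrix.cons_val_fin_one, mul_zero] at h3
  have h4 : a 1 * (N : Matrix (Fin 2) (Fin 2) F) 0 0 ^ 2 = 0 := mul_self_eq_zero.mp h3
  have h5 : (N : Matrix (Fin 2) (Fin 2) F) 0 0 = 0 := by
    rcases mul_eq_zero.mp h4 with h6 | h6
    · exact absurd h6 (h.ne_zero one_ne_zero)
    · exact pow_eq_zero_iff (two_ne_zero) |>.mp h6
  rw [hN, coe_upper_lower_upper] at h5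
  simp only [Matrix.of_apply, Matrix.cons_val', Matrix.cons_val_zero, Matrix.cons_val_fin_one] at h5
  rw [h.neg] at h5
  linear_combination (-1 : F) * h5

/-- **Main theorem**: every automorphism of `PSL₂(F)` is a product of an inner, a diagonal and a field
automorphism -/
theorem exists_decomp [Fintype F] (p : ℕ) [Fact p.Prime] [CharP F p]
    (α : MulAut (Matrix.ProjectiveSpecialLinearGroup (Fin 2) F)) :
    ∃ (g : Matrix.SpecialLinearGroup (Fin 2) F) (c : Fˣ) (σ : RingAut F),
      α = MulAut.conj (QuotientGroup.mk g : Matrix.ProjectiveSpecialLinearGroup (Fin 2) F)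
        * descend (diagAut c) * descend (fieldAut σ) := by
  obtain ⟨g₁, a, ha⟩ := exists_mapsUpper p α
  obtain ⟨r, κ, hκ, ha2, hl2⟩ := exists_normalize ha
  set α₂ := MulAut.conj (QuotientGroup.mk (upperU r) :
        Matrix.ProjectiveSpecialLinearGroup (Fin 2) F) *
    ((MulAut.conj (QuotientGroup.mk g₁ : Matrix.ProjectiveSpecialLinearGroup (Fin 2) F))⁻¹ * α)
    with hα₂
  have hinv : ∀ x : F, x ≠ 0 → κ * (a x * a x⁻¹) = 1 := fun x hx =>
    mul_inv_of_normalized ha2 hl2 hx
  have hc : a 1 ≠ 0 := ha2.ne_zero one_ne_zero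
  have hcc : κ * (a 1 * a 1) = 1 := by
    have := hinv 1 one_ne_zero
    rwa [inv_one] at this
  -- the normalised additive map
  have hmul := map_mul_of_inv (fun x => a x / a 1)
    (fun x y => by simp only [ha2.add, add_div])
    (by simp only [div_self hc])
    (fun x hx => by
      have h1 := hinv x hx
      have h2 : a x * a x⁻¹ = a 1 * a 1 := mul_left_cancel₀ hκ (h1.trans hcc.symm)
      beta_reduce
      rw [div_mul_div_comm, h2, div_self (mul_ne_zero hc hc)])
  let f : F →+* F :=
    { toFun := fun x => a x / a 1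
      map_one' := div_self hc
      map_mul' := hmul
      map_zero' := by simp only [ha2.zero, zero_div]
      map_add' := fun x y => by simp only [ha2.add, add_div] }
  have hfinj : Function.Injective f := by
    intro x y hxy
    apply ha2.injective
    have : a x / a 1 = a y / a 1 := hxy
    field_simp at this
    exact this
  have hfbij : Function.Bijective f := ⟨hfinj, Finite.injective_iff_surjective.mp hfinj⟩
  set σ : RingAut F := RingEquiv.ofBijective f hfbij with hσ
  have hσa : ∀ x, a x = a 1 * σ x := by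
    intro x
    show a x = a 1 * (a x / a 1)
    field_simp
  have key : α₂ = descend (diagAut (Units.mk0 (a 1) hc)) * descend (fieldAut σ) := by
    apply mulAut_ext_unipotent
    · intro x
      rw [ha2 x, MulAut.mul_apply, descend_mk, descend_mk, fieldAut_upperU, diagAut_upperU,
        Units.val_mk0, ← hσa]
    · intro y
      rw [hl2 y, MulAut.mul_apply, descend_mk, descend_mk, fieldAut_lowerU, diagAut_lowerU,
        Units.val_inv_eq_inv_val, Units.val_mk0, hσa y]
      congr 2
      field_simp
      linear_combination σ y * hcc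
  refine ⟨g₁ * (upperU r)⁻¹, Units.mk0 (a 1) hc, σ, ?_⟩
  rw [mul_assoc, ← key, hα₂, QuotientGroup.mk_mul, QuotientGroup.mk_inv, map_mul, map_inv]
  group

end Cfsg.Agent.Lib.Helper41
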