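import Mathlib
import Cfsg.Agent.Lib.Helper41.SL2Basic
import Cfsg.Agent.Lib.Helper41.SL2Conj
import Cfsg.Agent.Lib.Helper41.SL2Trace
import Cfsg.Agent.Lib.Helper41.SL2Nonsplit
import Cfsg.Agent.Lib.Helper41.SL2Order
import Cfsg.Agent.Lib.Helper41.SL2Torus

set_option autoImplicit false

/-!
# The non-split torus of `SL₂(F)` (helper41)

For `t` with `X² - tX + 1` irreducible, `nsTorus t` is the centraliser of the companion matrix.
-/

namespace Cfsg.Agent.Lib.Helper41

variable {F : Type*} [Field F]

/-- elements of the form `a + c M`, `M = companion t` -/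
def IsQuad (t : F) (g : Matrix.SpecialLinearGroup (Fin 2) F) : Prop :=
  (g : Matrix (Fin 2) (Fin 2) F) 0 1 = -(g : Matrix (Fin 2) (Fin 2) F) 1 0 ∧
  (g : Matrix (Fin 2) (Fin 2) F) 1 1
    = (g : Matrix (Fin 2) (Fin 2) F) 0 0 + t * (g : Matrix (Fin 2) (Fin 2) F) 1 0

/-- elements inverting `M = companion t` -/
def IsQuadInv (t : F) (g : Matrix.SpecialLinearGroup (Fin 2) F) : Prop :=
  (g : Matrix (Fin 2) (Fin 2) F) 1 1 = -(g : Matrix (Fin 2) (Fin 2) F) 0 0 ∧
  (g : Matrix (Fin 2) (Fin 2) F) 0 1
    = t * (g : Matrix (Fin 2) (Fin 2) F) 0 0 + (g : Matrix (Fin 2) (Fin 2) F) 1 0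

theorem companion_apply_00 (t : F) : ((companion t : Matrix.SpecialLinearGroup (Fin 2) F) :
    Matrix (Fin 2) (Fin 2) F) 0 0 = 0 := by simp [coe_companion]
theorem companion_apply_01 (t : F) : ((companion t : Matrix.SpecialLinearGroup (Fin 2) F) :
    Matrix (Fin 2) (Fin 2) F) 0 1 = -1 := by simp [coe_companion]
theorem companion_apply_10 (t : F) : ((companion t : Matrix.SpecialLinearGroup (Fin 2) F) :
    Matrix (Fin 2) (Fin 2) F) 1 0 = 1 := by simp [coe_companion]
theorem companion_apply_11 (t : F) : ((companion t : Matrix.SpecialLinearGroup (Fin 2) F) :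
    Matrix (Fin 2) (Fin 2) F) 1 1 = t := by simp [coe_companion]

/-- the non-split torus: the centraliser of the companion matrix -/
def nsTorus (t : F) : Subgroup (Matrix.SpecialLinearGroup (Fin 2) F) :=
  Subgroup.centralizer ({companion t} : Set (Matrix.SpecialLinearGroup (Fin 2) F))

theorem mem_nsTorus_iff_commute (t : F) (g : Matrix.SpecialLinearGroup (Fin 2) F) :
    g ∈ nsTorus t ↔ companion t * g = g * companion t := by
  rw [nsTorus, Subgroup.mem_centralizer_iff]
  constructor
  · intro h; exact h _ (Set.mem_singleton _)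
  · intro h x hx
    rw [Set.mem_singleton_iff] at hx
    subst hx
    exact h

theorem mem_nsTorus_iff (t : F) (g : Matrix.SpecialLinearGroup (Fin 2) F) :
    g ∈ nsTorus t ↔ IsQuad t g := by
  rw [mem_nsTorus_iff_commute]
  constructor
  · intro h
    have e00 := congrArg (fun A : Matrix.SpecialLinearGroup (Fin 2) F =>
      (A : Matrix (Fin 2) (Fin 2) F) 0 0) h
    have e10 := congrArg (fun A : Matrix.SpecialLinearGroup (Fin 2) F =>
      (A : Matrix (Fin 2) (Fin 2) F) 1 0) h
    simp only [mul_apply_00, mul_apply_10, companion_apply_00, companion_apply_01,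
      companion_apply_10, companion_apply_11] at e00 e10
    refine ⟨?_, ?_⟩
    · linear_combination -e00
    · linear_combination -e10
  · rintro ⟨h1, h2⟩
    apply sl2_ext <;>
      simp only [mul_apply_00, mul_apply_01, mul_apply_10, mul_apply_11, companion_apply_00,
        companion_apply_01, companion_apply_10, companion_apply_11, h1, h2] <;> ring

theorem companion_mem_nsTorus (t : F) : companion t ∈ nsTorus t := by
  rw [mem_nsTorus_iff_commute]

/-- inverting elements -/
theorem isQuadInv_iff (t : F) (g : Matrix.SpecialLinearGroup (Fin 2) F) :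
    IsQuadInv t g ↔ g * companion t = (companion t)⁻¹ * g := by
  constructor
  · rintro ⟨h1, h2⟩
    apply sl2_ext <;>
      simp only [mul_apply_00, mul_apply_01, mul_apply_10, mul_apply_11, inv_apply_00,
        inv_apply_01, inv_apply_10, inv_apply_11, companion_apply_00,
        companion_apply_01, companion_apply_10, companion_apply_11, h1, h2] <;> ring
  · intro h
    have e00 := congrArg (fun A : Matrix.SpecialLinearGroup (Fin 2) F =>
      (A : Matrix (Fin 2) (Fin 2) F) 0 0) h
    have e10 := congrArg (fun A : Matrix.SpecialLinearGroup (Fin 2) F =>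
      (A : Matrix (Fin 2) (Fin 2) F) 1 0) h
    simp only [mul_apply_00, mul_apply_10, inv_apply_00, inv_apply_01, inv_apply_10,
      inv_apply_11, companion_apply_00, companion_apply_01,
      companion_apply_10, companion_apply_11] at e00 e10
    refine ⟨?_, ?_⟩
    · linear_combination e10
    · linear_combination e00

/-- determinant of a quadratic element -/
theorem IsQuad.norm_eq_one {t : F} {g : Matrix.SpecialLinearGroup (Fin 2) F} (hg : IsQuad t g) :
    (g : Matrix (Fin 2) (Fin 2) F) 0 0 ^ 2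
      + t * (g : Matrix (Fin 2) (Fin 2) F) 0 0 * (g : Matrix (Fin 2) (Fin 2) F) 1 0
      + (g : Matrix (Fin 2) (Fin 2) F) 1 0 ^ 2 = 1 := by
  have := sl2_det g
  rw [hg.1, hg.2] at this
  linear_combination this

theorem IsQuadInv.norm_eq_neg_one {t : F} {g : Matrix.SpecialLinearGroup (Fin 2) F}
    (hg : IsQuadInv t g) :
    (g : Matrix (Fin 2) (Fin 2) F) 0 0 ^ 2
      + t * (g : Matrix (Fin 2) (Fin 2) F) 0 0 * (g : Matrix (Fin 2) (Fin 2) F) 1 0
      + (g : Matrix (Fin 2) (Fin 2) F) 1 0 ^ 2 = -1 := by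
  have := sl2_det g
  rw [hg.1, hg.2] at this
  linear_combination -this

/-- inverting elements square to `-1` -/
theorem IsQuadInv.mul_self {t : F} {g : Matrix.SpecialLinearGroup (Fin 2) F} (hg : IsQuadInv t g) :
    (g : Matrix (Fin 2) (Fin 2) F) * (g : Matrix (Fin 2) (Fin 2) F) = -1 := by
  have hn := hg.norm_eq_neg_one
  rw [← Matrix.SpecialLinearGroup.coe_mul]
  ext i j
  fin_cases i <;> fin_cases j
  · show ((g * g : Matrix.SpecialLinearGroup (Fin 2) F) : Matrix (Fin 2) (Fin 2) F) 0 0 = _
    rw [mul_apply_00, hg.2]; simp; linear_combination hn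
  · show ((g * g : Matrix.SpecialLinearGroup (Fin 2) F) : Matrix (Fin 2) (Fin 2) F) 0 1 = _
    rw [mul_apply_01, hg.1, hg.2]; simp; ring
  · show ((g * g : Matrix.SpecialLinearGroup (Fin 2) F) : Matrix (Fin 2) (Fin 2) F) 1 0 = _
    rw [mul_apply_10, hg.1]; simp; ring
  · show ((g * g : Matrix.SpecialLinearGroup (Fin 2) F) : Matrix (Fin 2) (Fin 2) F) 1 1 = _
    rw [mul_apply_11, hg.1, hg.2]; simp; linear_combination hn

/-- an inverting element inverts every element of the torus -/
theorem IsQuadInv.conj_quad {t : F} {g x : Matrix.SpecialLinearGroup (Fin 2) F}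
    (hg : IsQuadInv t g) (hx : IsQuad t x) : g * x * g⁻¹ = x⁻¹ := by
  have hn := hg.norm_eq_neg_one
  apply sl2_ext <;>
    simp only [mul_apply_00, mul_apply_01, mul_apply_10, mul_apply_11, inv_apply_00, inv_apply_01,
      inv_apply_10, inv_apply_11, hg.1, hg.2, hx.1, hx.2]
  · linear_combination (-(x : Matrix (Fin 2) (Fin 2) F) 0 0
      - t * (x : Matrix (Fin 2) (Fin 2) F) 1 0) * hn
  · linear_combination (-(x : Matrix (Fin 2) (Fin 2) F) 1 0) * hn
  · linear_combination ((x : Matrix (Fin 2) (Fin 2) F) 1 0) * hn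
  · linear_combination (-(x : Matrix (Fin 2) (Fin 2) F) 0 0) * hn

end Cfsg.Agent.Lib.Helper41
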