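import Mathlib
import Cfsg.Agent.Lib.Helper41.SL2NsTorus

set_option autoImplicit false

/-!
# The non-split torus of `SL₂(F)` is cyclic of order `q + 1` (helper41)
-/

namespace Cfsg.Agent.Lib.Helper41

variable {F : Type*} [Field F]

/-- the embedding of the non-split torus in the quadratic algebra -/
def nsTorusHom (t : F) : nsTorus t →* QuadraticAlgebra F (-1) t where
  toFun g := ⟨(g.1 : Matrix (Fin 2) (Fin 2) F) 0 0, (g.1 : Matrix (Fin 2) (Fin 2) F) 1 0⟩
  map_one' := by
    ext <;> simp [QuadraticAlgebra.re_one, QuadraticAlgebra.im_one]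
  map_mul' := by
    rintro ⟨g, hg⟩ ⟨h, hh⟩
    rw [mem_nsTorus_iff] at hg hh
    ext
    · simp only [Subgroup.coe_mul, mul_apply_00, QuadraticAlgebra.re_mul, hg.1]
      ring
    · simp only [Subgroup.coe_mul, mul_apply_10, QuadraticAlgebra.im_mul, hg.2]
      ring

theorem nsTorusHom_re (t : F) (g : nsTorus t) :
    (nsTorusHom t g).re = (g.1 : Matrix (Fin 2) (Fin 2) F) 0 0 := rfl

theorem nsTorusHom_im (t : F) (g : nsTorus t) :
    (nsTorusHom t g).im = (g.1 : Matrix (Fin 2) (Fin 2) F) 1 0 := rfl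

theorem nsTorusHom_injective (t : F) : Function.Injective (nsTorusHom t) := by
  rintro ⟨g, hg⟩ ⟨h, hh⟩ hgh
  have hre := congrArg QuadraticAlgebra.re hgh
  have him := congrArg QuadraticAlgebra.im hgh
  simp only [nsTorusHom_re, nsTorusHom_im] at hre him
  rw [mem_nsTorus_iff] at hg hh
  apply Subtype.ext
  apply sl2_ext
  · exact hre
  · rw [hg.1, hh.1, him]
  · exact him
  · rw [hg.2, hh.2, hre, him]

theorem norm_nsTorusHom (t : F) (g : nsTorus t) :
    QuadraticAlgebra.norm (nsTorusHom t g) = 1 := by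
  rw [QuadraticAlgebra.norm_def, nsTorusHom_re, nsTorusHom_im]
  have hg := (mem_nsTorus_iff t g.1).mp g.2
  linear_combination hg.norm_eq_one

variable [Fintype F]

instance finite_sl2 : Finite (Matrix.SpecialLinearGroup (Fin 2) F) :=
  Finite.of_injective (fun g => (g : Matrix (Fin 2) (Fin 2) F)) Subtype.val_injective

theorem isCyclic_nsTorus {t : F} (ht : ∀ r : F, r ^ 2 ≠ -1 + t * r) : IsCyclic (nsTorus t) := by
  have : Fact (∀ r : F, r ^ 2 ≠ -1 + t * r) := ⟨ht⟩
  exact isCyclic_of_injective_ringHom (nsTorusHom t) (nsTorusHom_injective t)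

theorem pow_card_add_one_of_mem_nsTorus {t : F} (ht : ∀ r : F, r ^ 2 ≠ -1 + t * r)
    (g : nsTorus t) : g ^ (Fintype.card F + 1) = 1 := by
  have : Fact (∀ r : F, r ^ 2 ≠ -1 + t * r) := ⟨ht⟩
  apply nsTorusHom_injective t
  rw [map_pow, map_one, quad_pow_card_add_one, norm_nsTorusHom, map_one]

/-- an element of order `q + 1` in the non-split torus -/
theorem exists_mem_nsTorus_orderOf {t : F} (ht : ∀ r : F, r ^ 2 ≠ -1 + t * r) :
    ∃ Y : Matrix.SpecialLinearGroup (Fin 2) F, Y ∈ nsTorus t ∧ orderOf Y = Fintype.card F + 1 := by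
  have : Fact (∀ r : F, r ^ 2 ≠ -1 + t * r) := ⟨ht⟩
  -- a generator of the unit group of `K = F[ω]`
  obtain ⟨ζ, hζ⟩ := IsCyclic.exists_generator (α := (QuadraticAlgebra F (-1) t)ˣ)
  have hordζ : orderOf ζ = Fintype.card F ^ 2 - 1 := by
    rw [orderOf_eq_card_of_forall_mem_zpowers hζ, Nat.card_units, card_quadraticAlgebra]
  have h1 : 1 < Fintype.card F := Fintype.one_lt_card
  have hfac : Fintype.card F ^ 2 - 1 = (Fintype.card F + 1) * (Fintype.card F - 1) := by
    zify [show 1 ≤ Fintype.card F by omega, show 1 ≤ Fintype.card F ^ 2 from Nat.one_le_pow _ _ (by omega)]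
    ring
  set y := ζ ^ (Fintype.card F - 1) with hy
  have hordy : orderOf y = Fintype.card F + 1 := by
    rw [hy, orderOf_pow, hordζ, hfac, Nat.gcd_mul_left_left]
    exact Nat.mul_div_cancel _ (by omega)
  have hynorm : QuadraticAlgebra.norm (y : QuadraticAlgebra F (-1) t) = 1 := by
    have h2 := quad_pow_card_add_one t (y : QuadraticAlgebra F (-1) t)
    have h3 : (y : QuadraticAlgebra F (-1) t) ^ (Fintype.card F + 1) = 1 := by
      rw [← Units.val_pow_eq_pow_val, ← hordy, pow_orderOf_eq_one, Units.val_one]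
    rw [h3] at h2
    exact (QuadraticAlgebra.algebraMap_injective (a := -1) (b := t)) (by rw [← h2, map_one])
  have htr : tr2 (companion t) = t := tr2_companion t
  let ψ : QuadraticAlgebra F (-1) t →ₐ[F] Matrix (Fin 2) (Fin 2) F :=
    QuadraticAlgebra.lift ⟨(companion t : Matrix (Fin 2) (Fin 2) F), by
      have := coe_mul_self_eq (companion t); rwa [htr] at this⟩
  have hψ_apply : ∀ z : QuadraticAlgebra F (-1) t, ψ z = z.re • (1 : Matrix (Fin 2) (Fin 2) F)
      + z.im • (companion t : Matrix (Fin 2) (Fin 2) F) := fun z => rfl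
  have hψdet : ∀ z : QuadraticAlgebra F (-1) t, (ψ z).det = QuadraticAlgebra.norm z := by
    intro z
    rw [hψ_apply, QuadraticAlgebra.norm_def, Matrix.det_fin_two, coe_companion]
    simp
    ring
  have hψinj : Function.Injective ψ := ψ.toRingHom.injective
  have hdetY : (ψ (y : QuadraticAlgebra F (-1) t)).det = 1 := by rw [hψdet, hynorm]
  let Y : Matrix.SpecialLinearGroup (Fin 2) F := ⟨ψ (y : QuadraticAlgebra F (-1) t), hdetY⟩
  refine ⟨Y, ?_, ?_⟩
  · rw [mem_nsTorus_iff_commute]
    apply Subtype.ext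
    rw [Matrix.SpecialLinearGroup.coe_mul, Matrix.SpecialLinearGroup.coe_mul]
    show (companion t : Matrix (Fin 2) (Fin 2) F) * ψ (y : QuadraticAlgebra F (-1) t)
      = ψ (y : QuadraticAlgebra F (-1) t) * (companion t : Matrix (Fin 2) (Fin 2) F)
    rw [hψ_apply]
    simp only [mul_add, add_mul, Matrix.mul_smul, Matrix.smul_mul, mul_one, one_mul]
  rw [← hordy]
  -- order of the matrix equals order of `y`
  have e1 : orderOf Y = orderOf (ψ (y : QuadraticAlgebra F (-1) t)) := by
    rw [← orderOf_injective (Matrix.SpecialLinearGroup.coeMonoidHom (ι := Fin 2) (R := F))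
      Matrix.SpecialLinearGroup.coeMonoidHom_injective Y]
    rfl
  have e2 : orderOf (ψ (y : QuadraticAlgebra F (-1) t)) = orderOf (y : QuadraticAlgebra F (-1) t) :=
    orderOf_injective (ψ : QuadraticAlgebra F (-1) t →* Matrix (Fin 2) (Fin 2) F) hψinj _
  rw [e1, e2, orderOf_units]

theorem card_nsTorus {t : F} (ht : ∀ r : F, r ^ 2 ≠ -1 + t * r) :
    Nat.card (nsTorus t) = Fintype.card F + 1 := by
  have hcyc := isCyclic_nsTorus ht
  obtain ⟨g₀, hg₀⟩ := IsCyclic.exists_generator (α := nsTorus t)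
  have h1 : orderOf g₀ = Nat.card (nsTorus t) := orderOf_eq_card_of_forall_mem_zpowers hg₀
  have h2 : Nat.card (nsTorus t) ∣ Fintype.card F + 1 := by
    rw [← h1]
    exact orderOf_dvd_of_pow_eq_one (pow_card_add_one_of_mem_nsTorus ht g₀)
  obtain ⟨Y, hY, hordY⟩ := exists_mem_nsTorus_orderOf ht
  have h3 : Fintype.card F + 1 ∣ Nat.card (nsTorus t) := by
    rw [← hordY]
    exact Subgroup.orderOf_dvd_natCard _ hY
  exact Nat.dvd_antisymm h2 h3

end Cfsg.Agent.Lib.Helper41
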