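import Mathlib
import Cfsg.Agent.Lib.Helper41.SL2Basic
import Cfsg.Agent.Lib.Helper41.SL2Conj
import Cfsg.Agent.Lib.Helper41.SL2Order
import Cfsg.Agent.Lib.Helper41.InvertCount
import Cfsg.Agent.Lib.Helper41.SL2Torus

set_option autoImplicit false

/-!
# Order and class number of the normaliser of the split torus of `SL₂(F)` (helper41)
-/

namespace Cfsg.Agent.Lib.Helper41

variable {F : Type*} [Field F]

theorem isAntidiag_weylW : IsAntidiag (weylW : Matrix.SpecialLinearGroup (Fin 2) F) := by
  refine ⟨?_, ?_⟩ <;> simp [coe_weylW]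

theorem weylW_mem_monoSub : (weylW : Matrix.SpecialLinearGroup (Fin 2) F) ∈ monoSub F :=
  Or.inr isAntidiag_weylW

theorem index_diagSub_subgroupOf_monoSub :
    ((diagSub F).subgroupOf (monoSub F)).index = 2 := by
  rw [Subgroup.index_eq_two_iff]
  refine ⟨⟨weylW, weylW_mem_monoSub⟩, ?_⟩
  rintro ⟨b, hb⟩
  simp only [Subgroup.mem_subgroupOf, Subgroup.coe_mul]
  rcases hb with hb | hb
  · right
    exact ⟨hb, fun h => (hb.mul_antidiag isAntidiag_weylW) |> fun h' => h.not_antidiag h'⟩
  · left
    exact ⟨hb.mul isAntidiag_weylW, fun h => h.not_antidiag hb⟩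

theorem card_monoSub [Fintype F] : Nat.card (monoSub F) = 2 * (Fintype.card F - 1) := by
  have h := ((diagSub F).subgroupOf (monoSub F)).card_mul_index
  rw [index_diagSub_subgroupOf_monoSub,
    Nat.card_congr (Subgroup.subgroupOfEquivOfLe (diagSub_le_monoSub (F := F))).toEquiv,
    card_diagSub] at h
  rw [← h, mul_comm]

/-- the element `-1` -/
def negOne : Matrix.SpecialLinearGroup (Fin 2) F := diagHom (-1)

theorem coe_negOne : ((negOne : Matrix.SpecialLinearGroup (Fin 2) F) : Matrix (Fin 2) (Fin 2) F)
    = -1 := by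
  rw [negOne, coe_diagHom]
  ext i j
  fin_cases i <;> fin_cases j <;> simp

theorem isDiag_negOne : IsDiag (negOne : Matrix.SpecialLinearGroup (Fin 2) F) := by
  refine ⟨?_, ?_⟩ <;> simp [coe_negOne]

theorem negOne_ne_one (h2 : (2 : F) ≠ 0) : (negOne : Matrix.SpecialLinearGroup (Fin 2) F) ≠ 1 := by
  intro h
  have := congrArg (fun A : Matrix.SpecialLinearGroup (Fin 2) F =>
    (A : Matrix (Fin 2) (Fin 2) F) 0 0) h
  simp only [coe_negOne] at this
  simp at this
  apply h2
  calc (2 : F) = 1 - (-1) := by ring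
    _ = 0 := by rw [this]; ring

theorem negOne_mul_self : (negOne : Matrix.SpecialLinearGroup (Fin 2) F) * negOne = 1 := by
  apply Subtype.ext
  rw [Matrix.SpecialLinearGroup.coe_mul, coe_negOne]
  simp

/-- class number of the normaliser of the split torus -/
theorem two_mul_card_conjClasses_monoSub [Fintype F] (h2 : (2 : F) ≠ 0) :
    2 * Nat.card (ConjClasses (monoSub F)) = (Fintype.card F - 1) + 6 := by
  have hinv : ∀ g : monoSub F, g ∉ (diagSub F).subgroupOf (monoSub F) →
      ∀ t ∈ (diagSub F).subgroupOf (monoSub F), g * t * g⁻¹ = t⁻¹ := by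
    rintro ⟨g, hg⟩ hgT ⟨t, ht⟩ htT
    rw [Subgroup.mem_subgroupOf] at hgT htT
    apply Subtype.ext
    simp only [Subgroup.coe_mul, Subgroup.coe_inv]
    have hga : IsAntidiag g := by
      rcases hg with hg | hg
      · exact absurd hg hgT
      · exact hg
    exact hga.conj_diag htT
  have key := two_mul_card_conjClasses_of_inverting ((diagSub F).subgroupOf (monoSub F))
    index_diagSub_subgroupOf_monoSub hinv
  have hT : Nat.card ((diagSub F).subgroupOf (monoSub F)) = Fintype.card F - 1 := by
    rw [Nat.card_congr (Subgroup.subgroupOfEquivOfLe (diagSub_le_monoSub (F := F))).toEquiv,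
      card_diagSub]
  have h2el : Nat.card {t : monoSub F // t ∈ (diagSub F).subgroupOf (monoSub F) ∧ t * t = 1} = 2 := by
    rw [Nat.card_eq_two_iff]
    refine ⟨⟨1, Subgroup.one_mem _, by simp⟩,
      ⟨⟨negOne, Or.inl isDiag_negOne⟩, by rw [Subgroup.mem_subgroupOf]; exact isDiag_negOne, by
        apply Subtype.ext
        simp only [Subgroup.coe_mul, Subgroup.coe_one]
        exact negOne_mul_self⟩, ?_, ?_⟩
    · intro h
      have h' := congrArg (fun x : {t : monoSub F // t ∈ (diagSub F).subgroupOf (monoSub F) ∧ t * t = 1} =>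
        ((x : monoSub F) : Matrix.SpecialLinearGroup (Fin 2) F)) h
      simp only [Subgroup.coe_one] at h'
      exact negOne_ne_one h2 h'.symm
    · rw [Set.eq_univ_iff_forall]
      rintro ⟨⟨t, ht⟩, htT, htt⟩
      have htt' : t * t = 1 := by
        have := congrArg (fun x : monoSub F => (x : Matrix.SpecialLinearGroup (Fin 2) F)) htt
        simpa using this
      have hmat : (t : Matrix (Fin 2) (Fin 2) F) * (t : Matrix (Fin 2) (Fin 2) F) = 1 := by
        rw [← Matrix.SpecialLinearGroup.coe_mul, htt']; rfl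
      rcases eq_one_or_neg_one_of_mul_self h2 t hmat with h | h
      · left
        apply Subtype.ext; apply Subtype.ext
        exact Subtype.ext h
      · right
        rw [Set.mem_singleton_iff]
        apply Subtype.ext; apply Subtype.ext
        apply Subtype.ext
        rw [h, coe_negOne]
  rw [key, hT, h2el]

end Cfsg.Agent.Lib.Helper41
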