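import Mathlib
import Cfsg.Agent.Lib.Helper41.SL2NsTorus
import Cfsg.Agent.Lib.Helper41.InvertCount
import Cfsg.Agent.Lib.Helper41.SL2TorusCount

set_option autoImplicit false

/-!
# The normaliser of the non-split torus of `SL₂(F)` (helper41)
-/

namespace Cfsg.Agent.Lib.Helper41

variable {F : Type*} [Field F]

theorem IsQuad.not_quadInv {t : F} (ht : t ^ 2 ≠ 4) {g : Matrix.SpecialLinearGroup (Fin 2) F}
    (hg : IsQuad t g) : ¬ IsQuadInv t g := by
  intro hg'
  have hd := sl2_det g
  obtain ⟨h1, h2⟩ := hg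
  obtain ⟨h3, h4⟩ := hg'
  have hne : t ^ 2 - 4 ≠ 0 := sub_ne_zero.mpr ht
  have e1 : (t ^ 2 - 4) * (g : Matrix (Fin 2) (Fin 2) F) 1 0 = 0 := by
    linear_combination (-t) * (h2 - h3) + 2 * (h4 - h1)
  have e2 : (t ^ 2 - 4) * (g : Matrix (Fin 2) (Fin 2) F) 0 0 = 0 := by
    linear_combination (-t) * (h4 - h1) + 2 * (h2 - h3)
  have c0 : (g : Matrix (Fin 2) (Fin 2) F) 1 0 = 0 := by
    rcases mul_eq_zero.mp e1 with h | h
    · exact absurd h hne
    · exact h
  have a0 : (g : Matrix (Fin 2) (Fin 2) F) 0 0 = 0 := by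
    rcases mul_eq_zero.mp e2 with h | h
    · exact absurd h hne
    · exact h
  rw [a0, c0] at hd
  simp at hd

theorem IsQuad.mul {t : F} {g h : Matrix.SpecialLinearGroup (Fin 2) F} (hg : IsQuad t g)
    (hh : IsQuad t h) : IsQuad t (g * h) := by
  rw [← mem_nsTorus_iff] at *
  exact Subgroup.mul_mem _ hg hh

theorem IsQuad.inv {t : F} {g : Matrix.SpecialLinearGroup (Fin 2) F} (hg : IsQuad t g) :
    IsQuad t g⁻¹ := by
  rw [← mem_nsTorus_iff] at *
  exact Subgroup.inv_mem _ hg

theorem IsQuad.mul_quadInv {t : F} {g h : Matrix.SpecialLinearGroup (Fin 2) F} (hg : IsQuad t g)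
    (hh : IsQuadInv t h) : IsQuadInv t (g * h) := by
  refine ⟨?_, ?_⟩ <;>
    simp only [mul_apply_00, mul_apply_01, mul_apply_10, mul_apply_11, hg.1, hg.2, hh.1, hh.2] <;>
    ring

theorem IsQuadInv.mul_quad {t : F} {g h : Matrix.SpecialLinearGroup (Fin 2) F} (hg : IsQuadInv t g)
    (hh : IsQuad t h) : IsQuadInv t (g * h) := by
  refine ⟨?_, ?_⟩ <;>
    simp only [mul_apply_00, mul_apply_01, mul_apply_10, mul_apply_11, hg.1, hg.2, hh.1, hh.2] <;>
    ring

theorem IsQuadInv.mul {t : F} {g h : Matrix.SpecialLinearGroup (Fin 2) F} (hg : IsQuadInv t g)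
    (hh : IsQuadInv t h) : IsQuad t (g * h) := by
  refine ⟨?_, ?_⟩ <;>
    simp only [mul_apply_00, mul_apply_01, mul_apply_10, mul_apply_11, hg.1, hg.2, hh.1, hh.2] <;>
    ring

theorem IsQuadInv.inv {t : F} {g : Matrix.SpecialLinearGroup (Fin 2) F} (hg : IsQuadInv t g) :
    IsQuadInv t g⁻¹ := by
  refine ⟨?_, ?_⟩ <;>
    simp only [inv_apply_00, inv_apply_01, inv_apply_10, inv_apply_11, hg.1, hg.2] <;>
    ring

/-- an element of the torus with trace `t` is `M` or `M⁻¹` -/
theorem IsQuad.eq_companion_or_inv {t : F} (h2 : (2 : F) ≠ 0) (ht : t ^ 2 ≠ 4)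
    {x : Matrix.SpecialLinearGroup (Fin 2) F} (hx : IsQuad t x) (htr : tr2 x = t) :
    x = companion t ∨ x = (companion t)⁻¹ := by
  have hn := hx.norm_eq_one
  obtain ⟨h1, h2'⟩ := hx
  unfold tr2 at htr
  have hne : t ^ 2 - 4 ≠ 0 := sub_ne_zero.mpr ht
  rw [h2'] at htr
  -- `2a + tc = t`, `a² + tac + c² = 1`
  have hc : (t ^ 2 - 4) * (((x : Matrix (Fin 2) (Fin 2) F) 1 0 - 1) *
      ((x : Matrix (Fin 2) (Fin 2) F) 1 0 + 1)) = 0 := by
    linear_combination (-4 : F) * hn +
      (2 * (x : Matrix (Fin 2) (Fin 2) F) 0 0 + t * (x : Matrix (Fin 2) (Fin 2) F) 1 0 + t) * htr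
  rcases mul_eq_zero.mp hc with h | h
  · exact absurd h hne
  rcases mul_eq_zero.mp h with h | h
  · left
    have hc1 : (x : Matrix (Fin 2) (Fin 2) F) 1 0 = 1 := by linear_combination h
    have ha : (x : Matrix (Fin 2) (Fin 2) F) 0 0 = 0 := by
      rw [hc1] at htr
      have e2 : 2 * (x : Matrix (Fin 2) (Fin 2) F) 0 0 = 0 := by linear_combination htr
      rcases mul_eq_zero.mp e2 with h' | h'
      · exact absurd h' h2
      · exact h'
    apply sl2_ext <;>
      simp only [companion_apply_00, companion_apply_01, companion_apply_10, companion_apply_11,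
        h1, h2', hc1, ha] <;> ring
  · right
    have hc1 : (x : Matrix (Fin 2) (Fin 2) F) 1 0 = -1 := by linear_combination h
    have ha : (x : Matrix (Fin 2) (Fin 2) F) 0 0 = t := by
      rw [hc1] at htr
      have e2 : 2 * ((x : Matrix (Fin 2) (Fin 2) F) 0 0 - t) = 0 := by linear_combination htr
      rcases mul_eq_zero.mp e2 with h' | h'
      · exact absurd h' h2
      · linear_combination h'
    apply sl2_ext <;>
      simp only [inv_apply_00, inv_apply_01, inv_apply_10, inv_apply_11,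
        companion_apply_00, companion_apply_01, companion_apply_10, companion_apply_11,
        h1, h2', hc1, ha] <;> ring

/-- the normaliser of the non-split torus -/
theorem mem_normalizer_nsTorus_iff {t : F} (h2 : (2 : F) ≠ 0) (ht : t ^ 2 ≠ 4)
    (g : Matrix.SpecialLinearGroup (Fin 2) F) :
    g ∈ Subgroup.normalizer (nsTorus t : Set (Matrix.SpecialLinearGroup (Fin 2) F))
      ↔ IsQuad t g ∨ IsQuadInv t g := by
  constructor
  · intro hg
    rw [Subgroup.mem_normalizer_iff] at hg
    have hM := (hg (companion t)).mp (companion_mem_nsTorus t)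
    rw [mem_nsTorus_iff] at hM
    have htr : tr2 (g * companion t * g⁻¹) = t := by rw [tr2_conj, tr2_companion]
    rcases hM.eq_companion_or_inv h2 ht htr with h | h
    · left
      rw [← mem_nsTorus_iff, mem_nsTorus_iff_commute]
      calc companion t * g = (g * companion t * g⁻¹) * g := by rw [h]
        _ = g * companion t := by group
    · right
      rw [isQuadInv_iff]
      calc g * companion t = (g * companion t * g⁻¹) * g := by group
        _ = (companion t)⁻¹ * g := by rw [h]
  · rintro (hg | hg)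
    · exact Subgroup.le_normalizer ((mem_nsTorus_iff t g).mpr hg)
    · rw [Subgroup.mem_normalizer_iff]
      intro x
      constructor
      · intro hx
        rw [mem_nsTorus_iff] at hx
        rw [hg.conj_quad hx, mem_nsTorus_iff]
        exact hx.inv
      · intro hx
        rw [mem_nsTorus_iff] at hx
        have := hg.inv.conj_quad hx
        rw [mem_nsTorus_iff]
        have h4 : (g * x * g⁻¹)⁻¹ = g⁻¹ * (g * x * g⁻¹) * g⁻¹⁻¹ := this.symm
        have h5 : IsQuad t (g * x * g⁻¹)⁻¹ := hx.inv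
        rw [h4] at h5
        have h6 : g⁻¹ * (g * x * g⁻¹) * g⁻¹⁻¹ = x := by group
        rwa [h6] at h5

theorem exists_isQuadInv [Fintype F] {t : F} (ht : t ^ 2 ≠ 4) :
    ∃ g : Matrix.SpecialLinearGroup (Fin 2) F, IsQuadInv t g := by
  obtain ⟨a, c, h⟩ := binary_form_represents_one (-1 : F) (-t) (-1) (by
    intro h; apply ht; linear_combination h)
  refine ⟨⟨!![a, t * a + c; c, -a], by rw [Matrix.det_fin_two_of]; linear_combination h⟩, ?_, ?_⟩ <;>
    simp

end Cfsg.Agent.Lib.Helper41
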