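import Mathlib
import Cfsg.Agent.Lib.Helper41.SL2NsTorus
import Cfsg.Agent.Lib.Helper41.SL2NsTorusNorm
import Cfsg.Agent.Lib.Helper41.SL2NsTorusCard
import Cfsg.Agent.Lib.Helper41.InvertCount
import Cfsg.Agent.Lib.Helper41.SL2TorusCount

set_option autoImplicit false

/-!
# The non-split torus of `SL₂(F)`: centralisers, conjugacy, normaliser (helper41)
-/

namespace Cfsg.Agent.Lib.Helper41

variable {F : Type*} [Field F]

theorem IsQuad.commute {t : F} {g h : Matrix.SpecialLinearGroup (Fin 2) F} (hg : IsQuad t g)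
    (hh : IsQuad t h) : g * h = h * g := by
  apply sl2_ext <;>
    simp only [mul_apply_00, mul_apply_01, mul_apply_10, mul_apply_11, hg.1, hg.2, hh.1, hh.2] <;>
    ring

/-- the centraliser of a non-central element of the non-split torus is the torus -/
theorem centralizer_eq_nsTorus {t : F} {g : Matrix.SpecialLinearGroup (Fin 2) F} (hg : IsQuad t g)
    (hc : (g : Matrix (Fin 2) (Fin 2) F) 1 0 ≠ 0) :
    Subgroup.centralizer ({g} : Set (Matrix.SpecialLinearGroup (Fin 2) F)) = nsTorus t := by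
  ext h
  rw [Subgroup.mem_centralizer_iff, mem_nsTorus_iff]
  constructor
  · intro H
    have e := H g (Set.mem_singleton _)
    have e00 := congrArg (fun A : Matrix.SpecialLinearGroup (Fin 2) F =>
      (A : Matrix (Fin 2) (Fin 2) F) 0 0) e
    have e10 := congrArg (fun A : Matrix.SpecialLinearGroup (Fin 2) F =>
      (A : Matrix (Fin 2) (Fin 2) F) 1 0) e
    simp only [mul_apply_00, mul_apply_10, hg.1, hg.2] at e00 e10
    refine ⟨?_, ?_⟩
    · have : (g : Matrix (Fin 2) (Fin 2) F) 1 0 *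
          ((h : Matrix (Fin 2) (Fin 2) F) 0 1 + (h : Matrix (Fin 2) (Fin 2) F) 1 0) = 0 := by
        linear_combination -e00
      rcases mul_eq_zero.mp this with h' | h'
      · exact absurd h' hc
      · linear_combination h'
    · have : (g : Matrix (Fin 2) (Fin 2) F) 1 0 *
          ((h : Matrix (Fin 2) (Fin 2) F) 1 1 - (h : Matrix (Fin 2) (Fin 2) F) 0 0
            - t * (h : Matrix (Fin 2) (Fin 2) F) 1 0) = 0 := by
        linear_combination -e10
      rcases mul_eq_zero.mp this with h' | h'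
      · exact absurd h' hc
      · linear_combination h'
  · intro hh x hx
    rw [Set.mem_singleton_iff] at hx
    rw [hx]
    exact hg.commute hh

/-- an element of the torus with zero lower-left entry is `±1` -/
theorem IsQuad.eq_one_or_neg_one {t : F} {g : Matrix.SpecialLinearGroup (Fin 2) F} (hg : IsQuad t g)
    (hc : (g : Matrix (Fin 2) (Fin 2) F) 1 0 = 0) :
    (g : Matrix (Fin 2) (Fin 2) F) = 1 ∨ (g : Matrix (Fin 2) (Fin 2) F) = -1 := by
  have hn := hg.norm_eq_one
  obtain ⟨h1, h2⟩ := hg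
  rw [hc] at hn h1 h2
  have : ((g : Matrix (Fin 2) (Fin 2) F) 0 0 - 1) * ((g : Matrix (Fin 2) (Fin 2) F) 0 0 + 1) = 0 := by
    linear_combination hn
  rcases mul_eq_zero.mp this with h | h
  · left
    have ha : (g : Matrix (Fin 2) (Fin 2) F) 0 0 = 1 := by linear_combination h
    ext i j
    fin_cases i <;> fin_cases j <;> simp [ha, h1, h2, hc]
  · right
    have ha : (g : Matrix (Fin 2) (Fin 2) F) 0 0 = -1 := by linear_combination h
    ext i j
    fin_cases i <;> fin_cases j <;> simp [ha, h1, h2, hc]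

theorem centralizer_nsTorus (t : F) :
    Subgroup.centralizer ((nsTorus t : Subgroup (Matrix.SpecialLinearGroup (Fin 2) F)) :
      Set (Matrix.SpecialLinearGroup (Fin 2) F)) = nsTorus t := by
  ext h
  constructor
  · intro H
    rw [mem_nsTorus_iff_commute]
    exact (Subgroup.mem_centralizer_iff.mp H) (companion t) (companion_mem_nsTorus t)
  · intro hh
    rw [Subgroup.mem_centralizer_iff]
    intro x hx
    exact ((mem_nsTorus_iff t x).mp hx).commute ((mem_nsTorus_iff t h).mp hh)

/-- an element of `SL₂(F)` without eigenvector has a non-split trace -/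
theorem nonsplit_of_no_eigenvector (g : Matrix.SpecialLinearGroup (Fin 2) F)
    (hg : ∀ (c : F) (v : Fin 2 → F), v ≠ 0 → (g : Matrix (Fin 2) (Fin 2) F).mulVec v ≠ c • v) :
    ∀ r : F, r ^ 2 ≠ -1 + tr2 g * r := by
  intro r hr
  have hdet : ((g : Matrix (Fin 2) (Fin 2) F) - r • (1 : Matrix (Fin 2) (Fin 2) F)).det = 0 := by
    rw [Matrix.det_fin_two]
    have hd := sl2_det g
    unfold tr2 at hr
    simp only [Matrix.sub_apply, Matrix.smul_apply, Matrix.one_apply_eq, smul_eq_mul, mul_one,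
      Matrix.one_apply_ne (show (0 : Fin 2) ≠ 1 by decide),
      Matrix.one_apply_ne (show (1 : Fin 2) ≠ 0 by decide), mul_zero, sub_zero]
    linear_combination hd + hr
  obtain ⟨v, hv, hv0⟩ := Matrix.exists_mulVec_eq_zero_iff.mpr hdet
  apply hg r v hv
  rw [Matrix.sub_mulVec, Matrix.smul_mulVec, Matrix.one_mulVec, sub_eq_zero] at hv0
  exact hv0

theorem not_isSquare_of_nonsplit (h2 : (2 : F) ≠ 0) {s : F} (hs : ∀ r : F, r ^ 2 ≠ -1 + s * r) :
    ¬ IsSquare (s ^ 2 - 4) := by
  rintro ⟨d, hd⟩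
  apply hs ((s + d) / 2)
  field_simp
  linear_combination -hd

variable [Fintype F]

/-- elements without eigenvector are conjugate into the non-split torus -/
theorem exists_conj_mem_nsTorus (h2 : (2 : F) ≠ 0) {t : F} (ht : ∀ r : F, r ^ 2 ≠ -1 + t * r)
    (g : Matrix.SpecialLinearGroup (Fin 2) F)
    (hg : ∀ (c : F) (v : Fin 2 → F), v ≠ 0 → (g : Matrix (Fin 2) (Fin 2) F).mulVec v ≠ c • v) :
    ∃ h : Matrix.SpecialLinearGroup (Fin 2) F, h * g * h⁻¹ ∈ nsTorus t := by
  classical
  set s := tr2 g with hs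
  have hsn := nonsplit_of_no_eigenvector g hg
  have h1 : ¬ IsSquare (s ^ 2 - 4) := not_isSquare_of_nonsplit h2 hsn
  have h3 : ¬ IsSquare (t ^ 2 - 4) := not_isSquare_of_nonsplit h2 ht
  have hs0 : s ^ 2 - 4 ≠ 0 := fun h => h1 (h ▸ IsSquare.zero)
  have ht0 : t ^ 2 - 4 ≠ 0 := fun h => h3 (h ▸ IsSquare.zero)
  have hprod : IsSquare ((s ^ 2 - 4) * (t ^ 2 - 4)) := by
    rw [← quadraticChar_one_iff_isSquare (mul_ne_zero hs0 ht0), map_mul,
      quadraticChar_neg_one_iff_not_isSquare.mpr h1, quadraticChar_neg_one_iff_not_isSquare.mpr h3]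
    norm_num
  obtain ⟨d, hd⟩ := hprod
  set c := d / (t ^ 2 - 4) with hc
  have hcc : c ^ 2 * (t ^ 2 - 4) = s ^ 2 - 4 := by
    rw [hc]
    field_simp
    linear_combination -hd
  set a := (s - t * c) / 2 with ha
  have h2a : 2 * a = s - t * c := by rw [ha]; field_simp
  have hdet : (!![a, -c; c, a + t * c] : Matrix (Fin 2) (Fin 2) F).det = 1 := by
    rw [Matrix.det_fin_two_of]
    have h4 : (4 : F) ≠ 0 := by
      have : (4 : F) = 2 * 2 := by norm_num
      rw [this]; exact mul_ne_zero h2 h2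
    apply mul_left_cancel₀ h4
    linear_combination (2 * a + s + t * c) * h2a - hcc
  let x : Matrix.SpecialLinearGroup (Fin 2) F := ⟨!![a, -c; c, a + t * c], hdet⟩
  have hx : IsQuad t x := by
    refine ⟨?_, ?_⟩ <;> simp [x]
  have hxtr : tr2 x = s := by
    unfold tr2
    simp [x]
    linear_combination h2a
  have hconj : IsConj g x := isConj_of_tr2_eq g x (by
    intro h; apply hs0; rw [← hs] at h; rw [h]; ring) (by rw [hxtr])
  rw [isConj_iff] at hconj
  obtain ⟨h, hh⟩ := hconj
  exact ⟨h, by rw [hh, mem_nsTorus_iff]; exact hx⟩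

end Cfsg.Agent.Lib.Helper41
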