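import Mathlib
import Cfsg.Agent.Lib.Helper41.SylowAbelian
import Cfsg.Agent.Lib.Helper41.DicyclicSylow

set_option autoImplicit false

/-!
# Sylow 2-subgroups of a group with a dicyclic torus normaliser: the quaternion case (helper41)
-/

namespace Cfsg.Agent.Lib.Helper41

open scoped Pointwise

variable {G : Type*} [Group G] [Finite G]

namespace DicyclicTorus

variable {A : Subgroup G} {z : G}

/-- if `8 ∤ |A|` the Sylow 2-subgroups have order 8 -/
theorem card_sylow_of_not_eight_dvd (h : DicyclicTorus A z) (S₁ : Sylow 2 G)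
    (h8 : ¬ 8 ∣ Nat.card A) : Nat.card (S₁ : Subgroup G) = 8 := by
  obtain ⟨k, hk⟩ := IsPGroup.iff_card.mp S₁.isPGroup'
  have hidx : ¬ 2 ∣ (S₁ : Subgroup G).index := S₁.not_dvd_index
  have h1 := (S₁ : Subgroup G).card_mul_index
  have h2 := A.card_mul_index
  obtain ⟨m, hm⟩ := h.four_dvd
  have hmodd : ¬ 2 ∣ m := by
    rintro ⟨m', rfl⟩
    apply h8
    rw [hm]
    exact ⟨m', by ring⟩
  have h3 := h.index_mod
  obtain ⟨n, hn⟩ : ∃ n, A.index = 2 * n ∧ ¬ 2 ∣ n := by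
    refine ⟨A.index / 2, by omega, by omega⟩
  have hkey : 2 ^ k * (S₁ : Subgroup G).index = 8 * (m * n) := by
    have hS₁card : Nat.card (S₁ : Subgroup G) = Nat.card S₁ := rfl
    rw [← hk, ← hS₁card, h1, ← h2, hm, hn.1]; ring
  have hodd : ¬ 2 ∣ m * n := by
    intro h'
    rcases (Nat.Prime.dvd_mul Nat.prime_two).mp h' with h'' | h''
    · exact hmodd h''
    · exact hn.2 h''
  have hc1 : Nat.Coprime (2 ^ k) (m * n) :=
    ((Nat.Prime.coprime_iff_not_dvd Nat.prime_two).mpr hodd).pow_left k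
  have hc2 : Nat.Coprime (2 ^ 3) (S₁ : Subgroup G).index :=
    ((Nat.Prime.coprime_iff_not_dvd Nat.prime_two).mpr hidx).pow_left 3
  have hd1 : 2 ^ k ∣ 2 ^ 3 := by
    apply hc1.dvd_of_dvd_mul_right
    rw [show (2 : ℕ) ^ 3 = 8 from rfl, ← hkey]
    exact Dvd.intro _ rfl
  have hd2 : 2 ^ 3 ∣ 2 ^ k := by
    apply hc2.dvd_of_dvd_mul_right
    rw [hkey, show (2 : ℕ) ^ 3 = 8 from rfl]
    exact Dvd.intro _ rfl
  have hk3 : k = 3 := le_antisymm ((Nat.pow_dvd_pow_iff_le_right (by norm_num)).mp hd1)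
    ((Nat.pow_dvd_pow_iff_le_right (by norm_num)).mp hd2)
  have hS₁card : Nat.card (S₁ : Subgroup G) = Nat.card S₁ := rfl
  rw [hS₁card, hk, hk3]
  rfl

/-- in the quaternion case elements of `S₁ ∩ A` have square `1` or `z` -/
theorem sq_of_mem_inf (h : DicyclicTorus A z) (S₁ : Sylow 2 G)
    (h8 : ¬ 8 ∣ Nat.card A) {y : G} (hyS : y ∈ (S₁ : Subgroup G)) (hyA : y ∈ A) :
    y * y = 1 ∨ y * y = z := by
  have hcard := h.card_sylow_of_not_eight_dvd S₁ h8
  obtain ⟨w, hwS, hwA⟩ := h.exists_mem_sylow_not_mem S₁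
  have hle : (S₁ : Subgroup G) ⊓ A ≤ (S₁ : Subgroup G) := inf_le_left
  have hdvd : Nat.card ((S₁ : Subgroup G) ⊓ A : Subgroup G) ∣ 8 := by
    rw [← hcard]; exact Subgroup.card_dvd_of_le hle
  have hne : Nat.card ((S₁ : Subgroup G) ⊓ A : Subgroup G) ≠ 8 := by
    intro h'
    have := Subgroup.eq_of_le_of_card_ge hle (by rw [h', hcard])
    have hw' : w ∈ ((S₁ : Subgroup G) ⊓ A : Subgroup G) := by rw [this]; exact hwS
    exact hwA hw'.2
  have hdvd4 : Nat.card ((S₁ : Subgroup G) ⊓ A : Subgroup G) ∣ 4 := by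
    have hle8 := Nat.le_of_dvd (by norm_num) hdvd
    have hpos : 0 < Nat.card ((S₁ : Subgroup G) ⊓ A : Subgroup G) := Nat.card_pos
    generalize Nat.card ((S₁ : Subgroup G) ⊓ A : Subgroup G) = c at *
    interval_cases c <;> simp_all
  have hy4 : y ^ 4 = 1 := by
    have hy' : y ∈ ((S₁ : Subgroup G) ⊓ A : Subgroup G) := ⟨hyS, hyA⟩
    have h1 : orderOf y ∣ Nat.card ((S₁ : Subgroup G) ⊓ A : Subgroup G) :=
      Subgroup.orderOf_dvd_natCard _ hy'
    exact orderOf_dvd_iff_pow_eq_one.mp (h1.trans hdvd4)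
  apply h.invol
  calc (y * y) * (y * y) = y ^ 4 := by
        rw [show (4 : ℕ) = 2 + 2 from rfl, pow_add, pow_two]
    _ = 1 := hy4

omit [Finite G] in
/-- conjugating the element `i ∈ A` by an element of the normaliser of `A` -/
theorem conj_mem_torus (h : DicyclicTorus A z) {y i : G}
    (hy : y ∈ Subgroup.normalizer (A : Set G)) (hi : i ∈ A) :
    y * i * y⁻¹ = i ∨ y * i * y⁻¹ = i⁻¹ := by
  by_cases hyA : y ∈ A
  · left
    rw [h.comm y hyA i hi, mul_assoc, mul_inv_cancel, mul_one]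
  · right
    exact h.inv y hy hyA i hi

/-- conjugating `w ∉ A` by an element of `S₁` (quaternion case) -/
theorem conj_not_mem (h : DicyclicTorus A z) {S₁ : Sylow 2 G} (hS : GoodSylow A S₁)
    (h8 : ¬ 8 ∣ Nat.card A) {y w : G} (hyS : y ∈ (S₁ : Subgroup G))
    (hwS : w ∈ (S₁ : Subgroup G)) (hwA : w ∉ A) :
    y * w * y⁻¹ = w ∨ y * w * y⁻¹ = w⁻¹ := by
  have hwN := hS.le hwS
  have key : ∀ y : G, y ∈ (S₁ : Subgroup G) → y ∈ A →
      (y * w * y⁻¹ = w ∨ y * w * y⁻¹ = w⁻¹) := by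
    intro y hyS hyA
    have h1 := h.inv w hwN hwA y⁻¹ (Subgroup.inv_mem _ hyA)
    rw [inv_inv] at h1
    have h2 : w * y⁻¹ = y * w := by
      calc w * y⁻¹ = (w * y⁻¹ * w⁻¹) * w := by group
        _ = y * w := by rw [h1]
    have h3 : y * w * y⁻¹ = (y * y) * w := by
      calc y * w * y⁻¹ = y * (w * y⁻¹) := by group
        _ = y * (y * w) := by rw [h2]
        _ = (y * y) * w := by group
    rcases h.sq_of_mem_inf S₁ h8 hyS hyA with h4 | h4
    · left; rw [h3, h4, one_mul]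
    · right; rw [h3, h4, h.inv_eq_of_not_mem hwN hwA]
  by_cases hyA : y ∈ A
  · exact key y hyS hyA
  · have hyN := hS.le hyS
    have hw' : w⁻¹ ∈ Subgroup.normalizer (A : Set G) := Subgroup.inv_mem _ hwN
    have hw'A : w⁻¹ ∉ A := fun h' => hwA (by simpa using Subgroup.inv_mem _ h')
    have h1 : y * w⁻¹ ∈ A := (h.mul_mem_iff hyN hw').mpr
      ⟨fun h' => absurd h' hyA, fun h' => absurd h' hw'A⟩
    have h2 : y * w⁻¹ ∈ (S₁ : Subgroup G) := Subgroup.mul_mem _ hyS (Subgroup.inv_mem _ hwS)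
    have h3 : y * w * y⁻¹ = (y * w⁻¹) * w * (y * w⁻¹)⁻¹ := by group
    rw [h3]
    exact key _ h2 h1

/-- in the quaternion case, there is an element normalising `S₁` outside `S₁` -/
theorem exists_mem_normalizer_not_mem (h : DicyclicTorus A z) {S₁ : Sylow 2 G}
    (hS : GoodSylow A S₁) (h8 : ¬ 8 ∣ Nat.card A) :
    ∃ u ∈ Subgroup.normalizer ((S₁ : Subgroup G) : Set G), u ∉ (S₁ : Subgroup G) := by
  obtain ⟨i, hiA, hi, hiS, hi1, hiz⟩ := h.exists_sq_eq_mem hS
  obtain ⟨w, hwS, hwA⟩ := h.exists_mem_sylow_not_mem S₁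
  have hwN := hS.le hwS
  have hww := h.sq w hwN hwA
  have hw'A : w⁻¹ ∉ A := fun h' => hwA (by simpa using Subgroup.inv_mem _ h')
  obtain ⟨g₀, hg₀⟩ := h.conj4 i w hi hww
  have hg₀' : g₀ * i⁻¹ * g₀⁻¹ = w⁻¹ := by rw [← hg₀]; group
  set Mw := Subgroup.normalizer ({w, w⁻¹} : Set G) with hMw
  have hfin : Finite ({w, w⁻¹} : Set G) := Set.toFinite _
  have hA' : (S₁ : Subgroup G) ≤ Mw := by
    intro y hy
    apply Subgroup.mem_normalizer_fintype
    intro n hn
    rcases h.conj_not_mem hS h8 hy hwS hwA with h1 | h1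
    · rcases hn with rfl | hn
      · left; exact h1
      · rw [Set.mem_singleton_iff] at hn
        right
        rw [Set.mem_singleton_iff, hn]
        calc y * w⁻¹ * y⁻¹ = (y * w * y⁻¹)⁻¹ := by group
          _ = w⁻¹ := by rw [h1]
    · rcases hn with rfl | hn
      · right; exact h1
      · rw [Set.mem_singleton_iff] at hn
        left
        rw [hn]
        calc y * w⁻¹ * y⁻¹ = (y * w * y⁻¹)⁻¹ := by group
          _ = w := by rw [h1, inv_inv]
  have hB' : ((g₀ • S₁ : Sylow 2 G) : Subgroup G) ≤ Mw := by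
    intro y' hy'
    rw [Sylow.coe_subgroup_smul, mem_conj_smul_iff] at hy'
    have hyN := hS.le hy'
    have key : ∀ x : G, x ∈ A → (g₀ * x * g₀⁻¹ = w ∨ g₀ * x * g₀⁻¹ = w⁻¹) →
        (y' * (g₀ * x * g₀⁻¹) * y'⁻¹ = w ∨ y' * (g₀ * x * g₀⁻¹) * y'⁻¹ = w⁻¹) := by
      intro x hx hx'
      have e : y' * (g₀ * x * g₀⁻¹) * y'⁻¹
          = g₀ * ((g₀⁻¹ * y' * g₀) * x * (g₀⁻¹ * y' * g₀)⁻¹) * g₀⁻¹ := by group
      rw [e]
      rcases h.conj_mem_torus hyN hx with h1 | h1
      · rw [h1]; exact hx'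
      · rw [h1]
        rcases hx' with h2 | h2
        · right
          calc g₀ * x⁻¹ * g₀⁻¹ = (g₀ * x * g₀⁻¹)⁻¹ := by group
            _ = w⁻¹ := by rw [h2]
        · left
          calc g₀ * x⁻¹ * g₀⁻¹ = (g₀ * x * g₀⁻¹)⁻¹ := by group
            _ = w := by rw [h2, inv_inv]
    apply Subgroup.mem_normalizer_fintype
    intro n hn
    rcases hn with rfl | hn
    · have := key i hiA (Or.inl hg₀)
      rw [hg₀] at this
      exact this
    · rw [Set.mem_singleton_iff] at hn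
      have := key i⁻¹ (Subgroup.inv_mem _ hiA) (Or.inr hg₀')
      rw [hg₀'] at this
      rw [hn]
      exact this
  obtain ⟨n, hn⟩ := MulAction.exists_smul_eq Mw ((g₀ • S₁).subtype hB') (S₁.subtype hA')
  rw [Sylow.smul_subtype] at hn
  have hn' : n • (g₀ • S₁) = S₁ := Sylow.subtype_injective hn
  have hu : ((n : G) * g₀) • S₁ = S₁ := by
    rw [mul_smul]
    exact hn'
  refine ⟨(n : G) * g₀, Sylow.smul_eq_iff_mem_normalizer.mp hu, ?_⟩
  intro huS
  have h1 : (n : G) * g₀ * i * ((n : G) * g₀)⁻¹ ∈ A := by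
    rcases h.conj_mem_torus (hS.le huS) hiA with h1 | h1
    · rw [h1]; exact hiA
    · rw [h1]; exact Subgroup.inv_mem _ hiA
  have h2 : (n : G) * g₀ * i * ((n : G) * g₀)⁻¹ = (n : G) * w * (n : G)⁻¹ := by
    rw [← hg₀]; group
  have h3 : (n : G) * w * (n : G)⁻¹ ∈ ({w, w⁻¹} : Set G) :=
    (Subgroup.mem_set_normalizer_iff.mp n.2 w).mp (Set.mem_insert _ _)
  rw [h2] at h1
  rcases h3 with h3 | h3
  · rw [h3] at h1; exact hwA h1
  · rw [Set.mem_singleton_iff] at h3
    rw [h3] at h1; exact hw'A h1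

/-- in the quaternion case `|S₁ ∩ A| ≤ 4` -/
theorem card_inf_le_four (h : DicyclicTorus A z) (S₁ : Sylow 2 G)
    (h8 : ¬ 8 ∣ Nat.card A) : Nat.card ((S₁ : Subgroup G) ⊓ A : Subgroup G) ≤ 4 := by
  have hcard := h.card_sylow_of_not_eight_dvd S₁ h8
  obtain ⟨w, hwS, hwA⟩ := h.exists_mem_sylow_not_mem S₁
  have hle : (S₁ : Subgroup G) ⊓ A ≤ (S₁ : Subgroup G) := inf_le_left
  have hdvd : Nat.card ((S₁ : Subgroup G) ⊓ A : Subgroup G) ∣ 8 := by
    rw [← hcard]; exact Subgroup.card_dvd_of_le hle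
  have hne : Nat.card ((S₁ : Subgroup G) ⊓ A : Subgroup G) ≠ 8 := by
    intro h'
    have := Subgroup.eq_of_le_of_card_ge hle (by rw [h', hcard])
    have hw' : w ∈ ((S₁ : Subgroup G) ⊓ A : Subgroup G) := by rw [this]; exact hwS
    exact hwA hw'.2
  have hle8 := Nat.le_of_dvd (by norm_num) hdvd
  generalize Nat.card ((S₁ : Subgroup G) ⊓ A : Subgroup G) = c at *
  interval_cases c <;> simp_all

/-- in the quaternion case `|N(S₁)| ≤ 24` -/
theorem card_normalizer_le (h : DicyclicTorus A z) {S₁ : Sylow 2 G}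
    (hS : GoodSylow A S₁) (h8 : ¬ 8 ∣ Nat.card A) :
    Nat.card (Subgroup.normalizer ((S₁ : Subgroup G) : Set G)) ≤ 24 := by
  classical
  obtain ⟨i, hiA, hi, hiS, hi1, hiz⟩ := h.exists_sq_eq_mem hS
  set M := Subgroup.normalizer ((S₁ : Subgroup G) : Set G) with hM
  let rep : G → G := fun t =>
    if hh : ∃ g, g ∈ M ∧ g * i * g⁻¹ = t then Classical.choose hh else 1
  have hrep : ∀ g ∈ M, rep (g * i * g⁻¹) ∈ M ∧
      rep (g * i * g⁻¹) * i * (rep (g * i * g⁻¹))⁻¹ = g * i * g⁻¹ := by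
    intro g hg
    have hh : ∃ g', g' ∈ M ∧ g' * i * g'⁻¹ = g * i * g⁻¹ := ⟨g, hg, rfl⟩
    simp only [rep, dif_pos hh]
    exact Classical.choose_spec hh
  let f : G → G × G := fun g => ((rep (g * i * g⁻¹))⁻¹ * g, g * i * g⁻¹)
  let T : Set G := {y | y ∈ (S₁ : Subgroup G) ∧ y ≠ 1 ∧ y ≠ z}
  let S₀ : Set G := (((S₁ : Subgroup G) ⊓ A : Subgroup G) : Set G)
  have hmaps : ∀ g ∈ (M : Set G), f g ∈ S₀ ×ˢ T := by
    intro g hg
    obtain ⟨hr1, hr2⟩ := hrep g hg
    show ((rep (g * i * g⁻¹))⁻¹ * g, g * i * g⁻¹) ∈ S₀ ×ˢ T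
    generalize rep (g * i * g⁻¹) = r at hr1 hr2 ⊢
    rw [Set.mem_prod]
    refine ⟨?_, ?_, ?_, ?_⟩
    · -- `r⁻¹ g` centralises `i`
      have hrgM : r⁻¹ * g ∈ M := Subgroup.mul_mem _ (Subgroup.inv_mem _ hr1) hg
      have hcomm : r⁻¹ * g ∈ A := by
        rw [← h.cent i hiA hi1 hiz, Subgroup.mem_centralizer_iff]
        intro y hy
        rw [Set.mem_singleton_iff] at hy
        rw [hy]
        have e : r⁻¹ * (g * i * g⁻¹) * r = i := by
          rw [← hr2]; group
        calc i * (r⁻¹ * g) = (r⁻¹ * (g * i * g⁻¹) * r) * (r⁻¹ * g) := by rw [e]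
          _ = r⁻¹ * g * i := by group
      exact ⟨h.normalizer_inf_le hS hrgM (Subgroup.le_normalizer hcomm), hcomm⟩
    · exact (Subgroup.mem_normalizer_iff.mp hg i).mp hiS
    · intro h'
      exact hi1 (conj_eq_one_iff.mp h')
    · intro h'
      apply hiz
      have h'' : g * i * g⁻¹ = z := h'
      have : i = g⁻¹ * (g * i * g⁻¹) * g := by group
      rw [this, h'', mul_assoc, ← h.z_central g, ← mul_assoc, inv_mul_cancel, one_mul]
  have hinj : Set.InjOn f (M : Set G) := by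
    intro g hg g' hg' hfg
    have h1 : g * i * g⁻¹ = g' * i * g'⁻¹ := congrArg Prod.snd hfg
    have h2 : (rep (g * i * g⁻¹))⁻¹ * g = (rep (g' * i * g'⁻¹))⁻¹ * g' := congrArg Prod.fst hfg
    rw [h1] at h2
    exact mul_left_cancel h2
  have hle := Set.ncard_le_ncard_of_injOn f hmaps hinj (Set.toFinite _)
  rw [Set.ncard_prod] at hle
  have hS₀ : S₀.ncard ≤ 4 := h.card_inf_le_four S₁ h8
  have hT : T.ncard ≤ 6 := by
    have hsub : ({1, z} : Set G) ⊆ ((S₁ : Subgroup G) : Set G) := by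
      intro y hy
      rcases hy with rfl | hy
      · exact Subgroup.one_mem _
      · rw [Set.mem_singleton_iff] at hy
        rw [hy]
        exact hS.mem z h.z_mem ⟨1, by rw [pow_one, pow_two]; exact h.z_mul_self⟩
    have h1 := Set.ncard_sdiff_add_ncard_of_subset hsub (Set.toFinite _)
    rw [Set.ncard_pair (Ne.symm h.z_ne_one)] at h1
    have h2 : (((S₁ : Subgroup G) : Set G)).ncard = 8 := h.card_sylow_of_not_eight_dvd S₁ h8
    have h3 : T = ((S₁ : Subgroup G) : Set G) \ {1, z} := by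
      ext y
      simp only [T, Set.mem_ofPred_eq, Set.mem_sdiff, SetLike.mem_coe, Set.mem_insert_iff,
        Set.mem_singleton_iff, not_or]
    rw [h3]
    omega
  calc Nat.card M = (M : Set G).ncard := rfl
    _ ≤ S₀.ncard * T.ncard := hle
    _ ≤ 4 * 6 := Nat.mul_le_mul hS₀ hT
    _ = 24 := rfl

/-- in the quaternion case `|N(S₁)| = 3 |S₁|` -/
theorem card_normalizer_goodSylow (h : DicyclicTorus A z) {S₁ : Sylow 2 G}
    (hS : GoodSylow A S₁) (h8 : ¬ 8 ∣ Nat.card A) :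
    Nat.card (Subgroup.normalizer ((S₁ : Subgroup G) : Set G))
      = 3 * Nat.card (S₁ : Subgroup G) := by
  set M := Subgroup.normalizer ((S₁ : Subgroup G) : Set G) with hM
  have hcard := h.card_sylow_of_not_eight_dvd S₁ h8
  have hle := h.card_normalizer_le hS h8
  obtain ⟨u, huM, huS⟩ := h.exists_mem_normalizer_not_mem hS h8
  have h1 := Subgroup.relIndex_mul_index (Subgroup.le_normalizer (H := (S₁ : Subgroup G)))
  have hodd : ¬ 2 ∣ (S₁ : Subgroup G).relIndex M := by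
    intro h'
    apply S₁.not_dvd_index
    rw [← h1]
    exact Dvd.dvd.mul_right h' _
  have h2 := ((S₁ : Subgroup G).subgroupOf M).card_mul_index
  rw [Nat.card_congr (Subgroup.subgroupOfEquivOfLe
    (Subgroup.le_normalizer (H := (S₁ : Subgroup G)))).toEquiv] at h2
  have h3 : ((S₁ : Subgroup G).subgroupOf M).index = (S₁ : Subgroup G).relIndex M := rfl
  rw [h3] at h2
  have hne1 : (S₁ : Subgroup G).relIndex M ≠ 1 := by
    intro h'
    exact huS (Subgroup.relIndex_eq_one.mp h' huM)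
  rw [hcard] at h2 ⊢
  rw [← hM] at hle
  have : (S₁ : Subgroup G).relIndex M = 3 := by omega
  rw [← h2, this]

/-- main theorem: centraliser and normaliser of an arbitrary Sylow 2-subgroup -/
theorem sylow_two_main (h : DicyclicTorus A z) (S : Sylow 2 G) :
    (∀ c : G, c ∈ Subgroup.centralizer ((S : Subgroup G) : Set G) ↔ c = 1 ∨ c = z) ∧
    (8 ∣ Nat.card A → Subgroup.normalizer ((S : Subgroup G) : Set G) = (S : Subgroup G)) ∧
    (¬ 8 ∣ Nat.card A → Nat.card (Subgroup.normalizer ((S : Subgroup G) : Set G))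
      = 3 * Nat.card (S : Subgroup G)) := by
  obtain ⟨S₁, hS⟩ := h.exists_goodSylow
  obtain ⟨g, hg⟩ := MulAction.exists_smul_eq G S₁ S
  have hSg : (S : Subgroup G) = MulAut.conj g • (S₁ : Subgroup G) := by
    rw [← hg, Sylow.coe_subgroup_smul]
  refine ⟨?_, ?_, ?_⟩
  · intro c
    rw [hSg, centralizer_conj_smul, mem_conj_smul_iff, h.centralizer_goodSylow hS]
    constructor
    · rintro (h1 | h1)
      · left
        have : c = g * (g⁻¹ * c * g) * g⁻¹ := by group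
        rw [this, h1]; group
      · right
        have : c = g * (g⁻¹ * c * g) * g⁻¹ := by group
        rw [this, h1, h.z_central g, mul_assoc, mul_inv_cancel, mul_one]
    · rintro (rfl | rfl)
      · left; group
      · right
        rw [mul_assoc, ← h.z_central g, ← mul_assoc, inv_mul_cancel, one_mul]
  · intro h8
    rw [hSg, normalizer_conj_smul, h.normalizer_goodSylow_of_eight_dvd hS h8]
  · intro h8
    rw [hSg, normalizer_conj_smul, card_conj_smul, card_conj_smul,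
      h.card_normalizer_goodSylow hS h8]

end DicyclicTorus

end Cfsg.Agent.Lib.Helper41
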