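import Mathlib
import Cfsg.Agent.Lib.Helper41.SL2NsTorus
import Cfsg.Agent.Lib.Helper41.SL2NsTorusNorm
import Cfsg.Agent.Lib.Helper41.SL2NsTorusCard
import Cfsg.Agent.Lib.Helper41.SL2NsTorusMain
import Cfsg.Agent.Lib.Helper41.InvertCount
import Cfsg.Agent.Lib.Helper41.SL2TorusCount

set_option autoImplicit false

/-!
# Order and class number of the normaliser of the non-split torus of `SL₂(F)` (helper41)
-/

namespace Cfsg.Agent.Lib.Helper41

variable {F : Type*} [Field F]

theorem isQuad_negOne (t : F) : IsQuad t (negOne : Matrix.SpecialLinearGroup (Fin 2) F) := by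
  refine ⟨?_, ?_⟩ <;> simp [coe_negOne]

theorem sq_ne_four_of_nonsplit (h2 : (2 : F) ≠ 0) {t : F} (ht : ∀ r : F, r ^ 2 ≠ -1 + t * r) :
    t ^ 2 ≠ 4 := by
  intro h
  apply not_isSquare_of_nonsplit h2 ht
  rw [h, sub_self]
  exact IsSquare.zero

/-- a subgroup containing `-1` has exactly two elements of square `1` (odd characteristic) -/
theorem card_sq_eq_one_subgroupOf (h2 : (2 : F) ≠ 0)
    (T N : Subgroup (Matrix.SpecialLinearGroup (Fin 2) F)) (hTN : T ≤ N) (hneg : negOne ∈ T) :
    Nat.card {x : N // x ∈ T.subgroupOf N ∧ x * x = 1} = 2 := by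
  rw [Nat.card_eq_two_iff]
  refine ⟨⟨1, Subgroup.one_mem _, by simp⟩,
    ⟨⟨negOne, hTN hneg⟩, by rw [Subgroup.mem_subgroupOf]; exact hneg, by
      apply Subtype.ext
      simp only [Subgroup.coe_mul, Subgroup.coe_one]
      exact negOne_mul_self⟩, ?_, ?_⟩
  · intro h
    have h' := congrArg (fun x : {x : N // x ∈ T.subgroupOf N ∧ x * x = 1} =>
      ((x : N) : Matrix.SpecialLinearGroup (Fin 2) F)) h
    simp only [Subgroup.coe_one] at h'
    exact negOne_ne_one h2 h'.symm
  · rw [Set.eq_univ_iff_forall]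
    rintro ⟨⟨x, hx⟩, hxT, hxx⟩
    have hxx' : x * x = 1 := by
      have := congrArg (fun y : N => (y : Matrix.SpecialLinearGroup (Fin 2) F)) hxx
      simpa using this
    have hmat : (x : Matrix (Fin 2) (Fin 2) F) * (x : Matrix (Fin 2) (Fin 2) F) = 1 := by
      rw [← Matrix.SpecialLinearGroup.coe_mul, hxx']; rfl
    rcases eq_one_or_neg_one_of_mul_self h2 x hmat with h | h
    · left
      apply Subtype.ext; apply Subtype.ext
      exact Subtype.ext h
    · right
      rw [Set.mem_singleton_iff]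
      apply Subtype.ext; apply Subtype.ext
      apply Subtype.ext
      rw [h, coe_negOne]

variable [Fintype F]

theorem index_nsTorus_subgroupOf_normalizer (h2 : (2 : F) ≠ 0) {t : F} (ht : t ^ 2 ≠ 4) :
    ((nsTorus t).subgroupOf
      (Subgroup.normalizer (nsTorus t : Set (Matrix.SpecialLinearGroup (Fin 2) F)))).index = 2 := by
  obtain ⟨σ, hσ⟩ := exists_isQuadInv ht
  rw [Subgroup.index_eq_two_iff]
  refine ⟨⟨σ, (mem_normalizer_nsTorus_iff h2 ht σ).mpr (Or.inr hσ)⟩, ?_⟩
  rintro ⟨b, hb⟩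
  simp only [Subgroup.mem_subgroupOf, Subgroup.coe_mul, mem_nsTorus_iff]
  rcases (mem_normalizer_nsTorus_iff h2 ht b).mp hb with hb | hb
  · right
    exact ⟨hb, fun h => h.not_quadInv ht (hb.mul_quadInv hσ)⟩
  · left
    exact ⟨hb.mul hσ, fun h => h.not_quadInv ht hb⟩

theorem card_normalizer_nsTorus (h2 : (2 : F) ≠ 0) {t : F} (ht : ∀ r : F, r ^ 2 ≠ -1 + t * r) :
    Nat.card (Subgroup.normalizer (nsTorus t : Set (Matrix.SpecialLinearGroup (Fin 2) F)))
      = 2 * (Fintype.card F + 1) := by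
  have h := ((nsTorus t).subgroupOf
    (Subgroup.normalizer (nsTorus t : Set (Matrix.SpecialLinearGroup (Fin 2) F)))).card_mul_index
  rw [index_nsTorus_subgroupOf_normalizer h2 (sq_ne_four_of_nonsplit h2 ht),
    Nat.card_congr (Subgroup.subgroupOfEquivOfLe (Subgroup.le_normalizer (H := nsTorus t))).toEquiv,
    card_nsTorus ht] at h
  rw [← h, mul_comm]

/-- class number of the normaliser of the non-split torus -/
theorem two_mul_card_conjClasses_normalizer_nsTorus (h2 : (2 : F) ≠ 0) {t : F}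
    (ht : ∀ r : F, r ^ 2 ≠ -1 + t * r) :
    2 * Nat.card (ConjClasses
      (Subgroup.normalizer (nsTorus t : Set (Matrix.SpecialLinearGroup (Fin 2) F))))
      = (Fintype.card F + 1) + 6 := by
  have ht4 := sq_ne_four_of_nonsplit h2 ht
  set N := Subgroup.normalizer (nsTorus t : Set (Matrix.SpecialLinearGroup (Fin 2) F)) with hN
  have hinv : ∀ g : N, g ∉ (nsTorus t).subgroupOf N →
      ∀ x ∈ (nsTorus t).subgroupOf N, g * x * g⁻¹ = x⁻¹ := by
    rintro ⟨g, hg⟩ hgT ⟨x, hx⟩ hxT
    rw [Subgroup.mem_subgroupOf, mem_nsTorus_iff] at hgT hxT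
    apply Subtype.ext
    simp only [Subgroup.coe_mul, Subgroup.coe_inv]
    have hga : IsQuadInv t g := by
      rcases (mem_normalizer_nsTorus_iff h2 ht4 g).mp hg with hg | hg
      · exact absurd hg hgT
      · exact hg
    exact hga.conj_quad hxT
  have key := two_mul_card_conjClasses_of_inverting ((nsTorus t).subgroupOf N)
    (index_nsTorus_subgroupOf_normalizer h2 ht4) hinv
  have hT : Nat.card ((nsTorus t).subgroupOf N) = Fintype.card F + 1 := by
    rw [Nat.card_congr (Subgroup.subgroupOfEquivOfLe (Subgroup.le_normalizer (H := nsTorus t))).toEquiv,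
      card_nsTorus ht]
  have h2el := card_sq_eq_one_subgroupOf h2 (nsTorus t) N Subgroup.le_normalizer
    ((mem_nsTorus_iff t _).mpr (isQuad_negOne t))
  rw [key, hT, h2el]

end Cfsg.Agent.Lib.Helper41
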