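import Mathlib
import Cfsg.Agent.Lib.Helper5.SL2Sylow
import Cfsg.Agent.Lib.Helper41.SL2Basic
import Cfsg.Agent.Lib.Helper41.SL2Trace
import Cfsg.Agent.Lib.Helper41.SL2Torus
import Cfsg.Agent.Lib.Helper41.SL2TorusCount
import Cfsg.Agent.Lib.Helper41.SL2NsTorus
import Cfsg.Agent.Lib.Helper41.SL2NsTorusNorm
import Cfsg.Agent.Lib.Helper41.SL2NsTorusCard
import Cfsg.Agent.Lib.Helper41.SL2NsTorusMain
import Cfsg.Agent.Lib.Helper41.SL2NsTorusClass
import Cfsg.Agent.Lib.Helper41.DicyclicSylow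
import Cfsg.Agent.Lib.Helper41.DicyclicSylow2

set_option autoImplicit false

/-!
# Sylow 2-subgroups of `SL₂(q)`, `q` odd: the two tori as dicyclic tori (helper41)
-/

namespace Cfsg.Agent.Lib.Helper41

variable {F : Type*} [Field F]

theorem negOne_central (g : Matrix.SpecialLinearGroup (Fin 2) F) : g * negOne = negOne * g := by
  apply Subtype.ext
  rw [Matrix.SpecialLinearGroup.coe_mul, Matrix.SpecialLinearGroup.coe_mul, coe_negOne]
  simp

theorem eq_negOne_of_coe {x : Matrix.SpecialLinearGroup (Fin 2) F}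
    (h : (x : Matrix (Fin 2) (Fin 2) F) = -1) : x = negOne := by
  apply Subtype.ext
  rw [h, coe_negOne]

theorem eq_one_or_negOne_of_mul_self (h2 : (2 : F) ≠ 0) (x : Matrix.SpecialLinearGroup (Fin 2) F)
    (hx : x * x = 1) : x = 1 ∨ x = negOne := by
  have hmat : (x : Matrix (Fin 2) (Fin 2) F) * (x : Matrix (Fin 2) (Fin 2) F) = 1 := by
    rw [← Matrix.SpecialLinearGroup.coe_mul, hx]; rfl
  rcases eq_one_or_neg_one_of_mul_self h2 x hmat with h | h
  · left; exact Subtype.ext h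
  · right; exact eq_negOne_of_coe h

theorem tr2_eq_zero_of_mul_self {x : Matrix.SpecialLinearGroup (Fin 2) F}
    (hx : x * x = negOne) : tr2 x = 0 := by
  have hmat : (x : Matrix (Fin 2) (Fin 2) F) * (x : Matrix (Fin 2) (Fin 2) F) = -1 := by
    rw [← Matrix.SpecialLinearGroup.coe_mul, hx, coe_negOne]
  have hch := cayley_hamilton x
  rw [hmat] at hch
  have h0 : tr2 x • (x : Matrix (Fin 2) (Fin 2) F) = 0 := by
    have : tr2 x • (x : Matrix (Fin 2) (Fin 2) F) = (-1 : Matrix (Fin 2) (Fin 2) F) + 1 := by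
      rw [hch]; abel
    rw [this]; simp
  by_contra hne
  have hx0 : (x : Matrix (Fin 2) (Fin 2) F) = 0 := by
    have := congrArg (fun M => (tr2 x)⁻¹ • M) h0
    simpa [smul_smul, inv_mul_cancel₀ hne] using this
  have hd := sl2_det x
  rw [hx0] at hd
  simp at hd

theorem exists_conj_of_mul_self_eq_negOne [Fintype F] (h2 : (2 : F) ≠ 0)
    (x y : Matrix.SpecialLinearGroup (Fin 2) F) (hx : x * x = negOne) (hy : y * y = negOne) :
    ∃ g : Matrix.SpecialLinearGroup (Fin 2) F, g * x * g⁻¹ = y := by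
  have h4 : (4 : F) ≠ 0 := by
    have : (4 : F) = 2 * 2 := by norm_num
    rw [this]; exact mul_ne_zero h2 h2
  have hc : IsConj x y := isConj_of_tr2_eq x y (by
    rw [tr2_eq_zero_of_mul_self hx]
    intro h; apply h4; rw [← h]; ring)
    (by rw [tr2_eq_zero_of_mul_self hx, tr2_eq_zero_of_mul_self hy])
  rw [isConj_iff] at hc
  exact hc

theorem IsDiag.commute {g h : Matrix.SpecialLinearGroup (Fin 2) F}
    (hg : IsDiag g) (hh : IsDiag h) : g * h = h * g := by
  apply sl2_ext <;>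
    simp only [mul_apply_00, mul_apply_01, mul_apply_10, mul_apply_11, hg.1, hg.2, hh.1, hh.2] <;>
    ring

theorem isCyclic_diagSub [Fintype F] : IsCyclic (diagSub F) := by
  rw [diagSub_eq_range]
  exact isCyclic_of_surjective (diagHom (F := F)).rangeRestrict
    (diagHom (F := F)).rangeRestrict_surjective

/-- a diagonal element other than `±1` is regular -/
theorem IsDiag.sq_ne_one {x : Matrix.SpecialLinearGroup (Fin 2) F} (hx : IsDiag x)
    (h1 : x ≠ 1) (hz : x ≠ negOne) : (x : Matrix (Fin 2) (Fin 2) F) 0 0 ^ 2 ≠ 1 := by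
  intro ha
  have hdet := sl2_det x
  rw [hx.1, zero_mul, sub_zero] at hdet
  have h11 : (x : Matrix (Fin 2) (Fin 2) F) 1 1 = (x : Matrix (Fin 2) (Fin 2) F) 0 0 := by
    calc (x : Matrix (Fin 2) (Fin 2) F) 1 1
        = (x : Matrix (Fin 2) (Fin 2) F) 0 0 ^ 2 * (x : Matrix (Fin 2) (Fin 2) F) 1 1 := by
          rw [ha, one_mul]
      _ = (x : Matrix (Fin 2) (Fin 2) F) 0 0 := by
          rw [pow_two, mul_assoc, hdet, mul_one]
  have : ((x : Matrix (Fin 2) (Fin 2) F) 0 0 - 1) * ((x : Matrix (Fin 2) (Fin 2) F) 0 0 + 1) = 0 := by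
    linear_combination ha
  rcases mul_eq_zero.mp this with h | h
  · apply h1
    have ha1 : (x : Matrix (Fin 2) (Fin 2) F) 0 0 = 1 := by linear_combination h
    apply sl2_ext <;> simp [hx.1, hx.2, h11, ha1]
  · apply hz
    have ha1 : (x : Matrix (Fin 2) (Fin 2) F) 0 0 = -1 := by linear_combination h
    apply sl2_ext <;> simp [hx.1, hx.2, h11, ha1, coe_negOne]

end Cfsg.Agent.Lib.Helper41
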