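import Mathlib
import Cfsg.Agent.Lib.Helper11.CAClass8

set_option autoImplicit false

/-!
# The class equation `|K| = |N| (|P| + 1)` for `|P| ≥ 4` (helper41)

helper11's `CAData.card_eq_mul` assumes `|P| ≥ 5`.  The same proof works for `|P| = 4`
(needed for `SL₂(4) ≅ A₅` inside `SL₂(2^f)`); this file is a copy of helper11's arithmetic with the
weaker hypothesis.
-/

namespace Cfsg.Agent.Lib.Helper41

open Cfsg.Agent.Lib.Helper11

theorem arith_final_four (q ω r t' a' : ℕ) (hq : 4 ≤ q) (hω : ω = 1 + r * q) (hr : 1 ≤ r)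
    (ht : t' ≤ q - 1) (ht1 : 1 ≤ t') (heq : ω * q * t' = a' * (2 + ω * (q - 2))) : r = 1 := by
  obtain ⟨Q, rfl⟩ : ∃ Q, q = Q + 2 := ⟨q - 2, by omega⟩
  have hQ : 2 ≤ Q := by omega
  simp only [Nat.add_sub_cancel] at heq
  set m := 1 + r * Q with hm
  have h1 : 2 + ω * Q = (Q + 2) * m := by rw [hω, hm]; ring
  rw [h1] at heq
  have h2 : ω * t' = a' * m := by
    have : (Q + 2) * (ω * t') = (Q + 2) * (a' * m) := by
      calc (Q + 2) * (ω * t') = ω * (Q + 2) * t' := by ring
        _ = a' * ((Q + 2) * m) := heq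
        _ = (Q + 2) * (a' * m) := by ring
    exact Nat.eq_of_mul_eq_mul_left (by omega) this
  have h3 : ω = m + 2 * r := by rw [hω, hm]; ring
  rw [h3] at h2
  have h4 : m ∣ r * (2 * t') := by
    have h5 : m ∣ m * t' + r * (2 * t') := ⟨a', by rw [mul_comm m a', ← h2]; ring⟩
    exact (Nat.dvd_add_right (dvd_mul_right m t')).mp h5
  have hcop : Nat.Coprime m r := by rw [hm]; simp
  have h6 : m ∣ 2 * t' := hcop.dvd_of_dvd_mul_left h4
  have h7 : m ≤ 2 * t' := Nat.le_of_dvd (by omega) h6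
  by_contra hr1
  have hr2 : 2 ≤ r := by omega
  rcases Nat.lt_or_ge r 3 with hlt | hge
  · have hr' : r = 2 := by omega
    subst hr'
    have hcop2 : Nat.Coprime m 2 := by
      rw [hm]
      rw [Nat.coprime_comm, Nat.Prime.coprime_iff_not_dvd Nat.prime_two]
      omega
    have h8 : m ∣ t' := hcop2.dvd_of_dvd_mul_left h6
    have h9 : m ≤ t' := Nat.le_of_dvd (by omega) h8
    omega
  · have : 1 + 3 * Q ≤ m := by
      rw [hm]
      have := Nat.mul_le_mul_right Q hge
      omega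
    omega


theorem arithA_four (k z q n ω sp xsn : ℕ) (hz : 0 < z) (hq : 4 ≤ q) (hω : 2 ≤ ω)
    (h1 : ω * n = k) (h2 : sp = ω * (q * z - z)) (h3 : k = z + sp + xsn) (h4 : n = q * z) :
    0 < xsn ∧ ¬ (k ≤ 4 * xsn) := by
  have hzq : z ≤ q * z := Nat.le_mul_of_pos_left z (by omega)
  have h2Z : (sp : ℤ) = (ω : ℤ) * ((q : ℤ) * z - z) := by
    rw [h2]; push_cast [Nat.cast_sub hzq]; ring
  have h3Z : (k : ℤ) = z + sp + xsn := by rw [h3]; push_cast; ring
  have h1Z : (k : ℤ) = (ω : ℤ) * (q * z) := by rw [← h1, h4]; push_cast; ring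
  have hq5 : (4 : ℤ) ≤ q := by exact_mod_cast hq
  have hω2 : (2 : ℤ) ≤ ω := by exact_mod_cast hω
  have hz1 : (1 : ℤ) ≤ z := by exact_mod_cast hz
  have hx : (xsn : ℤ) = (ω : ℤ) * z - z := by
    rw [h1Z, h2Z] at h3Z; linarith
  constructor
  · have : (0 : ℤ) < xsn := by rw [hx]; nlinarith
    exact_mod_cast this
  · intro h5
    have h5Z : (k : ℤ) ≤ 4 * xsn := by exact_mod_cast h5
    rw [h1Z, hx] at h5Z
    have : (0 : ℤ) ≤ (ω : ℤ) * z := by positivity
    nlinarith

theorem arithB1_four (k z q n ω sp xsn t id covd : ℕ) (hz : 0 < z) (hq : 4 ≤ q) (hω : 2 ≤ ω)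
    (h1 : ω * n = k) (h2 : sp = ω * (q * z - z)) (h3 : k = z + sp + xsn) (h4 : n = q * t)
    (ht2 : 2 * z ≤ t) (h5 : id * t = k) (h6 : covd = id * (t - z)) :
    ¬ (xsn ≤ covd) ∧ ∀ covy : ℕ, covd + covy ≤ xsn → ¬ (k ≤ 4 * covy) := by
  have hzq : z ≤ q * z := Nat.le_mul_of_pos_left z (by omega)
  have hzt : z ≤ t := by omega
  have h2Z : (sp : ℤ) = (ω : ℤ) * ((q : ℤ) * z - z) := by
    rw [h2]; push_cast [Nat.cast_sub hzq]; ring
  have h3Z : (k : ℤ) = z + sp + xsn := by rw [h3]; push_cast; ring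
  have h1Z : (k : ℤ) = (ω : ℤ) * (q * t) := by rw [← h1, h4]; push_cast; ring
  have hq5 : (4 : ℤ) ≤ q := by exact_mod_cast hq
  have hω2 : (2 : ℤ) ≤ ω := by exact_mod_cast hω
  have hz1 : (1 : ℤ) ≤ z := by exact_mod_cast hz
  have ht2Z : (2 : ℤ) * z ≤ t := by exact_mod_cast ht2
  have hid : id = ω * q := by
    have : id * t = ω * q * t := by rw [h5, ← h1, h4]; ring
    exact Nat.eq_of_mul_eq_mul_right (by omega) this
  have h6Z : (covd : ℤ) = (ω : ℤ) * q * ((t : ℤ) - z) := by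
    rw [h6, hid]; push_cast [Nat.cast_sub hzt]; ring
  have hdiff : (xsn : ℤ) - covd = (ω : ℤ) * z - z := by
    rw [h1Z, h2Z] at h3Z; rw [h6Z]; linarith
  constructor
  · intro hle
    have : (xsn : ℤ) ≤ covd := by exact_mod_cast hle
    nlinarith
  · intro covy hle h4
    have hleZ : (covd : ℤ) + covy ≤ xsn := by exact_mod_cast hle
    have h4Z : (k : ℤ) ≤ 4 * covy := by exact_mod_cast h4
    have hωz : (0 : ℤ) ≤ (ω : ℤ) * z := by positivity
    have h7 : (ω : ℤ) * (q * t) ≥ 10 * (ω * z) := by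
      have : (q : ℤ) * t ≥ 10 * z := by nlinarith
      nlinarith
    rw [h1Z] at h4Z
    linarith

theorem arithB2_four (k z q n ω sp xsn t id covd : ℕ) (hz : 0 < z) (hq : 4 ≤ q) (hω : 2 ≤ ω)
    (h1 : ω * n = k) (h2 : sp = ω * (q * z - z)) (h3 : k = z + sp + xsn) (h4 : n = q * t)
    (ht2 : 2 * z ≤ t) (h5 : id * (2 * t) = k) (h6 : covd = id * (t - z)) :
    ¬ (xsn ≤ covd) ∧ (∀ covy : ℕ, covd + covy ≤ xsn → ¬ (k ≤ 2 * covy)) ∧
    (∀ covy covy' : ℕ, covd + covy + covy' ≤ xsn → k ≤ 4 * covy → ¬ (k ≤ 4 * covy')) ∧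
    (∀ covy iy a t' a' : ℕ, xsn = covd + covy → iy * (2 * a) = k → covy = iy * (a - z) → z ≤ a →
      t = z * t' → a = z * a' → ω * q * t' = a' * (2 + ω * (q - 2))) := by
  have hzq : z ≤ q * z := Nat.le_mul_of_pos_left z (by omega)
  have hzt : z ≤ t := by omega
  have h2Z : (sp : ℤ) = (ω : ℤ) * ((q : ℤ) * z - z) := by
    rw [h2]; push_cast [Nat.cast_sub hzq]; ring
  have h3Z : (k : ℤ) = z + sp + xsn := by rw [h3]; push_cast; ring
  have h1Z : (k : ℤ) = (ω : ℤ) * (q * t) := by rw [← h1, h4]; push_cast; ring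
  have hq5 : (4 : ℤ) ≤ q := by exact_mod_cast hq
  have hω2 : (2 : ℤ) ≤ ω := by exact_mod_cast hω
  have hz1 : (1 : ℤ) ≤ z := by exact_mod_cast hz
  have ht2Z : (2 : ℤ) * z ≤ t := by exact_mod_cast ht2
  have hid : 2 * id = ω * q := by
    have : (2 * id) * t = ω * q * t := by
      have : id * (2 * t) = ω * (q * t) := by rw [h5, ← h1, h4]
      linarith
    exact Nat.eq_of_mul_eq_mul_right (by omega) this
  have hidZ : 2 * (id : ℤ) = (ω : ℤ) * q := by exact_mod_cast hid
  have h6Z : 2 * (covd : ℤ) = (ω : ℤ) * q * ((t : ℤ) - z) := by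
    rw [h6]; push_cast [Nat.cast_sub hzt]; rw [← hidZ]; ring
  have hdiff : 2 * ((xsn : ℤ) - covd) = (ω : ℤ) * q * t - 2 * z - ω * q * z + 2 * ω * z := by
    rw [h1Z, h2Z] at h3Z; linarith
  have hωz0 : (0 : ℤ) ≤ (ω : ℤ) * z := by positivity
  have hωqz : (ω : ℤ) * q * z ≥ 4 * (ω * z) := by
    have h8 := mul_nonneg (sub_nonneg.mpr hq5) hωz0
    have e : ((q : ℤ) - 4) * ((ω : ℤ) * z) = ω * q * z - 4 * (ω * z) := by ring
    linarith
  have hωqt : (ω : ℤ) * q * t ≥ 2 * (ω * q * z) := by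
    have h9 : (0 : ℤ) ≤ (ω : ℤ) * q := by positivity
    have h8 := mul_nonneg h9 (sub_nonneg.mpr ht2Z)
    have e : (ω : ℤ) * q * ((t : ℤ) - 2 * z) = ω * q * t - 2 * (ω * q * z) := by ring
    linarith
  have hωz2 : (ω : ℤ) * z ≥ 2 * z := by
    have h8 := mul_nonneg (sub_nonneg.mpr hω2) (by linarith : (0 : ℤ) ≤ z)
    have e : ((ω : ℤ) - 2) * z = ω * z - 2 * z := by ring
    linarith
  have hlt : 2 * ((xsn : ℤ) - covd) < k := by
    rw [hdiff, h1Z]
    have e : (ω : ℤ) * (q * t) = ω * q * t := by ring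
    rw [e]
    linarith
  refine ⟨?_, ?_, ?_, ?_⟩
  · intro hle
    have : (xsn : ℤ) ≤ covd := by exact_mod_cast hle
    have h9 : 2 * ((xsn : ℤ) - covd) > 0 := by
      rw [hdiff]; linarith
    linarith
  · intro covy hle h4
    have hleZ : (covd : ℤ) + covy ≤ xsn := by exact_mod_cast hle
    have h4Z : (k : ℤ) ≤ 2 * covy := by exact_mod_cast h4
    linarith
  · intro covy covy' hle h4 h4'
    have hleZ : (covd : ℤ) + covy + covy' ≤ xsn := by exact_mod_cast hle
    have h4Z : (k : ℤ) ≤ 4 * covy := by exact_mod_cast h4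
    have h4Z' : (k : ℤ) ≤ 4 * covy' := by exact_mod_cast h4'
    linarith
  · intro covy iy a t' a' hx hky hcovy hza ht' ha'
    have hxZ : (xsn : ℤ) = covd + covy := by exact_mod_cast hx
    have hcovyZ : (covy : ℤ) = (iy : ℤ) * ((a : ℤ) - z) := by
      rw [hcovy]; push_cast [Nat.cast_sub hza]; ring
    have hkyZ : (iy : ℤ) * (2 * a) = (ω : ℤ) * q * t := by
      have : ((iy * (2 * a) : ℕ) : ℤ) = (k : ℤ) := by rw [hky]
      push_cast at this
      rw [this, h1Z]; ring
    have h5' : 2 * (iy : ℤ) * z = 2 * z + (ω : ℤ) * q * z - 2 * ω * z := by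
      have h6' : 2 * (covy : ℤ) = 2 * ((xsn : ℤ) - covd) := by linarith
      rw [hdiff, hcovyZ] at h6'
      linarith
    have h7 : 2 * (iy : ℤ) = 2 + (ω : ℤ) * q - 2 * ω := by
      have : (2 * (iy : ℤ) - (2 + (ω : ℤ) * q - 2 * ω)) * z = 0 := by linarith
      rcases mul_eq_zero.mp this with h8 | h8
      · linarith
      · exfalso; linarith
    have hq2 : 2 ≤ q := by omega
    have hfinalZ : ((ω * q * t' : ℕ) : ℤ) = ((a' * (2 + ω * (q - 2)) : ℕ) : ℤ) := by
      push_cast [Nat.cast_sub hq2]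
      have hta : (ω : ℤ) * q * t = a * (2 + ω * q - 2 * ω) := by
        rw [← hkyZ, ← h7]; ring
      have htZ : (t : ℤ) = z * t' := by rw [ht']; push_cast; ring
      have haZ : (a : ℤ) = z * a' := by rw [ha']; push_cast; ring
      rw [htZ, haZ] at hta
      have : (z : ℤ) * ((ω : ℤ) * q * t' - a' * (2 + ω * (q - 2))) = 0 := by linarith
      rcases mul_eq_zero.mp this with h8 | h8
      · exfalso; linarith
      · linarith
    exact_mod_cast hfinalZ

section

variable {K : Type*} [Group K] {Z P N : Subgroup K}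

/-- Main counting theorem: for a group with abelian centralizers modulo the central subgroup `Z`
(in the sense of `CAData`), `|P| ≥ 4` and `N ≠ K`, we have `|K| = |N| (|P| + 1)`. -/
theorem card_eq_mul_four [Finite K] (h : CAData Z P N) (hq : 4 ≤ Nat.card P) (hne : N ≠ ⊤) :
    Nat.card K = Nat.card N * (Nat.card P + 1) := by
  classical
  have hzpos : 0 < Nat.card Z := Nat.card_pos
  have hkωn : N.index * Nat.card N = Nat.card K := Subgroup.index_mul_card N
  obtain ⟨r, hr⟩ := h.index_eq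
  have hω2 : 2 ≤ N.index := by
    have h1 : N.index ≠ 1 := fun h1 => hne (Subgroup.index_eq_one.mp h1)
    have h0 : N.index ≠ 0 := Subgroup.index_ne_zero_of_finite
    omega
  have hr1 : 1 ≤ r := by
    by_contra hh
    have : r = 0 := by omega
    rw [this] at hr
    omega
  have hsp := h.ncard_sp
  rw [card_pz h.hZ h.hPZ] at hsp
  have hcard := h.card_eq
  by_cases hNpz : ∀ d ∈ N, d ∈ pz Z P h.hZ
  · -- Case A: N = P Z
    exfalso
    have hNeq : N = pz Z P h.hZ := le_antisymm hNpz h.pz_le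
    have hnqz : Nat.card N = Nat.card P * Nat.card Z := by
      conv_lhs => rw [hNeq]
      exact card_pz h.hZ h.hPZ
    obtain ⟨hpos, hA⟩ := arithA_four _ _ _ _ _ _ _ hzpos hq hω2 hkωn hsp hcard hnqz
    obtain ⟨y, hy⟩ := (Set.ncard_pos (Set.toFinite _)).mp hpos
    have h4 := (h.quarter hy).1
    have hle := Set.ncard_le_ncard (h.cover_subset_xs hy) (Set.toFinite _)
    exact hA (h4.trans (Nat.mul_le_mul_left _ hle))
  · -- Case B
    push Not at hNpz
    obtain ⟨d, hdN, hd⟩ := hNpz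
    have hdZ := h.not_mem_Z_of_not_mem_pz hd
    have hdS := h.not_inSp_of_mem_N hdN hd
    have hdxs : d ∈ xs Z P := ⟨hdZ, hdS⟩
    have hnqt := h.card_N hdN hd
    have ht2 := h.two_mul_card_le_card_cen hdZ
    have htle := h.card_cen_le hdN hd (by omega)
    obtain ⟨t', ht'⟩ := Subgroup.card_dvd_of_le (le_cen h.hZ d)
    have hcovd := h.ncard_cover_cen hdZ
    have hkd := Subgroup.index_mul_card (Subgroup.normalizer (cen d : Set K))
    -- existence of a further class
    have hexists : ¬ ((xs Z P).ncard ≤ (coverZ Z (cen d)).ncard) →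
        ∃ y ∈ xs Z P, y ∉ coverZ Z (cen d) := by
      intro hlt
      by_contra hno
      push Not at hno
      exact hlt (Set.ncard_le_ncard (fun y hy => hno y hy) (Set.toFinite _))
    rcases h.normalizer_cen hdZ hdS with hM | hM
    · -- B1 : N(T) = T
      exfalso
      rw [hM] at hkd hcovd
      obtain ⟨hB1, hB2⟩ := arithB1_four _ _ _ _ _ _ _ _ _ _ hzpos hq hω2 hkωn hsp hcard hnqt ht2 hkd hcovd
      obtain ⟨y, hy, hyd⟩ := hexists hB1
      exact hB2 _ (h.cov_add_le hdxs hy hyd) (h.quarter hy).1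
    · -- B2 : |N(T)| = 2 |T|
      rw [hM] at hkd
      obtain ⟨hB1, hB2, hB3, hB4⟩ :=
        arithB2_four _ _ _ _ _ _ _ _ _ _ hzpos hq hω2 hkωn hsp hcard hnqt ht2 hkd hcovd
      obtain ⟨y, hy, hyd⟩ := hexists hB1
      have hle := h.cov_add_le hdxs hy hyd
      have hquart := h.quarter hy
      rcases h.normalizer_cen hy.1 hy.2 with hMy | hMy
      · exfalso
        exact hB2 _ hle (hquart.2 hMy)
      · by_cases hex : ∃ y' ∈ xs Z P, y' ∉ coverZ Z (cen d) ∧ y' ∉ coverZ Z (cen y)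
        · exfalso
          obtain ⟨y', hy', hy'd, hy'y⟩ := hex
          exact hB3 _ _ (h.cov_add_add_le hdxs hy hy' hyd hy'd hy'y) hquart.1 (h.quarter hy').1
        · push Not at hex
          have hsub : xs Z P ⊆ coverZ Z (cen d) ∪ coverZ Z (cen y) := by
            intro w hw
            by_cases hwd : w ∈ coverZ Z (cen d)
            · exact Or.inl hwd
            · exact Or.inr (hex w hw hwd)
          have hle2 : (xs Z P).ncard ≤ (coverZ Z (cen d)).ncard + (coverZ Z (cen y)).ncard :=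
            (Set.ncard_le_ncard hsub (Set.toFinite _)).trans (Set.ncard_union_le _ _)
          have hcovy := h.ncard_cover_cen hy.1
          have hky := Subgroup.index_mul_card (Subgroup.normalizer (cen y : Set K))
          rw [hMy] at hky
          have ha2 := h.two_mul_card_le_card_cen hy.1
          obtain ⟨a', ha'⟩ := Subgroup.card_dvd_of_le (le_cen h.hZ y)
          have hfinal := hB4 _ _ _ t' a' (le_antisymm hle2 hle) hky hcovy (by omega) ht' ha'
          have ht'le : t' ≤ Nat.card P - 1 := by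
            rw [ht'] at htle
            exact Nat.le_of_mul_le_mul_left htle hzpos
          have ht'1 : 1 ≤ t' := by
            by_contra hh
            have : t' = 0 := by omega
            rw [this] at ht'
            omega
          have hr' := arith_final_four _ _ r t' a' hq hr hr1 ht'le ht'1 hfinal
          rw [hr'] at hr
          rw [← hkωn, hr]; ring

end


end Cfsg.Agent.Lib.Helper41
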