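import Mathlib
import Cfsg.Agent.Lib.Helper11.DicksonCA
import Cfsg.Agent.Lib.Helper42.PPrimeTorus

set_option autoImplicit false

/-!
# Characteristic-free version of helper11's `caData_of_subgroup` (helper41)

helper11's verification of the class-equation hypotheses `CAData` for subgroups of `SL₂(F)` assumes
`2 ≠ 0`.  Here the same statements are proved in every characteristic (copy of helper11's proofs
with the `2 ≠ 0` steps replaced), so that the class equation is also available in characteristic 2.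
-/

namespace Cfsg.Agent.Lib.Helper41

open Cfsg.Agent.Lib.Helper11 Cfsg.Agent.Lib.Helper42

variable {F : Type*} [Field F]

/-- a nontrivial unitriangular element is not scalar -/
theorem not_isScalarMat_of_mem_uniSub {x : Matrix.SpecialLinearGroup (Fin 2) F}
    (hx : x ∈ uniSub F) (hx1 : x ≠ 1) : ¬ IsScalarMat (x : Matrix (Fin 2) (Fin 2) F) := by
  rintro ⟨h01, -, -⟩
  apply hx1
  apply sl2_ext
  · rw [hx.2]; simp
  · rw [h01]; simp
  · rw [hx.1]; simp
  · rw [uniSub_apply_11 hx]; simp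

/-- the centralizer of a nontrivial unitriangular element is `± uniSub` (any characteristic) -/
theorem centralizer_uniSub' {x c : Matrix.SpecialLinearGroup (Fin 2) F}
    (hx : x ∈ uniSub F) (hx1 : x ≠ 1) (hc : c * x = x * c) :
    c ∈ uniSub F ∨ c * (-1) ∈ uniSub F := by
  have hns := not_isScalarMat_of_mem_uniSub hx hx1
  obtain ⟨α, β, hα⟩ := exists_eq_smul_add _ _ hns (coe_mul_comm_of_comm hc)
  have c10 : (c : Matrix (Fin 2) (Fin 2) F) 1 0 = 0 := by
    rw [hα]; simp [hx.1]
  have c00 : (c : Matrix (Fin 2) (Fin 2) F) 0 0 = α + β := by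
    rw [hα]; simp [hx.2]
  have c11 : (c : Matrix (Fin 2) (Fin 2) F) 1 1 = α + β := by
    rw [hα]; simp [uniSub_apply_11 hx]
  have hd := sl2_det c
  rw [c10, c00, c11] at hd
  have : (α + β - 1) * (α + β + 1) = 0 := by linear_combination hd
  rcases mul_eq_zero.mp this with h | h
  · left
    exact ⟨c10, by rw [c00]; linear_combination h⟩
  · right
    refine ⟨?_, ?_⟩
    · rw [mul_apply_10, c10]; simp
    · rw [mul_apply_00, c00]; simp
      linear_combination -h

/-- something commuting with a nontrivial unitriangular element and of trace `2` is unitriangular -/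
theorem mem_uniSub_of_comm' {x c : Matrix.SpecialLinearGroup (Fin 2) F}
    (hx : x ∈ uniSub F) (hx1 : x ≠ 1) (hc : c * x = x * c) (ht : tr2 c = 2) : c ∈ uniSub F := by
  apply mem_uniSub_of_tr2 _ ht
  rcases centralizer_uniSub' hx hx1 hc with h | h
  · exact uniSub_le_borelSub h
  · exact mem_borelSub_of_mul_neg_one (uniSub_le_borelSub h)

/-- every trace-2 element of `H` is `H`-conjugate into `H ∩ U`, if the latter is nontrivial
(any characteristic) -/
theorem exists_conj_mem_uniSub' (p : ℕ) [Fact p.Prime] [CharP F p]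
    (H : Subgroup (Matrix.SpecialLinearGroup (Fin 2) F)) [Finite H]
    (x₀ : Matrix.SpecialLinearGroup (Fin 2) F) (hx₀H : x₀ ∈ H) (hx₀ : x₀ ∈ uniSub F) (hx₀1 : x₀ ≠ 1)
    (y : Matrix.SpecialLinearGroup (Fin 2) F) (hyH : y ∈ H) (hy : tr2 y = 2) :
    ∃ k ∈ H, k⁻¹ * y * k ∈ uniSub F := by
  classical
  have hPs := isPGroup_uniSub_subgroupOf p H
  obtain ⟨Q, hQ⟩ := hPs.exists_le_sylow
  -- Q ≤ Ps
  have hQle : (Q : Subgroup H) ≤ (uniSub F).subgroupOf H := by
    have hx₀Q : (⟨x₀, hx₀H⟩ : H) ∈ (Q : Subgroup H) := hQ (by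
      rw [Subgroup.mem_subgroupOf]; exact hx₀)
    have hnt : Nontrivial (Q : Subgroup H) := by
      refine ⟨⟨⟨⟨x₀, hx₀H⟩, hx₀Q⟩, 1, ?_⟩⟩
      intro hh
      apply hx₀1
      have := congrArg (fun t : (Q : Subgroup H) => ((t : H) : Matrix.SpecialLinearGroup (Fin 2) F)) hh
      simpa using this
    have hcn := IsPGroup.center_nontrivial (Q.isPGroup')
    obtain ⟨⟨c, hcc⟩, hc1⟩ := exists_ne (1 : Subgroup.center (Q : Subgroup H))
    have hc1' : ((c : H) : Matrix.SpecialLinearGroup (Fin 2) F) ≠ 1 := by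
      intro hh
      apply hc1
      apply Subtype.ext
      apply Subtype.ext
      apply Subtype.ext
      simpa using hh
    -- trace of p-elements of Q
    have htr : ∀ r : (Q : Subgroup H), tr2 ((r : H) : Matrix.SpecialLinearGroup (Fin 2) F) = 2 := by
      intro r
      obtain ⟨k, hk⟩ := Q.isPGroup' r
      apply tr2_eq_two_of_pow p _ k
      have := congrArg (fun t : (Q : Subgroup H) => ((t : H) : Matrix.SpecialLinearGroup (Fin 2) F)) hk
      simpa using this
    -- c commutes with x₀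
    have hcx : ((c : H) : Matrix.SpecialLinearGroup (Fin 2) F) * x₀
        = x₀ * ((c : H) : Matrix.SpecialLinearGroup (Fin 2) F) := by
      have := Subgroup.mem_center_iff.mp hcc ⟨⟨x₀, hx₀H⟩, hx₀Q⟩
      have := congrArg (fun t : (Q : Subgroup H) => ((t : H) : Matrix.SpecialLinearGroup (Fin 2) F)) this
      simpa using this.symm
    have hcU : ((c : H) : Matrix.SpecialLinearGroup (Fin 2) F) ∈ uniSub F :=
      mem_uniSub_of_comm' hx₀ hx₀1 hcx (htr c)
    intro r hr
    rw [Subgroup.mem_subgroupOf]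
    have hrc : (r : Matrix.SpecialLinearGroup (Fin 2) F) * ((c : H) : Matrix.SpecialLinearGroup (Fin 2) F)
        = ((c : H) : Matrix.SpecialLinearGroup (Fin 2) F) * (r : Matrix.SpecialLinearGroup (Fin 2) F) := by
      have := Subgroup.mem_center_iff.mp hcc ⟨r, hr⟩
      have := congrArg (fun t : (Q : Subgroup H) => ((t : H) : Matrix.SpecialLinearGroup (Fin 2) F)) this
      simpa using this
    exact mem_uniSub_of_comm' hcU hc1' hrc (htr ⟨r, hr⟩)
  -- the cyclic group generated by y is a p-group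
  have hyp : (y : Matrix.SpecialLinearGroup (Fin 2) F) ^ p = 1 := pow_char_eq_one_of_tr2 p y hy
  have hzp : IsPGroup p (Subgroup.zpowers (⟨y, hyH⟩ : H)) := by
    rintro ⟨g, hg⟩
    obtain ⟨m, rfl⟩ := Subgroup.mem_zpowers_iff.mp hg
    refine ⟨1, ?_⟩
    apply Subtype.ext
    apply Subtype.ext
    simp only [pow_one, Subgroup.coe_pow, Subgroup.coe_zpow, Subgroup.coe_one]
    rw [← zpow_natCast, ← zpow_mul, mul_comm, zpow_mul, zpow_natCast, hyp, one_zpow]
  obtain ⟨Q', hQ'⟩ := hzp.exists_le_sylow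
  obtain ⟨k, hk⟩ := MulAction.exists_smul_eq H Q' Q
  have hyQ' : (⟨y, hyH⟩ : H) ∈ (Q' : Subgroup H) := hQ' (Subgroup.mem_zpowers _)
  have hmem : k * (⟨y, hyH⟩ : H) * k⁻¹ ∈ (Q : Subgroup H) := by
    rw [← hk, Sylow.coe_subgroup_smul]
    have := Subgroup.smul_mem_pointwise_smul (⟨y, hyH⟩ : H) (MulAut.conj k) (Q' : Subgroup H) hyQ'
    simpa [MulAut.smul_def] using this
  have hmem2 := hQle hmem
  rw [Subgroup.mem_subgroupOf] at hmem2
  refine ⟨((k⁻¹ : H) : Matrix.SpecialLinearGroup (Fin 2) F), (k⁻¹ : H).2, ?_⟩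
  have e : (((k⁻¹ : H) : Matrix.SpecialLinearGroup (Fin 2) F))⁻¹ * y * ((k⁻¹ : H) : Matrix.SpecialLinearGroup (Fin 2) F)
      = ((k * (⟨y, hyH⟩ : H) * k⁻¹ : H) : Matrix.SpecialLinearGroup (Fin 2) F) := by
    simp
  rw [e]
  exact hmem2

theorem inSp_of_tr2_sq' (p : ℕ) [Fact p.Prime] [CharP F p]
    (H : Subgroup (Matrix.SpecialLinearGroup (Fin 2) F)) [Finite H]
    (hZH : Subgroup.center (Matrix.SpecialLinearGroup (Fin 2) F) ≤ H)
    (x₀ : Matrix.SpecialLinearGroup (Fin 2) F) (hx₀H : x₀ ∈ H) (hx₀ : x₀ ∈ uniSub F) (hx₀1 : x₀ ≠ 1)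
    (y : H) (hy : (tr2 (y : Matrix.SpecialLinearGroup (Fin 2) F)) ^ 2 = 4) :
    InSp ((Subgroup.center (Matrix.SpecialLinearGroup (Fin 2) F)).subgroupOf H)
      ((uniSub F).subgroupOf H) y := by
  have hfac : (tr2 (y : Matrix.SpecialLinearGroup (Fin 2) F) - 2) *
      (tr2 (y : Matrix.SpecialLinearGroup (Fin 2) F) + 2) = 0 := by linear_combination hy
  have hneg1H : (-1 : Matrix.SpecialLinearGroup (Fin 2) F) ∈ H := hZH neg_one_mem_center
  rcases mul_eq_zero.mp hfac with ht | ht
  · have ht' : tr2 (y : Matrix.SpecialLinearGroup (Fin 2) F) = 2 := by linear_combination ht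
    obtain ⟨k, hkH, hk⟩ := exists_conj_mem_uniSub' p H x₀ hx₀H hx₀ hx₀1 y y.2 ht'
    let kk : H := ⟨k, hkH⟩
    refine ⟨kk, kk⁻¹ * y * kk, ?_, 1, Subgroup.one_mem _, by simp⟩
    rw [Subgroup.mem_subgroupOf]; exact hk
  · have ht' : tr2 ((y : Matrix.SpecialLinearGroup (Fin 2) F) * (-1)) = 2 := by
      unfold tr2 at ht ⊢
      rw [mul_apply_00, mul_apply_11]
      simp
      linear_combination -ht
    have hyH : (y : Matrix.SpecialLinearGroup (Fin 2) F) * (-1) ∈ H := H.mul_mem y.2 hneg1H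
    obtain ⟨k, hkH, hk⟩ := exists_conj_mem_uniSub' p H x₀ hx₀H hx₀ hx₀1 _ hyH ht'
    let kk : H := ⟨k, hkH⟩
    let m1 : H := ⟨-1, hneg1H⟩
    refine ⟨kk, kk⁻¹ * (y * m1) * kk, ?_, m1, ?_, ?_⟩
    · rw [Subgroup.mem_subgroupOf]; exact hk
    · rw [Subgroup.mem_subgroupOf]; exact neg_one_mem_center
    · apply Subtype.ext
      simp only [Subgroup.coe_mul, Subgroup.coe_inv]
      have hc := Subgroup.mem_center_iff.mp (neg_one_mem_center (F := F))
      have e1 : (-1 : Matrix.SpecialLinearGroup (Fin 2) F) * (-1) = 1 := by simp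
      calc k⁻¹ * (y : Matrix.SpecialLinearGroup (Fin 2) F) * k
          = k⁻¹ * (y : Matrix.SpecialLinearGroup (Fin 2) F) * k * ((-1) * (-1)) := by
            rw [e1, mul_one]
        _ = k⁻¹ * (y : Matrix.SpecialLinearGroup (Fin 2) F) * (k * (-1)) * (-1) := by group
        _ = k⁻¹ * (y : Matrix.SpecialLinearGroup (Fin 2) F) * ((-1) * k) * (-1) := by rw [hc k]
        _ = k⁻¹ * ((y : Matrix.SpecialLinearGroup (Fin 2) F) * (-1)) * k * (-1) := by group

/-- a unitriangular central element is trivial (any characteristic) -/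
theorem eq_one_of_mem_uniSub_of_mem_center' {g : Matrix.SpecialLinearGroup (Fin 2) F}
    (hg : g ∈ uniSub F) (hc : g ∈ Subgroup.center (Matrix.SpecialLinearGroup (Fin 2) F)) :
    g = 1 := by
  by_contra h1
  exact not_isScalarMat_of_mem_uniSub hg h1 ((isScalarMat_iff_mem_center g).mpr hc)

/-- the hypotheses of the class equation hold for subgroups of `SL₂(F)` containing the center,
in every characteristic -/
theorem caData_of_subgroup' (p : ℕ) [Fact p.Prime] [CharP F p]
    (H : Subgroup (Matrix.SpecialLinearGroup (Fin 2) F)) [Finite H]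
    (hZH : Subgroup.center (Matrix.SpecialLinearGroup (Fin 2) F) ≤ H)
    (x₀ : Matrix.SpecialLinearGroup (Fin 2) F) (hx₀H : x₀ ∈ H) (hx₀ : x₀ ∈ uniSub F)
    (hx₀1 : x₀ ≠ 1) :
    CAData ((Subgroup.center (Matrix.SpecialLinearGroup (Fin 2) F)).subgroupOf H)
      ((uniSub F).subgroupOf H) ((borelSub F).subgroupOf H) := by
  have hneg1H : (-1 : Matrix.SpecialLinearGroup (Fin 2) F) ∈ H := hZH neg_one_mem_center
  have hnc : ∀ y : H, y ∉ (Subgroup.center (Matrix.SpecialLinearGroup (Fin 2) F)).subgroupOf H →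
      (y : Matrix.SpecialLinearGroup (Fin 2) F) ∉
        Subgroup.center (Matrix.SpecialLinearGroup (Fin 2) F) := fun y hy => hy
  refine
    { hZ := ?_, hPZ := ?_, hPN := ?_, hZN := ?_, hPab := ?_, hNP := ?_, hcomm := ?_, hCA := ?_,
      hCP := ?_, hTI := ?_, hT := ?_, hinv := ?_ }
  · intro z hz
    rw [Subgroup.mem_center_iff]
    intro g
    apply Subtype.ext
    simp only [Subgroup.coe_mul]
    exact Subgroup.mem_center_iff.mp hz g
  · intro x hx hxz
    apply Subtype.ext
    exact eq_one_of_mem_uniSub_of_mem_center' hx hxz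
  · intro x hx
    exact uniSub_le_borelSub hx
  · intro z hz
    exact center_le_borelSub hz
  · intro x hx y hy
    apply Subtype.ext
    simp only [Subgroup.coe_mul]
    exact uniSub_comm hx hy
  · intro n hn x hx
    rw [Subgroup.mem_subgroupOf]
    simp only [Subgroup.coe_mul, Subgroup.coe_inv]
    exact borel_conj_uniSub hn hx
  · intro n hn m hm
    rw [Subgroup.mem_subgroupOf]
    simp only [Subgroup.coe_mul, Subgroup.coe_inv]
    exact borel_commutator_mem_uniSub hn hm
  · intro y hy a b ha hb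
    apply Subtype.ext
    simp only [Subgroup.coe_mul]
    apply comm_of_comm_noncentral (hnc y hy)
    · have := congrArg (Subtype.val) ha
      simpa using this
    · have := congrArg (Subtype.val) hb
      simpa using this
  · intro x hx hx1 c hc
    have hx1' : (x : Matrix.SpecialLinearGroup (Fin 2) F) ≠ 1 := fun hh => hx1 (Subtype.ext hh)
    have hc' : (c : Matrix.SpecialLinearGroup (Fin 2) F) * x = x * c := by
      have := congrArg (Subtype.val) hc
      simpa using this
    rcases centralizer_uniSub' hx hx1' hc' with hcu | hcu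
    · exact ⟨c, hcu, 1, Subgroup.one_mem _, by simp⟩
    · refine ⟨c * ⟨-1, hneg1H⟩, hcu, ⟨-1, hneg1H⟩, neg_one_mem_center, ?_⟩
      apply Subtype.ext
      simp only [Subgroup.coe_mul]
      rw [mul_assoc]; simp
  · intro x hx hx1 k hk
    have hx1' : (x : Matrix.SpecialLinearGroup (Fin 2) F) ≠ 1 := fun hh => hx1 (Subtype.ext hh)
    rw [Subgroup.mem_subgroupOf] at hk ⊢
    simp only [Subgroup.coe_mul, Subgroup.coe_inv] at hk
    exact mem_borelSub_of_conj _ _ hx hx1' hk
  · intro d hd hdn c hc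
    have hdc : (d : Matrix.SpecialLinearGroup (Fin 2) F) ∉
        Subgroup.center (Matrix.SpecialLinearGroup (Fin 2) F) := by
      intro hh
      exact hdn ⟨1, Subgroup.one_mem _, d, hh, by simp⟩
    have hc' : (c : Matrix.SpecialLinearGroup (Fin 2) F) * d = d * c := by
      have := congrArg (Subtype.val) hc
      simpa using this
    exact centralizer_le_borelSub hd hdc hc'
  · intro y hy hys n hc
    have hs : (tr2 (y : Matrix.SpecialLinearGroup (Fin 2) F)) ^ 2 ≠ 4 :=
      fun hh => hys (inSp_of_tr2_sq' p H hZH x₀ hx₀H hx₀ hx₀1 y hh)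
    have hc' : ((n : Matrix.SpecialLinearGroup (Fin 2) F) * y * (n : Matrix.SpecialLinearGroup (Fin 2) F)⁻¹) * y
        = y * ((n : Matrix.SpecialLinearGroup (Fin 2) F) * y * (n : Matrix.SpecialLinearGroup (Fin 2) F)⁻¹) := by
      have := congrArg (Subtype.val) hc
      simpa using this
    rcases eq_or_eq_inv_of_commute' _ _ hs (tr2_conj _ _) hc' with h1 | h1
    · left; apply Subtype.ext; simpa using h1
    · right; apply Subtype.ext; simpa using h1

end Cfsg.Agent.Lib.Helper41
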