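import Mathlib
import Cfsg.Agent.Lib.Helper41.SL2Basic
import Cfsg.Agent.Lib.Helper41.SL2Conj

set_option autoImplicit false

/-!
# The homomorphisms `SL₂(K) → PSL₂(F)` and `GL₂(K) → PSL₂(F)` attached to a field embedding (helper41)

Explicit versions of the maps used in `SubfieldPSL`: `pslHom φ` with kernel the centre, and, when
every element of `φ K` is a square in `F` (square roots `δ`), `pglHom φ δ hδ` with kernel the centre
of `GL₂(K)`.  Their ranges are isomorphic to `PSL₂(K)` and `PGL₂(K)`.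
-/

namespace Cfsg.Agent.Lib.Helper41

variable {F : Type*} [Field F] {K : Type*} [Field K]

/-- `SL₂(K) → SL₂(F) → PSL₂(F)` -/
def pslHom (φ : K →+* F) :
    Matrix.SpecialLinearGroup (Fin 2) K →* Matrix.ProjectiveSpecialLinearGroup (Fin 2) F :=
  (QuotientGroup.mk' _).comp (Matrix.SpecialLinearGroup.map φ)

theorem pslHom_apply (φ : K →+* F) (g : Matrix.SpecialLinearGroup (Fin 2) K) :
    pslHom φ g = (QuotientGroup.mk (Matrix.SpecialLinearGroup.map φ g) :
      Matrix.ProjectiveSpecialLinearGroup (Fin 2) F) := rfl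

theorem pslHom_ker (φ : K →+* F) :
    (pslHom φ).ker = Subgroup.center (Matrix.SpecialLinearGroup (Fin 2) K) := by
  have hmap : ∀ g : Matrix.SpecialLinearGroup (Fin 2) K,
      ((Matrix.SpecialLinearGroup.map φ g : Matrix.SpecialLinearGroup (Fin 2) F) :
        Matrix (Fin 2) (Fin 2) F) = (g : Matrix (Fin 2) (Fin 2) K).map φ := fun g => rfl
  ext g
  rw [MonoidHom.mem_ker, pslHom_apply, mk_eq_one_iff, mem_center_iff_pm, hmap]
  have e1 : (1 : Matrix (Fin 2) (Fin 2) K).map φ = 1 := Matrix.map_one _ φ.map_zero φ.map_one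
  have e2 : (-1 : Matrix (Fin 2) (Fin 2) K).map φ = -1 := by
    rw [Matrix.map_neg _ (fun a => φ.map_neg a), e1]
  constructor
  · rintro (h | h)
    · left
      apply Matrix.map_injective φ.injective
      show (g : Matrix (Fin 2) (Fin 2) K).map φ = (1 : Matrix (Fin 2) (Fin 2) K).map φ
      rw [h, e1]
    · right
      apply Matrix.map_injective φ.injective
      show (g : Matrix (Fin 2) (Fin 2) K).map φ = (-1 : Matrix (Fin 2) (Fin 2) K).map φ
      rw [h, e2]
  · rintro (h | h)
    · left; rw [h, e1]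
    · right; rw [h, e2]

/-- the range of `pslHom` is `PSL₂(K)` -/
noncomputable def pslHomRangeEquiv (φ : K →+* F) :
    (pslHom φ).range ≃* Matrix.ProjectiveSpecialLinearGroup (Fin 2) K :=
  ((QuotientGroup.quotientMulEquivOfEq (pslHom_ker φ).symm).trans
    (QuotientGroup.quotientKerEquivRange (pslHom φ))).symm

section PGL

variable (φ : K →+* F) (δ : K → F) (hδ : ∀ x : K, δ x ^ 2 = φ x)

theorem gl_det_ne_zero (g : GL (Fin 2) K) : (g : Matrix (Fin 2) (Fin 2) K).det ≠ 0 := by
  have := Matrix.GeneralLinearGroup.det g |>.ne_zero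
  simpa using this

include hδ in
theorem delta_det_ne_zero (g : GL (Fin 2) K) : δ (g : Matrix (Fin 2) (Fin 2) K).det ≠ 0 := by
  intro h
  have := hδ (g : Matrix (Fin 2) (Fin 2) K).det
  rw [h] at this
  have h0 : φ (g : Matrix (Fin 2) (Fin 2) K).det = 0 := by rw [← this]; ring
  exact gl_det_ne_zero g ((map_eq_zero φ).mp h0)

theorem det_map_ringHom (M : Matrix (Fin 2) (Fin 2) K) : (M.map φ).det = φ M.det := by
  rw [φ.map_det]; rfl

/-- the normalised image of `g ∈ GL₂(K)` in `SL₂(F)` -/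
noncomputable def glToSL (g : GL (Fin 2) K) : Matrix.SpecialLinearGroup (Fin 2) F :=
  ⟨(δ (g : Matrix (Fin 2) (Fin 2) K).det)⁻¹ • ((g : Matrix (Fin 2) (Fin 2) K).map φ), by
    rw [Matrix.det_smul, Fintype.card_fin, det_map_ringHom, ← hδ, inv_pow]
    exact inv_mul_cancel₀ (pow_ne_zero 2 (delta_det_ne_zero φ δ hδ g))⟩

theorem coe_glToSL (g : GL (Fin 2) K) :
    ((glToSL φ δ hδ g : Matrix.SpecialLinearGroup (Fin 2) F) : Matrix (Fin 2) (Fin 2) F)
      = (δ (g : Matrix (Fin 2) (Fin 2) K).det)⁻¹ • ((g : Matrix (Fin 2) (Fin 2) K).map φ) := rfl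

/-- `GL₂(K) → PSL₂(F)`, `g ↦ ± δ(det g)⁻¹ φ(g)` -/
noncomputable def pglHom : GL (Fin 2) K →* Matrix.ProjectiveSpecialLinearGroup (Fin 2) F :=
  MonoidHom.mk' (fun g => (QuotientGroup.mk (glToSL φ δ hδ g) :
      Matrix.ProjectiveSpecialLinearGroup (Fin 2) F)) (by
      intro g h
      rw [← QuotientGroup.mk_mul, mk_eq_mk_iff, Matrix.SpecialLinearGroup.coe_mul, coe_glToSL,
        coe_glToSL, coe_glToSL]
      have hmul : ((g * h : GL (Fin 2) K) : Matrix (Fin 2) (Fin 2) K).map φ
          = (g : Matrix (Fin 2) (Fin 2) K).map φ * (h : Matrix (Fin 2) (Fin 2) K).map φ := by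
        rw [Units.val_mul, Matrix.map_mul]
      have hd : (δ ((g * h : GL (Fin 2) K) : Matrix (Fin 2) (Fin 2) K).det) ^ 2
          = (δ (g : Matrix (Fin 2) (Fin 2) K).det * δ (h : Matrix (Fin 2) (Fin 2) K).det) ^ 2 := by
        rw [mul_pow, hδ, hδ, hδ, Units.val_mul, Matrix.det_mul, map_mul]
      rw [hmul, Matrix.smul_mul, Matrix.mul_smul, smul_smul]
      rcases sq_eq_sq_iff_eq_or_eq_neg.mp hd with h1 | h1
      · left
        rw [h1, mul_inv]
      · right
        rw [h1, inv_neg, mul_inv, neg_smul])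

theorem pglHom_apply (g : GL (Fin 2) K) :
    pglHom φ δ hδ g = (QuotientGroup.mk (glToSL φ δ hδ g) :
      Matrix.ProjectiveSpecialLinearGroup (Fin 2) F) := rfl

theorem pglHom_ker : (pglHom φ δ hδ).ker = Subgroup.center (GL (Fin 2) K) := by
  have hdetne := gl_det_ne_zero (K := K)
  have hδne := delta_det_ne_zero φ δ hδ
  ext g
  rw [MonoidHom.mem_ker, pglHom_apply, mk_eq_one_iff, coe_glToSL,
    Matrix.GeneralLinearGroup.center_eq_range_scalar]
  constructor
  · intro h
    -- the image of `g` is scalar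
    obtain ⟨c, hc⟩ : ∃ c : F, (g : Matrix (Fin 2) (Fin 2) K).map φ = c • (1 : Matrix (Fin 2) (Fin 2) F) := by
      rcases h with h | h
      · refine ⟨δ (g : Matrix (Fin 2) (Fin 2) K).det, ?_⟩
        rw [← h, smul_smul, mul_inv_cancel₀ (hδne g), one_smul]
      · refine ⟨-δ (g : Matrix (Fin 2) (Fin 2) K).det, ?_⟩
        have : (-δ (g : Matrix (Fin 2) (Fin 2) K).det) • (1 : Matrix (Fin 2) (Fin 2) F)
            = δ (g : Matrix (Fin 2) (Fin 2) K).det • (-1 : Matrix (Fin 2) (Fin 2) F) := by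
          simp
        rw [this, ← h, smul_smul, mul_inv_cancel₀ (hδne g), one_smul]
    have h01 : (g : Matrix (Fin 2) (Fin 2) K) 0 1 = 0 := by
      have := congrFun (congrFun hc 0) 1
      simp at this
      exact this
    have h10 : (g : Matrix (Fin 2) (Fin 2) K) 1 0 = 0 := by
      have := congrFun (congrFun hc 1) 0
      simp at this
      exact this
    have h00 : (g : Matrix (Fin 2) (Fin 2) K) 0 0 = (g : Matrix (Fin 2) (Fin 2) K) 1 1 := by
      have e0 := congrFun (congrFun hc 0) 0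
      have e1 := congrFun (congrFun hc 1) 1
      simp at e0 e1
      apply φ.injective
      rw [e0, e1]
    have hu : (g : Matrix (Fin 2) (Fin 2) K) 1 1 ≠ 0 := by
      intro h0
      apply hdetne g
      rw [Matrix.det_fin_two, h01, h0]; ring
    refine ⟨Units.mk0 _ hu, ?_⟩
    apply Units.ext
    rw [Matrix.GeneralLinearGroup.coe_scalar]
    ext i j
    fin_cases i <;> fin_cases j <;> simp [h01, h10, h00]
  · rintro ⟨u, rfl⟩
    rw [Matrix.GeneralLinearGroup.coe_scalar]
    have hdet : (Matrix.scalar (Fin 2) (u : K)).det = (u : K) ^ 2 := by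
      simp
    have hmap : (Matrix.scalar (Fin 2) (u : K)).map φ = φ u • (1 : Matrix (Fin 2) (Fin 2) F) := by
      ext i j
      fin_cases i <;> fin_cases j <;> simp
    have hd : (δ ((u : K) ^ 2)) ^ 2 = (φ u) ^ 2 := by
      rw [hδ, map_pow]
    have hδ0 : δ ((u : K) ^ 2) ≠ 0 := by
      intro h
      rw [h] at hd
      have : φ u = 0 := by
        have := hd.symm
        simpa using this
      exact u.ne_zero ((map_eq_zero φ).mp this)
    rw [hdet, hmap, smul_smul]
    rcases sq_eq_sq_iff_eq_or_eq_neg.mp hd with h1 | h1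
    · left
      rw [← h1, inv_mul_cancel₀ hδ0, one_smul]
    · right
      have : φ u = -δ ((u : K) ^ 2) := by rw [h1, neg_neg]
      rw [this, mul_neg, inv_mul_cancel₀ hδ0]
      simp

/-- the range of `pglHom` is `PGL₂(K)` -/
noncomputable def pglHomRangeEquiv :
    (pglHom φ δ hδ).range ≃* Matrix.ProjGenLinGroup (Fin 2) K :=
  ((QuotientGroup.quotientMulEquivOfEq (pglHom_ker φ δ hδ).symm).trans
    (QuotientGroup.quotientKerEquivRange (pglHom φ δ hδ))).symm

end PGL

end Cfsg.Agent.Lib.Helper41
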