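import Mathlib
import Cfsg.Agent.Lib.Helper41.HuaField

set_option autoImplicit false

/-!
# Additive subgroups of a finite field closed under inversion (helper41)

A finite additive subgroup `A` of a field closed under `x ↦ x⁻¹` is of the form `e • K` for a
subfield `K` with `e² ∈ K` (Hua's identity).  Twisted version: closed under `x ↦ (γ² x)⁻¹`.
Used to identify `H ∩ U` in Dickson's theorem.
-/

namespace Cfsg.Agent.Lib.Helper41

variable {F : Type*} [Field F]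

/-- additive subgroup closed under inversion is closed under `a² b` -/
theorem sq_mul_mem_of_inv_mem (A : AddSubgroup F) (hinv : ∀ x ∈ A, x⁻¹ ∈ A) {a b : F}
    (ha : a ∈ A) (hb : b ∈ A) : a ^ 2 * b ∈ A := by
  by_cases ha0 : a = 0
  · rw [ha0]; simp
  by_cases hb0 : b = 0
  · subst hb0; simp
  by_cases hab : a * b = 1
  · have : a ^ 2 * b = a := by rw [pow_two, mul_assoc, hab, mul_one]
    rw [this]; exact ha
  rw [← hua_identity ha0 hb0 hab]
  exact A.sub_mem ha (hinv _ (A.add_mem (hinv _ ha) (hinv _ (A.sub_mem (hinv _ hb) ha))))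

/-- a finite additive subgroup containing `1` and closed under inversion is closed under
multiplication -/
theorem mul_mem_of_inv_mem (A : AddSubgroup F) [Finite A] (h1 : (1 : F) ∈ A)
    (hinv : ∀ x ∈ A, x⁻¹ ∈ A) {a b : F} (ha : a ∈ A) (hb : b ∈ A) : a * b ∈ A := by
  have hsq : ∀ x ∈ A, x ^ 2 ∈ A := by
    intro x hx
    have := sq_mul_mem_of_inv_mem A hinv hx h1
    rwa [mul_one] at this
  by_cases h2 : (2 : F) = 0
  · -- characteristic 2: squaring is a bijection of A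
    let s : A → A := fun x => ⟨(x : F) ^ 2, hsq x x.2⟩
    have hinj : Function.Injective s := by
      intro x y hxy
      have h : (x : F) ^ 2 = (y : F) ^ 2 := congrArg Subtype.val hxy
      have h3 : ((x : F) - y) ^ 2 = 0 := by
        have : ((x : F) - y) ^ 2 = (x : F) ^ 2 - 2 * x * y + (y : F) ^ 2 := by ring
        rw [this, h2, h]; ring_nf
        have : (y : F) ^ 2 * 2 = 0 := by rw [h2, mul_zero]
        exact this
      have h4 : (x : F) - y = 0 := pow_eq_zero_iff (two_ne_zero) |>.mp h3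
      exact Subtype.ext (sub_eq_zero.mp h4)
    have hsurj : Function.Surjective s := Finite.injective_iff_surjective.mp hinj
    obtain ⟨c, hc⟩ := hsurj ⟨a, ha⟩
    have hc' : (c : F) ^ 2 = a := congrArg Subtype.val hc
    rw [← hc']
    exact sq_mul_mem_of_inv_mem A hinv c.2 hb
  · -- characteristic ≠ 2: polarization
    have h2mul : ∀ x ∈ A, ∀ y ∈ A, 2 * x * y ∈ A := by
      intro x hx y hy
      have e : 2 * x * y = (x + y) ^ 2 - x ^ 2 - y ^ 2 := by ring
      rw [e]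
      exact A.sub_mem (A.sub_mem (hsq _ (A.add_mem hx hy)) (hsq _ hx)) (hsq _ hy)
    have h2A : (2 : F) ∈ A := by
      have : (2 : F) = 1 + 1 := by norm_num
      rw [this]; exact A.add_mem h1 h1
    have h4 : ((2 : F)⁻¹) ^ 2 ∈ A := hsq _ (hinv _ h2A)
    have hhalf : ∀ y ∈ A, (2 : F)⁻¹ * y ∈ A := by
      intro y hy
      have := h2mul _ h4 y hy
      have e : 2 * (2 : F)⁻¹ ^ 2 * y = (2 : F)⁻¹ * y := by
        field_simp
      rwa [e] at this
    have := h2mul _ (hhalf a ha) b hb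
    have e : 2 * ((2 : F)⁻¹ * a) * b = a * b := by
      field_simp
    rwa [e] at this

/-- a nonzero finite additive subgroup closed under inversion is `e • K`, `K` a subfield,
`e² ∈ K` -/
theorem exists_subfield_of_inv_mem (A : AddSubgroup F) [Finite A] (hinv : ∀ x ∈ A, x⁻¹ ∈ A)
    (hA : ∃ a ∈ A, a ≠ 0) :
    ∃ (K : Subfield F) (e : F), e ≠ 0 ∧ e ^ 2 ∈ K ∧ ∀ x, x ∈ A ↔ ∃ k ∈ K, x = e * k := by
  obtain ⟨a₀, ha₀, ha₀0⟩ := hA
  -- A'' = a₀⁻¹ A
  let B : AddSubgroup F := A.comap (AddMonoidHom.mulLeft a₀)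
  have hB : ∀ x, x ∈ B ↔ a₀ * x ∈ A := fun x => Iff.rfl
  have hBfin : Finite B := by
    let f : B → A := fun x => ⟨a₀ * x, (hB x).mp x.2⟩
    have hf : Function.Injective f := by
      intro x y hxy
      have h : a₀ * (x : F) = a₀ * y := congrArg Subtype.val hxy
      exact Subtype.ext (mul_left_cancel₀ ha₀0 h)
    exact Finite.of_injective f hf
  have hB1 : (1 : F) ∈ B := by rw [hB, mul_one]; exact ha₀
  have hBinv : ∀ x ∈ B, x⁻¹ ∈ B := by
    intro x hx
    rw [hB] at hx ⊢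
    by_cases hx0 : x = 0
    · rw [hx0, inv_zero, mul_zero]; exact A.zero_mem
    have := sq_mul_mem_of_inv_mem A hinv ha₀ (hinv _ hx)
    have e : a₀ ^ 2 * (a₀ * x)⁻¹ = a₀ * x⁻¹ := by
      field_simp
    rwa [e] at this
  have hBmul : ∀ {a b : F}, a ∈ B → b ∈ B → a * b ∈ B := fun ha hb =>
    mul_mem_of_inv_mem B hB1 hBinv ha hb
  let K : Subfield F :=
    { carrier := B
      mul_mem' := fun ha hb => hBmul ha hb
      one_mem' := hB1
      add_mem' := fun ha hb => B.add_mem ha hb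
      zero_mem' := B.zero_mem
      neg_mem' := fun ha => B.neg_mem ha
      inv_mem' := fun x hx => hBinv x hx }
  have hK : ∀ x, x ∈ K ↔ a₀ * x ∈ A := fun x => Iff.rfl
  refine ⟨K, a₀, ha₀0, ?_, ?_⟩
  · rw [hK]
    have := sq_mul_mem_of_inv_mem A hinv ha₀ ha₀
    have e : a₀ * a₀ ^ 2 = a₀ ^ 2 * a₀ := by ring
    rwa [e]
  · intro x
    constructor
    · intro hx
      refine ⟨a₀⁻¹ * x, ?_, ?_⟩
      · rw [hK, ← mul_assoc, mul_inv_cancel₀ ha₀0, one_mul]; exact hx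
      · rw [← mul_assoc, mul_inv_cancel₀ ha₀0, one_mul]
    · rintro ⟨k, hk, rfl⟩
      exact (hK k).mp hk

/-- twisted version: closed under `x ↦ (γ² x)⁻¹` -/
theorem exists_subfield_of_twisted_inv (A : AddSubgroup F) [Finite A] (γ : F) (hγ : γ ≠ 0)
    (hinv : ∀ x ∈ A, x ≠ 0 → (γ ^ 2 * x)⁻¹ ∈ A) (hA : ∃ a ∈ A, a ≠ 0) :
    ∃ (K : Subfield F) (e : F), e ≠ 0 ∧ (γ * e) ^ 2 ∈ K ∧ ∀ x, x ∈ A ↔ ∃ k ∈ K, x = e * k := by
  let B : AddSubgroup F := A.comap (AddMonoidHom.mulLeft γ⁻¹)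
  have hB : ∀ x, x ∈ B ↔ γ⁻¹ * x ∈ A := fun x => Iff.rfl
  have hγi : γ⁻¹ ≠ 0 := inv_ne_zero hγ
  have hBfin : Finite B := by
    let f : B → A := fun x => ⟨γ⁻¹ * x, (hB x).mp x.2⟩
    have hf : Function.Injective f := by
      intro x y hxy
      have h : γ⁻¹ * (x : F) = γ⁻¹ * y := congrArg Subtype.val hxy
      exact Subtype.ext (mul_left_cancel₀ hγi h)
    exact Finite.of_injective f hf
  have hBinv : ∀ x ∈ B, x⁻¹ ∈ B := by
    intro x hx
    rw [hB] at hx ⊢
    by_cases hx0 : x = 0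
    · rw [hx0, inv_zero, mul_zero]; exact A.zero_mem
    have := hinv _ hx (mul_ne_zero hγi hx0)
    have e : (γ ^ 2 * (γ⁻¹ * x))⁻¹ = γ⁻¹ * x⁻¹ := by
      field_simp
    rwa [e] at this
  obtain ⟨a, ha, ha0⟩ := hA
  have hBne : ∃ b ∈ B, b ≠ 0 := by
    refine ⟨γ * a, ?_, mul_ne_zero hγ ha0⟩
    rw [hB, ← mul_assoc, inv_mul_cancel₀ hγ, one_mul]; exact ha
  obtain ⟨K, e', he'0, he'K, hBK⟩ := exists_subfield_of_inv_mem B hBinv hBne
  refine ⟨K, γ⁻¹ * e', mul_ne_zero hγi he'0, ?_, ?_⟩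
  · rw [← mul_assoc, mul_inv_cancel₀ hγ, one_mul]; exact he'K
  · intro x
    have hx : x ∈ A ↔ γ * x ∈ B := by
      rw [hB, ← mul_assoc, inv_mul_cancel₀ hγ, one_mul]
    rw [hx, hBK]
    constructor
    · rintro ⟨k, hk, hxk⟩
      refine ⟨k, hk, ?_⟩
      rw [mul_assoc, ← hxk, ← mul_assoc, inv_mul_cancel₀ hγ, one_mul]
    · rintro ⟨k, hk, rfl⟩
      refine ⟨k, hk, ?_⟩
      rw [← mul_assoc, ← mul_assoc, mul_inv_cancel₀ hγ, one_mul]

end Cfsg.Agent.Lib.Helper41
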