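import Mathlib
import Cfsg.Agent.Lib.Helper11.DicksonCore
import Cfsg.Agent.Lib.Helper41.DicksonHua
import Cfsg.Agent.Lib.Helper41.PSL2Aut
import Cfsg.Agent.Lib.Helper41.PSL2AutElem

set_option autoImplicit false

/-!
# Dickson's theorem: normal form of a subgroup with a Bruhat decomposition (helper41)

Let `H ≤ SL₂(F)` contain `h₀` with `(h₀)₀₀ = 0` such that every `l ∈ H` with `l₁₀ ≠ 0` is of the form
`x h₀ n` with `x ∈ H ∩ U`, `n ∈ H ∩ B` (this is what the class equation gives).  Then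
`A = {t | upperU t ∈ H}` is `e • K` for a subfield `K`, the element `antiD γ = (0, -γ⁻¹; γ, 0)` is
in `H` with `(γ e)² ∈ K`, and `l₀₀ / l₁₀ ∈ A` for all `l ∈ H` with `l₁₀ ≠ 0`.  After conjugating by
`diag(e⁻¹, 1)` one gets `e = 1`.
-/

namespace Cfsg.Agent.Lib.Helper41

open Cfsg.Agent.Lib.Helper11

variable {F : Type*} [Field F]

local notation "SL2" => Matrix.SpecialLinearGroup (Fin 2) F

/-- the antidiagonal element `(0, -γ⁻¹; γ, 0)` -/
def antiD (γ : Fˣ) : SL2 :=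
  ⟨!![0, -((γ⁻¹ : Fˣ) : F); (γ : F), 0], by
    rw [Matrix.det_fin_two_of]
    have hc : (γ : F) * ((γ⁻¹ : Fˣ) : F) = 1 := by
      rw [← Units.val_mul, mul_inv_cancel, Units.val_one]
    linear_combination hc⟩

theorem coe_antiD (γ : Fˣ) : ((antiD γ : SL2) : Matrix (Fin 2) (Fin 2) F)
    = !![0, -((γ⁻¹ : Fˣ) : F); (γ : F), 0] := rfl

/-- the additive group of `t` with `upperU t ∈ H` -/
def uSet (H : Subgroup SL2) : AddSubgroup F where
  carrier := {t | upperU t ∈ H}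
  zero_mem' := by
    show upperU (0 : F) ∈ H
    rw [upperU_zero]; exact H.one_mem
  add_mem' := by
    intro a b ha hb
    show upperU (a + b) ∈ H
    rw [upperU_add]; exact H.mul_mem ha hb
  neg_mem' := by
    intro a ha
    show upperU (-a) ∈ H
    rw [upperU_neg]; exact H.inv_mem ha

theorem mem_uSet {H : Subgroup SL2} {t : F} : t ∈ uSet H ↔ upperU t ∈ H := Iff.rfl

theorem upperU_injective : Function.Injective (upperU : F → SL2) := by
  intro s t h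
  have := congrArg (fun A : SL2 => (A : Matrix (Fin 2) (Fin 2) F) 0 1) h
  simpa [coe_upperU] using this

instance uSet_finite (H : Subgroup SL2) [Finite H] : Finite (uSet H) := by
  let f : uSet H → H := fun t => ⟨upperU (t : F), t.2⟩
  have hf : Function.Injective f := by
    intro s t h
    have : upperU (s : F) = upperU (t : F) := congrArg Subtype.val h
    exact Subtype.ext (upperU_injective this)
  exact Finite.of_injective f hf

/-- the Bruhat property with respect to `h₀` -/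
def BruhatProp (H : Subgroup SL2) (h₀ : SL2) : Prop :=
  ∀ l ∈ H, (l : Matrix (Fin 2) (Fin 2) F) 1 0 ≠ 0 →
    ∃ x ∈ H, x ∈ uniSub F ∧ ∃ n ∈ H, n ∈ borelSub F ∧ l = x * h₀ * n

theorem upperU_div_mem_of_bruhat {H : Subgroup SL2} {h₀ : SL2}
    (hh₀ : (h₀ : Matrix (Fin 2) (Fin 2) F) 0 0 = 0) (hB : BruhatProp H h₀)
    {l : SL2} (hl : l ∈ H) (hl10 : (l : Matrix (Fin 2) (Fin 2) F) 1 0 ≠ 0) :
    upperU ((l : Matrix (Fin 2) (Fin 2) F) 0 0 / (l : Matrix (Fin 2) (Fin 2) F) 1 0) ∈ H := by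
  obtain ⟨x, hxH, hxU, n, hnH, hnB, rfl⟩ := hB l hl hl10
  have hn10 : (n : Matrix (Fin 2) (Fin 2) F) 1 0 = 0 := hnB
  have e00 : ((x * h₀ * n : SL2) : Matrix (Fin 2) (Fin 2) F) 0 0
      = (x : Matrix (Fin 2) (Fin 2) F) 0 1 * (h₀ : Matrix (Fin 2) (Fin 2) F) 1 0
        * (n : Matrix (Fin 2) (Fin 2) F) 0 0 := by
    rw [mul_apply_00, mul_apply_00, hn10, hh₀]; ring
  have e10 : ((x * h₀ * n : SL2) : Matrix (Fin 2) (Fin 2) F) 1 0
      = (h₀ : Matrix (Fin 2) (Fin 2) F) 1 0 * (n : Matrix (Fin 2) (Fin 2) F) 0 0 := by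
    rw [mul_apply_10, mul_apply_10, hn10, hh₀, hxU.1, uniSub_apply_11 hxU]; ring
  rw [e10] at hl10
  have hdiv : ((x * h₀ * n : SL2) : Matrix (Fin 2) (Fin 2) F) 0 0
      / ((x * h₀ * n : SL2) : Matrix (Fin 2) (Fin 2) F) 1 0
      = (x : Matrix (Fin 2) (Fin 2) F) 0 1 := by
    rw [e00, e10, mul_assoc, mul_div_assoc, div_self hl10, mul_one]
  rw [hdiv, ← eq_upperU_of_mem_uniSub hxU]
  exact hxH

/-- the `(1,0)` entry of `h₀` as a unit -/
theorem apply_10_ne_zero_of_apply_00 {h₀ : SL2} (hh₀ : (h₀ : Matrix (Fin 2) (Fin 2) F) 0 0 = 0) :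
    (h₀ : Matrix (Fin 2) (Fin 2) F) 1 0 ≠ 0 := by
  intro h
  have hdet := sl2_det h₀
  rw [hh₀, h] at hdet
  simp at hdet

theorem antiD_mem_of_bruhat {H : Subgroup SL2} {h₀ : SL2} (hh₀H : h₀ ∈ H)
    (hh₀ : (h₀ : Matrix (Fin 2) (Fin 2) F) 0 0 = 0) (hB : BruhatProp H h₀) :
    antiD (Units.mk0 _ (apply_10_ne_zero_of_apply_00 hh₀)) ∈ H := by
  set γ := (h₀ : Matrix (Fin 2) (Fin 2) F) 1 0 with hγ
  have hγ0 : γ ≠ 0 := apply_10_ne_zero_of_apply_00 hh₀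
  have hinvH : h₀⁻¹ ∈ H := H.inv_mem hh₀H
  have h10 : ((h₀⁻¹ : SL2) : Matrix (Fin 2) (Fin 2) F) 1 0 ≠ 0 := by
    rw [inv_apply_10]; exact neg_ne_zero.mpr hγ0
  have h1 := upperU_div_mem_of_bruhat hh₀ hB hinvH h10
  rw [inv_apply_10, inv_apply_00] at h1
  have h2 : h₀ * upperU ((h₀ : Matrix (Fin 2) (Fin 2) F) 1 1 / -γ) ∈ H := H.mul_mem hh₀H h1
  have hdet := sl2_det h₀
  rw [hh₀, zero_mul, zero_sub] at hdet
  have e : h₀ * upperU ((h₀ : Matrix (Fin 2) (Fin 2) F) 1 1 / -γ)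
      = antiD (Units.mk0 _ (apply_10_ne_zero_of_apply_00 hh₀)) := by
    apply sl2_ext
    · rw [mul_apply_00, coe_upperU, coe_antiD, hh₀]; simp
    · rw [mul_apply_01, coe_upperU, coe_antiD, hh₀]
      simp only [Matrix.of_apply, Matrix.cons_val', Matrix.cons_val_zero, Matrix.cons_val_one,
        Matrix.cons_val_fin_one, Units.val_inv_eq_inv_val, Units.val_mk0]
      rw [← hγ]
      have hb : (h₀ : Matrix (Fin 2) (Fin 2) F) 0 1 = -γ⁻¹ := by
        field_simp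
        linear_combination -hdet
      rw [hb]; ring
    · rw [mul_apply_10, coe_upperU, coe_antiD]; simp
    · rw [mul_apply_11, coe_upperU, coe_antiD]
      simp only [Matrix.of_apply, Matrix.cons_val', Matrix.cons_val_zero, Matrix.cons_val_one,
        Matrix.cons_val_fin_one]
      rw [← hγ]
      field_simp
      ring
  rw [← e]; exact h2

theorem twisted_inv_of_bruhat {H : Subgroup SL2} {h₀ : SL2} (hh₀H : h₀ ∈ H)
    (hh₀ : (h₀ : Matrix (Fin 2) (Fin 2) F) 0 0 = 0) (hB : BruhatProp H h₀)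
    {t : F} (ht : t ∈ uSet H) (ht0 : t ≠ 0) :
    ((h₀ : Matrix (Fin 2) (Fin 2) F) 1 0 ^ 2 * t)⁻¹ ∈ uSet H := by
  set γ := (h₀ : Matrix (Fin 2) (Fin 2) F) 1 0 with hγ
  have hγ0 : γ ≠ 0 := apply_10_ne_zero_of_apply_00 hh₀
  set w := antiD (Units.mk0 _ (apply_10_ne_zero_of_apply_00 hh₀)) with hw
  have hwH : w ∈ H := antiD_mem_of_bruhat hh₀H hh₀ hB
  have hlH : w * upperU t * w ∈ H := H.mul_mem (H.mul_mem hwH ht) hwH
  have e10 : ((w * upperU t * w : SL2) : Matrix (Fin 2) (Fin 2) F) 1 0 = γ ^ 2 * t := by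
    rw [mul_apply_10, mul_apply_10, mul_apply_11, hw, coe_antiD, coe_upperU]
    simp
    ring
  have e00 : ((w * upperU t * w : SL2) : Matrix (Fin 2) (Fin 2) F) 0 0 = -1 := by
    rw [mul_apply_00, mul_apply_00, mul_apply_01, hw, coe_antiD, coe_upperU]
    simp only [Matrix.of_apply, Matrix.cons_val', Matrix.cons_val_zero, Matrix.cons_val_one,
      Matrix.cons_val_fin_one, Units.val_inv_eq_inv_val, Units.val_mk0]
    rw [← hγ]
    field_simp
    ring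
  have hne : γ ^ 2 * t ≠ 0 := mul_ne_zero (pow_ne_zero 2 hγ0) ht0
  have h1 := upperU_div_mem_of_bruhat hh₀ hB hlH (by rw [e10]; exact hne)
  rw [e10, e00] at h1
  have h2 : (-1 : F) / (γ ^ 2 * t) ∈ uSet H := h1
  have h3 := (uSet H).neg_mem h2
  have e : -((-1 : F) / (γ ^ 2 * t)) = (γ ^ 2 * t)⁻¹ := by
    field_simp
  rwa [e] at h3

/-- **Normal form.** -/
theorem exists_subfield_of_bruhat (H : Subgroup SL2) [Finite H] {h₀ : SL2} (hh₀H : h₀ ∈ H)
    (hh₀ : (h₀ : Matrix (Fin 2) (Fin 2) F) 0 0 = 0) (hB : BruhatProp H h₀)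
    (hU : ∃ t : F, t ≠ 0 ∧ upperU t ∈ H) :
    ∃ (K : Subfield F) (e γ : Fˣ), antiD γ ∈ H ∧ ((γ : F) * e) ^ 2 ∈ K ∧
      (∀ t, upperU t ∈ H ↔ ∃ k ∈ K, t = e * k) ∧
      (∀ l ∈ H, (l : Matrix (Fin 2) (Fin 2) F) 1 0 ≠ 0 →
        ∃ k ∈ K, (l : Matrix (Fin 2) (Fin 2) F) 0 0 = e * k * (l : Matrix (Fin 2) (Fin 2) F) 1 0) := by
  set γ := (h₀ : Matrix (Fin 2) (Fin 2) F) 1 0 with hγ
  have hγ0 : γ ≠ 0 := apply_10_ne_zero_of_apply_00 hh₀
  obtain ⟨t₀, ht₀0, ht₀⟩ := hU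
  obtain ⟨K, e, he0, heK, hA⟩ := exists_subfield_of_twisted_inv (uSet H) γ hγ0
    (fun x hx hx0 => twisted_inv_of_bruhat hh₀H hh₀ hB hx hx0) ⟨t₀, ht₀, ht₀0⟩
  refine ⟨K, Units.mk0 e he0, Units.mk0 γ hγ0, antiD_mem_of_bruhat hh₀H hh₀ hB, heK,
    fun t => hA t, ?_⟩
  intro l hl hl10
  have h1 := upperU_div_mem_of_bruhat hh₀ hB hl hl10
  obtain ⟨k, hk, hk'⟩ := (hA _).mp h1
  refine ⟨k, hk, ?_⟩
  rw [Units.val_mk0, ← hk', div_mul_cancel₀ _ hl10]

/-! ### Conjugating by `diag(e⁻¹, 1)` -/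

theorem diagAut_antiD (c γ : Fˣ) : diagAut c (antiD γ) = antiD (c⁻¹ * γ) := by
  rw [diagAut_apply]
  apply sl2_ext <;>
    simp [coe_diagAutFun, coe_antiD, mul_comm]

/-- the normal form with `e = 1`, for the image of `H` under a diagonal automorphism -/
theorem exists_subfield_of_bruhat' (H : Subgroup SL2) [Finite H] {h₀ : SL2} (hh₀H : h₀ ∈ H)
    (hh₀ : (h₀ : Matrix (Fin 2) (Fin 2) F) 0 0 = 0) (hB : BruhatProp H h₀)
    (hU : ∃ t : F, t ≠ 0 ∧ upperU t ∈ H) :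
    ∃ (K : Subfield F) (c a : Fˣ), antiD a ∈ H.map (diagAut c).toMonoidHom ∧ (a : F) ^ 2 ∈ K ∧
      (∀ t, upperU t ∈ H.map (diagAut c).toMonoidHom ↔ t ∈ K) ∧
      (∀ l ∈ H.map (diagAut c).toMonoidHom, (l : Matrix (Fin 2) (Fin 2) F) 1 0 ≠ 0 →
        ∃ k ∈ K, (l : Matrix (Fin 2) (Fin 2) F) 0 0 = k * (l : Matrix (Fin 2) (Fin 2) F) 1 0) := by
  obtain ⟨K, e, γ, hw, hγe, hA, hl⟩ := exists_subfield_of_bruhat H hh₀H hh₀ hB hU
  have hmem : ∀ x : SL2, x ∈ H.map (diagAut e⁻¹).toMonoidHom ↔ diagAut e x ∈ H := by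
    intro x
    constructor
    · rintro ⟨y, hy, rfl⟩
      have : diagAut e ((diagAut e⁻¹).toMonoidHom y) = y := by
        show diagAut e (diagAut e⁻¹ y) = y
        rw [← MulAut.mul_apply, ← diagAut_mul, mul_inv_cancel, diagAut_one]; rfl
      rw [this]; exact hy
    · intro hx
      refine ⟨diagAut e x, hx, ?_⟩
      show diagAut e⁻¹ (diagAut e x) = x
      rw [← MulAut.mul_apply, ← diagAut_mul, inv_mul_cancel, diagAut_one]; rfl
  have hee : (e : F) * ((e⁻¹ : Fˣ) : F) = 1 := by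
    rw [← Units.val_mul, mul_inv_cancel, Units.val_one]
  refine ⟨K, e⁻¹, e * γ, ?_, ?_, ?_, ?_⟩
  · rw [hmem, diagAut_antiD, inv_mul_cancel_left]; exact hw
  · rw [Units.val_mul, mul_comm]; exact hγe
  · intro t
    rw [hmem, diagAut_upperU, hA]
    constructor
    · rintro ⟨k, hk, hk'⟩
      have : t = k := mul_left_cancel₀ e.ne_zero hk'
      rw [this]; exact hk
    · intro ht
      exact ⟨t, ht, rfl⟩
  · intro l hlH hl10
    rw [hmem] at hlH
    have h10 : ((diagAut e l : SL2) : Matrix (Fin 2) (Fin 2) F) 1 0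
        = ((e⁻¹ : Fˣ) : F) * (l : Matrix (Fin 2) (Fin 2) F) 1 0 := by
      rw [diagAut_apply, coe_diagAutFun]; simp
    have h00 : ((diagAut e l : SL2) : Matrix (Fin 2) (Fin 2) F) 0 0
        = (l : Matrix (Fin 2) (Fin 2) F) 0 0 := by
      rw [diagAut_apply, coe_diagAutFun]; simp
    obtain ⟨k, hk, hk'⟩ := hl _ hlH (by
      rw [h10]; exact mul_ne_zero (Units.ne_zero _) hl10)
    refine ⟨k, hk, ?_⟩
    rw [h00, h10] at hk'
    rw [hk']
    linear_combination (k * (l : Matrix (Fin 2) (Fin 2) F) 1 0) * hee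

end Cfsg.Agent.Lib.Helper41
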