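import Mathlib
import Cfsg.Agent.Lib.Helper41.DicksonNormal

set_option autoImplicit false

/-!
# Dickson's theorem: subgroups containing `u(K)` and `l(K)` contain `SL₂(K)` (helper41)
-/

namespace Cfsg.Agent.Lib.Helper41

variable {F : Type*} [Field F] {K : Type*} [Field K]

/-- Bruhat-type factorisation of an element with nonzero lower left entry -/
theorem eq_upper_lower_upper (g : Matrix.SpecialLinearGroup (Fin 2) F)
    (hc : (g : Matrix (Fin 2) (Fin 2) F) 1 0 ≠ 0) :
    g = upperU (((g : Matrix (Fin 2) (Fin 2) F) 0 0 - 1) / (g : Matrix (Fin 2) (Fin 2) F) 1 0)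
        * lowerU ((g : Matrix (Fin 2) (Fin 2) F) 1 0)
        * upperU (((g : Matrix (Fin 2) (Fin 2) F) 1 1 - 1) / (g : Matrix (Fin 2) (Fin 2) F) 1 0) := by
  have hdet := sl2_det g
  apply sl2_ext
  · rw [mul_apply_00, mul_apply_00, mul_apply_01]
    simp only [coe_upperU, coe_lowerU, Matrix.of_apply, Matrix.cons_val', Matrix.cons_val_zero,
      Matrix.cons_val_one, Matrix.cons_val_fin_one]
    field_simp
    ring
  · rw [mul_apply_01, mul_apply_00, mul_apply_01]
    simp only [coe_upperU, coe_lowerU, Matrix.of_apply, Matrix.cons_val', Matrix.cons_val_zero,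
      Matrix.cons_val_one, Matrix.cons_val_fin_one]
    field_simp
    linear_combination (-(1 : F)) * hdet
  · rw [mul_apply_10, mul_apply_10, mul_apply_11]
    simp only [coe_upperU, coe_lowerU, Matrix.of_apply, Matrix.cons_val', Matrix.cons_val_zero,
      Matrix.cons_val_one, Matrix.cons_val_fin_one]
    ring
  · rw [mul_apply_11, mul_apply_10, mul_apply_11]
    simp only [coe_upperU, coe_lowerU, Matrix.of_apply, Matrix.cons_val', Matrix.cons_val_zero,
      Matrix.cons_val_one, Matrix.cons_val_fin_one]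
    field_simp
    ring

theorem coe_map_sl (φ : K →+* F) (g : Matrix.SpecialLinearGroup (Fin 2) K) :
    ((Matrix.SpecialLinearGroup.map φ g : Matrix.SpecialLinearGroup (Fin 2) F) :
      Matrix (Fin 2) (Fin 2) F) = (g : Matrix (Fin 2) (Fin 2) K).map φ := rfl

theorem map_upperU (φ : K →+* F) (x : K) :
    Matrix.SpecialLinearGroup.map φ (upperU x) = upperU (φ x) := by
  apply sl2_ext <;> simp [coe_map_sl, coe_upperU]

theorem map_lowerU (φ : K →+* F) (x : K) :
    Matrix.SpecialLinearGroup.map φ (lowerU x) = lowerU (φ x) := by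
  apply sl2_ext <;> simp [coe_map_sl, coe_lowerU]

/-- a subgroup containing `u(φ K)` and `l(φ K)` contains the image of `SL₂(K)` -/
theorem map_mem_of_upper_lower (φ : K →+* F) (H : Subgroup (Matrix.SpecialLinearGroup (Fin 2) F))
    (hu : ∀ k : K, upperU (φ k) ∈ H) (hl : ∀ k : K, lowerU (φ k) ∈ H)
    (s : Matrix.SpecialLinearGroup (Fin 2) K) : Matrix.SpecialLinearGroup.map φ s ∈ H := by
  have key : ∀ g : Matrix.SpecialLinearGroup (Fin 2) K, (g : Matrix (Fin 2) (Fin 2) K) 1 0 ≠ 0 →
      Matrix.SpecialLinearGroup.map φ g ∈ H := by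
    intro g hc
    rw [eq_upper_lower_upper g hc, map_mul, map_mul, map_upperU, map_lowerU, map_upperU]
    exact H.mul_mem (H.mul_mem (hu _) (hl _)) (hu _)
  by_cases hc : (s : Matrix (Fin 2) (Fin 2) K) 1 0 = 0
  · have hdet := sl2_det s
    rw [hc, mul_zero, sub_zero] at hdet
    have ha : (s : Matrix (Fin 2) (Fin 2) K) 0 0 ≠ 0 := left_ne_zero_of_mul_eq_one hdet
    have h1 : Matrix.SpecialLinearGroup.map φ (lowerU 1 * s) ∈ H := by
      apply key
      rw [mul_apply_10]
      simp [coe_lowerU, hc, ha]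
    rw [map_mul, map_lowerU] at h1
    have := H.mul_mem (H.inv_mem (hl 1)) h1
    rwa [inv_mul_cancel_left] at this
  · exact key s hc

/-- conjugating `u(t)` by `antiD a` -/
theorem antiD_conj_upperU (a : Fˣ) (t : F) :
    antiD a * upperU t * (antiD a)⁻¹ = lowerU (-((a : F) ^ 2 * t)) := by
  have hc : (a : F) * ((a⁻¹ : Fˣ) : F) = 1 := by
    rw [← Units.val_mul, mul_inv_cancel, Units.val_one]
  apply sl2_ext
  · rw [mul_apply_00, mul_apply_00, mul_apply_01, inv_apply_00, inv_apply_10, coe_antiD, coe_upperU,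
      coe_lowerU]
    simp only [Matrix.of_apply, Matrix.cons_val', Matrix.cons_val_zero, Matrix.cons_val_one,
      Matrix.cons_val_fin_one]
    linear_combination hc
  · rw [mul_apply_01, mul_apply_00, mul_apply_01, inv_apply_01, inv_apply_11, coe_antiD, coe_upperU,
      coe_lowerU]
    simp only [Matrix.of_apply, Matrix.cons_val', Matrix.cons_val_zero, Matrix.cons_val_one,
      Matrix.cons_val_fin_one]
    ring
  · rw [mul_apply_10, mul_apply_10, mul_apply_11, inv_apply_00, inv_apply_10, coe_antiD, coe_upperU,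
      coe_lowerU]
    simp only [Matrix.of_apply, Matrix.cons_val', Matrix.cons_val_zero, Matrix.cons_val_one,
      Matrix.cons_val_fin_one]
    ring
  · rw [mul_apply_11, mul_apply_10, mul_apply_11, inv_apply_01, inv_apply_11, coe_antiD, coe_upperU,
      coe_lowerU]
    simp only [Matrix.of_apply, Matrix.cons_val', Matrix.cons_val_zero, Matrix.cons_val_one,
      Matrix.cons_val_fin_one]
    linear_combination hc

/-- with `antiD a ∈ H`, `a² ∈ φ K` and `u(φ K) ⊆ H`, the image of `SL₂(K)` lies in `H` -/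
theorem map_mem_of_antiD (φ : K →+* F) (H : Subgroup (Matrix.SpecialLinearGroup (Fin 2) F))
    (a : Fˣ) (hw : antiD a ∈ H) (κ : K) (hκ : φ κ = (a : F) ^ 2)
    (hu : ∀ k : K, upperU (φ k) ∈ H) (s : Matrix.SpecialLinearGroup (Fin 2) K) :
    Matrix.SpecialLinearGroup.map φ s ∈ H := by
  have hκ0 : κ ≠ 0 := by
    rintro rfl
    rw [map_zero] at hκ
    exact pow_ne_zero 2 a.ne_zero hκ.symm
  apply map_mem_of_upper_lower φ H hu
  intro k
  have h1 : antiD a * upperU (φ (-(k / κ))) * (antiD a)⁻¹ ∈ H :=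
    H.mul_mem (H.mul_mem hw (hu _)) (H.inv_mem hw)
  rw [antiD_conj_upperU, ← hκ] at h1
  have e : -(φ κ * φ (-(k / κ))) = φ k := by
    rw [← map_mul, ← map_neg]
    congr 1
    field_simp
  rwa [e] at h1

end Cfsg.Agent.Lib.Helper41
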