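import Mathlib
import Cfsg.Agent.Lib.Helper41.DicksonGen

set_option autoImplicit false

/-!
# Dickson's theorem: a subgroup in normal form consists of multiples of `K`-matrices (helper41)

`InM φ g`: some nonzero multiple of `g ∈ SL₂(F)` has all entries in `φ K`.  If `H ≤ SL₂(F)` contains
`u(1)`, `antiD a` with `a² ∈ φ K`, and `l₀₀ / l₁₀ ∈ φ K` for all `l ∈ H` with `l₁₀ ≠ 0`, then every
element of `H` satisfies `InM φ`.
-/

namespace Cfsg.Agent.Lib.Helper41

variable {F : Type*} [Field F] {K : Type*} [Field K]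

local notation "SL2" => Matrix.SpecialLinearGroup (Fin 2) F

/-- some nonzero multiple of `g` is defined over `K` -/
def InM (φ : K →+* F) (g : SL2) : Prop :=
  ∃ (c : F) (g' : Matrix (Fin 2) (Fin 2) K), c ≠ 0 ∧ g'.map φ = c • (g : Matrix (Fin 2) (Fin 2) F)

theorem InM.mul {φ : K →+* F} {g h : SL2} (hg : InM φ g) (hh : InM φ h) : InM φ (g * h) := by
  obtain ⟨c, g', hc, hg'⟩ := hg
  obtain ⟨d, h', hd, hh'⟩ := hh
  refine ⟨c * d, g' * h', mul_ne_zero hc hd, ?_⟩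
  rw [Matrix.map_mul, hg', hh', Matrix.SpecialLinearGroup.coe_mul, Matrix.smul_mul, Matrix.mul_smul,
    smul_smul]

theorem inM_antiD_inv (φ : K →+* F) (a : Fˣ) (κ : K) (hκ : φ κ = (a : F) ^ 2) :
    InM φ (antiD a)⁻¹ := by
  have hc : (a : F) * ((a⁻¹ : Fˣ) : F) = 1 := by
    rw [← Units.val_mul, mul_inv_cancel, Units.val_one]
  refine ⟨a, !![0, 1; -κ, 0], a.ne_zero, ?_⟩
  ext i j
  fin_cases i <;> fin_cases j
  · simp [inv_apply_00, coe_antiD]
  · simp only [Fin.zero_eta, Fin.isValue, Fin.mk_one, Matrix.map_apply, Matrix.of_apply,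
      Matrix.cons_val', Matrix.cons_val_one, Matrix.cons_val_fin_one, Matrix.cons_val_zero, map_one,
      Matrix.smul_apply, smul_eq_mul]
    rw [inv_apply_01, coe_antiD]
    simp only [Matrix.of_apply, Matrix.cons_val', Matrix.cons_val_one, Matrix.cons_val_fin_one,
      Matrix.cons_val_zero, neg_neg]
    exact hc.symm
  · simp only [Fin.mk_one, Fin.isValue, Fin.zero_eta, Matrix.map_apply, Matrix.of_apply,
      Matrix.cons_val', Matrix.cons_val_zero, Matrix.cons_val_fin_one, Matrix.cons_val_one, map_neg,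
      Matrix.smul_apply, smul_eq_mul]
    rw [inv_apply_10, coe_antiD, hκ]
    simp only [Matrix.of_apply, Matrix.cons_val', Matrix.cons_val_zero, Matrix.cons_val_fin_one,
      Matrix.cons_val_one]
    ring
  · simp [inv_apply_11, coe_antiD]

/-- elements with nonzero lower left entry -/
theorem inM_of_apply_10_ne_zero (φ : K →+* F) (H : Subgroup SL2) (h1 : upperU (1 : F) ∈ H)
    (hl : ∀ l ∈ H, (l : Matrix (Fin 2) (Fin 2) F) 1 0 ≠ 0 →
      ∃ k : K, (l : Matrix (Fin 2) (Fin 2) F) 0 0 = φ k * (l : Matrix (Fin 2) (Fin 2) F) 1 0)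
    {l : SL2} (hlH : l ∈ H) (hc : (l : Matrix (Fin 2) (Fin 2) F) 1 0 ≠ 0) : InM φ l := by
  have hdet := sl2_det l
  obtain ⟨k₁, hk₁⟩ := hl l hlH hc
  obtain ⟨k₂, hk₂⟩ := hl l⁻¹ (H.inv_mem hlH) (by rw [inv_apply_10]; exact neg_ne_zero.mpr hc)
  rw [inv_apply_00, inv_apply_10] at hk₂
  have hconj : l * upperU 1 * l⁻¹ ∈ H := H.mul_mem (H.mul_mem hlH h1) (H.inv_mem hlH)
  have e10 : ((l * upperU 1 * l⁻¹ : SL2) : Matrix (Fin 2) (Fin 2) F) 1 0
      = -((l : Matrix (Fin 2) (Fin 2) F) 1 0 ^ 2) := by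
    rw [coe_conj_upperU]; simp
  have e00 : ((l * upperU 1 * l⁻¹ : SL2) : Matrix (Fin 2) (Fin 2) F) 0 0
      = 1 - (l : Matrix (Fin 2) (Fin 2) F) 0 0 * (l : Matrix (Fin 2) (Fin 2) F) 1 0 := by
    rw [coe_conj_upperU]; simp
  obtain ⟨k₃, hk₃⟩ := hl _ hconj (by rw [e10]; exact neg_ne_zero.mpr (pow_ne_zero 2 hc))
  rw [e10, e00] at hk₃
  -- hk₁ : a = φ k₁ * c, hk₂ : d = φ k₂ * -c, hk₃ : 1 - a * c = φ k₃ * -(c^2)
  refine ⟨((l : Matrix (Fin 2) (Fin 2) F) 1 0)⁻¹, !![k₁, -(k₁ * k₂) - k₁ + k₃; 1, -k₂],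
    inv_ne_zero hc, ?_⟩
  generalize ha : (l : Matrix (Fin 2) (Fin 2) F) 0 0 = a at *
  generalize hb : (l : Matrix (Fin 2) (Fin 2) F) 0 1 = b at *
  generalize hcc : (l : Matrix (Fin 2) (Fin 2) F) 1 0 = c at *
  generalize hdd : (l : Matrix (Fin 2) (Fin 2) F) 1 1 = d at *
  have hb' : b = (a * d - 1) / c := by
    field_simp
    linear_combination -hdet
  have hk₃' : φ k₃ * c ^ 2 = φ k₁ * c * c - 1 := by
    rw [hk₁] at hk₃
    linear_combination hk₃
  ext i j
  fin_cases i <;> fin_cases j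
  · simp only [Fin.zero_eta, Fin.isValue, Matrix.map_apply, Matrix.of_apply, Matrix.cons_val',
      Matrix.cons_val_zero, Matrix.cons_val_fin_one, Matrix.smul_apply, smul_eq_mul]
    rw [ha, hk₁]; field_simp
  · simp only [Fin.zero_eta, Fin.isValue, Fin.mk_one, Matrix.map_apply, Matrix.of_apply,
      Matrix.cons_val', Matrix.cons_val_one, Matrix.cons_val_fin_one, Matrix.cons_val_zero,
      Matrix.smul_apply, smul_eq_mul, map_add, map_sub, map_neg, map_mul]
    rw [hb, hb', hk₁, hk₂]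
    field_simp
    linear_combination hk₃'
  · simp only [Fin.mk_one, Fin.isValue, Fin.zero_eta, Matrix.map_apply, Matrix.of_apply,
      Matrix.cons_val', Matrix.cons_val_zero, Matrix.cons_val_fin_one, Matrix.cons_val_one, map_one,
      Matrix.smul_apply, smul_eq_mul]
    rw [hcc, inv_mul_cancel₀ hc]
  · simp only [Fin.mk_one, Fin.isValue, Matrix.map_apply, Matrix.of_apply, Matrix.cons_val',
      Matrix.cons_val_one, Matrix.cons_val_fin_one, map_neg, Matrix.smul_apply, smul_eq_mul]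
    rw [hdd, hk₂]; field_simp

/-- every element of `H` is a multiple of a `K`-matrix -/
theorem inM_of_mem (φ : K →+* F) (H : Subgroup SL2) (h1 : upperU (1 : F) ∈ H)
    (a : Fˣ) (hw : antiD a ∈ H) (κ : K) (hκ : φ κ = (a : F) ^ 2)
    (hl : ∀ l ∈ H, (l : Matrix (Fin 2) (Fin 2) F) 1 0 ≠ 0 →
      ∃ k : K, (l : Matrix (Fin 2) (Fin 2) F) 0 0 = φ k * (l : Matrix (Fin 2) (Fin 2) F) 1 0)
    {l : SL2} (hlH : l ∈ H) : InM φ l := by
  by_cases hc : (l : Matrix (Fin 2) (Fin 2) F) 1 0 = 0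
  · have hdet := sl2_det l
    rw [hc, mul_zero, sub_zero] at hdet
    have hd : (l : Matrix (Fin 2) (Fin 2) F) 1 1 ≠ 0 := right_ne_zero_of_mul_eq_one hdet
    have h10 : ((l * antiD a : SL2) : Matrix (Fin 2) (Fin 2) F) 1 0 ≠ 0 := by
      rw [mul_apply_10, coe_antiD, hc]
      simp only [Matrix.of_apply, Matrix.cons_val', Matrix.cons_val_zero, Matrix.cons_val_fin_one,
        Matrix.cons_val_one, zero_mul, zero_add]
      exact mul_ne_zero hd a.ne_zero
    have h2 := inM_of_apply_10_ne_zero φ H h1 hl (H.mul_mem hlH hw) h10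
    have h3 := h2.mul (inM_antiD_inv φ a κ hκ)
    rwa [mul_inv_cancel_right] at h3
  · exact inM_of_apply_10_ne_zero φ H h1 hl hlH hc

end Cfsg.Agent.Lib.Helper41
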