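import Mathlib
import Cfsg.Agent.Lib.Helper41.DicksonSubfield1
import Cfsg.Agent.Lib.Helper41.DicksonPGLHom

set_option autoImplicit false

/-!
# Dickson's theorem: a subgroup in normal form is `PSL₂(K)` or `PGL₂(K)` (helper41)

`psl_or_pgl_of_normal_form`: if `H ≤ SL₂(F)` contains `u(φ K)`, `antiD a` with `a² ∈ φ K`, and
`l₀₀ / l₁₀ ∈ φ K` for all `l ∈ H` with `l₁₀ ≠ 0`, then the image of `H` in `PSL₂(F)` is isomorphic to
`PSL₂(K)` or `PGL₂(K)`.
-/

namespace Cfsg.Agent.Lib.Helper41

theorem isSquare_div_of_not_isSquare {G : Type*} [Group G] [IsCyclic G] {x y : G}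
    (hx : ¬ IsSquare x) (hy : ¬ IsSquare y) : IsSquare (x / y) := by
  obtain ⟨g, hg⟩ := IsCyclic.exists_generator (α := G)
  obtain ⟨i, rfl⟩ := Subgroup.mem_zpowers_iff.mp (hg x)
  obtain ⟨j, rfl⟩ := Subgroup.mem_zpowers_iff.mp (hg y)
  have hodd : ∀ n : ℤ, ¬ IsSquare (g ^ n) → Odd n := by
    intro n hn
    by_contra h
    rw [Int.not_odd_iff_even] at h
    obtain ⟨m, rfl⟩ := h
    exact hn ⟨g ^ m, by rw [zpow_add]⟩
  obtain ⟨m, rfl⟩ := hodd i hx
  obtain ⟨n, rfl⟩ := hodd j hy
  refine ⟨g ^ (m - n), ?_⟩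
  rw [div_eq_mul_inv, ← zpow_neg, ← zpow_add, ← zpow_add]
  congr 1
  ring

variable {F : Type*} [Field F] {K : Type*} [Field K]

local notation "SL2" => Matrix.SpecialLinearGroup (Fin 2) F
local notation "PSL2" => Matrix.ProjectiveSpecialLinearGroup (Fin 2) F

theorem det_smul_coe (c : F) (l : SL2) : (c • (l : Matrix (Fin 2) (Fin 2) F)).det = c ^ 2 := by
  rw [Matrix.det_smul, Fintype.card_fin, Matrix.SpecialLinearGroup.det_coe, mul_one]

/-- **Identification.** -/
theorem psl_or_pgl_of_normal_form [Finite K] (φ : K →+* F) (H : Subgroup SL2) (a : Fˣ)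
    (hw : antiD a ∈ H) (κ : K) (hκ : φ κ = (a : F) ^ 2) (hu : ∀ k : K, upperU (φ k) ∈ H)
    (hl : ∀ l ∈ H, (l : Matrix (Fin 2) (Fin 2) F) 1 0 ≠ 0 →
      ∃ k : K, (l : Matrix (Fin 2) (Fin 2) F) 0 0 = φ k * (l : Matrix (Fin 2) (Fin 2) F) 1 0) :
    Nonempty (H.map (QuotientGroup.mk' (Subgroup.center SL2)) ≃*
        Matrix.ProjectiveSpecialLinearGroup (Fin 2) K) ∨
      Nonempty (H.map (QuotientGroup.mk' (Subgroup.center SL2)) ≃*
        Matrix.ProjGenLinGroup (Fin 2) K) := by
  classical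
  have hSL : ∀ s : Matrix.SpecialLinearGroup (Fin 2) K, Matrix.SpecialLinearGroup.map φ s ∈ H :=
    map_mem_of_antiD φ H a hw κ hκ hu
  have h1 : upperU (1 : F) ∈ H := by
    have := hu 1
    rwa [map_one] at this
  have hM : ∀ l ∈ H, InM φ l := fun l hlH => inM_of_mem φ H h1 a hw κ hκ hl hlH
  by_cases hA : ∀ g ∈ H, ∃ s : Matrix.SpecialLinearGroup (Fin 2) K,
      Matrix.SpecialLinearGroup.map φ s = g
  · -- Case A : `H` is the image of `SL₂(K)`
    left
    have hH : H = (Matrix.SpecialLinearGroup.map φ :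
        Matrix.SpecialLinearGroup (Fin 2) K →* SL2).range := by
      apply le_antisymm
      · intro g hg
        obtain ⟨s, hs⟩ := hA g hg
        exact ⟨s, hs⟩
      · rintro g ⟨s, rfl⟩
        exact hSL s
    have hmap : H.map (QuotientGroup.mk' (Subgroup.center SL2)) = (pslHom φ).range := by
      rw [hH, MonoidHom.map_range]; rfl
    exact ⟨(MulEquiv.subgroupCongr hmap).trans (pslHomRangeEquiv φ)⟩
  · -- Case B
    right
    push Not at hA
    obtain ⟨g₀, hg₀H, hg₀⟩ := hA
    obtain ⟨c₀, g₀', hc₀, hg₀'⟩ := hM g₀ hg₀H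
    have hdet₀ : φ g₀'.det = c₀ ^ 2 := by
      rw [← det_map_ringHom, hg₀', det_smul_coe]
    have hd₀ : g₀'.det ≠ 0 := by
      intro h
      rw [h, map_zero] at hdet₀
      exact pow_ne_zero 2 hc₀ hdet₀.symm
    set u₀ : Kˣ := Units.mk0 _ hd₀ with hu₀
    have hns : ¬ IsSquare u₀ := by
      rintro ⟨r, hr⟩
      have hr' : g₀'.det = (r : K) * r := by
        have := congrArg Units.val hr
        simpa [hu₀] using this
      have hsq : c₀ ^ 2 = (φ r) ^ 2 := by rw [← hdet₀, hr', map_mul]; ring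
      obtain ⟨μ, hμ0, hμ⟩ : ∃ μ : K, μ ≠ 0 ∧ φ μ = c₀ := by
        rcases sq_eq_sq_iff_eq_or_eq_neg.mp hsq with h | h
        · exact ⟨r, r.ne_zero, h.symm⟩
        · exact ⟨-r, neg_ne_zero.mpr r.ne_zero, by rw [map_neg, h]⟩
      have hμ2 : μ ^ 2 = g₀'.det := by
        apply φ.injective
        rw [map_pow, hμ, hdet₀]
      let s : Matrix.SpecialLinearGroup (Fin 2) K := ⟨μ⁻¹ • g₀', by
        rw [Matrix.det_smul, Fintype.card_fin, ← hμ2, inv_pow]
        exact inv_mul_cancel₀ (pow_ne_zero 2 hμ0)⟩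
      apply hg₀ s
      apply Subtype.ext
      rw [coe_map_sl]
      show (μ⁻¹ • g₀').map φ = (g₀ : Matrix (Fin 2) (Fin 2) F)
      have : (μ⁻¹ • g₀').map φ = (φ μ)⁻¹ • g₀'.map φ := by
        ext i j
        simp [Matrix.map_apply, Matrix.smul_apply]
      rw [this, hg₀', hμ, smul_smul, inv_mul_cancel₀ hc₀, one_smul]
    -- every element of `K` is a square in `F`
    have hsq : ∀ x : K, ∃ d : F, d ^ 2 = φ x := by
      intro x
      by_cases hx : x = 0
      · exact ⟨0, by rw [hx, map_zero]; ring⟩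
      by_cases hxs : IsSquare (Units.mk0 x hx)
      · obtain ⟨r, hr⟩ := hxs
        have hr' : x = (r : K) * r := by
          have := congrArg Units.val hr
          simpa using this
        exact ⟨φ r, by rw [hr', map_mul]; ring⟩
      · obtain ⟨r, hr⟩ := isSquare_div_of_not_isSquare hxs hns
        have hr' : x = g₀'.det * ((r : K) * r) := by
          have h2 : Units.mk0 x hx = u₀ * (r * r) := by
            rw [← hr, mul_div_cancel]
          have := congrArg Units.val h2
          simpa [hu₀] using this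
        exact ⟨c₀ * φ r, by rw [hr', map_mul, map_mul, hdet₀]; ring⟩
    choose δ hδ using hsq
    -- elements of `H` are in the range
    have key1 : ∀ l ∈ H, ∀ (c : F) (l' : Matrix (Fin 2) (Fin 2) K), c ≠ 0 →
        l'.map φ = c • (l : Matrix (Fin 2) (Fin 2) F) → ∀ hdet : l'.det ≠ 0,
        pglHom φ δ hδ (Matrix.GeneralLinearGroup.mkOfDetNeZero l' hdet)
          = (QuotientGroup.mk l : PSL2) := by
      intro l _ c l' hc hl' hdet
      rw [pglHom_apply, mk_eq_mk_iff, coe_glToSL]
      have hcoe : ((Matrix.GeneralLinearGroup.mkOfDetNeZero l' hdet : GL (Fin 2) K) :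
          Matrix (Fin 2) (Fin 2) K) = l' := rfl
      rw [hcoe, hl', smul_smul]
      have hdl : φ l'.det = c ^ 2 := by
        rw [← det_map_ringHom, hl', det_smul_coe]
      have h2 : (δ l'.det) ^ 2 = c ^ 2 := by rw [hδ, hdl]
      rcases sq_eq_sq_iff_eq_or_eq_neg.mp h2 with h | h
      · left
        rw [h, inv_mul_cancel₀ hc, one_smul]
      · right
        rw [h, inv_neg, neg_mul, inv_mul_cancel₀ hc, neg_smul, one_smul]
    -- square determinant
    have key2 : ∀ G : GL (Fin 2) K, IsSquare (Matrix.GeneralLinearGroup.det G) →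
        pglHom φ δ hδ G ∈ H.map (QuotientGroup.mk' (Subgroup.center SL2)) := by
      rintro G ⟨r, hr⟩
      have hr' : (G : Matrix (Fin 2) (Fin 2) K).det = (r : K) * r := by
        have := congrArg Units.val hr
        simpa using this
      let s : Matrix.SpecialLinearGroup (Fin 2) K := ⟨(r : K)⁻¹ • (G : Matrix (Fin 2) (Fin 2) K), by
        rw [Matrix.det_smul, Fintype.card_fin, hr', inv_pow]
        field_simp⟩
      refine ⟨Matrix.SpecialLinearGroup.map φ s, hSL s, ?_⟩
      show (QuotientGroup.mk (Matrix.SpecialLinearGroup.map φ s) : PSL2) = _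
      rw [pglHom_apply, mk_eq_mk_iff, coe_glToSL, coe_map_sl]
      have hs : ((s : Matrix.SpecialLinearGroup (Fin 2) K) : Matrix (Fin 2) (Fin 2) K).map φ
          = (φ r)⁻¹ • (G : Matrix (Fin 2) (Fin 2) K).map φ := by
        show ((r : K)⁻¹ • (G : Matrix (Fin 2) (Fin 2) K)).map φ = _
        ext i j
        simp [Matrix.map_apply, Matrix.smul_apply]
      have h2 : (δ (G : Matrix (Fin 2) (Fin 2) K).det) ^ 2 = (φ r) ^ 2 := by
        rw [hδ, hr', map_mul]; ring
      rw [hs]
      rcases sq_eq_sq_iff_eq_or_eq_neg.mp h2 with h | h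
      · left; rw [h]
      · right; rw [h, inv_neg, neg_smul, neg_neg]
    have hmap : H.map (QuotientGroup.mk' (Subgroup.center SL2)) = (pglHom φ δ hδ).range := by
      apply le_antisymm
      · rintro _ ⟨l, hlH, rfl⟩
        obtain ⟨c, l', hc, hl'⟩ := hM l hlH
        have hdl : φ l'.det = c ^ 2 := by
          rw [← det_map_ringHom, hl', det_smul_coe]
        have hdet : l'.det ≠ 0 := by
          intro h
          rw [h, map_zero] at hdl
          exact pow_ne_zero 2 hc hdl.symm
        exact ⟨_, key1 l hlH c l' hc hl' hdet⟩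
      · rintro _ ⟨G, rfl⟩
        by_cases hG : IsSquare (Matrix.GeneralLinearGroup.det G)
        · exact key2 G hG
        · set G₀ : GL (Fin 2) K := Matrix.GeneralLinearGroup.mkOfDetNeZero g₀' hd₀ with hG₀
          have hdetG₀ : Matrix.GeneralLinearGroup.det G₀ = u₀ := by
            apply Units.ext
            rfl
          have h3 : IsSquare (Matrix.GeneralLinearGroup.det (G * G₀⁻¹)) := by
            rw [map_mul, map_inv, hdetG₀, ← div_eq_mul_inv]
            exact isSquare_div_of_not_isSquare hG hns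
          have h4 := key2 _ h3
          have h5 : pglHom φ δ hδ G₀ ∈ H.map (QuotientGroup.mk' (Subgroup.center SL2)) := by
            rw [hG₀, key1 g₀ hg₀H c₀ g₀' hc₀ hg₀' hd₀]
            exact ⟨g₀, hg₀H, rfl⟩
          have h6 := (H.map (QuotientGroup.mk' (Subgroup.center SL2))).mul_mem h4 h5
          rwa [← map_mul, inv_mul_cancel_right] at h6
    exact ⟨(MulEquiv.subgroupCongr hmap).trans (pglHomRangeEquiv φ δ hδ)⟩

end Cfsg.Agent.Lib.Helper41
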