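import Mathlib
import Cfsg.Agent.Lib.Helper41.DicksonSubfield2
import Cfsg.Agent.Lib.Helper41.DicksonCA2
import Cfsg.Agent.Lib.Helper41.CAClassFour

set_option autoImplicit false

/-!
# Dickson's theorem: the generic non-`p`-closed case (helper41)

`psl_or_pgl_of_not_le_borel`: a finite subgroup `H ≤ SL₂(F)` (char `p`) containing the centre, with
`|H ∩ U| ≥ 4` and `H ⊄ B`, has image in `PSL₂(F)` isomorphic to `PSL₂(K)` or `PGL₂(K)` for a
subfield `K` of `F`.
-/

namespace Cfsg.Agent.Lib.Helper41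

open Cfsg.Agent.Lib.Helper11

variable {F : Type*} [Field F]

local notation "SL2" => Matrix.SpecialLinearGroup (Fin 2) F
local notation "PSL2" => Matrix.ProjectiveSpecialLinearGroup (Fin 2) F

/-- transport along an automorphism of `SL₂(F)` does not change the image in `PSL₂(F)` up to
isomorphism -/
theorem nonempty_map_mk_equiv_of_aut (α : MulAut SL2) (H : Subgroup SL2) :
    Nonempty (H.map (QuotientGroup.mk' (Subgroup.center SL2)) ≃*
      (H.map α.toMonoidHom).map (QuotientGroup.mk' (Subgroup.center SL2))) := by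
  have h1 : (H.map (QuotientGroup.mk' (Subgroup.center SL2))).map (descend α).toMonoidHom
      = (H.map α.toMonoidHom).map (QuotientGroup.mk' (Subgroup.center SL2)) := by
    rw [Subgroup.map_map, Subgroup.map_map]
    congr 1
  exact ⟨((H.map (QuotientGroup.mk' (Subgroup.center SL2))).equivMapOfInjective
    (descend α).toMonoidHom (descend α).injective).trans (MulEquiv.subgroupCongr h1)⟩

theorem card_uniSub_subgroupOf (H : Subgroup SL2) :
    Nat.card ((uniSub F).subgroupOf H) = Nat.card (uSet H) := by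
  symm
  let f : uSet H → (uniSub F).subgroupOf H := fun t =>
    ⟨⟨upperU (t : F), t.2⟩, by
      rw [Subgroup.mem_subgroupOf]
      show upperU (t : F) ∈ uniSub F
      refine ⟨?_, ?_⟩ <;> simp [coe_upperU]⟩
  apply Nat.card_eq_of_bijective f
  constructor
  · intro s t h
    have : upperU (s : F) = upperU (t : F) :=
      congrArg (fun z : (uniSub F).subgroupOf H => ((z : H) : SL2)) h
    exact Subtype.ext (upperU_injective this)
  · rintro ⟨⟨x, hxH⟩, hx⟩
    rw [Subgroup.mem_subgroupOf] at hx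
    have hx' : x ∈ uniSub F := hx
    have e := eq_upperU_of_mem_uniSub hx'
    refine ⟨⟨(x : Matrix (Fin 2) (Fin 2) F) 0 1, ?_⟩, ?_⟩
    · show upperU _ ∈ H
      rw [← e]; exact hxH
    · apply Subtype.ext
      apply Subtype.ext
      exact e.symm

/-- the Bruhat property from the class equation -/
theorem bruhatProp_of_card (p : ℕ) [Fact p.Prime] [CharP F p]
    (H : Subgroup SL2) [Finite H] (hZH : Subgroup.center SL2 ≤ H)
    (x₀ : SL2) (hx₀H : x₀ ∈ H) (hx₀ : x₀ ∈ uniSub F) (hx₀1 : x₀ ≠ 1)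
    (hq : 4 ≤ Nat.card (uSet H)) {h₀ : SL2} (hh₀H : h₀ ∈ H)
    (hh₀ : (h₀ : Matrix (Fin 2) (Fin 2) F) 1 0 ≠ 0) : BruhatProp H h₀ := by
  have hCA := caData_of_subgroup' p H hZH x₀ hx₀H hx₀ hx₀1
  have hh₀N : (⟨h₀, hh₀H⟩ : H) ∉ (borelSub F).subgroupOf H := by
    rw [Subgroup.mem_subgroupOf]
    exact hh₀
  have hne : (borelSub F).subgroupOf H ≠ ⊤ := by
    intro h
    apply hh₀N
    rw [h]; exact Subgroup.mem_top _
  have hcard := card_eq_mul_four hCA (by rw [card_uniSub_subgroupOf]; exact hq) hne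
  intro l hlH hl10
  have hlN : (⟨l, hlH⟩ : H) ∉ (borelSub F).subgroupOf H := by
    rw [Subgroup.mem_subgroupOf]
    exact hl10
  obtain ⟨x, hx, n, hn, hxn⟩ := hCA.bruhat hcard hh₀N hlN
  rw [Subgroup.mem_subgroupOf] at hx hn
  refine ⟨x, x.2, hx, n, n.2, hn, ?_⟩
  have := congrArg Subtype.val hxn
  simpa using this

/-- **Generic non-`p`-closed case.** -/
theorem psl_or_pgl_of_not_le_borel [Finite F] (p : ℕ) [Fact p.Prime] [CharP F p]
    (H : Subgroup SL2) (hZH : Subgroup.center SL2 ≤ H)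
    (hq : 4 ≤ Nat.card (uSet H)) (hnB : ¬ H ≤ borelSub F) :
    ∃ K : Subfield F,
      Nonempty (H.map (QuotientGroup.mk' (Subgroup.center SL2)) ≃*
        Matrix.ProjectiveSpecialLinearGroup (Fin 2) K) ∨
      Nonempty (H.map (QuotientGroup.mk' (Subgroup.center SL2)) ≃*
        Matrix.ProjGenLinGroup (Fin 2) K) := by
  classical
  have hfinSL : Finite SL2 := by
    have : Finite (Matrix (Fin 2) (Fin 2) F) := inferInstance
    exact Finite.of_injective (fun g : SL2 => (g : Matrix (Fin 2) (Fin 2) F)) Subtype.val_injective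
  -- a nontrivial element of `H ∩ U`
  obtain ⟨t₀, ht₀0, ht₀⟩ : ∃ t : F, t ≠ 0 ∧ upperU t ∈ H := by
    by_contra hno
    push Not at hno
    have : ∀ t : uSet H, t = 0 := by
      intro t
      by_contra ht
      exact hno t (fun h => ht (Subtype.ext h)) t.2
    have hsub : Subsingleton (uSet H) := ⟨fun a b => by rw [this a, this b]⟩
    have : Nat.card (uSet H) ≤ 1 := Finite.card_le_one_iff_subsingleton.mpr hsub
    omega
  -- an element outside `B`
  obtain ⟨h, hhH, hhB⟩ := SetLike.not_le_iff_exists.mp hnB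
  have hc : (h : Matrix (Fin 2) (Fin 2) F) 1 0 ≠ 0 := hhB
  -- conjugate by `g = u(-h₀₀ / h₁₀)`
  set g : SL2 := upperU (-((h : Matrix (Fin 2) (Fin 2) F) 0 0 / (h : Matrix (Fin 2) (Fin 2) F) 1 0))
    with hg
  set H₁ : Subgroup SL2 := H.map (MulAut.conj g).toMonoidHom with hH₁
  have hmem₁ : ∀ x : SL2, x ∈ H₁ ↔ g⁻¹ * x * g ∈ H := by
    intro x
    constructor
    · rintro ⟨y, hy, rfl⟩
      have : g⁻¹ * ((MulAut.conj g).toMonoidHom y) * g = y := by
        show g⁻¹ * (g * y * g⁻¹) * g = y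
        group
      rw [this]; exact hy
    · intro hx
      refine ⟨g⁻¹ * x * g, hx, ?_⟩
      show g * (g⁻¹ * x * g) * g⁻¹ = x
      group
  have hZH₁ : Subgroup.center SL2 ≤ H₁ := by
    intro z hz
    rw [hmem₁]
    have hzc := Subgroup.mem_center_iff.mp hz g
    have : g⁻¹ * z * g = z := by
      rw [mul_assoc, ← hzc, ← mul_assoc, inv_mul_cancel, one_mul]
    rw [this]; exact hZH hz
  -- `uSet` is unchanged
  have hU₁ : ∀ t : F, upperU t ∈ H₁ ↔ upperU t ∈ H := by
    intro t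
    rw [hmem₁]
    have : g⁻¹ * upperU t * g = upperU t := by
      rw [hg, ← upperU_neg, ← upperU_add, ← upperU_add]
      congr 1
      ring
    rw [this]
  have huSet : uSet H₁ = uSet H := by
    ext t
    exact hU₁ t
  have hfin₁ : Finite H₁ := Subtype.finite
  -- the element `h₁ = g h g⁻¹`
  set h₁ : SL2 := g * h * g⁻¹ with hh₁
  have hh₁H : h₁ ∈ H₁ := by
    rw [hmem₁, hh₁]
    have : g⁻¹ * (g * h * g⁻¹) * g = h := by group
    rw [this]; exact hhH
  have hh₁00 : (h₁ : Matrix (Fin 2) (Fin 2) F) 0 0 = 0 := by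
    rw [hh₁, mul_apply_00, mul_apply_00, mul_apply_01, inv_apply_00, inv_apply_10, hg, coe_upperU]
    simp only [Matrix.of_apply, Matrix.cons_val', Matrix.cons_val_zero, Matrix.cons_val_one,
      Matrix.cons_val_fin_one]
    field_simp
    ring
  have hh₁10 : (h₁ : Matrix (Fin 2) (Fin 2) F) 1 0 ≠ 0 := apply_10_ne_zero_of_apply_00 hh₁00
  have hx₀1 : upperU t₀ ≠ 1 := by
    intro h1
    rw [← upperU_zero] at h1
    exact ht₀0 (upperU_injective h1)
  have hx₀U : upperU t₀ ∈ uniSub F := by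
    refine ⟨?_, ?_⟩ <;> simp [coe_upperU]
  have hB : BruhatProp H₁ h₁ :=
    bruhatProp_of_card p H₁ hZH₁ (upperU t₀) ((hU₁ t₀).mpr ht₀) hx₀U hx₀1
      (by rw [huSet]; exact hq) hh₁H hh₁10
  obtain ⟨K, c, a, hw, haK, hUK, hlK⟩ :=
    exists_subfield_of_bruhat' H₁ hh₁H hh₁00 hB ⟨t₀, ht₀0, (hU₁ t₀).mpr ht₀⟩
  set H₂ : Subgroup SL2 := H₁.map (diagAut c).toMonoidHom with hH₂
  have hfinK : Finite K := Subtype.finite
  have hres := psl_or_pgl_of_normal_form (K.subtype) H₂ a hw ⟨(a : F) ^ 2, haK⟩ rfl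
    (fun k => (hUK _).mpr k.2)
    (fun l hl hl10 => by
      obtain ⟨k, hk, hk'⟩ := hlK l hl hl10
      exact ⟨⟨k, hk⟩, hk'⟩)
  obtain ⟨e₁⟩ := nonempty_map_mk_equiv_of_aut (MulAut.conj g) H
  obtain ⟨e₂⟩ := nonempty_map_mk_equiv_of_aut (diagAut c) H₁
  refine ⟨K, ?_⟩
  rcases hres with ⟨⟨e₃⟩⟩ | ⟨⟨e₃⟩⟩
  · exact Or.inl ⟨(e₁.trans e₂).trans e₃⟩
  · exact Or.inr ⟨(e₁.trans e₂).trans e₃⟩

end Cfsg.Agent.Lib.Helper41
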