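import Mathlib
import Cfsg.Agent.Lib.Helper41.PSL2AutSylow
import Cfsg.Agent.Lib.Helper41.DicksonNormal

set_option autoImplicit false

/-!
# Dickson's theorem: the `p`-closed case and a `Type`-valued model of a subfield (helper41)

* `clause_b_of_le_borel`: a subgroup of `SL₂(F)` inside the upper triangular group has image in
  `PSL₂(F)` contained in the normalizer of the Sylow `p`-subgroup `upperBar F`.
* `exists_type_zero_field`: a subfield of a finite field is the range of `φ : K' →+* F` for a
  finite field `K' : Type` with `|K'| ^ m = |F|`.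
-/

namespace Cfsg.Agent.Lib.Helper41

open Cfsg.Agent.Lib.Helper11

variable {F : Type*} [Field F]

local notation "SL2" => Matrix.SpecialLinearGroup (Fin 2) F
local notation "PSL2" => Matrix.ProjectiveSpecialLinearGroup (Fin 2) F

/-- the image of the Borel subgroup normalizes `upperBar F` -/
theorem mk_mem_normalizer_upperBar {g : SL2} (hg : g ∈ borelSub F) :
    (QuotientGroup.mk g : PSL2) ∈ Subgroup.normalizer ((upperBar F : Subgroup PSL2) : Set PSL2) := by
  have key : ∀ n : SL2, n ∈ borelSub F → ∀ y : PSL2, y ∈ upperBar F →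
      (QuotientGroup.mk n : PSL2) * y * (QuotientGroup.mk n : PSL2)⁻¹ ∈ upperBar F := by
    rintro n hn _ ⟨x, rfl⟩
    have hU : n * upperU x * n⁻¹ ∈ uniSub F := borel_conj_uniSub hn (by
      refine ⟨?_, ?_⟩ <;> simp [coe_upperU])
    refine ⟨((n * upperU x * n⁻¹ : SL2) : Matrix (Fin 2) (Fin 2) F) 0 1, ?_⟩
    rw [← QuotientGroup.mk_inv, ← QuotientGroup.mk_mul, ← QuotientGroup.mk_mul,
      ← eq_upperU_of_mem_uniSub hU]
  rw [Subgroup.mem_normalizer_iff]
  intro y
  constructor
  · exact key g hg y
  · intro hy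
    have := key g⁻¹ ((borelSub F).inv_mem hg) _ hy
    have e : (QuotientGroup.mk g⁻¹ : PSL2) * ((QuotientGroup.mk g : PSL2) * y *
        (QuotientGroup.mk g : PSL2)⁻¹) * (QuotientGroup.mk g⁻¹ : PSL2)⁻¹ = y := by
      rw [QuotientGroup.mk_inv]; group
    rwa [e] at this

/-- **The `p`-closed case**: clause (b) of Dickson's list. -/
theorem clause_b_of_le_borel [Fintype F] (p : ℕ) [Fact p.Prime] [CharP F p]
    (Ht : Subgroup SL2) (h : Ht ≤ borelSub F) :
    ∃ (P : Sylow p PSL2) (K : Subgroup PSL2),
      K ≤ Subgroup.normalizer ((P : Subgroup PSL2) : Set PSL2) ∧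
      Nonempty (Ht.map (QuotientGroup.mk' (Subgroup.center SL2)) ≃* K) := by
  refine ⟨(isPGroup_upperBar p).toSylow (not_dvd_index_upperBar p),
    Ht.map (QuotientGroup.mk' (Subgroup.center SL2)), ?_, ⟨MulEquiv.refl _⟩⟩
  rintro _ ⟨g, hg, rfl⟩
  exact mk_mem_normalizer_upperBar (h hg)

/-- a `Type`-valued model of a subfield of a finite field -/
theorem exists_type_zero_field {F : Type*} [Field F] [Fintype F] (K : Subfield F) :
    ∃ (K' : Type) (_ : Field K') (_ : Fintype K') (m : ℕ) (φ : K' →+* F),
      Fintype.card K' ^ m = Fintype.card F ∧ ∀ t : F, t ∈ K ↔ ∃ k : K', φ k = t := by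
  classical
  obtain ⟨p, hp⟩ := CharP.exists K
  have := hp
  have : Fact p.Prime := ⟨CharP.char_is_prime K p⟩
  have : Fintype K := Fintype.ofFinite K
  obtain ⟨n, -, hn⟩ := FiniteField.card K p
  have : Fintype (GaloisField p n) := Fintype.ofFinite _
  have hcard : Fintype.card (GaloisField p n) = Fintype.card K := by
    rw [← Nat.card_eq_fintype_card, GaloisField.card p n n.ne_zero, hn]
  let e : GaloisField p n ≃+* K := FiniteField.ringEquivOfCardEq hcard
  refine ⟨GaloisField p n, inferInstance, inferInstance, Module.finrank K F,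
    K.subtype.comp e.toRingHom, ?_, ?_⟩
  · rw [hcard]
    exact (Module.card_eq_pow_finrank (K := K) (V := F)).symm
  · intro t
    constructor
    · intro ht
      exact ⟨e.symm ⟨t, ht⟩, by simp⟩
    · rintro ⟨k, rfl⟩
      simp

end Cfsg.Agent.Lib.Helper41
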