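import Mathlib
import Cfsg.Agent.Lib.Helper42.PPrimeSmall
import Cfsg.Agent.Lib.Helper41.DicksonGeneric

set_option autoImplicit false

/-!
# Dickson's theorem: small Sylow `p`-subgroups (helper41)

If `H ≤ PSL₂(F)` has preimage `Ht ≤ SL₂(F)` with `|Ht ∩ U| ∈ {2, 3}` and `Ht ⊄ B`, then helper42's
partition data `PData (AA H)` hold, and `H` is cyclic/dihedral of the right order, or `A₄`, `S₄`,
`A₅`.
-/

namespace Cfsg.Agent.Lib.Helper41

open Cfsg.Agent.Lib.Helper11 Cfsg.Agent.Lib.Helper42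

variable {F : Type*} [Field F]

local notation "SL2" => Matrix.SpecialLinearGroup (Fin 2) F
local notation "PSL2" => Matrix.ProjectiveSpecialLinearGroup (Fin 2) F

theorem finite_SL2 [Finite F] : Finite SL2 :=
  Finite.of_injective (fun g : SL2 => (g : Matrix (Fin 2) (Fin 2) F)) Subtype.val_injective

theorem upperU_mem_uniSub (t : F) : upperU t ∈ uniSub F := by
  refine ⟨?_, ?_⟩ <;> simp [coe_upperU]

theorem prj_neg_one : prj (-1 : SL2) = 1 :=
  prj_eq_one_iff.mpr neg_one_mem_center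

/-- for `x ∈ H` of unipotent type, `A x` has as many elements as `Ht ∩ U` -/
theorem card_AA_of_unipotent [Fintype F] (p : ℕ) [Fact p.Prime] [CharP F p]
    (H : Subgroup PSL2) {t₀ : F} (ht₀0 : t₀ ≠ 0) (ht₀ : upperU t₀ ∈ H.comap prj)
    {x : H} (hx : x ≠ 1) (ht : tr2 (x : PSL2).out ^ 2 = 4) :
    Nat.card (AA H x) = Nat.card (uSet (H.comap prj)) := by
  classical
  have hfin : Finite SL2 := finite_SL2
  set Ht : Subgroup SL2 := H.comap prj with hHt
  have hmemHt : ∀ z : SL2, z ∈ Ht ↔ prj z ∈ H := fun z => Subgroup.mem_comap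
  have hneg1 : (-1 : SL2) ∈ Ht := by
    rw [hmemHt, prj_neg_one]; exact H.one_mem
  set y := (x : PSL2).out with hy
  have hyx : prj y = x := prj_out _
  have hyHt : y ∈ Ht := by rw [hmemHt, hyx]; exact x.2
  have hync : y ∉ Subgroup.center SL2 := not_mem_center_of_ne_one hx hyx
  -- a trace 2 version of y
  obtain ⟨z, hzc, hztr⟩ : ∃ z : SL2, z ∈ Subgroup.center SL2 ∧ tr2 (y * z) = 2 := by
    have hfac : (tr2 y - 2) * (tr2 y + 2) = 0 := by linear_combination ht
    rcases mul_eq_zero.mp hfac with h | h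
    · exact ⟨1, Subgroup.one_mem _, by rw [mul_one]; linear_combination h⟩
    · refine ⟨-1, neg_one_mem_center, ?_⟩
      unfold tr2 at h ⊢
      rw [mul_apply_00, mul_apply_11]
      simp
      linear_combination -h
  have hzHt : z ∈ Ht := by
    rw [hmemHt, prj_eq_one_iff.mpr hzc]; exact H.one_mem
  set y₁ := y * z with hy₁
  have hy₁Ht : y₁ ∈ Ht := Ht.mul_mem hyHt hzHt
  have hcomm1 : ∀ c : SL2, c * y = y * c → c * y₁ = y₁ * c := fun c hc =>
    comm_mul_central hzc hc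
  have hcomm2 : ∀ c : SL2, c * y₁ = y₁ * c → c * y = y * c := by
    intro c hc
    have := comm_mul_central (Subgroup.inv_mem _ hzc) hc
    rwa [hy₁, mul_assoc, mul_inv_cancel, mul_one] at this
  have hy₁nc : y₁ ≠ 1 := by
    intro h1
    apply hync
    have : y = z⁻¹ := by
      rw [hy₁] at h1
      exact eq_inv_of_mul_eq_one_left h1
    rw [this]; exact Subgroup.inv_mem _ hzc
  have hx₀1 : upperU t₀ ≠ 1 := by
    intro h1
    rw [← upperU_zero] at h1
    exact ht₀0 (upperU_injective h1)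
  have hfinHt : Finite Ht := Subtype.finite
  obtain ⟨k, hkHt, hk⟩ := exists_conj_mem_uniSub' p Ht (upperU t₀) ht₀ (upperU_mem_uniSub t₀) hx₀1
    y₁ hy₁Ht hztr
  set t₁ := ((k⁻¹ * y₁ * k : SL2) : Matrix (Fin 2) (Fin 2) F) 0 1 with ht₁
  have hku : k⁻¹ * y₁ * k = upperU t₁ := eq_upperU_of_mem_uniSub hk
  have hku1 : upperU t₁ ≠ 1 := by
    intro h1
    apply hy₁nc
    rw [← hku] at h1
    calc y₁ = k * (k⁻¹ * y₁ * k) * k⁻¹ := by group
      _ = 1 := by rw [h1]; group
  have hy₁k : y₁ = k * upperU t₁ * k⁻¹ := by rw [← hku]; group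
  have hkH : prj k ∈ H := (hmemHt k).mp hkHt
  -- the bijection
  symm
  let f : uSet Ht → AA H x := fun s =>
    ⟨⟨prj (k * upperU (s : F) * k⁻¹), (hmemHt _).mp
      (Ht.mul_mem (Ht.mul_mem hkHt s.2) (Ht.inv_mem hkHt))⟩, by
      rw [mem_AA hyx]
      refine ⟨k * upperU (s : F) * k⁻¹, ?_, rfl⟩
      apply hcomm2
      rw [hy₁k]
      have hc := uniSub_comm (upperU_mem_uniSub (s : F)) (upperU_mem_uniSub t₁)
      calc k * upperU (s : F) * k⁻¹ * (k * upperU t₁ * k⁻¹)
          = k * (upperU (s : F) * upperU t₁) * k⁻¹ := by group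
        _ = k * (upperU t₁ * upperU (s : F)) * k⁻¹ := by rw [hc]
        _ = k * upperU t₁ * k⁻¹ * (k * upperU (s : F) * k⁻¹) := by group⟩
  apply Nat.card_eq_of_bijective f
  constructor
  · intro s s' hss
    have h1 : prj (k * upperU (s : F) * k⁻¹) = prj (k * upperU (s' : F) * k⁻¹) :=
      congrArg (fun w : AA H x => ((w : H) : PSL2)) hss
    rw [map_mul, map_mul, map_mul, map_mul] at h1
    have h2 : prj (upperU (s : F)) = prj (upperU (s' : F)) :=
      mul_left_cancel (mul_right_cancel h1)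
    exact Subtype.ext (mk_upperU_injective h2)
  · rintro ⟨h, hh⟩
    obtain ⟨c, hcy, hch⟩ := (mem_AA hyx).mp hh
    have hcy₁ := hcomm1 c hcy
    have hc' : (k⁻¹ * c * k) * upperU t₁ = upperU t₁ * (k⁻¹ * c * k) := by
      rw [← hku]
      calc k⁻¹ * c * k * (k⁻¹ * y₁ * k) = k⁻¹ * (c * y₁) * k := by group
        _ = k⁻¹ * (y₁ * c) * k := by rw [hcy₁]
        _ = k⁻¹ * y₁ * k * (k⁻¹ * c * k) := by group
    obtain ⟨s, hs⟩ : ∃ s : F, prj (k⁻¹ * c * k) = prj (upperU s) := by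
      rcases centralizer_uniSub' (upperU_mem_uniSub t₁) hku1 hc' with hu | hu
      · exact ⟨_, by rw [← eq_upperU_of_mem_uniSub hu]⟩
      · refine ⟨((k⁻¹ * c * k * -1 : SL2) : Matrix (Fin 2) (Fin 2) F) 0 1, ?_⟩
        have e : prj (k⁻¹ * c * k * -1) = prj (k⁻¹ * c * k) := by
          rw [map_mul prj (k⁻¹ * c * k) (-1), prj_neg_one, mul_one]
        rw [← eq_upperU_of_mem_uniSub hu, e]
    have hsH : upperU s ∈ Ht := by
      rw [hmemHt, ← hs, map_mul, map_mul, map_inv, hch]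
      exact H.mul_mem (H.mul_mem (H.inv_mem hkH) h.2) hkH
    refine ⟨⟨s, hsH⟩, ?_⟩
    apply Subtype.ext
    apply Subtype.ext
    show prj (k * upperU s * k⁻¹) = (h : PSL2)
    rw [map_mul, map_mul, ← hs, ← hch]
    simp only [map_mul, map_inv]
    group

/-- if all `H`-conjugates of the image of `u(t₀)` lie in `A (u(t₀))`, the preimage of `H` is
upper triangular -/
theorem le_borelSub_of_conj_mem_AA (H : Subgroup PSL2) {t₀ : F} (ht₀0 : t₀ ≠ 0)
    (ht₀ : upperU t₀ ∈ H.comap prj)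
    (hN : ∀ h : H, h * ⟨prj (upperU t₀), ht₀⟩ * h⁻¹ ∈ AA H ⟨prj (upperU t₀), ht₀⟩) :
    H.comap prj ≤ borelSub F := by
  intro g hg
  have hgH : prj g ∈ H := hg
  have hx₀1 : upperU t₀ ≠ 1 := by
    intro h1
    rw [← upperU_zero] at h1
    exact ht₀0 (upperU_injective h1)
  have h1 := hN ⟨prj g, hgH⟩
  rw [mem_AA (x := ⟨prj (upperU t₀), ht₀⟩) (y := upperU t₀) rfl] at h1
  obtain ⟨c, hc, hch⟩ := h1
  have hcB : c ∈ borelSub F := by
    rcases centralizer_uniSub' (upperU_mem_uniSub t₀) hx₀1 hc with hu | hu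
    · exact uniSub_le_borelSub hu
    · exact mem_borelSub_of_mul_neg_one (uniSub_le_borelSub hu)
  have hch' : prj c = prj (g * upperU t₀ * g⁻¹) := by
    rw [hch]
    simp only [Subgroup.coe_mul, Subgroup.coe_inv, map_mul, map_inv]
  have hz : c⁻¹ * (g * upperU t₀ * g⁻¹) ∈ Subgroup.center SL2 := prj_eq_iff.mp hch'
  have hconj : g * upperU t₀ * g⁻¹ ∈ borelSub F := by
    have := (borelSub F).mul_mem hcB (center_le_borelSub hz)
    rwa [mul_inv_cancel_left] at this
  exact mem_borelSub_of_conj _ _ (upperU_mem_uniSub t₀) hx₀1 hconj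

theorem tr2_out_sq_of_upperU {x : PSL2} {t : F} (hx : x = prj (upperU t)) :
    tr2 x.out ^ 2 = 4 := by
  have h1 : prj x.out = prj (upperU t) := by rw [prj_out, hx]
  have htr : tr2 (upperU t : SL2) = 2 := tr2_of_mem_uniSub (upperU_mem_uniSub t)
  rcases (mk_eq_mk_iff _ _).mp h1 with h | h
  · rw [tr2_eq_of_coe_eq _ _ h, htr]; norm_num
  · rw [tr2_eq_neg_of_coe_eq_neg _ _ h, htr]; norm_num

/-- **Small Sylow `p`-subgroups.** -/
theorem clause_ac_of_small [Fintype F] (p : ℕ) [Fact p.Prime] [CharP F p] (H : Subgroup PSL2)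
    {t₀ : F} (ht₀0 : t₀ ≠ 0) (ht₀ : upperU t₀ ∈ H.comap prj)
    (hq : Nat.card (uSet (H.comap prj)) < 4) (hnB : ¬ H.comap prj ≤ borelSub F) :
    (∃ k : ℕ, (k ∣ (Fintype.card F + 1) / Nat.gcd 2 (Fintype.card F - 1) ∨
        k ∣ (Fintype.card F - 1) / Nat.gcd 2 (Fintype.card F - 1)) ∧
      ((IsCyclic H ∧ Nat.card H = k) ∨ Nonempty (H ≃* DihedralGroup k))) ∨
    Nonempty (H ≃* alternatingGroup (Fin 4)) ∨ Nonempty (H ≃* Equiv.Perm (Fin 4)) ∨
    Nonempty (H ≃* alternatingGroup (Fin 5)) := by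
  classical
  have hfin : Finite SL2 := finite_SL2
  have hfinH : Finite H := Subtype.finite
  set m := Nat.card (uSet (H.comap prj)) with hm
  have hm2 : 2 ≤ m := by
    have hfinU : Finite (uSet (H.comap prj)) := Subtype.finite
    have : 1 < Nat.card (uSet (H.comap prj)) := by
      rw [Finite.one_lt_card_iff_nontrivial]
      exact ⟨⟨⟨t₀, ht₀⟩, 0, fun h => ht₀0 (congrArg Subtype.val h)⟩⟩
    omega
  have hsmall : ∀ x : H, x ≠ 1 → tr2 (x : PSL2).out ^ 2 = 4 →
      (Nat.card (AA H x) = 2 ∨ Nat.card (AA H x) = 3) := by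
    intro x hx ht
    rw [card_AA_of_unipotent p H ht₀0 ht₀ hx ht]
    omega
  have hP := pdata_small hsmall
  set x₀ : H := ⟨prj (upperU t₀), ht₀⟩ with hx₀
  have hx₀1 : x₀ ≠ 1 := by
    intro h1
    have h2 : prj (upperU t₀) = 1 := congrArg Subtype.val h1
    have h3 : upperU t₀ = 1 :=
      eq_one_of_mem_uniSub_of_mem_center' (upperU_mem_uniSub t₀) (prj_eq_one_iff.mp h2)
    rw [← upperU_zero] at h3
    exact ht₀0 (upperU_injective h3)
  have hx₀tr : tr2 (x₀ : PSL2).out ^ 2 = 4 := tr2_out_sq_of_upperU rfl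
  rcases hP.classify with htriv | ⟨x, hx, hA⟩ | ⟨x, hx, ⟨e⟩⟩ | h | h | h
  · exact absurd (htriv x₀) hx₀1
  · exfalso
    apply hnB
    apply le_borelSub_of_conj_mem_AA H ht₀0 ht₀
    intro h
    have h1 : x₀ ∈ AA H x := by rw [hA]; trivial
    have h2 : AA H x₀ = AA H x := hP.eq_of_mem x hx x₀ h1 hx₀1
    rw [h2, hA]; trivial
  · by_cases ht : tr2 (x : PSL2).out ^ 2 = 4
    · exfalso
      apply hnB
      apply le_borelSub_of_conj_mem_AA H ht₀0 ht₀
      have hc1 : Nat.card (AA H x) = m := card_AA_of_unipotent p H ht₀0 ht₀ hx ht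
      have hc2 : Nat.card (AA H x₀) = m := card_AA_of_unipotent p H ht₀0 ht₀ hx₀1 hx₀tr
      have hcard : Nat.card H = 2 * m := by
        rw [Nat.card_congr e.toEquiv, DihedralGroup.nat_card, hc1]
      have hidx : (AA H x₀).index = 2 := by
        have := Subgroup.index_mul_card (AA H x₀)
        rw [hc2, hcard] at this
        have hm0 : 0 < m := by omega
        exact Nat.eq_of_mul_eq_mul_right hm0 this
      have hnorm : (AA H x₀).Normal := Subgroup.normal_of_index_eq_two hidx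
      intro h
      exact hnorm.conj_mem _ (hP.mem x₀ hx₀1) h
    · left
      exact ⟨Nat.card (AA H x), card_AA_dvd_of_ss ht, Or.inr ⟨e⟩⟩
  · exact Or.inr (Or.inl h)
  · exact Or.inr (Or.inr (Or.inl h))
  · exact Or.inr (Or.inr (Or.inr h))

end Cfsg.Agent.Lib.Helper41
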