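/-
helper41: S5289 project (helper70), module [NF]: normal form `x^i y^j z^k` in the groups
`C(p,n)`, `G(p,n;ε)` (data `RData`), the order of `z`, and independence of the exponents.
-/
import Cfsg.Agent.Lib.Helper70.RkRes.Defs

set_option autoImplicit false
set_option linter.unusedSectionVars false

namespace Cfsg.Agent.Lib.Helper41.RkResNF

open Cfsg.Agent.Lib.Helper70.RkRes

variable {Ω : Type*} [Group Ω] {p n : ℕ} [Fact p.Prime] {S : Subgroup Ω} {x y z : Ω} {δ e : ℕ}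

theorem nf_pow_succ (D : RData p n S x y z δ e) : p ^ (n - 3) * p = p ^ (n - 2) := by
  have := D.hn
  rw [← pow_succ]; congr 1; omega

theorem nf_p_dvd (D : RData p n S x y z δ e) : p ∣ p ^ (n - 3) := by
  have := D.hn
  exact dvd_pow_self p (by omega)

theorem nf_ppos (D : RData p n S x y z δ e) : 0 < p := by
  have := D.hp5; omega

theorem nf_c_pow (D : RData p n S x y z δ e) : (z ^ p ^ (n - 3)) ^ p = 1 := by
  rw [← pow_mul, nf_pow_succ D, D.zp]

theorem nf_y_pow_of_dvd (D : RData p n S x y z δ e) {m : ℕ} (h : p ∣ m) : y ^ m = 1 := by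
  obtain ⟨q, rfl⟩ := h
  rw [pow_mul, D.yp, one_pow]

theorem nf_x_pow_of_dvd (D : RData p n S x y z δ e) {m : ℕ} (h : p ∣ m) : x ^ m = 1 := by
  obtain ⟨q, rfl⟩ := h
  rw [pow_mul, D.xp, one_pow]

theorem nf_z_pow_of_dvd (D : RData p n S x y z δ e) {m : ℕ} (h : p ^ (n - 2) ∣ m) : z ^ m = 1 := by
  obtain ⟨q, rfl⟩ := h
  rw [pow_mul, D.zp, one_pow]

theorem nf_comm_yz (D : RData p n S x y z δ e) (j k : ℕ) : y ^ j * z ^ k = z ^ k * y ^ j :=
  ((show Commute y z from D.yz).pow_pow j k).eq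

theorem nf_conj_pow (g : Ω) (m : ℕ) : x⁻¹ * g ^ m * x = (x⁻¹ * g * x) ^ m := by
  have := map_pow (MulAut.conj x⁻¹) g m
  simpa [MulAut.conj_apply] using this

theorem nf_conj_mul (g h : Ω) : x⁻¹ * (g * h) * x = (x⁻¹ * g * x) * (x⁻¹ * h * x) := by
  group

/-- `x⁻¹ z^m x = y^(δ m) z^m`. -/
theorem nf_conj_z_pow (D : RData p n S x y z δ e) (m : ℕ) :
    x⁻¹ * z ^ m * x = y ^ (δ * m) * z ^ m := by
  rw [nf_conj_pow, D.xz, ((show Commute y z from D.yz).pow_left δ).mul_pow, ← pow_mul]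

/-- `x⁻¹ y^m x = y^m z^(e p^(n-3) m)`. -/
theorem nf_conj_y_pow (D : RData p n S x y z δ e) (m : ℕ) :
    x⁻¹ * y ^ m * x = y ^ m * z ^ (e * p ^ (n - 3) * m) := by
  rw [nf_conj_pow, D.xy, ((show Commute y z from D.yz).pow_right (e * p ^ (n - 3))).mul_pow,
    ← pow_mul]

/-- `y^j z^k x = x y^(j + δ k) z^(e p^(n-3) j + k)`. -/
theorem nf_A0_mul_x (D : RData p n S x y z δ e) (j k : ℕ) :
    y ^ j * z ^ k * x = x * (y ^ (j + δ * k) * z ^ (e * p ^ (n - 3) * j + k)) := by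
  have h : x⁻¹ * (y ^ j * z ^ k) * x = y ^ (j + δ * k) * z ^ (e * p ^ (n - 3) * j + k) := by
    rw [nf_conj_mul, nf_conj_y_pow D, nf_conj_z_pow D, pow_add, pow_add]
    calc y ^ j * z ^ (e * p ^ (n - 3) * j) * (y ^ (δ * k) * z ^ k)
        = y ^ j * (z ^ (e * p ^ (n - 3) * j) * y ^ (δ * k)) * z ^ k := by
          simp only [mul_assoc]
      _ = y ^ j * (y ^ (δ * k) * z ^ (e * p ^ (n - 3) * j)) * z ^ k := by
          rw [nf_comm_yz D]
      _ = y ^ j * y ^ (δ * k) * (z ^ (e * p ^ (n - 3) * j) * z ^ k) := by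
          simp only [mul_assoc]
  rw [← h]; group

/-- The set of normal forms. -/
def nfSet (x y z : Ω) : Set Ω := {s | ∃ i j k : ℕ, s = x ^ i * y ^ j * z ^ k}

theorem nfSet_mul_x (D : RData p n S x y z δ e) {s : Ω} (hs : s ∈ nfSet x y z) :
    s * x ∈ nfSet x y z := by
  obtain ⟨i, j, k, rfl⟩ := hs
  refine ⟨i + 1, j + δ * k, e * p ^ (n - 3) * j + k, ?_⟩
  rw [mul_assoc (x ^ i), mul_assoc (x ^ i), nf_A0_mul_x D, pow_succ]
  simp only [mul_assoc]

theorem nfSet_mul_y (D : RData p n S x y z δ e) {s : Ω} (hs : s ∈ nfSet x y z) :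
    s * y ∈ nfSet x y z := by
  obtain ⟨i, j, k, rfl⟩ := hs
  refine ⟨i, j + 1, k, ?_⟩
  have h : z ^ k * y = y * z ^ k := by
    have := nf_comm_yz D 1 k
    rw [pow_one] at this
    exact this.symm
  rw [mul_assoc (x ^ i * y ^ j), h, pow_succ]
  simp only [mul_assoc]

theorem nfSet_mul_z {s : Ω} (hs : s ∈ nfSet x y z) :
    s * z ∈ nfSet x y z := by
  obtain ⟨i, j, k, rfl⟩ := hs
  refine ⟨i, j, k + 1, ?_⟩
  rw [pow_succ]
  simp only [mul_assoc]

theorem nfSet_mul_pow {g : Ω} (hg : ∀ s ∈ nfSet x y z, s * g ∈ nfSet x y z) (m : ℕ) :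
    ∀ s ∈ nfSet x y z, s * g ^ m ∈ nfSet x y z := by
  induction m with
  | zero => intro s hs; simpa using hs
  | succ m ih =>
    intro s hs
    rw [pow_succ, ← mul_assoc]
    exact hg _ (ih s hs)

theorem nf_inv_eq_pow {g : Ω} {m : ℕ} (hm : 0 < m) (h : g ^ m = 1) : g⁻¹ = g ^ (m - 1) := by
  symm
  apply eq_inv_of_mul_eq_one_left
  rw [← pow_succ, Nat.sub_add_cancel hm, h]

theorem nf_closure_le (D : RData p n S x y z δ e) :
    ∀ s ∈ Subgroup.closure ({x, y, z} : Set Ω), s ∈ nfSet x y z := by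
  intro s hs
  induction hs using Subgroup.closure_induction_right with
  | one => exact ⟨0, 0, 0, by simp⟩
  | mul_right s _ g hg ih =>
    rcases hg with rfl | rfl | rfl
    · exact nfSet_mul_x D ih
    · exact nfSet_mul_y D ih
    · exact nfSet_mul_z ih
  | mul_inv_cancel s _ g hg ih =>
    rcases hg with rfl | rfl | rfl
    · rw [nf_inv_eq_pow (nf_ppos D) D.xp]
      exact nfSet_mul_pow (fun s hs => nfSet_mul_x D hs) _ s ih
    · rw [nf_inv_eq_pow (nf_ppos D) D.yp]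
      exact nfSet_mul_pow (fun s hs => nfSet_mul_y D hs) _ s ih
    · rw [nf_inv_eq_pow (pow_pos (nf_ppos D) _) D.zp]
      exact nfSet_mul_pow (fun s hs => nfSet_mul_z hs) _ s ih

theorem mem_normal_form (D : RData p n S x y z δ e) :
    ∀ s ∈ S, ∃ i j k : ℕ, s = x ^ i * y ^ j * z ^ k := by
  intro s hs
  rw [← D.gen] at hs
  exact nf_closure_le D s hs

theorem nf_x_mem (D : RData p n S x y z δ e) : x ∈ S := by
  rw [← D.gen]; exact Subgroup.subset_closure (by simp)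

theorem nf_y_mem (D : RData p n S x y z δ e) : y ∈ S := by
  rw [← D.gen]; exact Subgroup.subset_closure (by simp)

theorem nf_z_mem (D : RData p n S x y z δ e) : z ∈ S := by
  rw [← D.gen]; exact Subgroup.subset_closure (by simp)

theorem nf_pow_mod {g : Ω} {m : ℕ} (h : g ^ m = 1) (i : ℕ) : g ^ i = g ^ (i % m) := by
  conv_lhs => rw [← Nat.mod_add_div i m]
  rw [pow_add, pow_mul, h, one_pow, mul_one]

/-- The parametrisation of `S` by reduced exponents. -/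
def nfMap (D : RData p n S x y z δ e) : Fin p × Fin p × Fin (p ^ (n - 2)) → S :=
  fun t => ⟨x ^ (t.1 : ℕ) * y ^ (t.2.1 : ℕ) * z ^ (t.2.2 : ℕ),
    S.mul_mem (S.mul_mem (S.pow_mem (nf_x_mem D) _) (S.pow_mem (nf_y_mem D) _))
      (S.pow_mem (nf_z_mem D) _)⟩

theorem nfMap_surjective (D : RData p n S x y z δ e) : Function.Surjective (nfMap D) := by
  rintro ⟨s, hs⟩
  obtain ⟨i, j, k, rfl⟩ := mem_normal_form D s hs
  have hp := nf_ppos D
  have hq : 0 < p ^ (n - 2) := pow_pos hp _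
  refine ⟨(⟨i % p, Nat.mod_lt _ hp⟩, ⟨j % p, Nat.mod_lt _ hp⟩, ⟨k % p ^ (n - 2), Nat.mod_lt _ hq⟩), ?_⟩
  apply Subtype.ext
  simp only [nfMap]
  rw [← nf_pow_mod D.xp, ← nf_pow_mod D.yp, ← nf_pow_mod D.zp]

theorem nfMap_bijective (D : RData p n S x y z δ e) : Function.Bijective (nfMap D) := by
  apply (nfMap_surjective D).bijective_of_nat_card_le
  rw [D.card, Nat.card_prod, Nat.card_prod, Nat.card_fin, Nat.card_fin]
  have := D.hn
  apply le_of_eq
  rw [← pow_succ', ← pow_succ']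
  congr 1; omega

/-- Independence for natural reduced exponents. -/
theorem nf_indep_nat (D : RData p n S x y z δ e) {i j k : ℕ} (hi : i < p) (hj : j < p)
    (hk : k < p ^ (n - 2)) (h : x ^ i * y ^ j * z ^ k = 1) : i = 0 ∧ j = 0 ∧ k = 0 := by
  have hp := nf_ppos D
  have hq : 0 < p ^ (n - 2) := pow_pos hp _
  have h1 : nfMap D (⟨i, hi⟩, ⟨j, hj⟩, ⟨k, hk⟩) = nfMap D (⟨0, hp⟩, ⟨0, hp⟩, ⟨0, hq⟩) := by
    apply Subtype.ext
    simp only [nfMap]
    rw [h]; simp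
  have h2 := (nfMap_bijective D).1 h1
  simp only [Prod.mk.injEq, Fin.mk.injEq] at h2
  exact h2

theorem orderOf_z (D : RData p n S x y z δ e) : orderOf z = p ^ (n - 2) := by
  have hp := nf_ppos D
  have hq : 0 < p ^ (n - 2) := pow_pos hp _
  have hdvd : orderOf z ∣ p ^ (n - 2) := orderOf_dvd_of_pow_eq_one D.zp
  have hpos : 0 < orderOf z := Nat.pos_of_dvd_of_pos hdvd hq
  have hle : orderOf z ≤ p ^ (n - 2) := Nat.le_of_dvd hq hdvd
  rcases lt_or_eq_of_le hle with hlt | heq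
  · exfalso
    have := nf_indep_nat D hp hp hlt (by simp [pow_orderOf_eq_one])
    omega
  · exact heq

theorem nf_zpow_mod {g : Ω} {m : ℕ} (hm : 0 < m) (h : g ^ m = 1) (i : ℤ) :
    g ^ i = g ^ (i % (m : ℤ)).toNat := by
  have hnn : 0 ≤ i % (m : ℤ) := Int.emod_nonneg _ (by exact_mod_cast hm.ne')
  conv_lhs => rw [← Int.emod_add_mul_ediv i m]
  rw [zpow_add, zpow_mul, zpow_natCast, h, one_zpow, mul_one]
  conv_lhs => rw [← Int.toNat_of_nonneg hnn]
  rw [zpow_natCast]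

theorem indep (D : RData p n S x y z δ e) : ∀ i j k : ℤ, x ^ i * y ^ j * z ^ k = 1 →
    (p : ℤ) ∣ i ∧ (p : ℤ) ∣ j ∧ ((p ^ (n - 2) : ℕ) : ℤ) ∣ k := by
  intro i j k h
  have hp := nf_ppos D
  have hq : 0 < p ^ (n - 2) := pow_pos hp _
  have hpz : (0 : ℤ) < (p : ℤ) := by exact_mod_cast hp
  have hqz : (0 : ℤ) < ((p ^ (n - 2) : ℕ) : ℤ) := by exact_mod_cast hq
  rw [nf_zpow_mod hp D.xp i, nf_zpow_mod hp D.yp j, nf_zpow_mod hq D.zp k] at h
  have hi : (i % (p : ℤ)).toNat < p := by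
    have := Int.emod_lt_of_pos i hpz
    have := Int.emod_nonneg i hpz.ne'
    omega
  have hj : (j % (p : ℤ)).toNat < p := by
    have := Int.emod_lt_of_pos j hpz
    have := Int.emod_nonneg j hpz.ne'
    omega
  have hk : (k % ((p ^ (n - 2) : ℕ) : ℤ)).toNat < p ^ (n - 2) := by
    have := Int.emod_lt_of_pos k hqz
    have := Int.emod_nonneg k hqz.ne'
    omega
  obtain ⟨h1, h2, h3⟩ := nf_indep_nat D hi hj hk h
  refine ⟨Int.dvd_of_emod_eq_zero ?_, Int.dvd_of_emod_eq_zero ?_, Int.dvd_of_emod_eq_zero ?_⟩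
  · have := Int.emod_nonneg i hpz.ne'
    omega
  · have := Int.emod_nonneg j hpz.ne'
    omega
  · have := Int.emod_nonneg k hqz.ne'
    omega

end Cfsg.Agent.Lib.Helper41.RkResNF
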