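/-
helper41: S5289 project (helper70), module [NF2]: basic relations in the groups
`C(p,n)`, `G(p,n;ε)` (data `RData`): `z^p` is central, conjugation by `y`, commutators,
`z` central when `δ = 0`, and the centralizer of `x, y`.
-/
import Cfsg.Agent.Lib.Helper41.RkResNF

set_option autoImplicit false
set_option linter.unusedSectionVars false

namespace Cfsg.Agent.Lib.Helper41.RkResNF2

open Cfsg.Agent.Lib.Helper70.RkRes Cfsg.Agent.Lib.Helper41.RkResNF

variable {Ω : Type*} [Group Ω] {p n : ℕ} [Fact p.Prime] {S : Subgroup Ω} {x y z : Ω} {δ e : ℕ}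

theorem nf2_comm_of_conj {g : Ω} (h : x⁻¹ * g * x = g) : g * x = x * g := by
  rw [mul_assoc, inv_mul_eq_iff_eq_mul] at h; exact h

/-- An element commuting with the three generators commutes with all of `S`. -/
theorem nf2_central_of_gens (D : RData p n S x y z δ e) {g : Ω} (hx : g * x = x * g)
    (hy : g * y = y * g) (hz : g * z = z * g) : ∀ s ∈ S, s * g = g * s := by
  intro s hs
  rw [← D.gen] at hs
  have hle : Subgroup.closure ({x, y, z} : Set Ω) ≤ Subgroup.centralizer ({g} : Set Ω) := by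
    rw [Subgroup.closure_le]
    rintro a (rfl | rfl | rfl) <;>
    · rw [SetLike.mem_coe, Subgroup.mem_centralizer_iff]
      intro h hh
      rw [Set.mem_singleton_iff] at hh
      subst hh
      assumption
  have h1 := hle hs
  rw [Subgroup.mem_centralizer_iff] at h1
  exact (h1 g rfl).symm

/-- `c = z^(p^(n-3))` commutes with `x`. -/
theorem nf2_c_comm_x (D : RData p n S x y z δ e) :
    z ^ p ^ (n - 3) * x = x * z ^ p ^ (n - 3) := by
  apply nf2_comm_of_conj
  rw [nf_conj_z_pow D, nf_y_pow_of_dvd D (Dvd.dvd.mul_left (nf_p_dvd D) δ), one_mul]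

theorem nf2_c_comm_y (D : RData p n S x y z δ e) :
    z ^ p ^ (n - 3) * y = y * z ^ p ^ (n - 3) :=
  ((show Commute y z from D.yz).pow_right _).eq.symm

theorem nf2_c_comm_z (_D : RData p n S x y z δ e) :
    z ^ p ^ (n - 3) * z = z * z ^ p ^ (n - 3) :=
  ((Commute.refl z).pow_right _).eq.symm

theorem nf2_c_central (D : RData p n S x y z δ e) :
    ∀ s ∈ S, s * z ^ p ^ (n - 3) = z ^ p ^ (n - 3) * s :=
  nf2_central_of_gens D (nf2_c_comm_x D) (nf2_c_comm_y D) (nf2_c_comm_z D)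

theorem zpow_p_central (D : RData p n S x y z δ e) : ∀ s ∈ S, s * z ^ p = z ^ p * s := by
  apply nf2_central_of_gens D
  · apply nf2_comm_of_conj
    rw [nf_conj_z_pow D, nf_y_pow_of_dvd D (Dvd.intro_left δ rfl), one_mul]
  · exact ((show Commute y z from D.yz).pow_right _).eq.symm
  · exact ((Commute.refl z).pow_right _).eq.symm

/-- `y x^i = x^i y c^(e i)`. -/
theorem nf2_y_mul_x_pow (D : RData p n S x y z δ e) (i : ℕ) :
    y * x ^ i = x ^ i * y * (z ^ p ^ (n - 3)) ^ (e * i) := by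
  have hcx : Commute (z ^ p ^ (n - 3)) x := nf2_c_comm_x D
  have hyx : y * x = x * y * (z ^ p ^ (n - 3)) ^ e := by
    have h := D.xy
    rw [mul_assoc, inv_mul_eq_iff_eq_mul] at h
    rw [h, ← pow_mul, mul_assoc, Nat.mul_comm]
  induction i with
  | zero => simp
  | succ i ih =>
    rw [pow_succ, ← mul_assoc, ih]
    have h1 : (z ^ p ^ (n - 3)) ^ (e * i) * x = x * (z ^ p ^ (n - 3)) ^ (e * i) :=
      (hcx.pow_left _).eq
    calc x ^ i * y * (z ^ p ^ (n - 3)) ^ (e * i) * x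
        = x ^ i * (y * x) * (z ^ p ^ (n - 3)) ^ (e * i) := by
          rw [mul_assoc (x ^ i * y), h1]; simp only [mul_assoc]
      _ = x ^ i * x * y * ((z ^ p ^ (n - 3)) ^ e * (z ^ p ^ (n - 3)) ^ (e * i)) := by
          rw [hyx]; simp only [mul_assoc]
      _ = x ^ i * x * y * (z ^ p ^ (n - 3)) ^ (e * (i + 1)) := by
          rw [← pow_add]; congr 2; ring

theorem conj_y (D : RData p n S x y z δ e) :
    ∀ s ∈ S, ∃ k : ℤ, y * s * y⁻¹ = s * (z ^ p ^ (n - 3)) ^ k := by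
  intro s hs
  obtain ⟨i, j, k, rfl⟩ := mem_normal_form D s hs
  refine ⟨((e * i : ℕ) : ℤ), ?_⟩
  rw [zpow_natCast]
  have hyz : Commute y z := D.yz
  have hyc : Commute y ((z ^ p ^ (n - 3)) ^ (e * i)) := (hyz.pow_right _).pow_right _
  have hzc : Commute z ((z ^ p ^ (n - 3)) ^ (e * i)) := ((Commute.refl z).pow_right _).pow_right _
  have h1 : Commute ((z ^ p ^ (n - 3)) ^ (e * i)) (y ^ j * z ^ k) :=
    ((hyc.symm).pow_right j).mul_right ((hzc.symm).pow_right k)
  have h2 : Commute y (y ^ j * z ^ k) :=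
    ((Commute.refl y).pow_right j).mul_right (hyz.pow_right k)
  calc y * (x ^ i * y ^ j * z ^ k) * y⁻¹
      = (y * x ^ i) * (y ^ j * z ^ k) * y⁻¹ := by simp only [mul_assoc]
    _ = x ^ i * y * (z ^ p ^ (n - 3)) ^ (e * i) * (y ^ j * z ^ k) * y⁻¹ := by
        rw [nf2_y_mul_x_pow D]
    _ = x ^ i * y * ((y ^ j * z ^ k) * (z ^ p ^ (n - 3)) ^ (e * i)) * y⁻¹ := by
        rw [mul_assoc (x ^ i * y), h1.eq]
    _ = x ^ i * ((y ^ j * z ^ k) * y) * (z ^ p ^ (n - 3)) ^ (e * i) * y⁻¹ := by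
        rw [← h2.eq]; simp only [mul_assoc]
    _ = x ^ i * (y ^ j * z ^ k) * ((z ^ p ^ (n - 3)) ^ (e * i) * y) * y⁻¹ := by
        rw [← hyc.eq]; simp only [mul_assoc]
    _ = x ^ i * y ^ j * z ^ k * (z ^ p ^ (n - 3)) ^ (e * i) := by
        simp only [mul_assoc, mul_inv_cancel, mul_one]

/-- General principle: if `N` is normalized by a generating set whose members commute
pairwise modulo `N`, then all commutators of the generated group lie in `N`. -/
theorem nf2_comm_closure {G : Type*} [Group G] (X : Set G) (N : Subgroup G)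
    (hN : ∀ g ∈ X, ∀ h ∈ N, g * h * g⁻¹ ∈ N ∧ g⁻¹ * h * g ∈ N)
    (hX : ∀ a ∈ X, ∀ b ∈ X, a * b * a⁻¹ * b⁻¹ ∈ N) :
    ∀ s ∈ Subgroup.closure X, ∀ t ∈ Subgroup.closure X, s * t * s⁻¹ * t⁻¹ ∈ N := by
  -- step 0: the closure normalizes `N`
  have h0 : ∀ s ∈ Subgroup.closure X, ∀ h ∈ N, s * h * s⁻¹ ∈ N ∧ s⁻¹ * h * s ∈ N := by
    intro s hs
    induction hs using Subgroup.closure_induction with
    | mem g hg => exact hN g hg
    | one => intro h hh; simpa using hh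
    | mul a b _ _ iha ihb =>
      intro h hh
      constructor
      · have := (iha _ (ihb h hh).1).1
        convert this using 1; group
      · have := (ihb _ (iha h hh).2).2
        convert this using 1; group
    | inv a _ iha =>
      intro h hh
      constructor
      · have := (iha h hh).2
        convert this using 1; group
      · have := (iha h hh).1
        convert this using 1; group
  -- step 1: commutators with a generator
  have h1 : ∀ a ∈ X, ∀ s ∈ Subgroup.closure X, s * a * s⁻¹ * a⁻¹ ∈ N := by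
    intro a ha s hs
    induction hs using Subgroup.closure_induction with
    | mem g hg => exact hX g hg a ha
    | one => simp
    | mul s1 s2 hs1 _ ih1 ih2 =>
      have := N.mul_mem (h0 s1 hs1 _ ih2).1 ih1
      convert this using 1; group
    | inv s hs ih =>
      have := (h0 s hs _ (N.inv_mem ih)).2
      convert this using 1; group
  -- step 2
  intro s hs t ht
  induction ht using Subgroup.closure_induction with
  | mem g hg => exact h1 g hg s hs
  | one => simp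
  | mul t1 t2 ht1 _ ih1 ih2 =>
    have := N.mul_mem ih1 (h0 t1 ht1 _ ih2).1
    convert this using 1; group
  | inv t ht ih =>
    have := (h0 t ht _ (N.inv_mem ih)).2
    convert this using 1; group

/-- The subgroup `{y^j c^k}` for commuting `y, c`. -/
def nf2B (y c : Ω) (h : Commute y c) : Subgroup Ω where
  carrier := {g | ∃ j k : ℤ, g = y ^ j * c ^ k}
  mul_mem' := by
    rintro _ _ ⟨j, k, rfl⟩ ⟨j', k', rfl⟩
    refine ⟨j + j', k + k', ?_⟩
    rw [zpow_add, zpow_add]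
    have h1 : c ^ k * y ^ j' = y ^ j' * c ^ k := ((h.zpow_zpow j' k).eq).symm
    calc y ^ j * c ^ k * (y ^ j' * c ^ k') = y ^ j * (c ^ k * y ^ j') * c ^ k' := by
          simp only [mul_assoc]
      _ = y ^ j * y ^ j' * (c ^ k * c ^ k') := by rw [h1]; simp only [mul_assoc]
  one_mem' := ⟨0, 0, by simp⟩
  inv_mem' := by
    rintro _ ⟨j, k, rfl⟩
    refine ⟨-j, -k, ?_⟩
    rw [mul_inv_rev, ← zpow_neg, ← zpow_neg, (h.zpow_zpow _ _).eq]

theorem mem_nf2B {y c : Ω} (h : Commute y c) (g : Ω) :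
    g ∈ nf2B y c h ↔ ∃ j k : ℤ, g = y ^ j * c ^ k := Iff.rfl

theorem nf2_comm_yc (D : RData p n S x y z δ e) : Commute y (z ^ p ^ (n - 3)) :=
  (show Commute y z from D.yz).pow_right _

/-- `x⁻¹ y x = y c^e` with `c` written as a power. -/
theorem nf2_xy' (D : RData p n S x y z δ e) :
    x⁻¹ * y * x = y * (z ^ p ^ (n - 3)) ^ e := by
  rw [D.xy, ← pow_mul, Nat.mul_comm]

/-- `x y x⁻¹ = y c^(-e)`. -/
theorem nf2_xy_inv (D : RData p n S x y z δ e) :
    x * y * x⁻¹ = y * ((z ^ p ^ (n - 3)) ^ e)⁻¹ := by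
  have hcx : Commute ((z ^ p ^ (n - 3)) ^ e) x := (show Commute _ x from nf2_c_comm_x D).pow_left _
  have h1 : y = x * (y * (z ^ p ^ (n - 3)) ^ e) * x⁻¹ := by
    rw [← nf2_xy' D]; group
  have h2 : x * (y * (z ^ p ^ (n - 3)) ^ e) * x⁻¹ = x * y * x⁻¹ * (z ^ p ^ (n - 3)) ^ e := by
    rw [mul_assoc x, mul_assoc x, mul_assoc y, (hcx.inv_right).eq]
    simp only [mul_assoc]
  rw [h2] at h1
  rw [eq_mul_inv_iff_mul_eq]
  exact h1.symm

theorem nf2_conj_zpow (g h : Ω) (m : ℤ) : g * h ^ m * g⁻¹ = (g * h * g⁻¹) ^ m := by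
  simp

theorem nf2_conj_zpow' (g h : Ω) (m : ℤ) : g⁻¹ * h ^ m * g = (g⁻¹ * h * g) ^ m := by
  have := nf2_conj_zpow g⁻¹ h m
  simpa using this

/-- `B = {y^j c^k}` is normalized by the generators. -/
theorem nf2_B_normalized (D : RData p n S x y z δ e) :
    ∀ g ∈ ({x, y, z} : Set Ω), ∀ h ∈ nf2B y (z ^ p ^ (n - 3)) (nf2_comm_yc D),
      g * h * g⁻¹ ∈ nf2B y (z ^ p ^ (n - 3)) (nf2_comm_yc D) ∧
      g⁻¹ * h * g ∈ nf2B y (z ^ p ^ (n - 3)) (nf2_comm_yc D) := by
  have hyc := nf2_comm_yc D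
  have hcx : Commute (z ^ p ^ (n - 3)) x := nf2_c_comm_x D
  have hyz : Commute y z := D.yz
  have hzc : Commute z (z ^ p ^ (n - 3)) := (Commute.refl z).pow_right _
  have hymem : y ∈ nf2B y (z ^ p ^ (n - 3)) hyc := ⟨1, 0, by simp⟩
  have hcmem : z ^ p ^ (n - 3) ∈ nf2B y (z ^ p ^ (n - 3)) hyc := ⟨0, 1, by simp⟩
  rintro g (rfl | rfl | rfl) h ⟨j, k, rfl⟩
  · -- conjugation by x
    constructor
    · have h1 : g * (y ^ j * (z ^ p ^ (n - 3)) ^ k) * g⁻¹
          = (g * y * g⁻¹) ^ j * (g * (z ^ p ^ (n - 3)) * g⁻¹) ^ k := by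
        rw [← nf2_conj_zpow, ← nf2_conj_zpow]; group
      rw [h1, nf2_xy_inv D]
      have h2 : g * z ^ p ^ (n - 3) * g⁻¹ = z ^ p ^ (n - 3) := by
        rw [← hcx.eq]; group
      rw [h2]
      exact Subgroup.mul_mem _
        (Subgroup.zpow_mem _ (Subgroup.mul_mem _ hymem
          (Subgroup.inv_mem _ (Subgroup.pow_mem _ hcmem _))) _)
        (Subgroup.zpow_mem _ hcmem _)
    · have h1 : g⁻¹ * (y ^ j * (z ^ p ^ (n - 3)) ^ k) * g
          = (g⁻¹ * y * g) ^ j * (g⁻¹ * (z ^ p ^ (n - 3)) * g) ^ k := by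
        rw [← nf2_conj_zpow', ← nf2_conj_zpow']; group
      rw [h1, nf2_xy' D]
      have h2 : g⁻¹ * z ^ p ^ (n - 3) * g = z ^ p ^ (n - 3) := by
        rw [mul_assoc, hcx.eq]; group
      rw [h2]
      exact Subgroup.mul_mem _
        (Subgroup.zpow_mem _ (Subgroup.mul_mem _ hymem (Subgroup.pow_mem _ hcmem _)) _)
        (Subgroup.zpow_mem _ hcmem _)
  · -- conjugation by y: trivial
    have hc : Commute g (g ^ j * (z ^ p ^ (n - 3)) ^ k) :=
      ((Commute.refl g).zpow_right j).mul_right (hyc.zpow_right k)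
    constructor
    · rw [hc.eq, mul_assoc, mul_inv_cancel, mul_one]; exact ⟨j, k, rfl⟩
    · rw [mul_assoc, ← hc.eq, ← mul_assoc, inv_mul_cancel, one_mul]; exact ⟨j, k, rfl⟩
  · -- conjugation by z: trivial
    have hc : Commute g (y ^ j * (g ^ p ^ (n - 3)) ^ k) :=
      (hyz.symm.zpow_right j).mul_right (hzc.zpow_right k)
    constructor
    · rw [hc.eq, mul_assoc, mul_inv_cancel, mul_one]; exact ⟨j, k, rfl⟩
    · rw [mul_assoc, ← hc.eq, ← mul_assoc, inv_mul_cancel, one_mul]; exact ⟨j, k, rfl⟩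

/-- The generators commute pairwise modulo `B`. -/
theorem nf2_B_gens (D : RData p n S x y z δ e) :
    ∀ a ∈ ({x, y, z} : Set Ω), ∀ b ∈ ({x, y, z} : Set Ω),
      a * b * a⁻¹ * b⁻¹ ∈ nf2B y (z ^ p ^ (n - 3)) (nf2_comm_yc D) := by
  have hyc := nf2_comm_yc D
  have hyz : Commute y z := D.yz
  have hymem : y ∈ nf2B y (z ^ p ^ (n - 3)) hyc := ⟨1, 0, by simp⟩
  have hcmem : z ^ p ^ (n - 3) ∈ nf2B y (z ^ p ^ (n - 3)) hyc := ⟨0, 1, by simp⟩
  -- the three basic commutators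
  have hxy : x * y * x⁻¹ * y⁻¹ ∈ nf2B y (z ^ p ^ (n - 3)) hyc := by
    rw [nf2_xy_inv D]
    have : y * ((z ^ p ^ (n - 3)) ^ e)⁻¹ * y⁻¹ = ((z ^ p ^ (n - 3)) ^ e)⁻¹ := by
      rw [((hyc.pow_right e).inv_right).eq, mul_assoc, mul_inv_cancel, mul_one]
    rw [this]
    exact Subgroup.inv_mem _ (Subgroup.pow_mem _ hcmem _)
  have hxz : x * z * x⁻¹ * z⁻¹ ∈ nf2B y (z ^ p ^ (n - 3)) hyc := by
    -- z = x (y^δ z) x⁻¹ = (x y x⁻¹)^δ (x z x⁻¹)
    have h1 : z = (x * y * x⁻¹) ^ δ * (x * z * x⁻¹) := by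
      have h2 : (x * y * x⁻¹) ^ δ = x * y ^ δ * x⁻¹ := by
        simp
      rw [h2]
      have h3 : x * y ^ δ * x⁻¹ * (x * z * x⁻¹) = x * (y ^ δ * z) * x⁻¹ := by group
      rw [h3, ← D.xz]; group
    have h4 : x * z * x⁻¹ * z⁻¹ = ((x * y * x⁻¹) ^ δ)⁻¹ := by
      rw [eq_inv_iff_mul_eq_one]
      have h5 : x * z * x⁻¹ * z⁻¹ * (x * y * x⁻¹) ^ δ
          = x * z * x⁻¹ * (z⁻¹ * ((x * y * x⁻¹) ^ δ * (x * z * x⁻¹))) * (x * z * x⁻¹)⁻¹ := by
        group
      rw [h5, ← h1]; group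
    rw [h4, nf2_xy_inv D]
    exact Subgroup.inv_mem _ (Subgroup.pow_mem _ (Subgroup.mul_mem _ hymem
      (Subgroup.inv_mem _ (Subgroup.pow_mem _ hcmem _))) _)
  have hyz' : y * z * y⁻¹ * z⁻¹ ∈ nf2B y (z ^ p ^ (n - 3)) hyc := by
    rw [hyz.eq, mul_assoc z, mul_inv_cancel, mul_one, mul_inv_cancel]
    exact Subgroup.one_mem _
  have hswap : ∀ a b : Ω, a * b * a⁻¹ * b⁻¹ ∈ nf2B y (z ^ p ^ (n - 3)) hyc →
      b * a * b⁻¹ * a⁻¹ ∈ nf2B y (z ^ p ^ (n - 3)) hyc := by
    intro a b h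
    have := Subgroup.inv_mem _ h
    convert this using 1; group
  have hdiag : ∀ a : Ω, a * a * a⁻¹ * a⁻¹ ∈ nf2B y (z ^ p ^ (n - 3)) hyc := by
    intro a
    have : a * a * a⁻¹ * a⁻¹ = 1 := by group
    rw [this]; exact Subgroup.one_mem _
  rintro a (rfl | rfl | rfl) b (rfl | rfl | rfl)
  · exact hdiag _
  · exact hxy
  · exact hxz
  · exact hswap _ _ hxy
  · exact hdiag _
  · exact hyz'
  · exact hswap _ _ hxz
  · exact hswap _ _ hyz'
  · exact hdiag _

theorem comm_mem (D : RData p n S x y z δ e) : ∀ s ∈ S, ∀ t ∈ S, ∃ j k : ℤ,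
    s * t * s⁻¹ * t⁻¹ = y ^ j * (z ^ p ^ (n - 3)) ^ k := by
  intro s hs t ht
  rw [← D.gen] at hs ht
  exact nf2_comm_closure _ _ (nf2_B_normalized D) (nf2_B_gens D) s hs t ht

theorem z_central (D : RData p n S x y z 0 e) : ∀ s ∈ S, s * z = z * s := by
  apply nf2_central_of_gens D
  · apply nf2_comm_of_conj
    rw [D.xz, pow_zero, one_mul]
  · exact D.yz.symm
  · rfl

theorem nf2_p_dvd_of (D : RData p n S x y z δ e) {i : ℕ}
    (h : z ^ (e * p ^ (n - 3) * i) = 1) : p ∣ i := by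
  have hp := nf_ppos D
  have h1 : orderOf z ∣ e * p ^ (n - 3) * i := orderOf_dvd_of_pow_eq_one h
  rw [orderOf_z D, ← nf_pow_succ D] at h1
  have h2 : p ^ (n - 3) * p ∣ p ^ (n - 3) * (e * i) := by
    convert h1 using 1; ring
  have h3 : p ∣ e * i := Nat.dvd_of_mul_dvd_mul_left (pow_pos hp _) h2
  rcases (Fact.out : p.Prime).dvd_mul.mp h3 with h4 | h4
  · exact absurd h4 D.he
  · exact h4

theorem centralizer_xy (D : RData p n S x y z δ e) :
    ∀ s ∈ S, s * x = x * s → s * y = y * s → ∃ k : ℤ, s = z ^ k := by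
  intro s hs hsx hsy
  obtain ⟨i, j, k, rfl⟩ := mem_normal_form D s hs
  have hyz : Commute y z := D.yz
  -- step 1: `p ∣ i`
  have hi : p ∣ i := by
    have h2 : Commute y (y ^ j * z ^ k) :=
      ((Commute.refl y).pow_right j).mul_right (hyz.pow_right k)
    have h3 : x ^ i * y = y * x ^ i := by
      have h4 : x ^ i * y * (y ^ j * z ^ k) = y * x ^ i * (y ^ j * z ^ k) := by
        calc x ^ i * y * (y ^ j * z ^ k) = x ^ i * ((y ^ j * z ^ k) * y) := by
              rw [← h2.eq]; simp only [mul_assoc]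
          _ = x ^ i * y ^ j * z ^ k * y := by simp only [mul_assoc]
          _ = y * (x ^ i * y ^ j * z ^ k) := hsy
          _ = y * x ^ i * (y ^ j * z ^ k) := by simp only [mul_assoc]
      exact mul_right_cancel h4
    rw [nf2_y_mul_x_pow D] at h3
    have h5 : (z ^ p ^ (n - 3)) ^ (e * i) = 1 := by
      have := mul_left_cancel (a := x ^ i * y) (b := 1) (c := (z ^ p ^ (n - 3)) ^ (e * i))
        (by rw [mul_one]; exact h3)
      exact this.symm
    apply nf2_p_dvd_of D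
    rw [← h5, ← pow_mul]; congr 1; ring
  rw [nf_x_pow_of_dvd D hi, one_mul] at hsx ⊢
  -- step 2: `p ∣ j`
  have hj : p ∣ j := by
    rw [nf_A0_mul_x D] at hsx
    have h1 := mul_left_cancel hsx
    rw [pow_add, pow_add] at h1
    have h2 : y ^ j * y ^ (δ * k) * (z ^ (e * p ^ (n - 3) * j) * z ^ k)
        = y ^ j * (y ^ (δ * k) * z ^ (e * p ^ (n - 3) * j)) * z ^ k := by
      simp only [mul_assoc]
    rw [h2] at h1
    have h3 := mul_right_cancel h1
    have h4 : y ^ (δ * k) * z ^ (e * p ^ (n - 3) * j) = 1 := by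
      have := mul_left_cancel (a := y ^ j) (b := y ^ (δ * k) * z ^ (e * p ^ (n - 3) * j))
        (c := 1) (by rw [mul_one]; exact h3)
      exact this
    have h5 := indep D 0 ((δ * k : ℕ) : ℤ) ((e * p ^ (n - 3) * j : ℕ) : ℤ)
      (by rw [zpow_zero, one_mul, zpow_natCast, zpow_natCast]; exact h4)
    have h6 : p ^ (n - 2) ∣ e * p ^ (n - 3) * j := Int.natCast_dvd_natCast.mp h5.2.2
    apply nf2_p_dvd_of D
    exact nf_z_pow_of_dvd D h6
  rw [nf_y_pow_of_dvd D hj, one_mul]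
  exact ⟨(k : ℤ), by rw [zpow_natCast]⟩

end Cfsg.Agent.Lib.Helper41.RkResNF2
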