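import Mathlib

set_option autoImplicit false

/-!
Sylow counting inside a subgroup containing a Sylow subgroup of the whole group (for S1022).
-/

namespace Cfsg.Agent.Lib.Helper41

open Subgroup

/-- Sylow counting inside a subgroup `H` containing the Sylow `p`-subgroup `P` of `G`. -/
theorem s1022_sylow_count_subgroup {G : Type*} [Group G] [Finite G] {p : ℕ} [Fact p.Prime]
    (P : Sylow p G) (H : Subgroup G) (hPH : (P : Subgroup G) ≤ H) :
    ∃ n : ℕ, n % p = 1 ∧
      n * Nat.card ((normalizer ((P : Subgroup G) : Set G) ⊓ H : Subgroup G)) = Nat.card H := by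
  have hp : p.Prime := Fact.out
  set P' : Sylow p H := P.subtype hPH with hP'
  refine ⟨Nat.card (Sylow p H), ?_, ?_⟩
  · have h : Nat.card (Sylow p H) % p = 1 % p := card_sylow_modEq_one p H
    rw [h, Nat.mod_eq_of_lt hp.one_lt]
  · have h1 : Nat.card (Sylow p H) = (normalizer (((P' : Subgroup H)) : Set H)).index :=
      P'.card_eq_index_normalizer
    have h2 : ((P' : Subgroup H)) = (P : Subgroup G).subgroupOf H := by
      rw [hP', Sylow.coe_subtype]
    have h3 : normalizer (((P' : Subgroup H)) : Set H) =
        (normalizer ((P : Subgroup G) : Set G)).subgroupOf H := by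
      rw [h2]
      exact (subgroupOf_normalizer_eq hPH).symm
    have h4 : Nat.card ((normalizer ((P : Subgroup G) : Set G)).subgroupOf H) =
        Nat.card ((normalizer ((P : Subgroup G) : Set G) ⊓ H : Subgroup G)) := by
      rw [← inf_subgroupOf_right]
      exact Nat.card_congr (subgroupOfEquivOfLe inf_le_right).toEquiv
    rw [h1, h3, ← h4, mul_comm]
    exact card_mul_index _

end Cfsg.Agent.Lib.Helper41
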