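import Mathlib
import Cfsg.Prelude.Def_Characters
import Cfsg.Agent.Lib.Helper5.SL2Sylow
import Cfsg.Agent.Lib.Helper41.SL2Borel
import Cfsg.Agent.Lib.Helper41.SL2BorelInd
import Cfsg.Agent.Lib.Helper41.IndInner

set_option autoImplicit false

/-!
# Mackey formula for principal series of `SL₂(F)` (helper41)
-/

namespace Cfsg.Agent.Lib.Helper41

open scoped ComplexConjugate

variable {F : Type*} [Field F] [Fintype F] [DecidableEq F]

/-- orthogonality on the unit group -/
theorem sum_units_mulChar (χ : MulChar F ℂ) [Decidable (χ = 1)] :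
    ∑ a : Fˣ, χ a = if χ = 1 then ((Fintype.card F : ℂ) - 1) else 0 := by
  split_ifs with h
  · subst h
    have : ∀ a : Fˣ, (1 : MulChar F ℂ) a = 1 := fun a => MulChar.one_apply_coe a
    simp only [this, Finset.sum_const, Finset.card_univ, nsmul_eq_mul, mul_one,
      Fintype.card_units]
    rw [Nat.cast_sub Fintype.card_pos, Nat.cast_one]
  · obtain ⟨b, hb⟩ := MulChar.ne_one_iff.mp h
    have h1 : ∑ a : Fˣ, χ a = χ b * ∑ a : Fˣ, χ a := by
      rw [Finset.mul_sum]
      apply Fintype.sum_equiv (Equiv.mulLeft b⁻¹)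
      intro a
      rw [← map_mul]
      simp
    by_contra hne
    apply hb
    have := mul_right_cancel₀ hne (show χ b * ∑ a : Fˣ, χ a = 1 * ∑ a : Fˣ, χ a by
      rw [one_mul]; exact h1.symm)
    exact this

theorem sum_units_mul_conj (α β : MulChar F ℂ) [Decidable (α = β)] :
    ∑ a : Fˣ, α a * conj (β a) = if α = β then ((Fintype.card F : ℂ) - 1) else 0 := by
  classical
  have h1 : ∀ a : Fˣ, α a * conj (β a) = (α * β⁻¹) a := by
    intro a
    rw [MulChar.mul_apply, ← MulChar.star_apply']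
    rfl
  simp only [h1]
  rw [sum_units_mulChar]
  have : (α * β⁻¹ = 1) ↔ α = β := mul_inv_eq_one
  by_cases h : α = β
  · rw [if_pos h, if_pos (this.mpr h)]
  · rw [if_neg h, if_neg (fun h' => h (this.mp h'))]

theorem sum_units_mul_conj_inv (α β : MulChar F ℂ) [Decidable (α = β⁻¹)] :
    ∑ a : Fˣ, α a * conj (β ((a⁻¹ : Fˣ) : F))
      = if α = β⁻¹ then ((Fintype.card F : ℂ) - 1) else 0 := by
  classical
  have h1 : ∀ a : Fˣ, α a * conj (β ((a⁻¹ : Fˣ) : F)) = (α * β) a := by
    intro a
    rw [MulChar.mul_apply]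
    congr 1
    have : conj (β ((a⁻¹ : Fˣ) : F)) = star (β ((a⁻¹ : Fˣ) : F)) := rfl
    rw [this, MulChar.star_apply', MulChar.inv_apply', Units.val_inv_eq_inv_val, inv_inv]
  simp only [h1]
  rw [sum_units_mulChar]
  have : (α * β = 1) ↔ α = β⁻¹ := mul_eq_one_iff_eq_inv
  by_cases h : α = β⁻¹
  · rw [if_pos h, if_pos (this.mpr h)]
  · rw [if_neg h, if_neg (fun h' => h (this.mp h'))]

/-- a sum over the Borel subgroup, parametrised -/
theorem sum_ite_borel (K : Matrix.SpecialLinearGroup (Fin 2) F → ℂ) :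
    ∑ h : Matrix.SpecialLinearGroup (Fin 2) F,
      (if (h : Matrix (Fin 2) (Fin 2) F) 1 0 = 0 then K h else 0)
      = ∑ a : Fˣ, ∑ b : F, K (borelEl a b) := by
  rw [← Finset.sum_filter, ← Fintype.sum_prod_type']
  have hinj : Function.Injective (fun p : Fˣ × F => borelEl p.1 p.2) := by
    intro p p' hpp
    have : borelEquiv.symm p = borelEquiv.symm p' := Subtype.ext hpp
    exact borelEquiv.symm.injective this
  have himg : Finset.univ.filter (fun h : Matrix.SpecialLinearGroup (Fin 2) F =>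
      (h : Matrix (Fin 2) (Fin 2) F) 1 0 = 0)
      = Finset.univ.map ⟨fun p : Fˣ × F => borelEl p.1 p.2, hinj⟩ := by
    ext h
    simp only [Finset.mem_filter, Finset.mem_univ, true_and, Finset.mem_map,
      Function.Embedding.coeFn_mk]
    constructor
    · intro hh
      refine ⟨borelEquiv ⟨h, hh⟩, ?_⟩
      exact congrArg Subtype.val (borelEquiv.symm_apply_apply ⟨h, hh⟩)
    · rintro ⟨p, rfl⟩
      exact borelEl_mem p.1 p.2
  rw [himg, Finset.sum_map]
  rfl

end Cfsg.Agent.Lib.Helper41
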