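import Mathlib
import Cfsg.Prelude.Def_Characters
import Cfsg.Agent.Lib.Helper5.SL2Sylow
import Cfsg.Agent.Lib.Helper41.SL2Borel
import Cfsg.Agent.Lib.Helper41.SL2BorelInd
import Cfsg.Agent.Lib.Helper41.IndInner
import Cfsg.Agent.Lib.Helper41.SL2BorelMackey

set_option autoImplicit false

/-!
# Mackey formula for principal series of `SL₂(F)`: the inner product (helper41)
-/

namespace Cfsg.Agent.Lib.Helper41

open scoped ComplexConjugate

variable {F : Type*} [Field F]

theorem borelEl_apply_00 (a : Fˣ) (b : F) :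
    ((borelEl a b : Matrix.SpecialLinearGroup (Fin 2) F) : Matrix (Fin 2) (Fin 2) F) 0 0 = a := by
  simp [coe_borelEl]
theorem borelEl_apply_01 (a : Fˣ) (b : F) :
    ((borelEl a b : Matrix.SpecialLinearGroup (Fin 2) F) : Matrix (Fin 2) (Fin 2) F) 0 1 = b := by
  simp [coe_borelEl]
theorem borelEl_apply_10 (a : Fˣ) (b : F) :
    ((borelEl a b : Matrix.SpecialLinearGroup (Fin 2) F) : Matrix (Fin 2) (Fin 2) F) 1 0 = 0 := by
  simp [coe_borelEl]
theorem borelEl_apply_11 (a : Fˣ) (b : F) :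
    ((borelEl a b : Matrix.SpecialLinearGroup (Fin 2) F) : Matrix (Fin 2) (Fin 2) F) 1 1
      = ((a⁻¹ : Fˣ) : F) := by
  simp [coe_borelEl]

variable [Fintype F] [DecidableEq F]

theorem mackey_inner_sum (α β : F → ℂ) (z : Matrix.SpecialLinearGroup (Fin 2) F) :
    ∑ h : Matrix.SpecialLinearGroup (Fin 2) F,
      (if (h : Matrix (Fin 2) (Fin 2) F) 1 0 = 0 then α ((h : Matrix (Fin 2) (Fin 2) F) 0 0) else 0)
        * conj (if ((z⁻¹ * h * z : Matrix.SpecialLinearGroup (Fin 2) F) :
            Matrix (Fin 2) (Fin 2) F) 1 0 = 0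
          then β (((z⁻¹ * h * z : Matrix.SpecialLinearGroup (Fin 2) F) :
            Matrix (Fin 2) (Fin 2) F) 0 0) else 0)
      = if (z : Matrix (Fin 2) (Fin 2) F) 1 0 = 0
        then (Fintype.card F : ℂ) * ∑ a : Fˣ, α a * conj (β a)
        else ∑ a : Fˣ, α a * conj (β ((a⁻¹ : Fˣ) : F)) := by
  have e1 : ∀ h : Matrix.SpecialLinearGroup (Fin 2) F,
      (if (h : Matrix (Fin 2) (Fin 2) F) 1 0 = 0 then α ((h : Matrix (Fin 2) (Fin 2) F) 0 0) else 0)
        * conj (if ((z⁻¹ * h * z : Matrix.SpecialLinearGroup (Fin 2) F) :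
            Matrix (Fin 2) (Fin 2) F) 1 0 = 0
          then β (((z⁻¹ * h * z : Matrix.SpecialLinearGroup (Fin 2) F) :
            Matrix (Fin 2) (Fin 2) F) 0 0) else 0)
      = if (h : Matrix (Fin 2) (Fin 2) F) 1 0 = 0 then
          (fun h : Matrix.SpecialLinearGroup (Fin 2) F =>
            α ((h : Matrix (Fin 2) (Fin 2) F) 0 0)
            * conj (if ((z⁻¹ * h * z : Matrix.SpecialLinearGroup (Fin 2) F) :
                Matrix (Fin 2) (Fin 2) F) 1 0 = 0
              then β (((z⁻¹ * h * z : Matrix.SpecialLinearGroup (Fin 2) F) :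
                Matrix (Fin 2) (Fin 2) F) 0 0) else 0)) h else 0 := by
    intro h
    by_cases hh : (h : Matrix (Fin 2) (Fin 2) F) 1 0 = 0
    · rw [if_pos hh, if_pos hh]
    · rw [if_neg hh, if_neg hh, zero_mul]
  simp only [e1]
  rw [sum_ite_borel]
  simp only [conj_inv_apply_10, conj_inv_apply_00, borelEl_apply_00, borelEl_apply_01,
    borelEl_apply_10, borelEl_apply_11]
  have hz := sl2_det z
  by_cases hs : (z : Matrix (Fin 2) (Fin 2) F) 1 0 = 0
  · rw [if_pos hs]
    have : ∀ (a : Fˣ) (b : F), α a * conj (if (z : Matrix (Fin 2) (Fin 2) F) 0 0 ^ 2 * 0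
          - (z : Matrix (Fin 2) (Fin 2) F) 1 0 ^ 2 * b
          + (z : Matrix (Fin 2) (Fin 2) F) 0 0 * (z : Matrix (Fin 2) (Fin 2) F) 1 0
            * (((a⁻¹ : Fˣ) : F) - (a : F)) = 0
        then β (((z : Matrix (Fin 2) (Fin 2) F) 1 1 * (a : F)
            - (z : Matrix (Fin 2) (Fin 2) F) 0 1 * 0) * (z : Matrix (Fin 2) (Fin 2) F) 0 0
          + ((z : Matrix (Fin 2) (Fin 2) F) 1 1 * b
            - (z : Matrix (Fin 2) (Fin 2) F) 0 1 * ((a⁻¹ : Fˣ) : F))
            * (z : Matrix (Fin 2) (Fin 2) F) 1 0) else 0) = α a * conj (β a) := by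
      intro a b
      rw [if_pos (by rw [hs]; ring)]
      congr 3
      rw [hs] at hz ⊢
      linear_combination (a : F) * hz
    simp only [this, Finset.sum_const, Finset.card_univ, nsmul_eq_mul]
    rw [Finset.mul_sum]
  · rw [if_neg hs]
    apply Finset.sum_congr rfl
    intro a _
    have hb0 : (z : Matrix (Fin 2) (Fin 2) F) 0 0 * (((a⁻¹ : Fˣ) : F) - (a : F))
        / (z : Matrix (Fin 2) (Fin 2) F) 1 0 * (z : Matrix (Fin 2) (Fin 2) F) 1 0
        = (z : Matrix (Fin 2) (Fin 2) F) 0 0 * (((a⁻¹ : Fˣ) : F) - (a : F)) :=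
      div_mul_cancel₀ _ hs
    rw [Finset.sum_eq_single ((z : Matrix (Fin 2) (Fin 2) F) 0 0 * (((a⁻¹ : Fˣ) : F) - (a : F))
      / (z : Matrix (Fin 2) (Fin 2) F) 1 0)]
    · rw [if_pos (by linear_combination (-(z : Matrix (Fin 2) (Fin 2) F) 1 0) * hb0)]
      congr 3
      linear_combination ((a⁻¹ : Fˣ) : F) * hz + (z : Matrix (Fin 2) (Fin 2) F) 1 1 * hb0
    · intro b _ hb
      rw [if_neg]
      · simp
      · intro h
        apply hb
        have h' : (z : Matrix (Fin 2) (Fin 2) F) 1 0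
            * ((z : Matrix (Fin 2) (Fin 2) F) 0 0 * (((a⁻¹ : Fˣ) : F) - (a : F))
              - (z : Matrix (Fin 2) (Fin 2) F) 1 0 * b) = 0 := by linear_combination h
        rcases mul_eq_zero.mp h' with h'' | h''
        · exact absurd h'' hs
        · rw [eq_div_iff hs]
          linear_combination -h''
    · intro h
      exact absurd (Finset.mem_univ _) h

/-- Mackey formula: `⟨R(α), R(β)⟩ = [α = β] + [α = β⁻¹]` -/
theorem classInner_indFun_borel (α β : MulChar F ℂ) [Decidable (α = β)] [Decidable (α = β⁻¹)] :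
    Cfsg.classInner
      (Cfsg.indFun (borelSub F) (fun b => α
        (((b : Matrix.SpecialLinearGroup (Fin 2) F) : Matrix (Fin 2) (Fin 2) F) 0 0)))
      (Cfsg.indFun (borelSub F) (fun b => β
        (((b : Matrix.SpecialLinearGroup (Fin 2) F) : Matrix (Fin 2) (Fin 2) F) 0 0)))
      = (if α = β then 1 else 0) + (if α = β⁻¹ then 1 else 0) := by
  rw [classInner_indFun_indFun]
  simp only [extendByZero_borel (fun a => α a), extendByZero_borel (fun a => β a)]
  simp only [mackey_inner_sum (fun a => α a) (fun a => β a)]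
  rw [Finset.sum_ite, Finset.sum_const, Finset.sum_const, card_filter_apply_10,
    sum_units_mul_conj, sum_units_mul_conj_inv]
  have hG : Nat.card (Matrix.SpecialLinearGroup (Fin 2) F)
      = Fintype.card F * (Fintype.card F ^ 2 - 1) := Cfsg.Agent.Lib.Helper5.card_SL2
  have hB : Nat.card (borelSub F) = (Fintype.card F - 1) * Fintype.card F := card_borelSub
  have hq : 2 ≤ Fintype.card F := Fintype.one_lt_card
  have hfac : Fintype.card F ^ 2 - 1 = (Fintype.card F + 1) * (Fintype.card F - 1) := by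
    zify [show 1 ≤ Fintype.card F by omega,
      show 1 ≤ Fintype.card F ^ 2 from Nat.one_le_pow _ _ (by omega)]
    ring
  have hcompl : (Finset.univ.filter (fun z : Matrix.SpecialLinearGroup (Fin 2) F =>
      ¬ (z : Matrix (Fin 2) (Fin 2) F) 1 0 = 0)).card
      = Fintype.card F * Nat.card (borelSub F) := by
    have h1 := Finset.card_filter_add_card_filter_not (s := (Finset.univ : Finset
      (Matrix.SpecialLinearGroup (Fin 2) F)))
      (fun z : Matrix.SpecialLinearGroup (Fin 2) F => (z : Matrix (Fin 2) (Fin 2) F) 1 0 = 0)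
    rw [card_filter_apply_10, Finset.card_univ, ← Nat.card_eq_fintype_card, hG, hfac] at h1
    have h2 : Fintype.card F * ((Fintype.card F + 1) * (Fintype.card F - 1))
        = Nat.card (borelSub F) + Fintype.card F * Nat.card (borelSub F) := by
      rw [hB]; ring
    omega
  rw [hcompl]
  have hBne := card_borelSub_ne_zero (F := F)
  have hBC : (Nat.card (borelSub F) : ℂ) = ((Fintype.card F : ℂ) - 1) * (Fintype.card F : ℂ) := by
    rw [hB]
    push_cast [Nat.cast_sub (show 1 ≤ Fintype.card F by omega)]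
    ring
  have hq0 : (Fintype.card F : ℂ) ≠ 0 := by
    have : Fintype.card F ≠ 0 := by omega
    exact_mod_cast this
  have hq1 : (Fintype.card F : ℂ) - 1 ≠ 0 := by
    intro h
    apply hBne
    rw [hBC, h, zero_mul]
  split_ifs <;>
    simp only [nsmul_eq_mul, mul_zero, add_zero, zero_add, Nat.cast_mul] <;>
    rw [hBC] <;> field_simp

end Cfsg.Agent.Lib.Helper41
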