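import Mathlib
import Cfsg.Agent.Lib.Helper41.SL2Borel

set_option autoImplicit false

/-!
# The Borel subgroup of `SL₂(F)`, `q` odd, has `q + 3` conjugacy classes (helper41)
-/

namespace Cfsg.Agent.Lib.Helper41

variable {F : Type*} [Field F] [Fintype F] [DecidableEq F]

/-- number of solutions of `b' α = b β` -/
theorem count_lin (α β : F) :
    ∑ b : F, ∑ b' : F, (if b' * α = b * β then 1 else 0 : ℕ)
      = if α = 0 ∧ β = 0 then Fintype.card F * Fintype.card F else Fintype.card F := by
  by_cases hα : α = 0
  · subst hα
    by_cases hβ : β = 0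
    · subst hβ
      simp
    · have : ∀ b : F, (0 = b * β) ↔ b = 0 := by
        intro b
        constructor
        · intro h
          rcases mul_eq_zero.mp h.symm with h' | h'
          · exact h'
          · exact absurd h' hβ
        · intro h; rw [h, zero_mul]
      simp only [mul_zero, this, hβ, and_false, if_false]
      simp
  · have : ∀ b b' : F, (b' * α = b * β) ↔ b' = b * β / α := fun b b' => (eq_div_iff hα).symm
    simp only [this, hα, false_and, if_false]
    simp

omit [Fintype F] [DecidableEq F] in
theorem unitDelta_eq_zero_iff (u : Fˣ) :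
    unitDelta u = 0 ↔ u = 1 ∨ u = -1 := by
  unfold unitDelta
  rw [sub_eq_zero]
  constructor
  · intro h
    have h1 : u = u⁻¹ := Units.ext h
    have h3 : u * u = 1 := by
      nth_rewrite 2 [h1]
      exact mul_inv_cancel u
    have h4 : ((u : F) - 1) * ((u : F) + 1) = 0 := by
      have := congrArg (fun x : Fˣ => (x : F)) h3
      simp only [Units.val_mul, Units.val_one] at this
      linear_combination this
    rcases mul_eq_zero.mp h4 with h' | h'
    · left; apply Units.ext; simp only [Units.val_one]; linear_combination h'
    · right; apply Units.ext; simp only [Units.val_neg, Units.val_one]; linear_combination h'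
  · rintro (h | h) <;> subst h <;> simp

theorem card_unitDelta_eq_zero (h2 : (2 : F) ≠ 0) :
    (Finset.univ.filter (fun u : Fˣ => unitDelta u = 0)).card = 2 := by
  have : Finset.univ.filter (fun u : Fˣ => unitDelta u = 0) = {1, -1} := by
    ext u
    simp only [Finset.mem_filter, Finset.mem_univ, true_and, Finset.mem_insert,
      Finset.mem_singleton]
    exact unitDelta_eq_zero_iff u
  rw [this, Finset.card_pair]
  intro h
  have := congrArg (fun x : Fˣ => (x : F)) h
  simp only [Units.val_neg, Units.val_one] at this
  apply h2
  linear_combination this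

theorem card_commuting_pairs_borel (h2 : (2 : F) ≠ 0) :
    Nat.card {p : borelSub F × borelSub F // Commute p.1 p.2}
      = (Fintype.card F + 3) * ((Fintype.card F - 1) * Fintype.card F) := by
  have e : {p : borelSub F × borelSub F // Commute p.1 p.2} ≃
      {x : (Fˣ × F) × (Fˣ × F) // x.2.2 * unitDelta x.1.1 = x.1.2 * unitDelta x.2.1} :=
    Equiv.subtypeEquiv (Equiv.prodCongr borelEquiv borelEquiv)
      (fun p => borel_commute_iff p.1 p.2)
  rw [Nat.card_congr e, Nat.card_eq_fintype_card, Fintype.card_subtype, Finset.card_filter]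
  rw [Fintype.sum_prod_type]
  simp only [Fintype.sum_prod_type]
  -- reorder the sums
  have hswap : ∀ a : Fˣ, ∑ b : F, ∑ a' : Fˣ, ∑ b' : F,
      (if b' * unitDelta a = b * unitDelta a' then 1 else 0 : ℕ)
      = ∑ a' : Fˣ, ∑ b : F, ∑ b' : F,
        (if b' * unitDelta a = b * unitDelta a' then 1 else 0 : ℕ) := fun a => Finset.sum_comm
  simp only [hswap, count_lin]
  -- now a double sum over units
  set q := Fintype.card F with hq
  have hq2 : 2 ≤ q := Fintype.one_lt_card
  set S := Finset.univ.filter (fun u : Fˣ => unitDelta u = 0) with hS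
  have hScard : S.card = 2 := card_unitDelta_eq_zero h2
  have hU : (Finset.univ : Finset Fˣ).card = q - 1 := by
    rw [Finset.card_univ, Fintype.card_units]
  have inner : ∀ a : Fˣ, ∑ a' : Fˣ, (if unitDelta a = 0 ∧ unitDelta a' = 0 then q * q else q)
      = if unitDelta a = 0 then 2 * (q * q) + (q - 1 - 2) * q else (q - 1) * q := by
    intro a
    by_cases ha : unitDelta a = 0
    · simp only [ha, true_and, if_true]
      rw [Finset.sum_ite, Finset.sum_const, Finset.sum_const, ← hS, hScard]
      have : (Finset.univ.filter (fun u : Fˣ => ¬ unitDelta u = 0)).card = q - 1 - 2 := by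
        rw [Finset.filter_not, Finset.card_sdiff_of_subset (Finset.filter_subset _ _), ← hS, hScard, hU]
      rw [this]
      simp
    · simp only [ha, false_and, if_false]
      rw [Finset.sum_const, hU]
      simp
  simp only [inner]
  rw [Finset.sum_ite, Finset.sum_const, Finset.sum_const, ← hS, hScard]
  have : (Finset.univ.filter (fun u : Fˣ => ¬ unitDelta u = 0)).card = q - 1 - 2 := by
    rw [Finset.filter_not, Finset.card_sdiff_of_subset (Finset.filter_subset _ _), ← hS, hScard, hU]
  rw [this]
  simp only [smul_eq_mul]
  have hq3 : 3 ≤ q := by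
    -- `S ⊆ univ` has 2 elements so `q - 1 ≥ 2`
    have := Finset.card_le_card (Finset.filter_subset (fun u : Fˣ => unitDelta u = 0) Finset.univ)
    rw [← hS, hScard, hU] at this
    omega
  obtain ⟨n, hn⟩ : ∃ n, q = n + 3 := ⟨q - 3, by omega⟩
  rw [hn]
  rw [show n + 3 - 1 - 2 = n by omega, show n + 3 - 1 = n + 2 by omega]
  ring

/-- the Borel subgroup has `q + 3` classes -/
theorem card_conjClasses_borelSub (h2 : (2 : F) ≠ 0) :
    Nat.card (ConjClasses (borelSub F)) = Fintype.card F + 3 := by
  have h1 := card_comm_eq_card_conjClasses_mul_card (borelSub F)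
  rw [card_commuting_pairs_borel h2, card_borelSub] at h1
  have hq2 : 2 ≤ Fintype.card F := Fintype.one_lt_card
  have hpos : 0 < (Fintype.card F - 1) * Fintype.card F := Nat.mul_pos (by omega) (by omega)
  exact (Nat.eq_of_mul_eq_mul_right hpos h1).symm

end Cfsg.Agent.Lib.Helper41
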