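import Mathlib
import Cfsg.Agent.Lib.Helper41.SL2SylowTwo

set_option autoImplicit false

/-!
# The split and non-split tori of `SL₂(q)` as dicyclic tori (helper41)
-/

namespace Cfsg.Agent.Lib.Helper41

variable {F : Type*} [Field F] [Fintype F]

theorem card_sl2_eq :
    Nat.card (Matrix.SpecialLinearGroup (Fin 2) F)
      = Fintype.card F * ((Fintype.card F + 1) * (Fintype.card F - 1)) := by
  have hG : Nat.card (Matrix.SpecialLinearGroup (Fin 2) F)
      = Fintype.card F * (Fintype.card F ^ 2 - 1) := Cfsg.Agent.Lib.Helper5.card_SL2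
  have hq : 2 ≤ Fintype.card F := Fintype.one_lt_card
  have hfac : Fintype.card F ^ 2 - 1 = (Fintype.card F + 1) * (Fintype.card F - 1) := by
    zify [show 1 ≤ Fintype.card F by omega,
      show 1 ≤ Fintype.card F ^ 2 from Nat.one_le_pow _ _ (by omega)]
    ring
  rw [hG, hfac]

theorem index_diagSub : (diagSub F).index = Fintype.card F * (Fintype.card F + 1) := by
  have h1 := (diagSub F).card_mul_index
  rw [card_diagSub, card_sl2_eq] at h1
  have hq : 2 ≤ Fintype.card F := Fintype.one_lt_card
  have hpos : 0 < Fintype.card F - 1 := by omega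
  apply Nat.eq_of_mul_eq_mul_left hpos
  rw [h1]; ring

theorem index_nsTorus {t : F} (ht : ∀ r : F, r ^ 2 ≠ -1 + t * r) :
    (nsTorus t).index = Fintype.card F * (Fintype.card F - 1) := by
  have h1 := (nsTorus t).card_mul_index
  rw [card_nsTorus ht, card_sl2_eq] at h1
  have hpos : 0 < Fintype.card F + 1 := by omega
  apply Nat.eq_of_mul_eq_mul_left hpos
  rw [h1]; ring

/-- a regular element of the diagonal subgroup when `q ≥ 4` -/
theorem exists_regular_diag (hq : 4 ≤ Fintype.card F) :
    ∃ d : Matrix.SpecialLinearGroup (Fin 2) F, IsDiag d ∧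
      (d : Matrix (Fin 2) (Fin 2) F) 0 0 ^ 2 ≠ 1 := by
  by_contra hne
  push Not at hne
  have hsub : ((diagSub F : Subgroup (Matrix.SpecialLinearGroup (Fin 2) F)) :
      Set (Matrix.SpecialLinearGroup (Fin 2) F)) ⊆ {1, negOne} := by
    intro x hx
    by_contra hx'
    simp only [Set.mem_insert_iff, Set.mem_singleton_iff, not_or] at hx'
    exact IsDiag.sq_ne_one hx hx'.1 hx'.2 (hne x hx)
  have h1 := Set.ncard_le_ncard hsub (Set.toFinite _)
  have h2' : (({1, negOne} : Set (Matrix.SpecialLinearGroup (Fin 2) F))).ncard ≤ 2 :=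
    (Set.ncard_insert_le _ _).trans (by simp)
  have h3 : ((diagSub F : Subgroup (Matrix.SpecialLinearGroup (Fin 2) F)) :
      Set (Matrix.SpecialLinearGroup (Fin 2) F)).ncard = Fintype.card F - 1 := card_diagSub
  omega

theorem dicyclicTorus_diagSub (h2 : (2 : F) ≠ 0) (hq : Fintype.card F % 4 = 1) :
    DicyclicTorus (diagSub F) (negOne : Matrix.SpecialLinearGroup (Fin 2) F) := by
  have hq4 : 4 ≤ Fintype.card F := by
    have : 2 ≤ Fintype.card F := Fintype.one_lt_card
    omega
  obtain ⟨d, hd, hda⟩ := exists_regular_diag hq4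
  have hN := normalizer_diagSub d hd hda
  refine
  { z_ne_one := negOne_ne_one h2
    z_mul_self := negOne_mul_self
    z_mem := isDiag_negOne
    z_central := negOne_central
    invol := eq_one_or_negOne_of_mul_self h2
    comm := fun a ha b hb => IsDiag.commute ha hb
    cyc := isCyclic_diagSub
    cent := fun x hx h1 hz => centralizer_eq_diagSub x hx (IsDiag.sq_ne_one hx h1 hz)
    inv := ?_
    sq := ?_
    idx := ?_
    four_dvd := ?_
    index_mod := ?_
    conj4 := exists_conj_of_mul_self_eq_negOne h2 }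
  · intro g hg hgA a ha
    rw [hN] at hg
    rcases hg with hg | hg
    · exact absurd hg hgA
    · exact hg.conj_diag ha
  · intro g hg hgA
    rw [hN] at hg
    rcases hg with hg | hg
    · exact absurd hg hgA
    · apply eq_negOne_of_coe
      rw [Matrix.SpecialLinearGroup.coe_mul]
      exact hg.mul_self
  · rw [hN]
    exact index_diagSub_subgroupOf_monoSub
  · rw [card_diagSub]
    omega
  · rw [index_diagSub, Nat.mul_mod, Nat.add_mod, hq]

theorem dicyclicTorus_nsTorus (h2 : (2 : F) ≠ 0) (hq : Fintype.card F % 4 = 3) {t : F}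
    (ht : ∀ r : F, r ^ 2 ≠ -1 + t * r) :
    DicyclicTorus (nsTorus t) (negOne : Matrix.SpecialLinearGroup (Fin 2) F) := by
  have ht4 := sq_ne_four_of_nonsplit h2 ht
  refine
  { z_ne_one := negOne_ne_one h2
    z_mul_self := negOne_mul_self
    z_mem := (mem_nsTorus_iff t _).mpr (isQuad_negOne t)
    z_central := negOne_central
    invol := eq_one_or_negOne_of_mul_self h2
    comm := fun a ha b hb =>
      ((mem_nsTorus_iff t a).mp ha).commute ((mem_nsTorus_iff t b).mp hb)
    cyc := isCyclic_nsTorus ht
    cent := ?_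
    inv := ?_
    sq := ?_
    idx := index_nsTorus_subgroupOf_normalizer h2 ht4
    four_dvd := ?_
    index_mod := ?_
    conj4 := exists_conj_of_mul_self_eq_negOne h2 }
  · intro x hx h1 hz
    rw [mem_nsTorus_iff] at hx
    apply centralizer_eq_nsTorus hx
    intro hc
    rcases hx.eq_one_or_neg_one hc with h | h
    · exact h1 (Subtype.ext h)
    · exact hz (eq_negOne_of_coe h)
  · intro g hg hgA a ha
    rcases (mem_normalizer_nsTorus_iff h2 ht4 g).mp hg with hg' | hg'
    · exact absurd ((mem_nsTorus_iff t g).mpr hg') hgA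
    · exact hg'.conj_quad ((mem_nsTorus_iff t a).mp ha)
  · intro g hg hgA
    rcases (mem_normalizer_nsTorus_iff h2 ht4 g).mp hg with hg' | hg'
    · exact absurd ((mem_nsTorus_iff t g).mpr hg') hgA
    · apply eq_negOne_of_coe
      rw [Matrix.SpecialLinearGroup.coe_mul]
      exact hg'.mul_self
  · rw [card_nsTorus ht]
    omega
  · rw [index_nsTorus ht]
    have hq1 : 1 ≤ Fintype.card F := Fintype.card_pos
    have : (Fintype.card F - 1) % 4 = 2 := by omega
    rw [Nat.mul_mod, this, hq]

end Cfsg.Agent.Lib.Helper41
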