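import Mathlib
import Cfsg.Agent.S0228
import Cfsg.Agent.Lib.Helper48.FourGroup

set_option autoImplicit false

/-!
# Recognising `A₄` from a triple `a, b, c` (helper41)

* `exists_a4_of_triple`: commuting involutions `a ≠ b` and `c` with `c³ = 1`, `c a c⁻¹ = b`,
  `c b c⁻¹ = a b` generate a subgroup isomorphic to `A₄`.
* `exists_triple_of_a4`: conversely a subgroup isomorphic to `A₄` contains such a triple.
-/

namespace Cfsg.Agent.Lib.Helper41

open Cfsg.Agent.Lib.Helper48

theorem exists_a4_of_triple {G : Type*} [Group G] [Finite G] (a b c : G)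
    (ha : a * a = 1) (hb : b * b = 1) (hab : a * b = b * a) (ha1 : a ≠ 1) (hb1 : b ≠ 1)
    (hne : a ≠ b) (hc : c * c * c = 1) (hca : c * a * c⁻¹ = b) (hcb : c * b * c⁻¹ = a * b) :
    ∃ H : Subgroup G, Nonempty (H ≃* alternatingGroup (Fin 4)) := by
  classical
  have hc1 : c ≠ 1 := by
    rintro rfl
    apply hne
    simpa using hca
  have hc3 : c ^ 3 = 1 := by rw [pow_succ, pow_two]; exact hc
  have hoc : orderOf c = 3 := orderOf_eq_prime hc3 hc1
  have hcab : c * (a * b) * c⁻¹ = a := by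
    have : c * (a * b) * c⁻¹ = (c * a * c⁻¹) * (c * b * c⁻¹) := by group
    rw [this, hca, hcb, ← mul_assoc, ← hab, mul_assoc, hb, mul_one]
  set V : Subgroup G := fourSub a b with hV
  set C : Subgroup G := Subgroup.zpowers c with hC
  have hVmem : ∀ {x : G}, x ∈ V ↔ x = 1 ∨ x = a ∨ x = b ∨ x = a * b := mem_fourSub ha hb hab
  have hVcard : Nat.card V = 4 := card_fourSub ha hb hab ha1 hb1 hne
  have hCcard : Nat.card C = 3 := by rw [hC, Nat.card_zpowers, hoc]
  have hcN : c ∈ Subgroup.normalizer (V : Set G) := by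
    apply Subgroup.mem_normalizer_fintype
    intro u hu
    rcases hVmem.mp hu with rfl | rfl | rfl | rfl
    · simp [Subgroup.one_mem]
    · rw [hca]; exact hVmem.mpr (Or.inr (Or.inr (Or.inl rfl)))
    · rw [hcb]; exact hVmem.mpr (Or.inr (Or.inr (Or.inr rfl)))
    · rw [hcab]; exact hVmem.mpr (Or.inr (Or.inl rfl))
  have hCN : C ≤ Subgroup.normalizer (V : Set G) := by
    rw [hC, Subgroup.zpowers_le]; exact hcN
  have hdisj : C ⊓ V = ⊥ := by
    apply disjoint_iff.mp
    apply Subgroup.disjoint_of_coprime_natCard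
    rw [hCcard, hVcard]; norm_num
  have hcard : Nat.card (C ⊔ V : Subgroup G) = 12 := by
    rw [card_sup_of_le_normalizer_of_disjoint C V hCN hdisj, hCcard, hVcard]
  refine ⟨C ⊔ V, Cfsg.Agent.S0228.result hcard ?_⟩
  intro z hz2 hzc
  have hz1 : z ≠ 1 := by
    rintro rfl
    rw [orderOf_one] at hz2; norm_num at hz2
  have hzz : (z : G) * (z : G) = 1 := by
    have : z ^ 2 = 1 := by rw [← hz2]; exact pow_orderOf_eq_one z
    have h2 := congrArg (Subtype.val) this
    simpa [pow_two] using h2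
  have hzmem : (z : G) ∈ ((C ⊔ V : Subgroup G) : Set G) := z.2
  rw [Subgroup.coe_mul_of_left_le_normalizer_right C V hCN] at hzmem
  obtain ⟨x, hx, v, hv, hxv⟩ := hzmem
  have hx : x ∈ C := hx
  have hv : v ∈ V := hv
  have hxv : x * v = (z : G) := hxv
  -- `x = 1`
  have hxinv : x⁻¹ ∈ Subgroup.normalizer (V : Set G) := hCN (C.inv_mem hx)
  have hv' : x⁻¹ * v * x ∈ V := by
    have := (Subgroup.mem_normalizer_iff.mp hxinv v).mp hv
    simpa using this
  have hx2 : x * x = ((x⁻¹ * v * x) * v)⁻¹ := by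
    rw [eq_inv_iff_mul_eq_one]
    have : x * x * (x⁻¹ * v * x * v) = (x * v) * (x * v) := by group
    rw [this, hxv, hzz]
  have hx2V : x * x ∈ C ⊓ V :=
    ⟨C.mul_mem hx hx, by rw [hx2]; exact V.inv_mem (V.mul_mem hv' hv)⟩
  rw [hdisj, Subgroup.mem_bot] at hx2V
  have hx3 : x * x * x = 1 := by
    obtain ⟨k, rfl⟩ := Subgroup.mem_zpowers_iff.mp hx
    have : c ^ k * c ^ k * c ^ k = (c ^ (3 : ℤ)) ^ k := by
      rw [← zpow_mul, ← zpow_add, ← zpow_add]; congr 1; ring
    rw [this]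
    have : c ^ (3 : ℤ) = 1 := by exact_mod_cast hc3
    rw [this, one_zpow]
  have hx1 : x = 1 := by rw [hx2V, one_mul] at hx3; exact hx3
  have hzv : (z : G) = v := by rw [← hxv, hx1, one_mul]
  have hzne : (z : G) ≠ 1 := fun h => hz1 (Subtype.ext h)
  -- `z` commutes with `c`
  have hcmem : c ∈ (C ⊔ V : Subgroup G) := Subgroup.mem_sup_left (Subgroup.mem_zpowers c)
  have hcomm : c * (z : G) * c⁻¹ = z := by
    have h := Subgroup.mem_center_iff.mp hzc ⟨c, hcmem⟩
    have h' := congrArg Subtype.val h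
    simp only [Subgroup.coe_mul] at h'
    rw [h', mul_assoc, mul_inv_cancel, mul_one]
  rw [hzv] at hcomm hzne
  rcases hVmem.mp hv with h | h | h | h
  · exact hzne h
  · rw [h, hca] at hcomm; exact hne hcomm.symm
  · rw [h, hcb] at hcomm
    apply ha1
    have := congrArg (· * b⁻¹) hcomm
    simpa using this
  · rw [h, hcab] at hcomm
    apply hb1
    have := congrArg (a⁻¹ * ·) hcomm
    simpa using this.symm

/-- two explicit elements of `A₄` -/
def a4t : alternatingGroup (Fin 4) :=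
  ⟨Equiv.swap 0 1 * Equiv.swap 2 3, Equiv.Perm.mem_alternatingGroup.mpr (by decide)⟩

def a4c : alternatingGroup (Fin 4) :=
  ⟨Equiv.swap 1 2 * Equiv.swap 2 3, Equiv.Perm.mem_alternatingGroup.mpr (by decide)⟩

set_option maxRecDepth 100000 in
theorem a4_triple_facts :
    a4t ≠ 1 ∧ a4t * a4t = 1 ∧ a4c * a4c * a4c = 1 ∧
    a4t * (a4c * a4t * a4c⁻¹) = (a4c * a4t * a4c⁻¹) * a4t ∧
    a4c * (a4c * a4t * a4c⁻¹) * a4c⁻¹ = a4t * (a4c * a4t * a4c⁻¹) := by
  decide

/-- a subgroup isomorphic to `A₄` contains an involution `t` and an element `c` of order 3 with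
`t` commuting with `c t c⁻¹` and `c (c t c⁻¹) c⁻¹ = t (c t c⁻¹)`. -/
theorem exists_triple_of_a4 {G : Type*} [Group G] (H : Subgroup G)
    (h : Nonempty (H ≃* alternatingGroup (Fin 4))) :
    ∃ t c : G, t ≠ 1 ∧ t * t = 1 ∧ c * c * c = 1 ∧
      t * (c * t * c⁻¹) = (c * t * c⁻¹) * t ∧
      c * (c * t * c⁻¹) * c⁻¹ = t * (c * t * c⁻¹) := by
  obtain ⟨e⟩ := h
  obtain ⟨f1, f2, f3, f4, f5⟩ := a4_triple_facts
  let φ : alternatingGroup (Fin 4) →* G := H.subtype.comp e.symm.toMonoidHom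
  have hinj : Function.Injective φ := by
    intro x y hxy
    exact e.symm.injective (Subtype.ext hxy)
  refine ⟨φ a4t, φ a4c, ?_, ?_, ?_, ?_, ?_⟩
  · intro h1
    apply f1
    apply hinj
    rw [h1, map_one]
  · rw [← map_mul, f2, map_one]
  · rw [← map_mul, ← map_mul, f3, map_one]
  · rw [← map_inv, ← map_mul, ← map_mul, ← map_mul, ← map_mul, f4]
  · rw [← map_inv, ← map_mul, ← map_mul, ← map_mul, ← map_mul, ← map_mul, f5]

end Cfsg.Agent.Lib.Helper41
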