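import Mathlib
import Cfsg.Agent.S3377

set_option autoImplicit false

/-!
# Recognising `A₅` from a `(3,5,2)`-pair (helper41)

`exists_a5_of_pres`: `a³ = b⁵ = (ab)² = 1`, `a ≠ 1` in any group gives a subgroup isomorphic to
`A₅` (via the presentation of `A₅` proved in `S3377` and simplicity).
-/

namespace Cfsg.Agent.Lib.Helper41

theorem exists_a5_of_pres {G : Type*} [Group G] (a b : G) (ha : a ^ 3 = 1) (hb : b ^ 5 = 1)
    (hab : (a * b) ^ 2 = 1) (ha1 : a ≠ 1) :
    ∃ H : Subgroup G, Nonempty (H ≃* alternatingGroup (Fin 5)) := by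
  obtain ⟨e⟩ := Cfsg.Agent.S3377.result
  let f : Fin 2 → G := ![a, b]
  have hrel : ∀ r ∈ ({FreeGroup.of (0 : Fin 2) ^ 3, FreeGroup.of (1 : Fin 2) ^ 5,
      (FreeGroup.of (0 : Fin 2) * FreeGroup.of 1) ^ 2} : Set (FreeGroup (Fin 2))),
      FreeGroup.lift f r = 1 := by
    intro r hr
    simp only [Set.mem_insert_iff, Set.mem_singleton_iff] at hr
    rcases hr with rfl | rfl | rfl
    · simp [f, ha]
    · simp [f, hb]
    · simp [f, hab]
  let θ := PresentedGroup.toGroup hrel
  let ψ : alternatingGroup (Fin 5) →* G := θ.comp e.symm.toMonoidHom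
  have : IsSimpleGroup (alternatingGroup (Fin 5)) := alternatingGroup.isSimpleGroup (by simp)
  have hinj : Function.Injective ψ := by
    rw [← MonoidHom.ker_eq_bot_iff]
    rcases (ψ.normal_ker).eq_bot_or_eq_top with h | h
    · exact h
    · exfalso
      apply ha1
      have h1 : e (PresentedGroup.of 0) ∈ ψ.ker := by rw [h]; trivial
      rw [MonoidHom.mem_ker] at h1
      have h2 : ψ (e (PresentedGroup.of 0)) = a := by
        show θ (e.symm (e (PresentedGroup.of 0))) = a
        rw [MulEquiv.symm_apply_apply]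
        show PresentedGroup.toGroup hrel (PresentedGroup.of 0) = a
        rw [PresentedGroup.toGroup.of]
        rfl
      rw [← h2, h1]
  exact ⟨ψ.range, ⟨(MonoidHom.ofInjective hinj).symm⟩⟩

end Cfsg.Agent.Lib.Helper41
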