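import Mathlib
import Cfsg.Agent.S0799
import Cfsg.Agent.Lib.Helper5.PSL2Small
import Cfsg.Agent.S0265

set_option autoImplicit false

/-!
# Tools for maximality proofs over Dickson's list (helper41)

* `isPElem_mul_of_equiv_le_normalizer`: in a group isomorphic to a subgroup of the normalizer of a
  Sylow `p`-subgroup, products of `p`-elements are `p`-elements.
* `tr2_sq_of_prj_pow`: an element of `SL₂(F)` whose image in `PSL₂(F)` is a `p`-element has
  `tr² = 4`.
* `dvd_of_pow_sub_one_dvd_mul`: `p^x - 1 ∣ c (p^y - 1)`, `1 ≤ c ≤ p` implies `x ∣ y`.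
* cardinalities of `PSL₂`, `PGL₂`.
-/

namespace Cfsg.Agent.Lib.Helper41

open Cfsg.Agent.Lib.Helper11 Cfsg.Agent.Lib.Helper42

/-- products of `p`-elements are `p`-elements in subgroups of the normalizer of a Sylow subgroup -/
theorem isPElem_mul_of_equiv_le_normalizer {G M : Type*} [Group G] [Group M] (p : ℕ)
    [Fact p.Prime] (P : Sylow p G) (K₁ : Subgroup G)
    (hK : K₁ ≤ Subgroup.normalizer ((P : Subgroup G) : Set G)) (e : M ≃* K₁) {x y : M}
    (hx : ∃ n : ℕ, x ^ (p ^ n) = 1) (hy : ∃ n : ℕ, y ^ (p ^ n) = 1) :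
    ∃ n : ℕ, (x * y) ^ (p ^ n) = 1 := by
  have key : ∀ z : M, (∃ n : ℕ, z ^ (p ^ n) = 1) → ((e z : K₁) : G) ∈ (P : Subgroup G) := by
    rintro z ⟨n, hn⟩
    set g : G := ((e z : K₁) : G) with hg
    have hgn : g ^ (p ^ n) = 1 := by
      have : (e z) ^ (p ^ n) = 1 := by rw [← map_pow, hn, map_one]
      have := congrArg Subtype.val this
      simpa using this
    have hZ : IsPGroup p (Subgroup.zpowers g) := by
      rintro ⟨w, hw⟩
      obtain ⟨i, rfl⟩ := Subgroup.mem_zpowers_iff.mp hw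
      refine ⟨n, ?_⟩
      apply Subtype.ext
      simp only [Subgroup.coe_pow, Subgroup.coe_one]
      rw [← zpow_natCast, ← zpow_mul, mul_comm, zpow_mul, zpow_natCast, hgn, one_zpow]
    have hZN : Subgroup.zpowers g ≤ Subgroup.normalizer ((P : Subgroup G) : Set G) := by
      rw [Subgroup.zpowers_le]
      exact hK (e z).2
    have hsup := hZ.to_sup_of_normal_right' P.isPGroup' hZN
    have hmax := P.is_maximal' hsup le_sup_right
    have : g ∈ Subgroup.zpowers g ⊔ (P : Subgroup G) :=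
      Subgroup.mem_sup_left (Subgroup.mem_zpowers g)
    rwa [hmax] at this
  have hxy : ((e (x * y) : K₁) : G) ∈ (P : Subgroup G) := by
    rw [map_mul, Subgroup.coe_mul]
    exact (P : Subgroup G).mul_mem (key x hx) (key y hy)
  obtain ⟨n, hn⟩ := P.isPGroup' ⟨_, hxy⟩
  refine ⟨n, ?_⟩
  apply e.injective
  apply Subtype.ext
  have := congrArg Subtype.val hn
  simpa using this

variable {F : Type*} [Field F]

local notation "SL2" => Matrix.SpecialLinearGroup (Fin 2) F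
local notation "PSL2" => Matrix.ProjectiveSpecialLinearGroup (Fin 2) F

theorem tr2_sq (g : SL2) : tr2 (g * g) = tr2 g ^ 2 - 2 := by
  have hdet := sl2_det g
  unfold tr2
  rw [mul_apply_00, mul_apply_11]
  linear_combination (-2 : F) * hdet

/-- a lift of a `p`-element of `PSL₂(F)` has `tr² = 4` -/
theorem tr2_sq_of_prj_pow (p : ℕ) [Fact p.Prime] [CharP F p] (g : SL2) (n : ℕ)
    (h : (prj g) ^ (p ^ n) = 1) : tr2 g ^ 2 = 4 := by
  have h1 : g ^ (p ^ n) ∈ Subgroup.center SL2 := by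
    rw [← prj_eq_one_iff, map_pow]; exact h
  have h2 : (g * g) ^ (p ^ n) = 1 := by
    have e : (g * g) ^ (p ^ n) = g ^ (p ^ n) * g ^ (p ^ n) := by
      rw [← pow_two, ← pow_mul, mul_comm, pow_mul, pow_two]
    rw [e]
    rcases (mem_center_iff_pm _).mp h1 with h | h
    · apply Subtype.ext
      rw [Matrix.SpecialLinearGroup.coe_mul, h]; simp
    · apply Subtype.ext
      rw [Matrix.SpecialLinearGroup.coe_mul, h]; simp
  have h3 := tr2_eq_two_of_pow p (g * g) n h2
  rw [tr2_sq] at h3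
  linear_combination h3

/-- `p^x - 1 ∣ c (p^y - 1)` with `1 ≤ c ≤ p` forces `x ∣ y` -/
theorem dvd_of_pow_sub_one_dvd_mul (p x y c : ℕ) (hp : 2 ≤ p) (hx : 0 < x) (hc1 : 1 ≤ c)
    (hcp : c ≤ p) (h : p ^ x - 1 ∣ c * (p ^ y - 1)) : x ∣ y := by
  rw [Nat.dvd_iff_mod_eq_zero]
  by_contra hρ
  have hρ0 : 0 < y % x := Nat.pos_of_ne_zero hρ
  have hρx : y % x < x := Nat.mod_lt _ hx
  have hmod := Nat.pow_sub_one_mod_pow_sub_one p x y
  have hdiv := Nat.div_add_mod (p ^ y - 1) (p ^ x - 1)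
  rw [hmod] at hdiv
  -- p^x - 1 ∣ c * (p^ρ - 1)
  obtain ⟨D, hD⟩ : ∃ D, p ^ y - 1 = (p ^ x - 1) * D + (p ^ (y % x) - 1) := ⟨_, hdiv.symm⟩
  have h2 : p ^ x - 1 ∣ c * (p ^ (y % x) - 1) := by
    have h3 : c * (p ^ y - 1) = (p ^ x - 1) * (c * D) + c * (p ^ (y % x) - 1) := by
      rw [hD]; ring
    rw [h3] at h
    exact (Nat.dvd_add_right (dvd_mul_right _ _)).mp h
  have hpos : 0 < c * (p ^ (y % x) - 1) := by
    apply Nat.mul_pos hc1
    have : p ^ 1 ≤ p ^ (y % x) := Nat.pow_le_pow_right (by omega) hρ0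
    rw [pow_one] at this
    omega
  have hle := Nat.le_of_dvd hpos h2
  have h4 : p ^ (y % x) ≤ p ^ (x - 1) := Nat.pow_le_pow_right (by omega) (by omega)
  have h5 : p ^ x = p * p ^ (x - 1) := by
    rw [← pow_succ']; congr 1; omega
  have h6 : 1 ≤ p ^ (x - 1) := Nat.one_le_pow _ _ (by omega)
  have h7 : c * (p ^ (y % x) - 1) ≤ p * (p ^ (x - 1) - 1) :=
    Nat.mul_le_mul hcp (Nat.sub_le_sub_right h4 1)
  have h8 : p * (p ^ (x - 1) - 1) = p ^ x - p := by
    rw [Nat.mul_sub, mul_one, ← h5]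
  have h9 : p ≤ p ^ x := by
    calc p = p ^ 1 := (pow_one p).symm
      _ ≤ p ^ x := Nat.pow_le_pow_right (by omega) hx
  omega

theorem card_PGL2 {K : Type*} [Field K] [Fintype K] :
    Nat.card (Matrix.ProjGenLinGroup (Fin 2) K) = Fintype.card K * (Fintype.card K ^ 2 - 1) := by
  rw [Cfsg.Agent.S0265.result 2, Cfsg.Agent.Lib.Helper5.card_SL2]

theorem card_PSL2_mul_gcd {K : Type*} [Field K] [Fintype K] :
    Nat.card (Matrix.ProjectiveSpecialLinearGroup (Fin 2) K) * Nat.gcd 2 (Fintype.card K - 1)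
      = Fintype.card K * (Fintype.card K ^ 2 - 1) := by
  rw [← card_center_eq_gcd]
  exact Cfsg.Agent.Lib.Helper5.card_PSL2_mul

end Cfsg.Agent.Lib.Helper41
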