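import Mathlib
import Cfsg.Agent.Lib.Helper41.SL2Basic
import Cfsg.Agent.Lib.Helper41.SL2Conj

set_option autoImplicit false

/-!
# Subfield subgroups of `PSL₂(F)` (helper41)

* `exists_ringHom_of_card_pow`: `|K| ^ m = |F|`, `m ≥ 1` gives a field embedding `K →+* F`.
* `exists_subgroup_psl_of_ringHom`: `PSL₂(K)` embeds in `PSL₂(F)`.
* `exists_subgroup_pgl_of_ringHom`: `PGL₂(K)` embeds in `PSL₂(F)` when all elements of `K` become
  squares in `F`.
* `exists_sq_of_even_degree`, `two_mul_not_dvd_of_odd`: arithmetic.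
-/

namespace Cfsg.Agent.Lib.Helper41


theorem exists_ringHom_of_card_pow {K F : Type*} [Field K] [Fintype K] [Field F] [Fintype F]
    (m : ℕ) (hm : 1 ≤ m) (h : Fintype.card K ^ m = Fintype.card F) : Nonempty (K →+* F) := by
  obtain ⟨p, hpK⟩ := CharP.exists K
  have := hpK
  have hp : Fact p.Prime := ⟨CharP.char_is_prime K p⟩
  obtain ⟨a, -, ha⟩ := FiniteField.card K p
  obtain ⟨p', hpF⟩ := CharP.exists F
  have := hpF
  have hp' : Fact p'.Prime := ⟨CharP.char_is_prime F p'⟩
  obtain ⟨b, -, hb⟩ := FiniteField.card F p'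
  have hpp : p = p' := by
    rw [ha, hb, ← pow_mul] at h
    have h1 : p ∣ p' ^ (b : ℕ) := by
      rw [← h]
      exact dvd_pow_self p (by have := a.pos; positivity)
    exact (Nat.prime_dvd_prime_iff_eq hp.out hp'.out).mp (hp.out.dvd_of_dvd_pow h1)
  subst hpp
  let : Algebra (ZMod p) K := ZMod.algebra _ _
  let : Algebra (ZMod p) F := ZMod.algebra _ _
  have h1 : p ^ Module.finrank (ZMod p) K = Fintype.card K := FiniteField.pow_finrank_eq_card p K
  have h2 : p ^ Module.finrank (ZMod p) F = Fintype.card F := FiniteField.pow_finrank_eq_card p F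
  have h3 : Module.finrank (ZMod p) K * m = Module.finrank (ZMod p) F := by
    rw [← h1, ← h2, ← pow_mul] at h
    exact Nat.pow_right_injective hp.out.two_le h
  obtain ⟨f⟩ := FiniteField.nonempty_algHom_of_finrank_dvd (F := ZMod p) (K := K) (L := F)
    (Dvd.intro _ h3)
  exact ⟨f.toRingHom⟩



/-- a field embedding `K → F` embeds `PSL₂(K)` into `PSL₂(F)` -/
theorem exists_subgroup_psl_of_ringHom {K F : Type*} [Field K] [Field F] (φ : K →+* F) :
    ∃ H : Subgroup (Matrix.ProjectiveSpecialLinearGroup (Fin 2) F),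
      Nonempty (H ≃* Matrix.ProjectiveSpecialLinearGroup (Fin 2) K) := by
  let Φ : Matrix.SpecialLinearGroup (Fin 2) K →* Matrix.ProjectiveSpecialLinearGroup (Fin 2) F :=
    (QuotientGroup.mk' _).comp (Matrix.SpecialLinearGroup.map φ)
  have hmap : ∀ g : Matrix.SpecialLinearGroup (Fin 2) K,
      ((Matrix.SpecialLinearGroup.map φ g : Matrix.SpecialLinearGroup (Fin 2) F) :
        Matrix (Fin 2) (Fin 2) F) = (g : Matrix (Fin 2) (Fin 2) K).map φ := fun g => rfl
  have hker : Φ.ker = Subgroup.center (Matrix.SpecialLinearGroup (Fin 2) K) := by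
    ext g
    rw [MonoidHom.mem_ker]
    change (QuotientGroup.mk (Matrix.SpecialLinearGroup.map φ g) :
      Matrix.ProjectiveSpecialLinearGroup (Fin 2) F) = 1 ↔ _
    rw [mk_eq_one_iff, mem_center_iff_pm, hmap]
    have e1 : (1 : Matrix (Fin 2) (Fin 2) K).map φ = 1 := Matrix.map_one _ φ.map_zero φ.map_one
    have e2 : (-1 : Matrix (Fin 2) (Fin 2) K).map φ = -1 := by
      rw [Matrix.map_neg _ (fun a => φ.map_neg a), e1]
    constructor
    · rintro (h | h)
      · left
        apply Matrix.map_injective φ.injective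
        show (g : Matrix (Fin 2) (Fin 2) K).map φ = (1 : Matrix (Fin 2) (Fin 2) K).map φ
        rw [h, e1]
      · right
        apply Matrix.map_injective φ.injective
        show (g : Matrix (Fin 2) (Fin 2) K).map φ = (-1 : Matrix (Fin 2) (Fin 2) K).map φ
        rw [h, e2]
    · rintro (h | h)
      · left; rw [h, e1]
      · right; rw [h, e2]
  refine ⟨Φ.range, ⟨?_⟩⟩
  exact ((QuotientGroup.quotientMulEquivOfEq hker.symm).trans
    (QuotientGroup.quotientKerEquivRange Φ)).symm

/-- if every element of `K` becomes a square in `F`, then `PGL₂(K)` embeds into `PSL₂(F)` -/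
theorem exists_subgroup_pgl_of_ringHom {K F : Type*} [Field K] [Field F] (φ : K →+* F)
    (hsq : ∀ x : K, ∃ d : F, d ^ 2 = φ x) :
    ∃ H : Subgroup (Matrix.ProjectiveSpecialLinearGroup (Fin 2) F),
      Nonempty (H ≃* Matrix.ProjGenLinGroup (Fin 2) K) := by
  classical
  choose δ hδ using hsq
  have hdetne : ∀ g : GL (Fin 2) K, (g : Matrix (Fin 2) (Fin 2) K).det ≠ 0 := by
    intro g
    have := Matrix.GeneralLinearGroup.det g |>.ne_zero
    simpa using this
  have hδne : ∀ g : GL (Fin 2) K, δ (g : Matrix (Fin 2) (Fin 2) K).det ≠ 0 := by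
    intro g h
    have := hδ (g : Matrix (Fin 2) (Fin 2) K).det
    rw [h] at this
    have h0 : φ (g : Matrix (Fin 2) (Fin 2) K).det = 0 := by rw [← this]; ring
    exact hdetne g ((map_eq_zero φ).mp h0)
  have hdetmap : ∀ M : Matrix (Fin 2) (Fin 2) K, (M.map φ).det = φ M.det := by
    intro M
    rw [φ.map_det]; rfl
  let s : GL (Fin 2) K → Matrix.SpecialLinearGroup (Fin 2) F := fun g =>
    ⟨(δ (g : Matrix (Fin 2) (Fin 2) K).det)⁻¹ • ((g : Matrix (Fin 2) (Fin 2) K).map φ), by
      rw [Matrix.det_smul, Fintype.card_fin, hdetmap, ← hδ, inv_pow]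
      exact inv_mul_cancel₀ (pow_ne_zero 2 (hδne g))⟩
  have hs : ∀ g : GL (Fin 2) K, ((s g : Matrix.SpecialLinearGroup (Fin 2) F) :
      Matrix (Fin 2) (Fin 2) F) = (δ (g : Matrix (Fin 2) (Fin 2) K).det)⁻¹ •
        ((g : Matrix (Fin 2) (Fin 2) K).map φ) := fun g => rfl
  let Ψ : GL (Fin 2) K →* Matrix.ProjectiveSpecialLinearGroup (Fin 2) F :=
    MonoidHom.mk' (fun g => (QuotientGroup.mk (s g) :
      Matrix.ProjectiveSpecialLinearGroup (Fin 2) F)) (by
      intro g h
      rw [← QuotientGroup.mk_mul, mk_eq_mk_iff, Matrix.SpecialLinearGroup.coe_mul, hs, hs, hs]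
      have hmul : ((g * h : GL (Fin 2) K) : Matrix (Fin 2) (Fin 2) K).map φ
          = (g : Matrix (Fin 2) (Fin 2) K).map φ * (h : Matrix (Fin 2) (Fin 2) K).map φ := by
        rw [Units.val_mul, Matrix.map_mul]
      have hd : (δ ((g * h : GL (Fin 2) K) : Matrix (Fin 2) (Fin 2) K).det) ^ 2
          = (δ (g : Matrix (Fin 2) (Fin 2) K).det * δ (h : Matrix (Fin 2) (Fin 2) K).det) ^ 2 := by
        rw [mul_pow, hδ, hδ, hδ, Units.val_mul, Matrix.det_mul, map_mul]
      rw [hmul, Matrix.smul_mul, Matrix.mul_smul, smul_smul]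
      rcases sq_eq_sq_iff_eq_or_eq_neg.mp hd with h1 | h1
      · left
        rw [h1, mul_inv]
      · right
        rw [h1, inv_neg, mul_inv, neg_smul])
  have hΨ : ∀ g, Ψ g = (QuotientGroup.mk (s g) :
      Matrix.ProjectiveSpecialLinearGroup (Fin 2) F) := fun g => rfl
  have hker : Ψ.ker = Subgroup.center (GL (Fin 2) K) := by
    ext g
    rw [MonoidHom.mem_ker, hΨ, mk_eq_one_iff, hs, Matrix.GeneralLinearGroup.center_eq_range_scalar]
    constructor
    · intro h
      -- the image of `g` is scalar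
      obtain ⟨c, hc⟩ : ∃ c : F, (g : Matrix (Fin 2) (Fin 2) K).map φ = c • (1 : Matrix (Fin 2) (Fin 2) F) := by
        rcases h with h | h
        · refine ⟨δ (g : Matrix (Fin 2) (Fin 2) K).det, ?_⟩
          rw [← h, smul_smul, mul_inv_cancel₀ (hδne g), one_smul]
        · refine ⟨-δ (g : Matrix (Fin 2) (Fin 2) K).det, ?_⟩
          have : (-δ (g : Matrix (Fin 2) (Fin 2) K).det) • (1 : Matrix (Fin 2) (Fin 2) F)
              = δ (g : Matrix (Fin 2) (Fin 2) K).det • (-1 : Matrix (Fin 2) (Fin 2) F) := by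
            simp
          rw [this, ← h, smul_smul, mul_inv_cancel₀ (hδne g), one_smul]
      have h01 : (g : Matrix (Fin 2) (Fin 2) K) 0 1 = 0 := by
        have := congrFun (congrFun hc 0) 1
        simp at this
        exact this
      have h10 : (g : Matrix (Fin 2) (Fin 2) K) 1 0 = 0 := by
        have := congrFun (congrFun hc 1) 0
        simp at this
        exact this
      have h00 : (g : Matrix (Fin 2) (Fin 2) K) 0 0 = (g : Matrix (Fin 2) (Fin 2) K) 1 1 := by
        have e0 := congrFun (congrFun hc 0) 0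
        have e1 := congrFun (congrFun hc 1) 1
        simp at e0 e1
        apply φ.injective
        rw [e0, e1]
      have hu : (g : Matrix (Fin 2) (Fin 2) K) 1 1 ≠ 0 := by
        intro h0
        apply hdetne g
        rw [Matrix.det_fin_two, h01, h0]; ring
      refine ⟨Units.mk0 _ hu, ?_⟩
      apply Units.ext
      rw [Matrix.GeneralLinearGroup.coe_scalar]
      ext i j
      fin_cases i <;> fin_cases j <;> simp [h01, h10, h00]
    · rintro ⟨u, rfl⟩
      rw [Matrix.GeneralLinearGroup.coe_scalar]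
      have hdet : (Matrix.scalar (Fin 2) (u : K)).det = (u : K) ^ 2 := by
        simp
      have hmap : (Matrix.scalar (Fin 2) (u : K)).map φ = φ u • (1 : Matrix (Fin 2) (Fin 2) F) := by
        ext i j
        fin_cases i <;> fin_cases j <;> simp
      have hd : (δ ((u : K) ^ 2)) ^ 2 = (φ u) ^ 2 := by
        rw [hδ, map_pow]
      have hδ0 : δ ((u : K) ^ 2) ≠ 0 := by
        intro h
        rw [h] at hd
        have : φ u = 0 := by
          have := hd.symm
          simpa using this
        exact u.ne_zero ((map_eq_zero φ).mp this)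
      rw [hdet, hmap, smul_smul]
      rcases sq_eq_sq_iff_eq_or_eq_neg.mp hd with h1 | h1
      · left
        rw [← h1, inv_mul_cancel₀ hδ0, one_smul]
      · right
        have : φ u = -δ ((u : K) ^ 2) := by rw [h1, neg_neg]
        rw [this, mul_neg, inv_mul_cancel₀ hδ0]
        simp
  refine ⟨Ψ.range, ⟨?_⟩⟩
  exact ((QuotientGroup.quotientMulEquivOfEq hker.symm).trans
    (QuotientGroup.quotientKerEquivRange Ψ)).symm



/-- for `|F| = |K| ^ m` odd with `m` even, every element of `K` becomes a square in `F` -/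
theorem exists_sq_of_even_degree {K F : Type*} [Field K] [Fintype K] [Field F] [Fintype F]
    (φ : K →+* F) (m : ℕ) (hm : Even m) (hodd : Odd (Fintype.card F))
    (h : Fintype.card K ^ m = Fintype.card F) (x : K) : ∃ d : F, d ^ 2 = φ x := by
  by_cases hx : x = 0
  · exact ⟨0, by rw [hx, map_zero]; ring⟩
  have hF2 : ringChar F ≠ 2 := by
    intro h2
    have := FiniteField.even_card_iff_char_two.mp h2
    rcases hodd with ⟨k, hk⟩
    omega
  have hφx : φ x ≠ 0 := (map_ne_zero φ).mpr hx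
  obtain ⟨k, rfl⟩ := hm
  set r := Fintype.card K with hr
  have hrodd : Odd r := by
    rcases Nat.even_or_odd r with he | ho
    · exfalso
      have hk : k + k ≠ 0 := by
        intro h0
        rw [h0, pow_zero] at h
        have := Fintype.one_lt_card (α := F)
        omega
      have : Even (r ^ (k + k)) := (Nat.even_pow.mpr ⟨he, hk⟩)
      rw [h] at this
      exact (Nat.not_even_iff_odd.mpr hodd) this
    · exact ho
  obtain ⟨u, hu⟩ := hrodd
  -- `(r - 1) ∣ q / 2`
  have hdvd : (r - 1) ∣ Fintype.card F / 2 := by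
    have h1 : r ^ 2 ≡ 1 [MOD 2 * (r - 1)] := by
      rw [hu]
      have : (2 * u + 1) ^ 2 = 1 + 2 * (2 * u + 1 - 1) * (u + 1) := by
        simp only [Nat.add_sub_cancel]; ring
      rw [this]
      exact ((Nat.modEq_iff_dvd' (Nat.le_add_right 1 _)).mpr (by simp only [Nat.add_sub_cancel, Nat.add_sub_cancel_left]; exact Dvd.intro _ rfl)).symm
    have h2 : r ^ (k + k) ≡ 1 [MOD 2 * (r - 1)] := by
      rw [← two_mul, pow_mul]
      simpa using h1.pow k
    rw [h] at h2
    have h3 : 2 * (r - 1) ∣ Fintype.card F - 1 :=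
      (Nat.modEq_iff_dvd' Fintype.card_pos).mp h2.symm
    obtain ⟨j, hj⟩ := h3
    refine ⟨j, ?_⟩
    rcases hodd with ⟨k', hk'⟩
    have : Fintype.card F / 2 = k' := by omega
    rw [this]
    have : 2 * k' = 2 * ((r - 1) * j) := by
      rw [hk'] at hj
      simp only [Nat.add_sub_cancel] at hj
      rw [hj]; ring
    omega
  have hsq : IsSquare (φ x) := by
    rw [FiniteField.isSquare_iff hF2 hφx]
    obtain ⟨j, hj⟩ := hdvd
    rw [hj, ← map_pow, pow_mul, FiniteField.pow_card_sub_one_eq_one x hx, one_pow, map_one]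
  obtain ⟨d, hd⟩ := hsq
  exact ⟨d, by rw [hd, pow_two]⟩

/-- the `2`-part obstruction: for odd `r ≥ 3` and odd `m`, `2 r (r² - 1)` does not divide
`r ^ m ((r ^ m)² - 1)` -/
theorem two_mul_not_dvd_of_odd (r m : ℕ) (hr : Odd r) (hr3 : 3 ≤ r) (hm : Odd m) :
    ¬ (2 * (r * (r ^ 2 - 1)) ∣ r ^ m * ((r ^ m) ^ 2 - 1)) := by
  intro hdvd
  set S := ∑ i ∈ Finset.range m, (r ^ 2) ^ i with hS
  have hgeom : S * (r ^ 2 - 1) + 1 = (r ^ 2) ^ m := by
    have := geom_sum_mul_add (r ^ 2 - 1) m
    have h1 : r ^ 2 - 1 + 1 = r ^ 2 := by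
      have : 1 ≤ r ^ 2 := Nat.one_le_pow _ _ (by omega)
      omega
    rw [h1] at this
    exact this
  have hSodd : S % 2 = 1 := by
    rw [hS, Finset.sum_nat_mod]
    have : ∀ i ∈ Finset.range m, (r ^ 2) ^ i % 2 = 1 := by
      intro i _
      exact Nat.odd_iff.mp ((hr.pow).pow)
    rw [Finset.sum_congr rfl this]
    simp only [Finset.sum_const, Finset.card_range, smul_eq_mul, mul_one]
    exact Nat.odd_iff.mp hm
  have hq2 : (r ^ m) ^ 2 - 1 = S * (r ^ 2 - 1) := by
    rw [← pow_mul, mul_comm m 2, pow_mul, ← hgeom]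
    simp
  rw [hq2] at hdvd
  have hpos : 0 < r ^ 2 - 1 := by
    have : 9 ≤ r ^ 2 := by nlinarith
    omega
  have h2 : 2 * r ∣ r ^ m * S := by
    have : 2 * (r * (r ^ 2 - 1)) = (2 * r) * (r ^ 2 - 1) := by ring
    rw [this] at hdvd
    have h3 : r ^ m * (S * (r ^ 2 - 1)) = (r ^ m * S) * (r ^ 2 - 1) := by ring
    rw [h3] at hdvd
    exact Nat.dvd_of_mul_dvd_mul_right hpos hdvd
  have h4 : 2 ∣ r ^ m * S := Dvd.dvd.trans (Dvd.intro _ rfl) h2
  have h5 : Odd (r ^ m * S) := (hr.pow).mul (Nat.odd_iff.mpr hSodd)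
  rw [← Nat.not_even_iff_odd] at h5
  exact h5 (even_iff_two_dvd.mpr h4)

end Cfsg.Agent.Lib.Helper41
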