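import Mathlib
import Cfsg.Agent.Lib.Helper41.DicksonMax
import Cfsg.Agent.Lib.Helper41.SubfieldPSL

set_option autoImplicit false

/-!
# Maximality over Dickson's list: shared lemmas (helper41)
-/

namespace Cfsg.Agent.Lib.Helper41

open Cfsg.Agent.Lib.Helper11 Cfsg.Agent.Lib.Helper42

variable {F : Type*} [Field F]

local notation "SL2" => Matrix.SpecialLinearGroup (Fin 2) F
local notation "PSL2" => Matrix.ProjectiveSpecialLinearGroup (Fin 2) F

theorem tr2_upperU_mul_lowerU (s t : F) : tr2 (upperU s * lowerU t : SL2) = 2 + s * t := by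
  unfold tr2
  rw [mul_apply_00, mul_apply_11, coe_upperU, coe_lowerU]
  simp
  ring

theorem upperU_pow_char (p : ℕ) [CharP F p] (s : F) : (upperU s : SL2) ^ p = 1 := by
  rw [upperU_pow, CharP.cast_eq_zero, zero_mul, upperU_zero]

theorem lowerU_pow_char (p : ℕ) [CharP F p] (s : F) : (lowerU s : SL2) ^ p = 1 := by
  have h : ∀ n : ℕ, (lowerU s : SL2) ^ n = lowerU (n * s) := by
    intro n
    induction n with
    | zero =>
      rw [pow_zero, Nat.cast_zero, zero_mul]
      apply sl2_ext <;> simp [coe_lowerU]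
    | succ k ih =>
      rw [pow_succ, ih]
      apply sl2_ext
      · rw [mul_apply_00]; simp [coe_lowerU]
      · rw [mul_apply_01]; simp [coe_lowerU]
      · rw [mul_apply_10]; simp [coe_lowerU]; ring
      · rw [mul_apply_11]; simp [coe_lowerU]
  rw [h, CharP.cast_eq_zero, zero_mul]
  apply sl2_ext <;> simp [coe_lowerU]

/-- clause (b) of Dickson's list fails for a subgroup containing the images of `u(s)` and `l(t)`
with `(2 + s t)² ≠ 4` -/
theorem not_clause_b_of_mem [Fintype F] (p : ℕ) [Fact p.Prime] [CharP F p] (M : Subgroup PSL2)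
    {s t : F} (hs : prj (upperU s) ∈ M) (ht : prj (lowerU t) ∈ M) (hst : (2 + s * t) ^ 2 ≠ 4)
    (P : Sylow p PSL2) (K₁ : Subgroup PSL2)
    (hK : K₁ ≤ Subgroup.normalizer ((P : Subgroup PSL2) : Set PSL2)) (e : M ≃* K₁) : False := by
  have hx : ∃ n : ℕ, (⟨prj (upperU s), hs⟩ : M) ^ (p ^ n) = 1 := by
    refine ⟨1, ?_⟩
    apply Subtype.ext
    rw [pow_one, Subgroup.coe_pow, Subgroup.coe_one, ← map_pow, upperU_pow_char p s, map_one]
  have hy : ∃ n : ℕ, (⟨prj (lowerU t), ht⟩ : M) ^ (p ^ n) = 1 := by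
    refine ⟨1, ?_⟩
    apply Subtype.ext
    rw [pow_one, Subgroup.coe_pow, Subgroup.coe_one, ← map_pow, lowerU_pow_char p t, map_one]
  obtain ⟨n, hn⟩ := isPElem_mul_of_equiv_le_normalizer p P K₁ hK e hx hy
  have hn' : (prj (upperU s * lowerU t)) ^ (p ^ n) = 1 := by
    have := congrArg Subtype.val hn
    simpa using this
  have := tr2_sq_of_prj_pow p _ n hn'
  rw [tr2_upperU_mul_lowerU] at this
  exact hst this

theorem card_of_equiv_A4 {M : Type*} [Group M] (e : M ≃* alternatingGroup (Fin 4)) :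
    Nat.card M = 12 := by
  rw [Nat.card_congr e.toEquiv, nat_card_alternatingGroup, Nat.card_eq_fintype_card,
    Fintype.card_fin]; rfl

theorem card_of_equiv_S4 {M : Type*} [Group M] (e : M ≃* Equiv.Perm (Fin 4)) :
    Nat.card M = 24 := by
  rw [Nat.card_congr e.toEquiv, Nat.card_perm, Nat.card_eq_fintype_card, Fintype.card_fin]; rfl

theorem card_of_equiv_A5 {M : Type*} [Group M] (e : M ≃* alternatingGroup (Fin 5)) :
    Nat.card M = 60 := by
  rw [Nat.card_congr e.toEquiv, nat_card_alternatingGroup, Nat.card_eq_fintype_card,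
    Fintype.card_fin]; rfl

/-- exponent arithmetic: `q = p^k`, `s = p^a`, `s^m = q^r`, `q² - 1 ∣ c (s² - 1)` with `r` prime:
`s = q` or `s = q^r` -/
theorem eq_or_eq_pow_of_dvd (p k a m r c : ℕ) (hp : 2 ≤ p) (hk : 0 < k) (hr : r.Prime)
    (hc1 : 1 ≤ c) (hcp : c ≤ p) (hpow : (p ^ a) ^ m = (p ^ k) ^ r)
    (hdvd : (p ^ k) ^ 2 - 1 ∣ c * ((p ^ a) ^ 2 - 1)) : p ^ a = p ^ k ∨ p ^ a = (p ^ k) ^ r := by
  rw [← pow_mul, ← pow_mul] at hdvd
  have h1 : k * 2 ∣ a * 2 := dvd_of_pow_sub_one_dvd_mul p (k * 2) (a * 2) c hp (by omega) hc1 hcp hdvd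
  have h2 : k ∣ a := (Nat.mul_dvd_mul_iff_right (by norm_num)).mp h1
  obtain ⟨j, rfl⟩ := h2
  rw [← pow_mul, ← pow_mul] at hpow
  have h3 : k * j * m = k * r := Nat.pow_right_injective hp hpow
  have h4 : j * m = r := by
    have : k * (j * m) = k * r := by rw [← mul_assoc]; exact h3
    exact Nat.eq_of_mul_eq_mul_left hk this
  have h5 : j ∣ r := ⟨m, h4.symm⟩
  rcases (Nat.dvd_prime hr).mp h5 with rfl | rfl
  · left; rw [mul_one]
  · right; rw [← pow_mul]

end Cfsg.Agent.Lib.Helper41
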