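import Mathlib
import Cfsg.Agent.Lib.Helper41.DicksonMax2
import Cfsg.Agent.Lib.Helper41.DicksonPGLHom

set_option autoImplicit false

/-!
# Maximality over Dickson's list: odd characteristic (helper41)

Shared lemmas for showing that a subgroup of `PSL₂(F)` containing `PSL₂(K)` over a subfield is
maximal, going through Dickson's list clause by clause.
-/

namespace Cfsg.Agent.Lib.Helper41

open Cfsg.Agent.Lib.Helper11 Cfsg.Agent.Lib.Helper42

variable {F : Type*} [Field F]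

local notation "SL2" => Matrix.SpecialLinearGroup (Fin 2) F
local notation "PSL2" => Matrix.ProjectiveSpecialLinearGroup (Fin 2) F

/-- clause (a) of Dickson's list has order prime to the odd characteristic `p` -/
theorem not_clause_a_of_dvd [Fintype F] (p : ℕ) [Fact p.Prime] [CharP F p] (hp2 : p ≠ 2)
    {M : Type*} [Group M] (hpM : p ∣ Nat.card M) (n : ℕ)
    (hn : n ∣ (Fintype.card F + 1) / Nat.gcd 2 (Fintype.card F - 1) ∨
      n ∣ (Fintype.card F - 1) / Nat.gcd 2 (Fintype.card F - 1))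
    (h : (IsCyclic M ∧ Nat.card M = n) ∨ Nonempty (M ≃* DihedralGroup n)) : False := by
  have hp := (Fact.out : p.Prime)
  obtain ⟨k, -, hk⟩ := FiniteField.card F p
  have hpQ : p ∣ Fintype.card F := by rw [hk]; exact dvd_pow_self p k.pos.ne'
  have hQ1 : 1 ≤ Fintype.card F := Fintype.card_pos
  have hpn : p ∣ n := by
    rcases h with ⟨-, hc⟩ | ⟨⟨e⟩⟩
    · rwa [hc] at hpM
    · rw [Nat.card_congr e.toEquiv, DihedralGroup.nat_card] at hpM
      rcases (Nat.Prime.dvd_mul hp).mp hpM with h2 | h2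
      · exfalso
        exact hp2 ((Nat.prime_dvd_prime_iff_eq hp Nat.prime_two).mp h2)
      · exact h2
  have hg1 : Nat.gcd 2 (Fintype.card F - 1) ∣ Fintype.card F - 1 := Nat.gcd_dvd_right _ _
  have hg2 : Nat.gcd 2 (Fintype.card F - 1) ∣ Fintype.card F + 1 := by
    have : Fintype.card F + 1 = (Fintype.card F - 1) + 2 := by omega
    rw [this]
    exact dvd_add hg1 (Nat.gcd_dvd_left _ _)
  rcases hn with hn | hn
  · have h1 : p ∣ Fintype.card F + 1 := dvd_trans hpn (dvd_trans hn (Nat.div_dvd_of_dvd hg2))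
    have h2 : p ∣ 1 := (Nat.dvd_add_right hpQ).mp h1
    exact hp.one_lt.ne' (Nat.dvd_one.mp h2)
  · have h1 : p ∣ Fintype.card F - 1 := dvd_trans hpn (dvd_trans hn (Nat.div_dvd_of_dvd hg1))
    have h2 : p ∣ 1 := by
      have : Fintype.card F = (Fintype.card F - 1) + 1 := by omega
      rw [this] at hpQ
      exact (Nat.dvd_add_right h1).mp hpQ
    exact hp.one_lt.ne' (Nat.dvd_one.mp h2)

/-- clause (b) of Dickson's list fails for a subgroup containing the images of `u(1)` and `l(1)` -/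
theorem not_clause_b_of_one [Fintype F] (p : ℕ) [Fact p.Prime] [CharP F p] (M : Subgroup PSL2)
    (hu : prj (upperU (1 : F)) ∈ M) (hl : prj (lowerU (1 : F)) ∈ M)
    (P : Sylow p PSL2) (K₁ : Subgroup PSL2)
    (hK : K₁ ≤ Subgroup.normalizer ((P : Subgroup PSL2) : Set PSL2)) (e : M ≃* K₁) : False := by
  by_cases h5 : (5 : F) = 0
  · have hl' : prj (lowerU (-1 : F)) ∈ M := by
      have : lowerU (-1 : F) = (lowerU (1 : F))⁻¹ := by
        apply eq_inv_of_mul_eq_one_left
        apply sl2_ext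
        · rw [mul_apply_00]; simp [coe_lowerU]
        · rw [mul_apply_01]; simp [coe_lowerU]
        · rw [mul_apply_10]; simp [coe_lowerU]
        · rw [mul_apply_11]; simp [coe_lowerU]
      rw [this, map_inv]
      exact M.inv_mem hl
    refine not_clause_b_of_mem p M hu hl' ?_ P K₁ hK e
    intro h
    have h3 : (3 : F) = 0 := by linear_combination -h
    have h1 : (1 : F) = 0 := by linear_combination 2 * h3 - h5
    exact one_ne_zero h1
  · refine not_clause_b_of_mem p M hu hl ?_ P K₁ hK e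
    intro h
    apply h5
    linear_combination h

/-- on `SL₂(K)`, `pglHom` agrees with `pslHom` -/
theorem pglHom_toGL {K : Type*} [Field K] (φ : K →+* F) (δ : K → F)
    (hδ : ∀ x : K, δ x ^ 2 = φ x) (g : Matrix.SpecialLinearGroup (Fin 2) K) :
    pglHom φ δ hδ (Matrix.SpecialLinearGroup.toGL g) = pslHom φ g := by
  rw [pglHom_apply, pslHom_apply, mk_eq_mk_iff, coe_glToSL]
  have hcoe : ((Matrix.SpecialLinearGroup.toGL g : GL (Fin 2) K) : Matrix (Fin 2) (Fin 2) K)
      = (g : Matrix (Fin 2) (Fin 2) K) := rfl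
  have hmap : ((Matrix.SpecialLinearGroup.map φ g : Matrix.SpecialLinearGroup (Fin 2) F) :
      Matrix (Fin 2) (Fin 2) F) = (g : Matrix (Fin 2) (Fin 2) K).map φ := rfl
  rw [hcoe, g.det_coe, hmap]
  have h1 : δ 1 ^ 2 = 1 ^ 2 := by rw [hδ, map_one, one_pow]
  rcases sq_eq_sq_iff_eq_or_eq_neg.mp h1 with h | h
  · left
    rw [h, inv_one, one_smul]
  · right
    rw [h, inv_neg, inv_one, neg_smul, one_smul]

theorem gcd_two_pred_of_odd {s : ℕ} (hs : Odd s) : Nat.gcd 2 (s - 1) = 2 := by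
  obtain ⟨j, rfl⟩ := hs
  rw [Nat.add_sub_cancel]
  exact Nat.gcd_eq_left (dvd_mul_right 2 j)

/-- arithmetic of clause (d): `q = p^k`, `s^m = q^r` with `r` prime and
`q (q² - 1) ∣ c s (s² - 1)`, `c ≤ p`, force `s = q` or `s = q^r` -/
theorem card_eq_or_eq_pow (p k r m s q c : ℕ) (hp : p.Prime) (hk : 0 < k) (hr : r.Prime)
    (hq : q = p ^ k) (hs2 : 2 ≤ s) (hsm : s ^ m = q ^ r) (hc1 : 1 ≤ c) (hcp : c ≤ p)
    (hdvd : q * (q ^ 2 - 1) ∣ c * (s * (s ^ 2 - 1))) : s = q ∨ s = q ^ r := by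
  have hq2 : 2 ≤ q := by
    rw [hq]
    calc 2 ≤ p := hp.two_le
      _ = p ^ 1 := (pow_one p).symm
      _ ≤ p ^ k := Nat.pow_le_pow_right hp.pos hk
  have hm0 : m ≠ 0 := by
    rintro rfl
    rw [pow_zero] at hsm
    have : 2 ^ 1 ≤ q ^ r := by
      calc 2 ^ 1 ≤ q ^ 1 := by rw [pow_one, pow_one]; exact hq2
        _ ≤ q ^ r := Nat.pow_le_pow_right (by omega) hr.one_le
    omega
  have hsdvd : s ∣ p ^ (k * r) := by
    rw [pow_mul, ← hq, ← hsm]; exact dvd_pow_self s hm0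
  obtain ⟨a, -, hsa⟩ := (Nat.dvd_prime_pow hp).mp hsdvd
  have ha0 : a ≠ 0 := by
    rintro rfl
    rw [pow_zero] at hsa; omega
  have hd1 : q ^ 2 - 1 ∣ (c * (s ^ 2 - 1)) * s := by
    refine dvd_trans (dvd_mul_left _ q) (dvd_trans hdvd ?_)
    exact ⟨1, by ring⟩
  have hcop : Nat.Coprime (q ^ 2 - 1) s := by
    rw [hsa]
    apply Nat.Coprime.pow_right
    rw [Nat.coprime_comm, Nat.Prime.coprime_iff_not_dvd hp]
    intro hpd
    have hpq : p ∣ q ^ 2 := by
      rw [hq, ← pow_mul]; exact dvd_pow_self p (by omega)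
    have h1q : 1 ≤ q ^ 2 := Nat.one_le_pow _ _ (by omega)
    have : p ∣ 1 := by
      have h' : q ^ 2 = (q ^ 2 - 1) + 1 := by omega
      rw [h'] at hpq
      exact (Nat.dvd_add_right hpd).mp hpq
    exact hp.one_lt.ne' (Nat.dvd_one.mp this)
  have hd2 : q ^ 2 - 1 ∣ c * (s ^ 2 - 1) := hcop.dvd_of_dvd_mul_right hd1
  have hd3 : (p ^ k) ^ 2 - 1 ∣ c * ((p ^ a) ^ 2 - 1) := by
    rw [← hq, ← hsa]; exact hd2
  have hpow : (p ^ a) ^ m = (p ^ k) ^ r := by
    rw [← hsa, hsm, hq]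
  rcases eq_or_eq_pow_of_dvd p k a m r c hp.two_le hk hr hc1 hcp hpow hd3 with h1 | h1
  · left; rw [hsa, hq]; exact h1
  · right; rw [hsa, hq]; exact h1

end Cfsg.Agent.Lib.Helper41
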