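import Mathlib
import Cfsg.Agent.Lib.Helper41.DicksonGeneric

set_option autoImplicit false

/-!
# Dickson's theorem: explicit normal form in the generic case (helper41)

`normal_form_of_not_le_borel`: a finite subgroup `H ≤ SL₂(F)` (char `p`) containing the centre, with
`|H ∩ U| ≥ 4` and `H ⊄ B`, is carried by an automorphism `α` of `SL₂(F)` (conjugation by an element
of `SL₂(F)` followed by a diagonal automorphism) onto a group `α(H)` with
`SL₂(K) ≤ α(H) ≤ F^× GL₂(K) ∩ SL₂(F)` for a subfield `K` of `F` with `|K| = |H ∩ U|`.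
-/

namespace Cfsg.Agent.Lib.Helper41

open Cfsg.Agent.Lib.Helper11

variable {F : Type*} [Field F]

local notation "SL2" => Matrix.SpecialLinearGroup (Fin 2) F
local notation "PSL2" => Matrix.ProjectiveSpecialLinearGroup (Fin 2) F

/-- **Normal form, generic case.** -/
theorem normal_form_of_not_le_borel [Finite F] (p : ℕ) [Fact p.Prime] [CharP F p]
    (H : Subgroup SL2) (hZH : Subgroup.center SL2 ≤ H)
    (hq : 4 ≤ Nat.card (uSet H)) (hnB : ¬ H ≤ borelSub F) :
    ∃ (α : MulAut SL2) (K : Subfield F),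
      (∀ s : Matrix.SpecialLinearGroup (Fin 2) K,
        Matrix.SpecialLinearGroup.map K.subtype s ∈ H.map α.toMonoidHom) ∧
      (∀ l ∈ H.map α.toMonoidHom, InM K.subtype l) ∧
      (∀ t : F, upperU t ∈ H.map α.toMonoidHom ↔ t ∈ K) ∧
      Nat.card K = Nat.card (uSet H) := by
  classical
  have hfinSL : Finite SL2 := by
    have : Finite (Matrix (Fin 2) (Fin 2) F) := inferInstance
    exact Finite.of_injective (fun g : SL2 => (g : Matrix (Fin 2) (Fin 2) F)) Subtype.val_injective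
  -- a nontrivial element of `H ∩ U`
  obtain ⟨t₀, ht₀0, ht₀⟩ : ∃ t : F, t ≠ 0 ∧ upperU t ∈ H := by
    by_contra hno
    push Not at hno
    have : ∀ t : uSet H, t = 0 := by
      intro t
      by_contra ht
      exact hno t (fun h => ht (Subtype.ext h)) t.2
    have hsub : Subsingleton (uSet H) := ⟨fun a b => by rw [this a, this b]⟩
    have : Nat.card (uSet H) ≤ 1 := Finite.card_le_one_iff_subsingleton.mpr hsub
    omega
  -- an element outside `B`
  obtain ⟨h, hhH, hhB⟩ := SetLike.not_le_iff_exists.mp hnB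
  have hc : (h : Matrix (Fin 2) (Fin 2) F) 1 0 ≠ 0 := hhB
  -- conjugate by `g = u(-h₀₀ / h₁₀)`
  set g : SL2 := upperU (-((h : Matrix (Fin 2) (Fin 2) F) 0 0 / (h : Matrix (Fin 2) (Fin 2) F) 1 0))
    with hg
  set H₁ : Subgroup SL2 := H.map (MulAut.conj g).toMonoidHom with hH₁
  have hmem₁ : ∀ x : SL2, x ∈ H₁ ↔ g⁻¹ * x * g ∈ H := by
    intro x
    constructor
    · rintro ⟨y, hy, rfl⟩
      have : g⁻¹ * ((MulAut.conj g).toMonoidHom y) * g = y := by
        show g⁻¹ * (g * y * g⁻¹) * g = y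
        group
      rw [this]; exact hy
    · intro hx
      refine ⟨g⁻¹ * x * g, hx, ?_⟩
      show g * (g⁻¹ * x * g) * g⁻¹ = x
      group
  have hZH₁ : Subgroup.center SL2 ≤ H₁ := by
    intro z hz
    rw [hmem₁]
    have hzc := Subgroup.mem_center_iff.mp hz g
    have : g⁻¹ * z * g = z := by
      rw [mul_assoc, ← hzc, ← mul_assoc, inv_mul_cancel, one_mul]
    rw [this]; exact hZH hz
  -- `uSet` is unchanged
  have hU₁ : ∀ t : F, upperU t ∈ H₁ ↔ upperU t ∈ H := by
    intro t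
    rw [hmem₁]
    have : g⁻¹ * upperU t * g = upperU t := by
      rw [hg, ← upperU_neg, ← upperU_add, ← upperU_add]
      congr 1
      ring
    rw [this]
  have huSet : uSet H₁ = uSet H := by
    ext t
    exact hU₁ t
  have hfin₁ : Finite H₁ := Subtype.finite
  -- the element `h₁ = g h g⁻¹`
  set h₁ : SL2 := g * h * g⁻¹ with hh₁
  have hh₁H : h₁ ∈ H₁ := by
    rw [hmem₁, hh₁]
    have : g⁻¹ * (g * h * g⁻¹) * g = h := by group
    rw [this]; exact hhH
  have hh₁00 : (h₁ : Matrix (Fin 2) (Fin 2) F) 0 0 = 0 := by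
    rw [hh₁, mul_apply_00, mul_apply_00, mul_apply_01, inv_apply_00, inv_apply_10, hg, coe_upperU]
    simp only [Matrix.of_apply, Matrix.cons_val', Matrix.cons_val_zero, Matrix.cons_val_one,
      Matrix.cons_val_fin_one]
    field_simp
    ring
  have hh₁10 : (h₁ : Matrix (Fin 2) (Fin 2) F) 1 0 ≠ 0 := apply_10_ne_zero_of_apply_00 hh₁00
  have hx₀1 : upperU t₀ ≠ 1 := by
    intro h1
    rw [← upperU_zero] at h1
    exact ht₀0 (upperU_injective h1)
  have hx₀U : upperU t₀ ∈ uniSub F := by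
    refine ⟨?_, ?_⟩ <;> simp [coe_upperU]
  have hB : BruhatProp H₁ h₁ :=
    bruhatProp_of_card p H₁ hZH₁ (upperU t₀) ((hU₁ t₀).mpr ht₀) hx₀U hx₀1
      (by rw [huSet]; exact hq) hh₁H hh₁10
  obtain ⟨K, c, a, hw, haK, hUK, hlK⟩ :=
    exists_subfield_of_bruhat' H₁ hh₁H hh₁00 hB ⟨t₀, ht₀0, (hU₁ t₀).mpr ht₀⟩
  set H₂ : Subgroup SL2 := H₁.map (diagAut c).toMonoidHom with hH₂
  have hH₂ : H.map ((diagAut c) * (MulAut.conj g) : MulAut SL2).toMonoidHom = H₂ := by
    rw [hH₂, hH₁, Subgroup.map_map]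
    rfl
  refine ⟨(diagAut c) * (MulAut.conj g), K, ?_⟩
  rw [hH₂]
  have hu : ∀ k : K, upperU (K.subtype k) ∈ H₂ := fun k => (hUK _).mpr k.2
  have hl : ∀ l ∈ H₂, (l : Matrix (Fin 2) (Fin 2) F) 1 0 ≠ 0 →
      ∃ k : K, (l : Matrix (Fin 2) (Fin 2) F) 0 0
        = K.subtype k * (l : Matrix (Fin 2) (Fin 2) F) 1 0 := by
    intro l hl hl10
    obtain ⟨k, hk, hk'⟩ := hlK l hl hl10
    exact ⟨⟨k, hk⟩, hk'⟩
  have h1 : upperU (1 : F) ∈ H₂ := by
    have := hu 1
    rwa [map_one] at this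
  refine ⟨?_, ?_, hUK, ?_⟩
  · exact map_mem_of_antiD K.subtype H₂ a hw ⟨(a : F) ^ 2, haK⟩ rfl hu
  · intro l hlH
    exact inM_of_mem K.subtype H₂ h1 a hw ⟨(a : F) ^ 2, haK⟩ rfl hl hlH
  · rw [← huSet]
    have hmem₂ : ∀ t : F, t ∈ uSet H₁ ↔ (c : F) * t ∈ K := by
      intro t
      rw [← hUK, ← diagAut_upperU]
      constructor
      · intro ht
        exact ⟨upperU t, ht, rfl⟩
      · rintro ⟨y, hy, hyt⟩
        have : y = upperU t := (diagAut c).injective hyt
        show upperU t ∈ H₁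
        rw [← this]; exact hy
    symm
    apply Nat.card_congr
    refine ⟨fun t => ⟨(c : F) * t, (hmem₂ t).mp t.2⟩,
      fun k => ⟨((c⁻¹ : Fˣ) : F) * k, (hmem₂ _).mpr ?_⟩, ?_, ?_⟩
    · rw [← mul_assoc, ← Units.val_mul, mul_inv_cancel, Units.val_one, one_mul]
      exact k.2
    · intro t
      apply Subtype.ext
      show ((c⁻¹ : Fˣ) : F) * ((c : F) * t) = t
      rw [← mul_assoc, ← Units.val_mul, inv_mul_cancel, Units.val_one, one_mul]
    · intro k
      apply Subtype.ext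
      show (c : F) * (((c⁻¹ : Fˣ) : F) * k) = k
      rw [← mul_assoc, ← Units.val_mul, mul_inv_cancel, Units.val_one, one_mul]

end Cfsg.Agent.Lib.Helper41
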