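import Mathlib
import Cfsg.Agent.Lib.Helper41.SylowAbelian
import Cfsg.Agent.Lib.Helper41.DicyclicSylow

set_option autoImplicit false

/-!
# Subgroups of order 4 in a group with a dicyclic torus normaliser (helper41)
-/

namespace Cfsg.Agent.Lib.Helper41

open scoped Pointwise

variable {G : Type*} [Group G] [Finite G]

namespace DicyclicTorus

variable {A : Subgroup G} {z : G}

omit [Finite G] in
/-- a subgroup of order 4 is generated by a square root of `z` -/
theorem exists_zpowers_of_card_four (h : DicyclicTorus A z) (B : Subgroup G)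
    (hB : Nat.card B = 4) : ∃ x : G, x * x = z ∧ B = Subgroup.zpowers x := by
  have hfin : Finite B := Nat.finite_of_card_ne_zero (by rw [hB]; norm_num)
  obtain ⟨x, hxB, hx1, hxz⟩ : ∃ x ∈ B, x ≠ 1 ∧ x ≠ z := by
    by_contra hne
    push Not at hne
    have hsub : (B : Set G) ⊆ {1, z} := by
      intro y hy
      by_cases hy1 : y = 1
      · left; exact hy1
      · right; exact hne y hy hy1
    have h1 := Set.ncard_le_ncard hsub (Set.toFinite _)
    have h2 : (({1, z} : Set G)).ncard ≤ 2 := (Set.ncard_insert_le _ _).trans (by simp)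
    have h3 : (B : Set G).ncard = 4 := hB
    omega
  have hx4 : x ^ 4 = 1 := by
    have h1 : orderOf x ∣ Nat.card B := Subgroup.orderOf_dvd_natCard _ hxB
    rw [hB] at h1
    exact orderOf_dvd_iff_pow_eq_one.mp h1
  have hxx : x * x = z := by
    have h5 : (x * x) * (x * x) = 1 := by
      calc (x * x) * (x * x) = x ^ 4 := by
            rw [show (4 : ℕ) = 2 + 2 from rfl, pow_add, pow_two]
        _ = 1 := hx4
    rcases h.invol _ h5 with h6 | h6
    · rcases h.invol _ h6 with h7 | h7
      · exact absurd h7 hx1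
      · exact absurd h7 hxz
    · exact h6
  refine ⟨x, hxx, ?_⟩
  have hord : orderOf x = 4 := by
    have h1 : orderOf x ∣ 4 := orderOf_dvd_of_pow_eq_one hx4
    have h2 : ¬ orderOf x ∣ 2 := by
      intro h'
      have := orderOf_dvd_iff_pow_eq_one.mp h'
      rw [pow_two, hxx] at this
      exact h.z_ne_one this
    have h3 : orderOf x ≤ 4 := Nat.le_of_dvd (by norm_num) h1
    have h4 : 0 < orderOf x := Nat.pos_of_dvd_of_pos h1 (by norm_num)
    interval_cases (orderOf x) <;> simp_all
  symm
  apply Subgroup.eq_of_le_of_card_ge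
  · rw [Subgroup.zpowers_le]; exact hxB
  · rw [Nat.card_zpowers, hord, hB]

/-- the normaliser of the subgroup generated by a square root of `z` in the torus -/
theorem normalizer_zpowers_eq (h : DicyclicTorus A z) {i : G} (hiA : i ∈ A) (hi : i * i = z) :
    Subgroup.normalizer ((Subgroup.zpowers i : Subgroup G) : Set G)
      = Subgroup.normalizer (A : Set G) := by
  have hi1 : i ≠ 1 := by
    rintro rfl
    rw [mul_one] at hi
    exact h.z_ne_one hi.symm
  have hiz : i ≠ z := by
    rintro rfl
    rw [h.z_mul_self] at hi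
    exact h.z_ne_one hi.symm
  have hle : Subgroup.zpowers i ≤ A := by rw [Subgroup.zpowers_le]; exact hiA
  apply le_antisymm
  · intro n hn
    have h1 : n * i * n⁻¹ ∈ Subgroup.zpowers i :=
      (Subgroup.mem_normalizer_iff.mp hn i).mp (Subgroup.mem_zpowers i)
    have hyA : n * i * n⁻¹ ∈ A := hle h1
    have hy1 : n * i * n⁻¹ ≠ 1 := fun h' => hi1 (conj_eq_one_iff.mp h')
    have hyz : n * i * n⁻¹ ≠ z := by
      intro h'
      apply hiz
      have : i = n⁻¹ * (n * i * n⁻¹) * n := by group
      rw [this, h', mul_assoc, ← h.z_central n, ← mul_assoc, inv_mul_cancel, one_mul]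
    have hCs := h.cent i hiA hi1 hiz
    have hCy := h.cent _ hyA hy1 hyz
    rw [Subgroup.mem_normalizer_iff]
    intro a
    have e1 : a ∈ A ↔ a ∈ Subgroup.centralizer ({i} : Set G) := by rw [hCs]
    have e2 : n * a * n⁻¹ ∈ A ↔ n * a * n⁻¹ ∈ Subgroup.centralizer ({n * i * n⁻¹} : Set G) := by
      rw [hCy]
    rw [e1, e2, Subgroup.mem_centralizer_iff, Subgroup.mem_centralizer_iff]
    constructor
    · intro ha y hy
      rw [Set.mem_singleton_iff] at hy
      have h1 := ha i (Set.mem_singleton i)
      rw [hy]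
      calc n * i * n⁻¹ * (n * a * n⁻¹) = n * (i * a) * n⁻¹ := by group
        _ = n * (a * i) * n⁻¹ := by rw [h1]
        _ = n * a * n⁻¹ * (n * i * n⁻¹) := by group
    · intro ha y hy
      rw [Set.mem_singleton_iff] at hy
      have h1 := ha _ (Set.mem_singleton _)
      rw [hy]
      calc i * a = n⁻¹ * ((n * i * n⁻¹) * (n * a * n⁻¹)) * n := by group
        _ = n⁻¹ * ((n * a * n⁻¹) * (n * i * n⁻¹)) * n := by rw [h1]
        _ = a * i := by group
  · intro n hn
    apply Subgroup.mem_normalizer_fintype
    intro y hy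
    rw [SetLike.mem_coe, Subgroup.mem_zpowers_iff] at hy
    obtain ⟨k, rfl⟩ := hy
    have h1 : n * i ^ k * n⁻¹ = (n * i * n⁻¹) ^ k := by
      rw [conj_zpow]
    rw [SetLike.mem_coe, h1]
    apply Subgroup.zpow_mem
    by_cases hnA : n ∈ A
    · rw [h.comm n hnA i hiA, mul_assoc, mul_inv_cancel, mul_one]
      exact Subgroup.mem_zpowers i
    · rw [h.inv n hn hnA i hiA]
      exact Subgroup.inv_mem _ (Subgroup.mem_zpowers i)

omit [Finite G] in
/-- the order of the normaliser of the torus -/
theorem card_normalizer (h : DicyclicTorus A z) :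
    Nat.card (Subgroup.normalizer (A : Set G)) = 2 * Nat.card A := by
  have h1 := (A.subgroupOf (Subgroup.normalizer (A : Set G))).card_mul_index
  rw [h.idx, Nat.card_congr (Subgroup.subgroupOfEquivOfLe
    (Subgroup.le_normalizer (H := A))).toEquiv] at h1
  rw [← h1, mul_comm]

/-- the normaliser of any subgroup generated by a square root of `z` -/
theorem card_normalizer_zpowers (h : DicyclicTorus A z) {x : G} (hx : x * x = z) :
    Nat.card (Subgroup.normalizer ((Subgroup.zpowers x : Subgroup G) : Set G))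
      = 2 * Nat.card A := by
  obtain ⟨i, hiA, hi⟩ := h.exists_sq_eq
  obtain ⟨g, hg⟩ := h.conj4 i x hi hx
  have hz : Subgroup.zpowers x = MulAut.conj g • Subgroup.zpowers i := by
    ext y
    rw [mem_conj_smul_iff, ← hg, Subgroup.mem_zpowers_iff, Subgroup.mem_zpowers_iff]
    constructor
    · rintro ⟨k, rfl⟩
      refine ⟨k, ?_⟩
      rw [conj_zpow]; group
    · rintro ⟨k, hk⟩
      refine ⟨k, ?_⟩
      rw [conj_zpow, hk]; group
  rw [hz, normalizer_conj_smul, card_conj_smul, h.normalizer_zpowers_eq hiA hi, h.card_normalizer]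

end DicyclicTorus

end Cfsg.Agent.Lib.Helper41
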