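import Mathlib

set_option autoImplicit false

/-!
Arithmetic definitions for the Sylow analysis of the orders `19 * d`, `d ∣ 9240` (S4274).
-/

namespace Cfsg.Agent.Lib.Helper41

/-- arithmetic shape of the Sylow data of a prime `p` in a group of order `m`. -/
def J1Loc (m p n N C e : ℕ) : Prop :=
  n * N = m ∧ n % p = 1 ∧ N = C * e ∧ e ∣ p - 1 ∧ e ≠ 1 ∧ p ∣ C ∧ 19 ≤ n

/-- the test used to enumerate the possible Sylow data. -/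
def J1Q (p : ℕ) (L : List (ℕ × ℕ × ℕ × ℕ)) (n N : ℕ) : Prop :=
  ∀ e ∈ Nat.divisors (p - 1), e ≠ 1 → n % p = 1 → 19 ≤ n → e ∣ N → p ∣ N / e →
    (n, N, N / e, e) ∈ L

instance j1QDecidable (p : ℕ) (L : List (ℕ × ℕ × ℕ × ℕ)) (n N : ℕ) : Decidable (J1Q p L n N) :=
  inferInstanceAs (Decidable (∀ e ∈ Nat.divisors (p - 1), e ≠ 1 → n % p = 1 → 19 ≤ n → e ∣ N →
    p ∣ N / e → (n, N, N / e, e) ∈ L))

/-- enumeration of the Sylow data through the divisor pairs of `m`. -/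
theorem j1_loc_mem (m B p : ℕ) (L : List (ℕ × ℕ × ℕ × ℕ)) (hm : 0 < m) (hB : m < B * B)
    (hp : 1 < p)
    (h : ∀ k ∈ Finset.range B, k ∣ m → J1Q p L k (m / k) ∧ J1Q p L (m / k) k)
    {n N C e : ℕ} (hloc : J1Loc m p n N C e) : (n, N, C, e) ∈ L := by
  obtain ⟨h1, h2, h3, h4, h5, h6, h7⟩ := hloc
  have hn0 : 0 < n := by omega
  have hN0 : 0 < N := by
    rcases Nat.eq_zero_or_pos N with h0 | h0
    · rw [h0, mul_zero] at h1; omega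
    · exact h0
  have he0 : 0 < e := by
    rcases Nat.eq_zero_or_pos e with h0 | h0
    · rw [h0, mul_zero] at h3; omega
    · exact h0
  have hCe : N / e = C := by rw [h3]; exact Nat.mul_div_cancel _ he0
  have hemem : e ∈ Nat.divisors (p - 1) := by
    rw [Nat.mem_divisors]; exact ⟨h4, by omega⟩
  have heN : e ∣ N := ⟨C, by rw [h3, mul_comm]⟩
  have key : J1Q p L n N := by
    by_cases hnB : n < B
    · have := (h n (Finset.mem_range.mpr hnB) ⟨N, h1.symm⟩).1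
      rwa [show m / n = N from by rw [← h1]; exact Nat.mul_div_cancel_left _ hn0] at this
    · by_cases hNB : N < B
      · have := (h N (Finset.mem_range.mpr hNB) ⟨n, by rw [← h1, mul_comm]⟩).2
        rwa [show m / N = n from by rw [← h1]; exact Nat.mul_div_cancel _ hN0] at this
      · exfalso
        push Not at hnB hNB
        have : B * B ≤ n * N := Nat.mul_le_mul hnB hNB
        omega
  have := key e hemem h5 h2 h7 heN (by rw [hCe]; exact h6)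
  rwa [hCe] at this

/-- global relations between the Sylow data of `p`, `q` and `19` (tuples `(n, N, C, e)`). -/
def J1G3 (m p q : ℕ) (tp tq t19 : ℕ × ℕ × ℕ × ℕ) : Prop :=
  (q ∣ tp.2.2.1 ↔ p ∣ tq.2.2.1) ∧ (19 ∣ tp.2.2.1 ↔ p ∣ t19.2.2.1) ∧
  (19 ∣ tq.2.2.1 ↔ q ∣ t19.2.2.1) ∧
  (19 ∣ tp.2.1 → tp.2.1 ∣ t19.2.1 ∧ (t19.2.1 / tp.2.1) % p = 1) ∧
  (19 ∣ tq.2.1 → tq.2.1 ∣ t19.2.1 ∧ (t19.2.1 / tq.2.1) % q = 1) ∧
  (¬ q ∣ tp.2.2.1 → ¬ 19 ∣ tp.2.2.1 → ¬ 19 ∣ tq.2.2.1 →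
    tp.1 * ((p - 1) * (tp.2.2.1 / p)) + tq.1 * ((q - 1) * (tq.2.2.1 / q)) +
      t19.1 * ((19 - 1) * (t19.2.2.1 / 19)) ≤ m) ∧
  (¬ q ∣ tp.2.2.1 →
    tp.1 * ((p - 1) * (tp.2.2.1 / p)) + tq.1 * ((q - 1) * (tq.2.2.1 / q)) +
      t19.1 * (19 - 1) ≤ m)

set_option synthInstance.maxSize 4000 in
instance j1G3Decidable (m p q : ℕ) (tp tq t19 : ℕ × ℕ × ℕ × ℕ) :
    Decidable (J1G3 m p q tp tq t19) := by
  delta J1G3; exact inferInstance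

/-- global relations between the Sylow data of `p`, `q`, `r` and `19`. -/
def J1G4 (m p q r : ℕ) (tp tq tr t19 : ℕ × ℕ × ℕ × ℕ) : Prop :=
  (q ∣ tp.2.2.1 ↔ p ∣ tq.2.2.1) ∧ (r ∣ tp.2.2.1 ↔ p ∣ tr.2.2.1) ∧
  (r ∣ tq.2.2.1 ↔ q ∣ tr.2.2.1) ∧ (19 ∣ tp.2.2.1 ↔ p ∣ t19.2.2.1) ∧
  (19 ∣ tq.2.2.1 ↔ q ∣ t19.2.2.1) ∧ (19 ∣ tr.2.2.1 ↔ r ∣ t19.2.2.1) ∧
  (19 ∣ tp.2.1 → tp.2.1 ∣ t19.2.1 ∧ (t19.2.1 / tp.2.1) % p = 1) ∧
  (19 ∣ tq.2.1 → tq.2.1 ∣ t19.2.1 ∧ (t19.2.1 / tq.2.1) % q = 1) ∧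
  (19 ∣ tr.2.1 → tr.2.1 ∣ t19.2.1 ∧ (t19.2.1 / tr.2.1) % r = 1) ∧
  (¬ r ∣ tq.2.2.1 → ¬ 19 ∣ tq.2.2.1 → ¬ 19 ∣ tr.2.2.1 →
    tq.1 * ((q - 1) * (tq.2.2.1 / q)) + tr.1 * ((r - 1) * (tr.2.2.1 / r)) +
      t19.1 * ((19 - 1) * (t19.2.2.1 / 19)) + tp.1 * (p - 1) ≤ m) ∧
  (¬ r ∣ tp.2.2.1 → ¬ 19 ∣ tp.2.2.1 → ¬ 19 ∣ tr.2.2.1 →
    tp.1 * ((p - 1) * (tp.2.2.1 / p)) + tr.1 * ((r - 1) * (tr.2.2.1 / r)) +
      t19.1 * ((19 - 1) * (t19.2.2.1 / 19)) + tq.1 * (q - 1) ≤ m)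

set_option synthInstance.maxSize 4000 in
instance j1G4Decidable (m p q r : ℕ) (tp tq tr t19 : ℕ × ℕ × ℕ × ℕ) :
    Decidable (J1G4 m p q r tp tq tr t19) := by
  delta J1G4; exact inferInstance

end Cfsg.Agent.Lib.Helper41
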