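import Mathlib
import Cfsg.Agent.Lib.Helper78.DefectOneTop
import Cfsg.Agent.Lib.Helper78.DefectOneEndgame
import Cfsg.Agent.Lib.Helper77.DefOneMain
import Cfsg.Agent.Lib.Helper77.Linear
import Cfsg.Agent.Lib.Helper79.Integrality
import Cfsg.Agent.Lib.Helper3.PrincipalLin
import Cfsg.Agent.Lib.Helper78.CharMore

set_option autoImplicit false

/-!
The degree equation of the principal `19`-block of a simple group of order `19 * d`,
`d ∣ 9240` (Brauer's theorem on blocks of defect one, S4441), for S4274.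
-/

namespace Cfsg.Agent.Lib.Helper41

open Cfsg Subgroup
open scoped commutatorElement

/-- Every rational prime lies in a maximal ideal of the algebraic integers. -/
theorem j1_exists_isPModular (q : ℕ) (hq : q.Prime) :
    ∃ M : Ideal AlgInt, IsPModular q M := by
  have hne : Ideal.span {(q : AlgInt)} ≠ ⊤ := by
    intro htop
    have h1 : (1 : AlgInt) ∈ Ideal.span {(q : AlgInt)} := by rw [htop]; trivial
    obtain ⟨a, ha⟩ := Ideal.mem_span_singleton'.mp h1
    have ha' : (a : ℂ) * (q : ℂ) = 1 := by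
      have := congrArg (fun x : AlgInt => (x : ℂ)) ha
      simpa using this
    have hq0 : (q : ℂ) ≠ 0 := by exact_mod_cast hq.ne_zero
    have hint : IsIntegral ℤ (((1 : ℕ) : ℂ) / (q : ℂ)) := by
      have : ((1 : ℕ) : ℂ) / (q : ℂ) = (a : ℂ) := by
        field_simp
        rw [mul_comm]; simpa using ha'.symm
      rw [this]
      exact a.2
    have := Cfsg.Agent.Lib.Helper79.dvd_of_isIntegral_div hq.ne_zero hint
    exact hq.one_lt.ne' (Nat.dvd_one.mp this)
  obtain ⟨M, hM, hle⟩ := Ideal.exists_le_maximal _ hne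
  exact ⟨M, hq, hM, hle (Ideal.subset_span (Set.mem_singleton _))⟩

/-- a non-commutative simple group is perfect. -/
theorem j1_perfect {M : Type*} [Group M] [IsSimpleGroup M] (hG : ¬ IsMulCommutative M) :
    commutator M = ⊤ := by
  have hn : (commutator M).Normal := inferInstance
  rcases hn.eq_bot_or_eq_top with h | h
  · exfalso
    apply hG
    constructor
    constructor
    intro a b
    have : ⁅a, b⁆ ∈ commutator M := by
      rw [_root_.commutator_def]
      exact Subgroup.commutator_mem_commutator (Subgroup.mem_top a) (Subgroup.mem_top b)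
    rw [h, Subgroup.mem_bot] at this
    exact commutatorElement_eq_one_iff_mul_comm.mp this
  · exact h

/-- in a perfect group the only irreducible character of degree one is the trivial one. -/
theorem j1_eq_triv_of_degree_one {M : Type*} [Group M] [Finite M] (hperf : commutator M = ⊤)
    (χ : IrrCharacter M) (h : charDegree (χ : M → ℂ) = 1) :
    χ = Cfsg.Agent.Lib.Helper3.PrincipalLin.triv M := by
  have h1 : (χ : M → ℂ) 1 = 1 := by
    rw [Cfsg.Agent.Lib.Helper78.IsCharacter.apply_one_eq_charDegree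
      (Cfsg.Agent.Lib.Helper78.IsIrrCharacter.isCharacter χ.2), h]
    simp
  apply Subtype.ext
  funext g
  have := Cfsg.Agent.Lib.Helper77.linear_character_eq_one_of_mem_commutator χ h1 g
    (by rw [hperf]; exact Subgroup.mem_top g)
  rw [this]
  rfl

/-- sums over a family all of whose degrees are among `20, 77, 210, 56, 132`. -/
theorem j1_sum_fiber {ι A : Type*} [AddCommMonoid A] (s : Finset ι) (deg : ι → ℕ)
    (hdeg : ∀ i ∈ s, deg i = 20 ∨ deg i = 77 ∨ deg i = 210 ∨ deg i = 56 ∨ deg i = 132)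
    (h : ℕ → A) :
    ∑ i ∈ s, h (deg i) =
      (s.filter (fun i => deg i = 20)).card • h 20 +
      ((s.filter (fun i => deg i = 77)).card • h 77 +
      ((s.filter (fun i => deg i = 210)).card • h 210 +
      ((s.filter (fun i => deg i = 56)).card • h 56 +
      (s.filter (fun i => deg i = 132)).card • h 132))) := by
  classical
  have hmaps : ∀ i ∈ s, deg i ∈ ({20, 77, 210, 56, 132} : Finset ℕ) := by
    intro i hi
    simp only [Finset.mem_insert, Finset.mem_singleton]
    exact hdeg i hi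
  rw [← Finset.sum_fiberwise_of_maps_to hmaps]
  have hin : ∀ j : ℕ, ∑ i ∈ s with deg i = j, h (deg i) =
      (s.filter (fun i => deg i = j)).card • h j := by
    intro j
    rw [← Finset.sum_const]
    apply Finset.sum_congr rfl
    intro i hi
    rw [(Finset.mem_filter.mp hi).2]
  simp only [hin]
  rw [Finset.sum_insert (by decide), Finset.sum_insert (by decide),
    Finset.sum_insert (by decide), Finset.sum_insert (by decide), Finset.sum_singleton]

set_option maxRecDepth 100000 in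
/-- the possible degrees of the non-exceptional characters. -/
theorem j1_degree_list : ∀ f ∈ Nat.divisors 9240, 2 ≤ f → f ≤ 418 → (f % 19 = 1 ∨ f % 19 = 18) →
    (f = 20 ∨ f = 77 ∨ f = 210 ∨ f = 56 ∨ f = 132) := by
  decide

/-- the sign attached to a degree. -/
def j1Sign (f : ℕ) : ℤ := if f % 19 = 1 then (f : ℤ) else -(f : ℤ)

set_option maxHeartbeats 800000 in
/-- **The degree equation of the principal `19`-block.** -/
theorem j1_brauer_data {M : Type*} [Group M] [Finite M] [IsSimpleGroup M]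
    (hG : ¬ IsMulCommutative M) [Fact (Nat.Prime 19)] (P : Sylow 19 M) (hP : Nat.card P = 19)
    (e : ℕ)
    (he : (centralizer ((P : Subgroup M) : Set M)).relIndex
      (normalizer ((P : Subgroup M) : Set M)) = e)
    (he6 : e ∣ 6) (d : ℕ) (hd : Nat.card M = 19 * d) (hd9240 : d ∣ 9240) :
    ∃ (n20 n77 n210 n56 n132 f0 : ℕ) (ε : ℤ),
      n20 + n77 + n210 + n56 + n132 + 1 = e ∧
      (0 < n20 → 20 ∣ d) ∧ (0 < n77 → 77 ∣ d) ∧ (0 < n210 → 210 ∣ d) ∧ (0 < n56 → 56 ∣ d) ∧
      (0 < n132 → 132 ∣ d) ∧ 2 ≤ f0 ∧ f0 ∣ 19 * d ∧ (ε = 1 ∨ ε = -1) ∧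
      ε * (f0 : ℤ) = 1 + 20 * (n20 : ℤ) + 77 * (n77 : ℤ) + 210 * (n210 : ℤ) - 56 * (n56 : ℤ)
        - 132 * (n132 : ℤ) ∧
      1 + 400 * n20 + 5929 * n77 + 44100 * n210 + 3136 * n56 + 17424 * n132 +
        (18 / e) * f0 ^ 2 ≤ 19 * d := by
  classical
  have h19 : Nat.Prime 19 := Fact.out
  obtain ⟨I, hI⟩ := j1_exists_isPModular 19 h19
  have hk := Cfsg.Agent.Lib.Helper77.DefOne.card_principalBlock_ge 19 I hI P hP e he
  obtain ⟨ε, a, X, Y, D⟩ := Cfsg.Agent.Lib.Helper78.defect_one_data 19 I hI P hP e he hk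
  have hperf := j1_perfect hG
  set t := Cfsg.Agent.Lib.Helper3.PrincipalLin.triv M with ht
  have htB : t ∈ principalBlock I M := Cfsg.Agent.Lib.Helper3.PrincipalLin.triv_mem hI
  have hdegt : charDegree (t : M → ℂ) = 1 :=
    Cfsg.Agent.Lib.Helper3.PrincipalLin.charDegree_triv
  have he0 : 0 < e := Nat.pos_of_dvd_of_pos he6 (by norm_num)
  have hecases : e = 1 ∨ e = 2 ∨ e = 3 ∨ e = 6 := by
    have hle : e ≤ 6 := Nat.le_of_dvd (by norm_num) he6
    interval_cases e <;> simp_all
  have hY3 : 3 ≤ Y.card := by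
    rw [D.hYcard]
    rcases hecases with rfl | rfl | rfl | rfl <;> norm_num
  have hone : ¬ 19 ∣ orderOf (1 : M) := by rw [orderOf_one]; norm_num
  have hchar : ∀ χ : IrrCharacter M, (χ : M → ℂ) 1 = (charDegree (χ : M → ℂ) : ℂ) := fun χ =>
    Cfsg.Agent.Lib.Helper78.IsCharacter.apply_one_eq_charDegree
      (Cfsg.Agent.Lib.Helper78.IsIrrCharacter.isCharacter χ.2)
  have hlin : ∀ χ : IrrCharacter M, charDegree (χ : M → ℂ) = 1 → χ = t :=
    fun χ h => j1_eq_triv_of_degree_one hperf χ h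
  have hdeg2 : ∀ χ : IrrCharacter M, χ ≠ t → 2 ≤ charDegree (χ : M → ℂ) := by
    intro χ hχ
    have h1 := Cfsg.Agent.Lib.Helper79.irr_charDegree_pos χ
    have h2 : charDegree (χ : M → ℂ) ≠ 1 := fun h => hχ (hlin χ h)
    omega
  have hYdeg : ∀ η ∈ Y, ∀ η' ∈ Y, charDegree (η : M → ℂ) = charDegree (η' : M → ℂ) := by
    intro η hη η' hη'
    have h1 := D.hregY 1 hone η hη η' hη'
    rw [hchar η, hchar η'] at h1
    exact_mod_cast h1
  have htY : t ∉ Y := by
    intro htY
    have hall : ∀ η ∈ Y, η = t := by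
      intro η hη
      apply hlin
      rw [hYdeg η hη t htY, hdegt]
    have : Y.card ≤ 1 :=
      Finset.card_le_one.mpr (fun a ha b hb => by rw [hall a ha, hall b hb])
    omega
  have htX : t ∈ X := ((D.hmem t).mp htB).resolve_right htY
  have hat : a t = 1 := by
    obtain ⟨y, hy⟩ := exists_prime_orderOf_dvd_card' 19 (G := P) (by rw [hP])
    have hy1 : (y : M) ≠ 1 := by
      intro h
      have h2 : y = 1 := Subtype.ext h
      rw [h2, orderOf_one] at hy
      norm_num at hy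
    have h3 := D.hX t htX (y : M) y.2 hy1
    have h1 : (t : M → ℂ) (y : M) = 1 := rfl
    rw [h1] at h3
    exact_mod_cast h3.symm
  -- the exceptional degree
  obtain ⟨θ, hθ⟩ : Y.Nonempty := Finset.card_pos.mp (by omega)
  have hθt : θ ≠ t := fun h => htY (h ▸ hθ)
  have hf0 : 2 ≤ charDegree (θ : M → ℂ) := hdeg2 θ hθt
  have hf0dvd : charDegree (θ : M → ℂ) ∣ 19 * d := by
    rw [← hd]; exact Cfsg.Agent.Lib.Helper79.irr_charDegree_dvd_card θ
  -- the degree equation
  have hrel : ε * (charDegree (θ : M → ℂ) : ℤ) =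
      ∑ χ ∈ X, a χ * (charDegree (χ : M → ℂ) : ℤ) := by
    have h1 := D.hrel 1 hone θ hθ
    rw [hchar θ] at h1
    have h3 : ((ε * (charDegree (θ : M → ℂ) : ℤ) : ℤ) : ℂ) =
        ((∑ χ ∈ X, a χ * (charDegree (χ : M → ℂ) : ℤ) : ℤ) : ℂ) := by
      push_cast
      rw [h1]
      apply Finset.sum_congr rfl
      intro χ _
      rw [hchar χ]
    exact_mod_cast h3
  -- the non-exceptional characters
  set X' := X.erase t with hX'
  have hX'card : X'.card + 1 = e := by
    rw [hX', Finset.card_erase_of_mem htX, D.hXcard]; omega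
  have hsumsq : ∑ χ : IrrCharacter M, (charDegree (χ : M → ℂ)) ^ 2 = 19 * d := by
    have := Fintype.ofFinite M
    rw [← hd]
    convert Cfsg.Agent.Lib.Helper78.sum_irr_charDegree_sq (G := M)
  have hXY : ∑ χ ∈ X, (charDegree (χ : M → ℂ)) ^ 2 + ∑ χ ∈ Y, (charDegree (χ : M → ℂ)) ^ 2
      ≤ 19 * d := by
    rw [← hsumsq, ← Finset.sum_union D.hdisj]
    exact Finset.sum_le_sum_of_subset (Finset.subset_univ _)
  have hYsq : ∑ χ ∈ Y, (charDegree (χ : M → ℂ)) ^ 2 =
      (18 / e) * (charDegree (θ : M → ℂ)) ^ 2 := by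
    rw [Finset.sum_congr rfl (fun χ hχ => by rw [hYdeg χ hχ θ hθ]), Finset.sum_const,
      D.hYcard, smul_eq_mul]
  have hXsq : ∑ χ ∈ X, (charDegree (χ : M → ℂ)) ^ 2 =
      1 + ∑ χ ∈ X', (charDegree (χ : M → ℂ)) ^ 2 := by
    rw [hX', ← Finset.add_sum_erase X _ htX, hdegt]; norm_num
  have hXlin : ∑ χ ∈ X, a χ * (charDegree (χ : M → ℂ) : ℤ) =
      1 + ∑ χ ∈ X', a χ * (charDegree (χ : M → ℂ) : ℤ) := by
    rw [hX', ← Finset.add_sum_erase X _ htX, hdegt, hat]; norm_num
  -- the degrees of the members of `X'`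
  have hX'mem : ∀ χ ∈ X', χ ∈ X ∧ χ ≠ t := fun χ hχ =>
    ⟨Finset.mem_of_mem_erase hχ, Finset.ne_of_mem_erase hχ⟩
  have hd0 : 0 < d := by
    rcases Nat.eq_zero_or_pos d with h | h
    · rw [h, mul_zero] at hd
      have : 0 < Nat.card M := Nat.card_pos
      omega
    · exact h
  have hdle : d ≤ 9240 := Nat.le_of_dvd (by norm_num) hd9240
  have hX'deg : ∀ χ ∈ X', (charDegree (χ : M → ℂ) ∣ d ∧
      (charDegree (χ : M → ℂ) = 20 ∨ charDegree (χ : M → ℂ) = 77 ∨
        charDegree (χ : M → ℂ) = 210 ∨ charDegree (χ : M → ℂ) = 56 ∨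
        charDegree (χ : M → ℂ) = 132)) ∧
      a χ * (charDegree (χ : M → ℂ) : ℤ) = j1Sign (charDegree (χ : M → ℂ)) := by
    intro χ hχ
    obtain ⟨hχX, hχt⟩ := hX'mem χ hχ
    have h2 := hdeg2 χ hχt
    have hdvdM : charDegree (χ : M → ℂ) ∣ 19 * d := by
      rw [← hd]; exact Cfsg.Agent.Lib.Helper79.irr_charDegree_dvd_card χ
    have hmod := D.degree_X hP hχX
    have ha := D.haX χ hχX
    have hsq : (charDegree (χ : M → ℂ)) ^ 2 ≤ 19 * d := by
      have h1 : (charDegree (χ : M → ℂ)) ^ 2 ≤ ∑ ψ ∈ X, (charDegree (ψ : M → ℂ)) ^ 2 :=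
        Finset.single_le_sum (f := fun ψ : IrrCharacter M => (charDegree (ψ : M → ℂ)) ^ 2)
          (fun i _ => Nat.zero_le _) hχX
      omega
    generalize charDegree (χ : M → ℂ) = f at *
    have hmod19 : f % 19 = 1 ∨ f % 19 = 18 := by
      rcases ha with ha | ha <;> rw [ha] at hmod <;> omega
    have hcop : Nat.Coprime f 19 := by
      rw [Nat.coprime_comm, Nat.Prime.coprime_iff_not_dvd h19]
      omega
    have hfd : f ∣ d := hcop.dvd_of_dvd_mul_left hdvdM
    have hf418 : f ≤ 418 := by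
      by_contra hcon
      push Not at hcon
      have : 419 * 419 ≤ f * f := Nat.mul_le_mul hcon hcon
      nlinarith
    have hlist := j1_degree_list f (Nat.mem_divisors.mpr ⟨hfd.trans hd9240, by norm_num⟩) h2
      hf418 hmod19
    refine ⟨⟨hfd, hlist⟩, ?_⟩
    unfold j1Sign
    rcases hlist with rfl | rfl | rfl | rfl | rfl <;> rcases ha with ha | ha <;>
      rw [ha] at hmod ⊢ <;> (try (norm_num at hmod)) <;> (try norm_num)
  -- the counting numbers
  have hdegs : ∀ χ ∈ X', charDegree (χ : M → ℂ) = 20 ∨ charDegree (χ : M → ℂ) = 77 ∨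
      charDegree (χ : M → ℂ) = 210 ∨ charDegree (χ : M → ℂ) = 56 ∨
      charDegree (χ : M → ℂ) = 132 := fun χ hχ => (hX'deg χ hχ).1.2
  have hpos : ∀ f : ℕ, 0 < (X'.filter (fun χ : IrrCharacter M => charDegree (χ : M → ℂ) = f)).card → f ∣ d := by
    intro f hf
    obtain ⟨χ, hχ⟩ := Finset.card_pos.mp hf
    obtain ⟨hχX', hχf⟩ := Finset.mem_filter.mp hχ
    rw [← hχf]
    exact (hX'deg χ hχX').1.1
  have hS1 := j1_sum_fiber X' (fun χ : IrrCharacter M => charDegree (χ : M → ℂ)) hdegs (fun _ => (1 : ℕ))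
  have hS2 := j1_sum_fiber X' (fun χ : IrrCharacter M => charDegree (χ : M → ℂ)) hdegs (fun f => f ^ 2)
  have hS3 := j1_sum_fiber X' (fun χ : IrrCharacter M => charDegree (χ : M → ℂ)) hdegs j1Sign
  have hS3' : ∑ χ ∈ X', a χ * (charDegree (χ : M → ℂ) : ℤ) =
      ∑ χ ∈ X', j1Sign (charDegree (χ : M → ℂ)) :=
    Finset.sum_congr rfl (fun χ hχ => (hX'deg χ hχ).2)
  simp only [Finset.sum_const, smul_eq_mul, mul_one] at hS1
  refine ⟨(X'.filter (fun χ : IrrCharacter M => charDegree (χ : M → ℂ) = 20)).card,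
    (X'.filter (fun χ : IrrCharacter M => charDegree (χ : M → ℂ) = 77)).card,
    (X'.filter (fun χ : IrrCharacter M => charDegree (χ : M → ℂ) = 210)).card,
    (X'.filter (fun χ : IrrCharacter M => charDegree (χ : M → ℂ) = 56)).card,
    (X'.filter (fun χ : IrrCharacter M => charDegree (χ : M → ℂ) = 132)).card,
    charDegree (θ : M → ℂ), ε, ?_, hpos 20, hpos 77, hpos 210, hpos 56, hpos 132, hf0, hf0dvd,
    D.hε, ?_, ?_⟩
  · omega
  · rw [hrel, hXlin, hS3', hS3]
    simp only [j1Sign, nsmul_eq_mul]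
    norm_num
    ring
  · rw [hXsq, hYsq, hS2] at hXY
    simp only [smul_eq_mul] at hXY
    norm_num at hXY
    omega

end Cfsg.Agent.Lib.Helper41
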