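import Mathlib

set_option autoImplicit false

/-!
The arithmetic of the degree equation of the principal `19`-block for the orders `19 * d`,
`d ∣ 9240`, `d ≠ 9240` (S4274): only seven pairs `(d, e)` survive.
-/

namespace Cfsg.Agent.Lib.Helper41

set_option maxRecDepth 1000000 in
theorem j1_filter_aux : ∀ d ∈ Nat.divisors 9240, d ≠ 9240 → ∀ n20 ∈ Finset.range 6,
    ∀ n77 ∈ Finset.range (6 - n20), ∀ n210 ∈ Finset.range (6 - n20 - n77),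
    ∀ n56 ∈ Finset.range (6 - n20 - n77 - n210),
    ∀ n132 ∈ Finset.range (6 - n20 - n77 - n210 - n56),
    (n20 + n77 + n210 + n56 + n132 + 1) ∣ 6 → (n20 + n77 + n210 + n56 + n132 + 1) ∣ d →
    (0 < n20 → 20 ∣ d) → (0 < n77 → 77 ∣ d) → (0 < n210 → 210 ∣ d) → (0 < n56 → 56 ∣ d) →
    (0 < n132 → 132 ∣ d) →
    2 ≤ (1 + 20 * n20 + 77 * n77 + 210 * n210 - (56 * n56 + 132 * n132)) +
      ((56 * n56 + 132 * n132) - (1 + 20 * n20 + 77 * n77 + 210 * n210)) →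
    ((1 + 20 * n20 + 77 * n77 + 210 * n210 - (56 * n56 + 132 * n132)) +
      ((56 * n56 + 132 * n132) - (1 + 20 * n20 + 77 * n77 + 210 * n210))) ∣ 19 * d →
    1 + 400 * n20 + 5929 * n77 + 44100 * n210 + 3136 * n56 + 17424 * n132 +
      (18 / (n20 + n77 + n210 + n56 + n132 + 1)) *
        ((1 + 20 * n20 + 77 * n77 + 210 * n210 - (56 * n56 + 132 * n132)) +
          ((56 * n56 + 132 * n132) - (1 + 20 * n20 + 77 * n77 + 210 * n210))) ^ 2 ≤ 19 * d →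
    (d = 420 ∧ n20 + n77 + n210 + n56 + n132 + 1 = 2) ∨
    (d = 840 ∧ (n20 + n77 + n210 + n56 + n132 + 1 = 2 ∨ n20 + n77 + n210 + n56 + n132 + 1 = 3)) ∨
    (d = 1848 ∧ n20 + n77 + n210 + n56 + n132 + 1 = 3) ∨
    (d = 3080 ∧ n20 + n77 + n210 + n56 + n132 + 1 = 2) ∨
    (d = 4620 ∧ (n20 + n77 + n210 + n56 + n132 + 1 = 2 ∨ n20 + n77 + n210 + n56 + n132 + 1 = 6)) := by
  decide

/-- the surviving pairs `(d, e)`. -/
theorem j1_filter {d e n20 n77 n210 n56 n132 f0 : ℕ} {ε : ℤ} (hd : d ∣ 9240) (hd' : d ≠ 9240)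
    (he6 : e ∣ 6) (hed : e ∣ d)
    (hsum : n20 + n77 + n210 + n56 + n132 + 1 = e)
    (h20 : 0 < n20 → 20 ∣ d) (h77 : 0 < n77 → 77 ∣ d) (h210 : 0 < n210 → 210 ∣ d)
    (h56 : 0 < n56 → 56 ∣ d) (h132 : 0 < n132 → 132 ∣ d) (hf0 : 2 ≤ f0) (hf0d : f0 ∣ 19 * d)
    (hε : ε = 1 ∨ ε = -1)
    (heq : ε * (f0 : ℤ) = 1 + 20 * (n20 : ℤ) + 77 * (n77 : ℤ) + 210 * (n210 : ℤ) - 56 * (n56 : ℤ)
        - 132 * (n132 : ℤ))
    (hsq : 1 + 400 * n20 + 5929 * n77 + 44100 * n210 + 3136 * n56 + 17424 * n132 +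
        (18 / e) * f0 ^ 2 ≤ 19 * d) :
    (d = 420 ∧ e = 2) ∨ (d = 840 ∧ (e = 2 ∨ e = 3)) ∨ (d = 1848 ∧ e = 3) ∨
      (d = 3080 ∧ e = 2) ∨ (d = 4620 ∧ (e = 2 ∨ e = 6)) := by
  have hele : e ≤ 6 := Nat.le_of_dvd (by norm_num) he6
  have hf0eq : f0 = (1 + 20 * n20 + 77 * n77 + 210 * n210 - (56 * n56 + 132 * n132)) +
      ((56 * n56 + 132 * n132) - (1 + 20 * n20 + 77 * n77 + 210 * n210)) := by
    rcases hε with h | h <;> rw [h] at heq <;> omega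
  subst hsum
  rw [hf0eq] at hf0 hf0d hsq
  exact j1_filter_aux d (Nat.mem_divisors.mpr ⟨hd, by norm_num⟩) hd'
    n20 (Finset.mem_range.mpr (by omega)) n77 (Finset.mem_range.mpr (by omega))
    n210 (Finset.mem_range.mpr (by omega)) n56 (Finset.mem_range.mpr (by omega))
    n132 (Finset.mem_range.mpr (by omega)) he6 hed h20 h77 h210 h56 h132 hf0 hf0d hsq

end Cfsg.Agent.Lib.Helper41
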