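import Mathlib
import Cfsg.Agent.Lib.Helper41.J1Arith

set_option autoImplicit false

/-!
The Sylow data of the orders 7980, 15960, 35112, 58520, 87780 are contradictory (S4274).
-/

namespace Cfsg.Agent.Lib.Helper41

/-- the possible Sylow `5` data in order `7980`. -/
def j1L_7980_5 : List (ℕ × ℕ × ℕ × ℕ) :=
  [(21, 380, 190, 2), (21, 380, 95, 4), (266, 30, 15, 2)]

set_option maxRecDepth 100000 in
theorem j1_enum_7980_5 : ∀ k ∈ Finset.range 90, k ∣ 7980 →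
    J1Q 5 j1L_7980_5 k (7980 / k) ∧ J1Q 5 j1L_7980_5 (7980 / k) k := by
  decide

theorem j1_mem_7980_5 {n N C e : ℕ} (h : J1Loc 7980 5 n N C e) :
    (n, N, C, e) ∈ j1L_7980_5 :=
  j1_loc_mem 7980 90 5 j1L_7980_5 (by norm_num) (by norm_num) (by norm_num) j1_enum_7980_5 h

/-- the possible Sylow `7` data in order `7980`. -/
def j1L_7980_7 : List (ℕ × ℕ × ℕ × ℕ) :=
  [(57, 140, 70, 2), (190, 42, 21, 2), (190, 42, 14, 3), (190, 42, 7, 6)]

set_option maxRecDepth 100000 in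
theorem j1_enum_7980_7 : ∀ k ∈ Finset.range 90, k ∣ 7980 →
    J1Q 7 j1L_7980_7 k (7980 / k) ∧ J1Q 7 j1L_7980_7 (7980 / k) k := by
  decide

theorem j1_mem_7980_7 {n N C e : ℕ} (h : J1Loc 7980 7 n N C e) :
    (n, N, C, e) ∈ j1L_7980_7 :=
  j1_loc_mem 7980 90 7 j1L_7980_7 (by norm_num) (by norm_num) (by norm_num) j1_enum_7980_7 h

/-- the possible Sylow `19` data in order `7980`. -/
def j1L_7980_19 : List (ℕ × ℕ × ℕ × ℕ) :=
  [(20, 399, 133, 3), (210, 38, 19, 2)]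

set_option maxRecDepth 100000 in
theorem j1_enum_7980_19 : ∀ k ∈ Finset.range 90, k ∣ 7980 →
    J1Q 19 j1L_7980_19 k (7980 / k) ∧ J1Q 19 j1L_7980_19 (7980 / k) k := by
  decide

theorem j1_mem_7980_19 {n N C e : ℕ} (h : J1Loc 7980 19 n N C e) :
    (n, N, C, e) ∈ j1L_7980_19 :=
  j1_loc_mem 7980 90 19 j1L_7980_19 (by norm_num) (by norm_num) (by norm_num) j1_enum_7980_19 h

set_option maxRecDepth 100000 in
theorem j1_combo_7980 : ∀ tp ∈ j1L_7980_5, ∀ tq ∈ j1L_7980_7, ∀ t19 ∈ j1L_7980_19,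
    t19.2.2.2 ∈ [2] → J1G3 7980 5 7 tp tq t19 → False := by
  decide

/-- no consistent Sylow data in order `7980`. -/
theorem j1_kill_7980 {n1 N1 C1 e1 n2 N2 C2 e2 n3 N3 C3 e3 : ℕ}
    (h1 : J1Loc 7980 5 n1 N1 C1 e1) (h2 : J1Loc 7980 7 n2 N2 C2 e2)
    (h3 : J1Loc 7980 19 n3 N3 C3 e3) (he : e3 ∈ [2])
    (hG : J1G3 7980 5 7 (n1, N1, C1, e1) (n2, N2, C2, e2) (n3, N3, C3, e3)) : False :=
  j1_combo_7980 _ (j1_mem_7980_5 h1) _ (j1_mem_7980_7 h2) _ (j1_mem_7980_19 h3) he hG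

/-- the possible Sylow `3` data in order `15960`. -/
def j1L_15960_3 : List (ℕ × ℕ × ℕ × ℕ) :=
  [(19, 840, 420, 2), (28, 570, 285, 2), (70, 228, 114, 2), (76, 210, 105, 2), (133, 120, 60, 2), (190, 84, 42, 2), (532, 30, 15, 2), (1330, 12, 6, 2)]

set_option maxRecDepth 100000 in
theorem j1_enum_15960_3 : ∀ k ∈ Finset.range 127, k ∣ 15960 →
    J1Q 3 j1L_15960_3 k (15960 / k) ∧ J1Q 3 j1L_15960_3 (15960 / k) k := by
  decide

theorem j1_mem_15960_3 {n N C e : ℕ} (h : J1Loc 15960 3 n N C e) :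
    (n, N, C, e) ∈ j1L_15960_3 :=
  j1_loc_mem 15960 127 3 j1L_15960_3 (by norm_num) (by norm_num) (by norm_num) j1_enum_15960_3 h

/-- the possible Sylow `5` data in order `15960`. -/
def j1L_15960_5 : List (ℕ × ℕ × ℕ × ℕ) :=
  [(21, 760, 380, 2), (21, 760, 190, 4), (76, 210, 105, 2), (266, 60, 30, 2), (266, 60, 15, 4), (1596, 10, 5, 2)]

set_option maxRecDepth 100000 in
theorem j1_enum_15960_5 : ∀ k ∈ Finset.range 127, k ∣ 15960 →
    J1Q 5 j1L_15960_5 k (15960 / k) ∧ J1Q 5 j1L_15960_5 (15960 / k) k := by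
  decide

theorem j1_mem_15960_5 {n N C e : ℕ} (h : J1Loc 15960 5 n N C e) :
    (n, N, C, e) ∈ j1L_15960_5 :=
  j1_loc_mem 15960 127 5 j1L_15960_5 (by norm_num) (by norm_num) (by norm_num) j1_enum_15960_5 h

/-- the possible Sylow `7` data in order `15960`. -/
def j1L_15960_7 : List (ℕ × ℕ × ℕ × ℕ) :=
  [(57, 280, 140, 2), (190, 84, 42, 2), (190, 84, 28, 3), (190, 84, 14, 6)]

set_option maxRecDepth 100000 in
theorem j1_enum_15960_7 : ∀ k ∈ Finset.range 127, k ∣ 15960 →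
    J1Q 7 j1L_15960_7 k (15960 / k) ∧ J1Q 7 j1L_15960_7 (15960 / k) k := by
  decide

theorem j1_mem_15960_7 {n N C e : ℕ} (h : J1Loc 15960 7 n N C e) :
    (n, N, C, e) ∈ j1L_15960_7 :=
  j1_loc_mem 15960 127 7 j1L_15960_7 (by norm_num) (by norm_num) (by norm_num) j1_enum_15960_7 h

/-- the possible Sylow `19` data in order `15960`. -/
def j1L_15960_19 : List (ℕ × ℕ × ℕ × ℕ) :=
  [(20, 798, 399, 2), (20, 798, 266, 3), (20, 798, 133, 6), (210, 76, 38, 2)]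

set_option maxRecDepth 100000 in
theorem j1_enum_15960_19 : ∀ k ∈ Finset.range 127, k ∣ 15960 →
    J1Q 19 j1L_15960_19 k (15960 / k) ∧ J1Q 19 j1L_15960_19 (15960 / k) k := by
  decide

theorem j1_mem_15960_19 {n N C e : ℕ} (h : J1Loc 15960 19 n N C e) :
    (n, N, C, e) ∈ j1L_15960_19 :=
  j1_loc_mem 15960 127 19 j1L_15960_19 (by norm_num) (by norm_num) (by norm_num) j1_enum_15960_19 h

set_option maxRecDepth 100000 in
theorem j1_combo_15960 : ∀ tp ∈ j1L_15960_3, ∀ tq ∈ j1L_15960_5, ∀ tr ∈ j1L_15960_7,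
    ∀ t19 ∈ j1L_15960_19, t19.2.2.2 ∈ [2, 3] → J1G4 15960 3 5 7 tp tq tr t19 → False := by
  decide

/-- no consistent Sylow data in order `15960`. -/
theorem j1_kill_15960 {n1 N1 C1 e1 n2 N2 C2 e2 n4 N4 C4 e4 n3 N3 C3 e3 : ℕ}
    (h1 : J1Loc 15960 3 n1 N1 C1 e1) (h2 : J1Loc 15960 5 n2 N2 C2 e2)
    (h4 : J1Loc 15960 7 n4 N4 C4 e4)
    (h3 : J1Loc 15960 19 n3 N3 C3 e3) (he : e3 ∈ [2, 3])
    (hG : J1G4 15960 3 5 7 (n1, N1, C1, e1) (n2, N2, C2, e2) (n4, N4, C4, e4)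
      (n3, N3, C3, e3)) : False :=
  j1_combo_15960 _ (j1_mem_15960_3 h1) _ (j1_mem_15960_5 h2) _ (j1_mem_15960_7 h4) _
    (j1_mem_15960_19 h3) he hG

/-- the possible Sylow `7` data in order `35112`. -/
def j1L_35112_7 : List (ℕ × ℕ × ℕ × ℕ) :=
  [(22, 1596, 798, 2), (22, 1596, 532, 3), (22, 1596, 266, 6), (57, 616, 308, 2), (1254, 28, 14, 2)]

set_option maxRecDepth 100000 in
theorem j1_enum_35112_7 : ∀ k ∈ Finset.range 188, k ∣ 35112 →
    J1Q 7 j1L_35112_7 k (35112 / k) ∧ J1Q 7 j1L_35112_7 (35112 / k) k := by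
  decide

theorem j1_mem_35112_7 {n N C e : ℕ} (h : J1Loc 35112 7 n N C e) :
    (n, N, C, e) ∈ j1L_35112_7 :=
  j1_loc_mem 35112 188 7 j1L_35112_7 (by norm_num) (by norm_num) (by norm_num) j1_enum_35112_7 h

/-- the possible Sylow `11` data in order `35112`. -/
def j1L_35112_11 : List (ℕ × ℕ × ℕ × ℕ) :=
  [(133, 264, 132, 2), (1596, 22, 11, 2)]

set_option maxRecDepth 100000 in
theorem j1_enum_35112_11 : ∀ k ∈ Finset.range 188, k ∣ 35112 →
    J1Q 11 j1L_35112_11 k (35112 / k) ∧ J1Q 11 j1L_35112_11 (35112 / k) k := by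
  decide

theorem j1_mem_35112_11 {n N C e : ℕ} (h : J1Loc 35112 11 n N C e) :
    (n, N, C, e) ∈ j1L_35112_11 :=
  j1_loc_mem 35112 188 11 j1L_35112_11 (by norm_num) (by norm_num) (by norm_num) j1_enum_35112_11 h

/-- the possible Sylow `19` data in order `35112`. -/
def j1L_35112_19 : List (ℕ × ℕ × ℕ × ℕ) :=
  [(77, 456, 228, 2), (77, 456, 152, 3), (77, 456, 76, 6)]

set_option maxRecDepth 100000 in
theorem j1_enum_35112_19 : ∀ k ∈ Finset.range 188, k ∣ 35112 →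
    J1Q 19 j1L_35112_19 k (35112 / k) ∧ J1Q 19 j1L_35112_19 (35112 / k) k := by
  decide

theorem j1_mem_35112_19 {n N C e : ℕ} (h : J1Loc 35112 19 n N C e) :
    (n, N, C, e) ∈ j1L_35112_19 :=
  j1_loc_mem 35112 188 19 j1L_35112_19 (by norm_num) (by norm_num) (by norm_num) j1_enum_35112_19 h

set_option maxRecDepth 100000 in
theorem j1_combo_35112 : ∀ tp ∈ j1L_35112_7, ∀ tq ∈ j1L_35112_11, ∀ t19 ∈ j1L_35112_19,
    t19.2.2.2 ∈ [3] → J1G3 35112 7 11 tp tq t19 → False := by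
  decide

/-- no consistent Sylow data in order `35112`. -/
theorem j1_kill_35112 {n1 N1 C1 e1 n2 N2 C2 e2 n3 N3 C3 e3 : ℕ}
    (h1 : J1Loc 35112 7 n1 N1 C1 e1) (h2 : J1Loc 35112 11 n2 N2 C2 e2)
    (h3 : J1Loc 35112 19 n3 N3 C3 e3) (he : e3 ∈ [3])
    (hG : J1G3 35112 7 11 (n1, N1, C1, e1) (n2, N2, C2, e2) (n3, N3, C3, e3)) : False :=
  j1_combo_35112 _ (j1_mem_35112_7 h1) _ (j1_mem_35112_11 h2) _ (j1_mem_35112_19 h3) he hG

/-- the possible Sylow `5` data in order `58520`. -/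
def j1L_58520_5 : List (ℕ × ℕ × ℕ × ℕ) :=
  [(76, 770, 385, 2), (266, 220, 110, 2), (266, 220, 55, 4), (836, 70, 35, 2), (2926, 20, 10, 2), (2926, 20, 5, 4)]

set_option maxRecDepth 100000 in
theorem j1_enum_58520_5 : ∀ k ∈ Finset.range 242, k ∣ 58520 →
    J1Q 5 j1L_58520_5 k (58520 / k) ∧ J1Q 5 j1L_58520_5 (58520 / k) k := by
  decide

theorem j1_mem_58520_5 {n N C e : ℕ} (h : J1Loc 58520 5 n N C e) :
    (n, N, C, e) ∈ j1L_58520_5 :=
  j1_loc_mem 58520 242 5 j1L_58520_5 (by norm_num) (by norm_num) (by norm_num) j1_enum_58520_5 h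

/-- the possible Sylow `7` data in order `58520`. -/
def j1L_58520_7 : List (ℕ × ℕ × ℕ × ℕ) :=
  [(22, 2660, 1330, 2), (190, 308, 154, 2), (4180, 14, 7, 2)]

set_option maxRecDepth 100000 in
theorem j1_enum_58520_7 : ∀ k ∈ Finset.range 242, k ∣ 58520 →
    J1Q 7 j1L_58520_7 k (58520 / k) ∧ J1Q 7 j1L_58520_7 (58520 / k) k := by
  decide

theorem j1_mem_58520_7 {n N C e : ℕ} (h : J1Loc 58520 7 n N C e) :
    (n, N, C, e) ∈ j1L_58520_7 :=
  j1_loc_mem 58520 242 7 j1L_58520_7 (by norm_num) (by norm_num) (by norm_num) j1_enum_58520_7 h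

/-- the possible Sylow `19` data in order `58520`. -/
def j1L_58520_19 : List (ℕ × ℕ × ℕ × ℕ) :=
  [(20, 2926, 1463, 2), (77, 760, 380, 2), (1540, 38, 19, 2)]

set_option maxRecDepth 100000 in
theorem j1_enum_58520_19 : ∀ k ∈ Finset.range 242, k ∣ 58520 →
    J1Q 19 j1L_58520_19 k (58520 / k) ∧ J1Q 19 j1L_58520_19 (58520 / k) k := by
  decide

theorem j1_mem_58520_19 {n N C e : ℕ} (h : J1Loc 58520 19 n N C e) :
    (n, N, C, e) ∈ j1L_58520_19 :=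
  j1_loc_mem 58520 242 19 j1L_58520_19 (by norm_num) (by norm_num) (by norm_num) j1_enum_58520_19 h

set_option maxRecDepth 100000 in
theorem j1_combo_58520 : ∀ tp ∈ j1L_58520_5, ∀ tq ∈ j1L_58520_7, ∀ t19 ∈ j1L_58520_19,
    t19.2.2.2 ∈ [2] → J1G3 58520 5 7 tp tq t19 → False := by
  decide

/-- no consistent Sylow data in order `58520`. -/
theorem j1_kill_58520 {n1 N1 C1 e1 n2 N2 C2 e2 n3 N3 C3 e3 : ℕ}
    (h1 : J1Loc 58520 5 n1 N1 C1 e1) (h2 : J1Loc 58520 7 n2 N2 C2 e2)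
    (h3 : J1Loc 58520 19 n3 N3 C3 e3) (he : e3 ∈ [2])
    (hG : J1G3 58520 5 7 (n1, N1, C1, e1) (n2, N2, C2, e2) (n3, N3, C3, e3)) : False :=
  j1_combo_58520 _ (j1_mem_58520_5 h1) _ (j1_mem_58520_7 h2) _ (j1_mem_58520_19 h3) he hG

/-- the possible Sylow `5` data in order `87780`. -/
def j1L_87780_5 : List (ℕ × ℕ × ℕ × ℕ) :=
  [(21, 4180, 2090, 2), (21, 4180, 1045, 4), (66, 1330, 665, 2), (231, 380, 190, 2), (231, 380, 95, 4), (266, 330, 165, 2), (2926, 30, 15, 2)]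

set_option maxRecDepth 100000 in
theorem j1_enum_87780_5 : ∀ k ∈ Finset.range 297, k ∣ 87780 →
    J1Q 5 j1L_87780_5 k (87780 / k) ∧ J1Q 5 j1L_87780_5 (87780 / k) k := by
  decide

theorem j1_mem_87780_5 {n N C e : ℕ} (h : J1Loc 87780 5 n N C e) :
    (n, N, C, e) ∈ j1L_87780_5 :=
  j1_loc_mem 87780 297 5 j1L_87780_5 (by norm_num) (by norm_num) (by norm_num) j1_enum_87780_5 h

/-- the possible Sylow `7` data in order `87780`. -/
def j1L_87780_7 : List (ℕ × ℕ × ℕ × ℕ) :=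
  [(22, 3990, 1995, 2), (22, 3990, 1330, 3), (22, 3990, 665, 6), (57, 1540, 770, 2), (190, 462, 231, 2), (190, 462, 154, 3), (190, 462, 77, 6), (330, 266, 133, 2), (1254, 70, 35, 2), (4180, 21, 7, 3)]

set_option maxRecDepth 100000 in
theorem j1_enum_87780_7 : ∀ k ∈ Finset.range 297, k ∣ 87780 →
    J1Q 7 j1L_87780_7 k (87780 / k) ∧ J1Q 7 j1L_87780_7 (87780 / k) k := by
  decide

theorem j1_mem_87780_7 {n N C e : ℕ} (h : J1Loc 87780 7 n N C e) :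
    (n, N, C, e) ∈ j1L_87780_7 :=
  j1_loc_mem 87780 297 7 j1L_87780_7 (by norm_num) (by norm_num) (by norm_num) j1_enum_87780_7 h

/-- the possible Sylow `19` data in order `87780`. -/
def j1L_87780_19 : List (ℕ × ℕ × ℕ × ℕ) :=
  [(20, 4389, 1463, 3), (77, 1140, 570, 2), (77, 1140, 380, 3), (77, 1140, 190, 6), (210, 418, 209, 2), (1540, 57, 19, 3)]

set_option maxRecDepth 100000 in
theorem j1_enum_87780_19 : ∀ k ∈ Finset.range 297, k ∣ 87780 →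
    J1Q 19 j1L_87780_19 k (87780 / k) ∧ J1Q 19 j1L_87780_19 (87780 / k) k := by
  decide

theorem j1_mem_87780_19 {n N C e : ℕ} (h : J1Loc 87780 19 n N C e) :
    (n, N, C, e) ∈ j1L_87780_19 :=
  j1_loc_mem 87780 297 19 j1L_87780_19 (by norm_num) (by norm_num) (by norm_num) j1_enum_87780_19 h

set_option maxRecDepth 100000 in
theorem j1_combo_87780 : ∀ tp ∈ j1L_87780_5, ∀ tq ∈ j1L_87780_7, ∀ t19 ∈ j1L_87780_19,
    t19.2.2.2 ∈ [2, 6] → J1G3 87780 5 7 tp tq t19 → False := by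
  decide

/-- no consistent Sylow data in order `87780`. -/
theorem j1_kill_87780 {n1 N1 C1 e1 n2 N2 C2 e2 n3 N3 C3 e3 : ℕ}
    (h1 : J1Loc 87780 5 n1 N1 C1 e1) (h2 : J1Loc 87780 7 n2 N2 C2 e2)
    (h3 : J1Loc 87780 19 n3 N3 C3 e3) (he : e3 ∈ [2, 6])
    (hG : J1G3 87780 5 7 (n1, N1, C1, e1) (n2, N2, C2, e2) (n3, N3, C3, e3)) : False :=
  j1_combo_87780 _ (j1_mem_87780_5 h1) _ (j1_mem_87780_7 h2) _ (j1_mem_87780_19 h3) he hG

end Cfsg.Agent.Lib.Helper41
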