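import Mathlib

set_option autoImplicit false

/-!
Basic tools for prime graph arguments (used for S2490):
adjacency from commuting elements, fixed points of prime order groups acting on
`r`-groups, `N(P)/C(P)` for `P` of prime order.
-/

namespace Cfsg.Agent.Lib.Helper41

open Subgroup
open scoped Pointwise

/-- adjacency in the prime graph: there is an element of order `p * q`. -/
def Pg7Adj (G : Type*) [Group G] (p q : ℕ) : Prop := ∃ g : G, orderOf g = p * q

theorem pg7Adj_comm {G : Type*} [Group G] {p q : ℕ} : Pg7Adj G p q ↔ Pg7Adj G q p := by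
  unfold Pg7Adj; rw [mul_comm]

theorem pg7Adj_of_commute {G : Type*} [Group G] {p q : ℕ} {x y : G} (hxy : Commute x y)
    (hx : orderOf x = p) (hy : orderOf y = q) (hpq : Nat.Coprime p q) : Pg7Adj G p q :=
  ⟨x * y, by
    rw [hxy.orderOf_mul_eq_mul_orderOf_of_coprime (by rw [hx, hy]; exact hpq), hx, hy]⟩

theorem pg7Adj_of_dvd_orderOf {G : Type*} [Group G] [Finite G] {p q : ℕ} {x : G}
    (h : p * q ∣ orderOf x) : Pg7Adj G p q := by
  have ho : 0 < orderOf x := orderOf_pos x
  obtain ⟨n, hn⟩ := h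
  have hn0 : n ≠ 0 := by
    rintro rfl
    rw [mul_zero] at hn
    omega
  refine ⟨x ^ n, ?_⟩
  rw [orderOf_pow_of_dvd hn0 ⟨p * q, by rw [hn]; ring⟩, hn]
  exact Nat.mul_div_cancel _ (Nat.pos_of_ne_zero hn0)

theorem pg7Adj_of_subgroup {G : Type*} [Group G] (H : Subgroup G) {p q : ℕ}
    (h : Pg7Adj H p q) : Pg7Adj G p q := by
  obtain ⟨g, hg⟩ := h
  exact ⟨g, by rw [Subgroup.orderOf_coe]; exact hg⟩

/-- an element of prime power order `r ^ k ≠ 1` has a power of order `r`. -/
theorem pg7_exists_pow_orderOf_eq {G : Type*} [Group G] {r : ℕ} [Fact r.Prime] {y : G}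
    {k : ℕ} (hy : orderOf y = r ^ k) (hy1 : y ≠ 1) : ∃ m : ℕ, orderOf (y ^ m) = r := by
  have hr : r.Prime := Fact.out
  have hk : k ≠ 0 := by
    rintro rfl
    rw [pow_zero, orderOf_eq_one_iff] at hy
    exact hy1 hy
  obtain ⟨j, rfl⟩ := Nat.exists_eq_succ_of_ne_zero hk
  refine ⟨r ^ j, ?_⟩
  rw [orderOf_pow_of_dvd (pow_ne_zero _ hr.ne_zero) (by rw [hy]; exact pow_dvd_pow _ (Nat.le_succ j)),
    hy, pow_succ]
  exact Nat.mul_div_cancel_left _ (pow_pos hr.pos _)

/-- A subgroup `D` of prime order `d` normalizing an `r`-group `R` with `d ∤ |R| - 1`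
gives an element of order `d * r`. -/
theorem pg7Adj_of_normalizes {G : Type*} [Group G] [Finite G] {d r : ℕ} [Fact d.Prime]
    [Fact r.Prime] (hdr : d ≠ r) (D R : Subgroup G) (hD : Nat.card D = d) (hR : IsPGroup r R)
    (hDR : D ≤ normalizer (R : Set G)) (h : ¬ d ∣ Nat.card R - 1) : Pg7Adj G d r := by
  have hdp : d.Prime := Fact.out
  have hrp : r.Prime := Fact.out
  have hDp : IsPGroup d D := IsPGroup.of_card (n := 1) (by rw [hD, pow_one])
  let _ : MulAction D R := MulAction.compHom R (Subgroup.inclusion hDR)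
  have hsmul : ∀ (g : D) (y : R), ((g • y : R) : G) = (g : G) * (y : G) * (g : G)⁻¹ := by
    intro g y; rfl
  have hmod := hDp.card_modEq_card_fixedPoints R
  -- there is a nontrivial fixed point
  have hex : ∃ y : R, y ∈ MulAction.fixedPoints D R ∧ y ≠ 1 := by
    by_contra hcon
    push Not at hcon
    have hfix : MulAction.fixedPoints D R = {1} := by
      ext y
      constructor
      · intro hy; exact hcon y hy
      · rintro rfl
        intro g
        apply Subtype.ext
        rw [hsmul]; simp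
    rw [hfix] at hmod
    simp only [Nat.card_eq_fintype_card, Fintype.card_ofSubsingleton, Set.mem_singleton_iff,
      Nat.card_unique] at hmod
    have h1 : 1 ≤ Nat.card R := Nat.card_pos
    apply h
    exact (Nat.modEq_iff_dvd' h1).mp hmod.symm
  obtain ⟨y, hyfix, hy1⟩ := hex
  -- an element of order d in D
  obtain ⟨g, hg⟩ := exists_prime_orderOf_dvd_card' d (G := D) (by rw [hD])
  have hcomm : Commute (g : G) (y : G) := by
    have := hyfix g
    have h2 := congrArg (fun z : R => (z : G)) this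
    simp only [hsmul] at h2
    unfold Commute SemiconjBy
    calc (g : G) * (y : G) = ((g : G) * (y : G) * (g : G)⁻¹) * (g : G) := by group
      _ = (y : G) * (g : G) := by rw [h2]
  obtain ⟨k, hk⟩ := (IsPGroup.iff_orderOf.mp hR) y
  obtain ⟨m, hm⟩ := pg7_exists_pow_orderOf_eq hk hy1
  have hgo : orderOf (g : G) = d := by rw [Subgroup.orderOf_coe]; exact hg
  have hyo : orderOf ((y : G) ^ m) = r := by
    rw [← Subgroup.coe_pow, Subgroup.orderOf_coe]; exact hm
  exact pg7Adj_of_commute (hcomm.pow_right m) hgo hyo ((Nat.coprime_primes hdp hrp).mpr hdr)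

/-- Coprime action: a `d`-group `D` normalizes some Sylow `r`-subgroup of a normal subgroup `L`
of order prime to `d`. -/
theorem pg7_exists_sylow_normalized {G : Type*} [Group G] [Finite G] (L : Subgroup G) [L.Normal]
    (D : Subgroup G) {d : ℕ} [Fact d.Prime] (hD : IsPGroup d D) (hdL : ¬ d ∣ Nat.card L)
    (r : ℕ) [Fact r.Prime] :
    ∃ R : Sylow r L,
      D ≤ normalizer (((R : Subgroup L).map L.subtype : Subgroup G) : Set G) := by
  let _ : MulAction D (Sylow r L) :=
    MulAction.compHom _ ((MulAut.conjNormal (H := L)).comp D.subtype)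
  have hcard : ¬ d ∣ Nat.card (Sylow r L) := by
    intro h
    obtain ⟨R0⟩ : Nonempty (Sylow r L) := inferInstance
    exact hdL ((h.trans R0.card_dvd_index).trans (Subgroup.index_dvd_card _))
  obtain ⟨R, hR⟩ := hD.nonempty_fixed_point_of_prime_not_dvd_card (Sylow r L) hcard
  refine ⟨R, fun g hg => ?_⟩
  have hfix : (MulAut.conjNormal g : MulAut L) • R = R := hR ⟨g, hg⟩
  have hfix' : (MulAut.conjNormal g : MulAut L) • (R : Subgroup L) = (R : Subgroup L) := by
    have := congrArg (fun S : Sylow r L => (S : Subgroup L)) hfix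
    simp only [Sylow.pointwise_smul_def] at this
    exact this
  have key : ∀ y : L, y ∈ (R : Subgroup L) ↔
      (MulAut.conjNormal g : MulAut L) y ∈ (R : Subgroup L) := by
    intro y
    conv_rhs => rw [← hfix']
    exact (Subgroup.smul_mem_pointwise_smul_iff (a := (MulAut.conjNormal g : MulAut L))
      (S := (R : Subgroup L)) (x := y)).symm
  rw [mem_normalizer_iff]
  intro h
  constructor
  · rintro ⟨y, hy, rfl⟩
    refine ⟨(MulAut.conjNormal g : MulAut L) y, (key y).mp hy, ?_⟩
    simp [MulAut.conjNormal_apply]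
  · rintro ⟨z, hz, hzh⟩
    have hhL : h ∈ L := by
      have h1 : g⁻¹ * (g * h * g⁻¹) * g⁻¹⁻¹ ∈ L :=
        ‹L.Normal›.conj_mem _ (by rw [← hzh]; exact z.2) g⁻¹
      have h2 : g⁻¹ * (g * h * g⁻¹) * g⁻¹⁻¹ = h := by group
      rwa [h2] at h1
    refine ⟨⟨h, hhL⟩, ?_, rfl⟩
    show (⟨h, hhL⟩ : L) ∈ (R : Subgroup L)
    rw [key]
    have : (MulAut.conjNormal g : MulAut L) ⟨h, hhL⟩ = z := by
      apply Subtype.ext
      rw [MulAut.conjNormal_apply]
      exact hzh.symm
    rw [this]; exact hz

/-- `|N(P)| = |C(P)| * e` with `e ∣ p - 1` for `P` of prime order `p`. -/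
theorem pg7_card_normalizer_prime {G : Type*} [Group G] [Finite G] {p : ℕ} [Fact p.Prime]
    (P : Subgroup G) (hP : Nat.card P = p) :
    ∃ e, e ∣ p - 1 ∧
      Nat.card (normalizer (P : Set G)) = Nat.card (centralizer (P : Set G)) * e := by
  have hp : p.Prime := Fact.out
  have hcyc : IsCyclic P := isCyclic_of_prime_card hP
  have key := card_dvd_of_injective _ (QuotientGroup.kerLift_injective P.normalizerMonoidHom)
  rw [normalizerMonoidHom_ker, ← index, hcyc.card_mulAut, hP, Nat.totient_prime hp] at key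
  refine ⟨_, key, ?_⟩
  have h1 := Subgroup.card_mul_index ((centralizer (P : Set G)).subgroupOf (normalizer (P : Set G)))
  rw [← h1]
  congr 1
  exact Nat.card_congr (Subgroup.subgroupOfEquivOfLe
    (Subgroup.centralizer_le_normalizer (P : Set G))).toEquiv

theorem pg7_not_dvd_card_centralizer {G : Type*} [Group G] [Finite G] {p r : ℕ} [Fact p.Prime]
    [Fact r.Prime] (hpr : p ≠ r) (P : Subgroup G) (hP : Nat.card P = p)
    (h : ¬ Pg7Adj G p r) : ¬ r ∣ Nat.card (centralizer (P : Set G)) := by
  intro hdvd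
  obtain ⟨y, hy⟩ := exists_prime_orderOf_dvd_card' r (G := centralizer (P : Set G)) hdvd
  obtain ⟨x, hx⟩ := exists_prime_orderOf_dvd_card' p (G := P) (by rw [hP])
  apply h
  have hc : Commute (x : G) (y : G) := by
    have := y.2
    rw [mem_centralizer_iff] at this
    exact this x x.2
  exact pg7Adj_of_commute hc (by rw [Subgroup.orderOf_coe]; exact hx)
    (by rw [Subgroup.orderOf_coe]; exact hy)
    ((Nat.coprime_primes Fact.out Fact.out).mpr hpr)

theorem pg7_card_normalizer_mul_card_sylow {G : Type*} [Group G] [Finite G] {p : ℕ}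
    [Fact p.Prime] (P : Sylow p G) :
    Nat.card (normalizer ((P : Subgroup G) : Set G)) * Nat.card (Sylow p G) = Nat.card G := by
  rw [P.card_eq_index_normalizer]
  exact Subgroup.card_mul_index _

end Cfsg.Agent.Lib.Helper41
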