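import Mathlib
import Cfsg.Agent.Lib.Helper41.PG7Basic

set_option autoImplicit false

/-!
Sylow subgroups of prime order and the prime graph (used for S2490).
-/

namespace Cfsg.Agent.Lib.Helper41

open Subgroup
open scoped Pointwise

theorem pg7_card_sylow_of_eq {G : Type*} [Group G] [Finite G] {p k m : ℕ} [Fact p.Prime]
    (hG : Nat.card G = p ^ k * m) (hm : ¬ p ∣ m) (P : Sylow p G) : Nat.card P = p ^ k := by
  have hp : p.Prime := Fact.out
  have hm0 : m ≠ 0 := by rintro rfl; exact hm (dvd_zero _)
  rw [P.card_eq_multiplicity, hG, Nat.factorization_mul (pow_ne_zero _ hp.ne_zero) hm0,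
    hp.factorization_pow]
  simp [Nat.factorization_eq_zero_of_not_dvd hm]

/-- if `p * r` is an element order and Sylow `p`-subgroups have order `p`, then some Sylow
`p`-subgroup has centralizer of order divisible by `r`. -/
theorem pg7_exists_sylow_of_adj {G : Type*} [Group G] [Finite G] {p r m : ℕ} [Fact p.Prime]
    (hG : Nat.card G = p * m) (hm : ¬ p ∣ m) (hr : r ≠ 0) (h : Pg7Adj G p r) :
    ∃ P : Sylow p G, r ∣ Nat.card (centralizer ((P : Subgroup G) : Set G)) := by
  have hp : p.Prime := Fact.out
  obtain ⟨g, hg⟩ := h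
  have hx : orderOf (g ^ r) = p := by
    rw [orderOf_pow_of_dvd hr (by rw [hg]; exact dvd_mul_left _ _), hg]
    exact Nat.mul_div_cancel _ (Nat.pos_of_ne_zero hr)
  have hy : orderOf (g ^ p) = r := by
    rw [orderOf_pow_of_dvd hp.ne_zero (by rw [hg]; exact dvd_mul_right _ _), hg]
    exact Nat.mul_div_cancel_left _ hp.pos
  have hcard : Nat.card (zpowers (g ^ r)) = p ^ (Nat.card G).factorization p := by
    rw [Nat.card_zpowers, hx, hG, Nat.factorization_mul hp.ne_zero
      (by rintro rfl; exact hm (dvd_zero _)), Finsupp.add_apply, hp.factorization_self,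
      Nat.factorization_eq_zero_of_not_dvd hm, pow_one]
  refine ⟨Sylow.ofCard (zpowers (g ^ r)) hcard, ?_⟩
  have hmem : g ^ p ∈ centralizer (((Sylow.ofCard (zpowers (g ^ r)) hcard : Sylow p G) :
      Subgroup G) : Set G) := by
    rw [mem_centralizer_iff]
    intro z hz
    have hz' : z ∈ zpowers (g ^ r) := hz
    obtain ⟨n, rfl⟩ := mem_zpowers_iff.mp hz'
    have : Commute (g ^ p) ((g ^ r) ^ n) := ((Commute.refl g).pow_pow p r).zpow_right n
    exact this.symm.eq
  have := orderOf_dvd_natCard (⟨g ^ p, hmem⟩ : centralizer (((Sylow.ofCard (zpowers (g ^ r)) hcard :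
      Sylow p G) : Subgroup G) : Set G))
  rw [← Subgroup.orderOf_coe] at this
  exact hy ▸ this

/-- Coprime action of a subgroup `D` of prime order `p` on a normal subgroup `K`: `p` is adjacent
to every prime `r` dividing `|K|`, provided `p ∤ r ^ k - 1` for the relevant powers. -/
theorem pg7_adj_of_normal_coprime {H : Type*} [Group H] [Finite H] {p r : ℕ}
    [Fact p.Prime] [Fact r.Prime] (hpr : p ≠ r) (D : Subgroup H) (hD : Nat.card D = p)
    (K : Subgroup H) [K.Normal] (hpK : ¬ p ∣ Nat.card K) (hrK : r ∣ Nat.card K)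
    (hfp : ∀ k, 1 ≤ k → r ^ k ∣ Nat.card K → ¬ p ∣ r ^ k - 1) : Pg7Adj H p r := by
  have hp : p.Prime := Fact.out
  have hrp : r.Prime := Fact.out
  have hDp : IsPGroup p D := IsPGroup.of_card (n := 1) (by rw [hD, pow_one])
  obtain ⟨R, hR⟩ := pg7_exists_sylow_normalized K D hDp hpK r
  set Rm : Subgroup H := (R : Subgroup K).map K.subtype with hRm
  have hcardRm : Nat.card Rm = Nat.card R :=
    Nat.card_congr ((R : Subgroup K).equivMapOfInjective K.subtype K.subtype_injective).symm.toEquiv
  obtain ⟨k, hk⟩ := IsPGroup.exists_card_eq R.2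
  have hk1 : 1 ≤ k := by
    by_contra hcon
    have hk0 : k = 0 := by omega
    rw [hk0, pow_zero] at hk
    have : r ∣ Nat.card R := by
      rw [R.card_eq_multiplicity]
      exact dvd_pow_self r ((Nat.Prime.factorization_pos_of_dvd hrp Nat.card_pos.ne' hrK).ne')
    rw [hk] at this
    exact hrp.one_lt.ne' (Nat.dvd_one.mp this)
  have hdvd : r ^ k ∣ Nat.card K := by
    rw [← hk]
    exact Subgroup.card_subgroup_dvd_card (R : Subgroup K)
  refine pg7Adj_of_normalizes hpr D Rm hD (R.2.map K.subtype) hR ?_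
  rw [hcardRm, hk]
  exact hfp k hk1 hdvd

/-- Burnside transfer + coprime action: if `N(P) ≤ C(P)` for a Sylow subgroup `P` of prime order
`p`, then `p` is adjacent to every prime `r` dividing the group order, provided `p ∤ r ^ k - 1`
for the relevant powers. -/
theorem pg7_adj_of_normalizer_le_centralizer {H : Type*} [Group H] [Finite H] {p r : ℕ}
    [Fact p.Prime] [Fact r.Prime] (hpr : p ≠ r) (P : Sylow p H) (hP : Nat.card P = p)
    (hNC : normalizer ((P : Subgroup H) : Set H) ≤ centralizer ((P : Subgroup H) : Set H))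
    (hr : r ∣ Nat.card H)
    (hfp : ∀ k, 1 ≤ k → r ^ k ∣ Nat.card H → ¬ p ∣ r ^ k - 1) : Pg7Adj H p r := by
  have hp : p.Prime := Fact.out
  have hrp : r.Prime := Fact.out
  set K : Subgroup H := (MonoidHom.transferSylow P hNC).ker with hKdef
  have hK : IsComplement' K P := MonoidHom.ker_transferSylow_isComplement' P hNC
  have hcardK : Nat.card K * Nat.card P = Nat.card H := hK.card_mul_card
  have hpK : ¬ p ∣ Nat.card K := MonoidHom.not_dvd_card_ker_transferSylow P hNC
  have hrK : r ∣ Nat.card K := by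
    rw [← hcardK, hP] at hr
    exact (Nat.Coprime.dvd_mul_right ((Nat.coprime_primes hrp hp).mpr (Ne.symm hpr))).mp hr
  exact pg7_adj_of_normal_coprime hpr (P : Subgroup H) hP K hpK hrK
    (fun k hk hdvd => hfp k hk (hdvd.trans (hcardK ▸ dvd_mul_right _ _)))

/-- the complement given by Burnside's transfer theorem, with its order. -/
theorem pg7_exists_normal_complement {H : Type*} [Group H] [Finite H] {p : ℕ}
    [Fact p.Prime] (P : Sylow p H)
    (hNC : normalizer ((P : Subgroup H) : Set H) ≤ centralizer ((P : Subgroup H) : Set H)) :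
    ∃ K : Subgroup H, K.Normal ∧ Nat.card K * Nat.card P = Nat.card H ∧
      ∀ x : H, (Nat.card P).Coprime (orderOf x) → x ∈ K := by
  set K : Subgroup H := (MonoidHom.transferSylow P hNC).ker with hKdef
  have hK : IsComplement' K P := MonoidHom.ker_transferSylow_isComplement' P hNC
  refine ⟨K, inferInstance, hK.card_mul_card, ?_⟩
  intro x hx
  -- the image of x in P has order dividing both
  rw [hKdef, MonoidHom.mem_ker]
  have h1 : orderOf (MonoidHom.transferSylow P hNC x) ∣ orderOf x := orderOf_map_dvd _ x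
  have h2 : orderOf (MonoidHom.transferSylow P hNC x) ∣ Nat.card P := orderOf_dvd_natCard _
  have := Nat.dvd_gcd h2 h1
  rw [hx, Nat.dvd_one] at this
  exact orderOf_eq_one_iff.mp this

end Cfsg.Agent.Lib.Helper41
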