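import Mathlib
import Cfsg.Agent.Lib.Helper40.FrobeniusDiv
import Cfsg.Agent.Lib.Helper41.PG7Sylow

set_option autoImplicit false

/-!
Counting tools for prime graph arguments (used for S2490): Frobenius' theorem in filter form,
number of elements of prime order, lower bound for the number of elements of order divisible
by `p`.
-/

namespace Cfsg.Agent.Lib.Helper41

open Subgroup

section filt

variable {G : Type*} [Group G] [Fintype G] [DecidableEq G]

/-- Frobenius' theorem in filter form. -/
theorem pg7_frobenius (m : ℕ) (hm : m ∣ Fintype.card G) :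
    m ∣ (Finset.univ.filter (fun x : G => orderOf x ∣ m)).card := by
  have := Cfsg.Agent.Lib.Helper40.frobenius_dvd (G := G) m (by rwa [Nat.card_eq_fintype_card])
  rw [Nat.card_eq_fintype_card, Fintype.card_subtype] at this
  have heq : (Finset.univ.filter (fun x : G => orderOf x ∣ m)) =
      (Finset.univ.filter (fun x : G => x ^ m = 1)) := by
    ext x; simp [orderOf_dvd_iff_pow_eq_one]
  rw [heq]; exact this

theorem pg7_card_filter_or (p q r : G → Prop) [DecidablePred p] [DecidablePred q]
    [DecidablePred r] (h : ∀ x, p x ↔ q x ∨ r x) (hd : ∀ x, q x → r x → False) :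
    (Finset.univ.filter p).card = (Finset.univ.filter q).card + (Finset.univ.filter r).card := by
  rw [← Finset.card_union_of_disjoint]
  · congr 1
    ext x
    simp [h x]
  · rw [Finset.disjoint_filter]
    intro x _ hq hr
    exact hd x hq hr

theorem pg7_card_filter_le (p q : G → Prop) [DecidablePred p] [DecidablePred q]
    (h : ∀ x, p x → q x) :
    (Finset.univ.filter p).card ≤ (Finset.univ.filter q).card :=
  Finset.card_le_card (fun x hx => by
    simp only [Finset.mem_filter, Finset.mem_univ, true_and] at hx ⊢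
    exact h x hx)

end filt

section sylowcount

variable {G : Type*} [Group G] [Finite G] {p : ℕ} [Fact p.Prime]

theorem pg7_sylow_eq_zpowers (P : Sylow p G) (hP : Nat.card P = p) {a : G} (ha : a ∈ P)
    (ha1 : a ≠ 1) : (P : Subgroup G) = zpowers a := by
  have hp : p.Prime := Fact.out
  have hle : zpowers a ≤ (P : Subgroup G) := (zpowers_le).mpr ha
  have ho : orderOf a = p := by
    have h1 : orderOf a ∣ p := by
      have := orderOf_dvd_natCard (⟨a, ha⟩ : (P : Subgroup G))
      rw [hP, Subgroup.orderOf_mk] at this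
      exact this
    rcases (Nat.dvd_prime hp).mp h1 with h | h
    · exact absurd (orderOf_eq_one_iff.mp h) ha1
    · exact h
  exact (Subgroup.eq_of_le_of_card_ge hle (by rw [Nat.card_zpowers, ho, hP])).symm

theorem pg7_orderOf_eq_of_mem_sylow (P : Sylow p G) (hP : Nat.card P = p) {a : G} (ha : a ∈ P)
    (ha1 : a ≠ 1) : orderOf a = p := by
  have := pg7_sylow_eq_zpowers P hP ha ha1
  rw [← hP, this, Nat.card_zpowers]

theorem pg7_card_ne_one (P : Sylow p G) (hP : Nat.card P = p) :
    Nat.card {a : (P : Subgroup G) // a ≠ 1} = p - 1 := by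
  classical
  have := Fintype.ofFinite (P : Subgroup G)
  rw [Nat.card_eq_fintype_card, Fintype.card_subtype_compl, Fintype.card_subtype_eq,
    ← Nat.card_eq_fintype_card, hP]

/-- The number of elements of order `p` when Sylow `p`-subgroups have order `p`. -/
theorem pg7_card_orderOf_eq_prime (hP : ∀ P : Sylow p G, Nat.card P = p) :
    Nat.card {x : G // orderOf x = p} = Nat.card (Sylow p G) * (p - 1) := by
  classical
  have hp : p.Prime := Fact.out
  have := Fintype.ofFinite (Sylow p G)
  have hfac : (Nat.card G).factorization p = 1 := by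
    obtain ⟨P0⟩ : Nonempty (Sylow p G) := inferInstance
    have h1 := P0.card_eq_multiplicity
    rw [hP P0] at h1
    have : p ^ 1 = p ^ (Nat.card G).factorization p := by rw [pow_one]; exact h1
    exact (Nat.pow_right_injective hp.two_le this).symm
  have hsig : Nat.card (Σ P : Sylow p G, {a : (P : Subgroup G) // a ≠ 1}) =
      Nat.card (Sylow p G) * (p - 1) := by
    rw [Nat.card_sigma]
    simp_rw [pg7_card_ne_one _ (hP _)]
    simp [Nat.card_eq_fintype_card]
  rw [← hsig]
  apply le_antisymm
  · -- injection x ↦ (zpowers x, x)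
    let φ : {x : G // orderOf x = p} → Σ P : Sylow p G, {a : (P : Subgroup G) // a ≠ 1} :=
      fun x => ⟨Sylow.ofCard (zpowers x.1) (by rw [Nat.card_zpowers, x.2, hfac, pow_one]),
        ⟨⟨x.1, mem_zpowers x.1⟩, by
          intro h
          have h1 : x.1 = 1 := congrArg Subtype.val h
          have := x.2
          rw [h1, orderOf_one] at this
          exact hp.one_lt.ne this⟩⟩
    refine Nat.card_le_card_of_injective φ ?_
    intro x y hxy
    have h2 : ((φ x).2.1 : G) = ((φ y).2.1 : G) := by rw [hxy]
    exact Subtype.ext h2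
  · let ψ : (Σ P : Sylow p G, {a : (P : Subgroup G) // a ≠ 1}) → {x : G // orderOf x = p} :=
      fun t => ⟨t.2.1.1, pg7_orderOf_eq_of_mem_sylow t.1 (hP t.1) t.2.1.2
        (fun h => t.2.2 (Subtype.ext h))⟩
    refine Nat.card_le_card_of_injective ψ ?_
    rintro ⟨P, a, ha⟩ ⟨P', a', ha'⟩ hxy
    have h2 : (a : G) = (a' : G) := congrArg Subtype.val hxy
    have hPP : P = P' := by
      apply Sylow.ext
      rw [pg7_sylow_eq_zpowers P (hP P) a.2 (fun h => ha (Subtype.ext h)),
        pg7_sylow_eq_zpowers P' (hP P') a'.2 (fun h => ha' (Subtype.ext h)), h2]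
    subst hPP
    have : a = a' := Subtype.ext h2
    subst this
    rfl

/-- Lower bound for the number of elements of order divisible by `p`. -/
theorem pg7_card_dvd_orderOf_ge {c : ℕ} (hc : Nat.Coprime c p)
    (hP : ∀ P : Sylow p G, Nat.card P = p)
    (h : ∀ P : Sylow p G, ∃ K : Subgroup G,
      K ≤ centralizer ((P : Subgroup G) : Set G) ∧ Nat.card K = c) :
    Nat.card (Sylow p G) * ((p - 1) * c) ≤ Nat.card {x : G // p ∣ orderOf x} := by
  classical
  have hp : p.Prime := Fact.out
  have := Fintype.ofFinite (Sylow p G)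
  choose K hKle hKc using h
  have hsig : Nat.card (Σ P : Sylow p G, {a : (P : Subgroup G) // a ≠ 1} × K P) =
      Nat.card (Sylow p G) * ((p - 1) * c) := by
    rw [Nat.card_sigma]
    simp_rw [Nat.card_prod, pg7_card_ne_one _ (hP _), hKc]
    simp [Nat.card_eq_fintype_card]
  rw [← hsig]
  have hcomm : ∀ (P : Sylow p G) (a : (P : Subgroup G)) (v : K P), Commute (a : G) (v : G) := by
    intro P a v
    have := hKle P v.2
    rw [mem_centralizer_iff] at this
    exact this a a.2
  have hvc : ∀ (P : Sylow p G) (v : K P), (v : G) ^ c = 1 := by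
    intro P v
    have := pow_card_eq_one' (G := K P) (x := v)
    rw [hKc] at this
    have h2 := congrArg Subtype.val this
    simpa using h2
  let φ : (Σ P : Sylow p G, {a : (P : Subgroup G) // a ≠ 1} × K P) → {x : G // p ∣ orderOf x} :=
    fun t => ⟨(t.2.1.1 : G) * (t.2.2 : G), by
      have ha : orderOf (t.2.1.1 : G) = p :=
        pg7_orderOf_eq_of_mem_sylow t.1 (hP t.1) t.2.1.1.2 (fun h => t.2.1.2 (Subtype.ext h))
      have hv : orderOf (t.2.2 : G) ∣ c := orderOf_dvd_of_pow_eq_one (hvc t.1 t.2.2)
      have hcop : (orderOf (t.2.1.1 : G)).Coprime (orderOf (t.2.2 : G)) := by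
        rw [ha]
        exact (Nat.Coprime.coprime_dvd_left hv hc).symm
      rw [(hcomm t.1 t.2.1.1 t.2.2).orderOf_mul_eq_mul_orderOf_of_coprime hcop, ha]
      exact dvd_mul_right _ _⟩
  refine Nat.card_le_card_of_injective φ ?_
  rintro ⟨P, ⟨a, ha⟩, v⟩ ⟨P', ⟨a', ha'⟩, v'⟩ hxy
  have h2 : (a : G) * (v : G) = (a' : G) * (v' : G) := congrArg Subtype.val hxy
  -- raise to the power c
  have h3 : (a : G) ^ c = (a' : G) ^ c := by
    have e1 : ((a : G) * (v : G)) ^ c = (a : G) ^ c := by
      rw [(hcomm P a v).mul_pow, hvc P v, mul_one]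
    have e2 : ((a' : G) * (v' : G)) ^ c = (a' : G) ^ c := by
      rw [(hcomm P' a' v').mul_pow, hvc P' v', mul_one]
    rw [← e1, ← e2, h2]
  have hao : orderOf (a : G) = p :=
    pg7_orderOf_eq_of_mem_sylow P (hP P) a.2 (fun h => ha (Subtype.ext h))
  have hao' : orderOf (a' : G) = p :=
    pg7_orderOf_eq_of_mem_sylow P' (hP P') a'.2 (fun h => ha' (Subtype.ext h))
  have hac1 : (a : G) ^ c ≠ 1 := by
    intro h
    have := orderOf_dvd_of_pow_eq_one h
    rw [hao] at this
    have h1 : p ∣ Nat.gcd c p := Nat.dvd_gcd this dvd_rfl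
    rw [hc] at h1
    exact hp.one_lt.ne' (Nat.dvd_one.mp h1)
  have hPP : P = P' := by
    apply Sylow.ext
    rw [pg7_sylow_eq_zpowers P (hP P) (P.1.pow_mem a.2 c) hac1,
      pg7_sylow_eq_zpowers P' (hP P') (P'.1.pow_mem a'.2 c) (h3 ▸ hac1), h3]
  subst hPP
  -- now a ^ c = a' ^ c in P of order p, c coprime to p
  have haa : a = a' := by
    have hcop : (Nat.card (P : Subgroup G)).Coprime c := by rw [hP P]; exact hc.symm
    apply (powCoprime hcop).injective
    apply Subtype.ext
    simpa using h3
  subst haa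
  have hvv : v = v' := by
    apply Subtype.ext
    exact mul_left_cancel h2
  subst hvv
  rfl

end sylowcount

end Cfsg.Agent.Lib.Helper41
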