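import Mathlib
import Cfsg.Agent.Lib.Helper41.PG7Count
import Cfsg.Agent.Lib.Helper41.J1Arith
import Cfsg.Agent.Lib.Helper17.SimpleTools
import Cfsg.Agent.Lib.Helper17.SimpleIndex
import Cfsg.Agent.Lib.Helper17.SylowCard
import Cfsg.Agent.Lib.Helper17.Burnside

set_option autoImplicit false

/-!
Sylow data for primes dividing the order of a simple group exactly once (used for S4274):
numbers of Sylow subgroups, orders of normalizers and centralizers, the symmetric adjacency
relation, counting of elements and the relation coming from a hypothesis on proper subgroups.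
-/

namespace Cfsg.Agent.Lib.Helper41

open Subgroup
open scoped Pointwise

/-- the Sylow data of a prime `p` dividing the order exactly once. -/
structure J1Data (M : Type*) [Group M] [Finite M] (p : ℕ) [Fact p.Prime] (n N C e : ℕ) :
    Prop where
  hn : Nat.card (Sylow p M) = n
  hP : ∀ P : Sylow p M, Nat.card P = p
  hN : ∀ P : Sylow p M, Nat.card (normalizer ((P : Subgroup M) : Set M)) = N
  hC : ∀ P : Sylow p M, Nat.card (centralizer ((P : Subgroup M) : Set M)) = C
  hrel : ∀ P : Sylow p M, (centralizer ((P : Subgroup M) : Set M)).relIndex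
    (normalizer ((P : Subgroup M) : Set M)) = e
  hpp : ¬ p * p ∣ Nat.card M
  hloc : J1Loc (Nat.card M) p n N C e

/-- conjugate subgroups have centralizers of the same order. -/
theorem j1_card_centralizer_conj {M : Type*} [Group M] (g : M) (H : Subgroup M) :
    Nat.card (centralizer (((MulAut.conj g • H : Subgroup M)) : Set M)) =
      Nat.card (centralizer (H : Set M)) := by
  symm
  apply Nat.card_congr
  refine Equiv.subtypeEquiv (MulAut.conj g).toEquiv ?_
  intro a
  constructor
  · intro ha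
    rw [mem_centralizer_iff] at ha ⊢
    intro h' hh'
    obtain ⟨s, hs, rfl⟩ := (mem_smul_pointwise_iff_exists _ _ _).mp hh'
    have := ha s hs
    show (MulAut.conj g) s * (MulAut.conj g) a = (MulAut.conj g) a * (MulAut.conj g) s
    rw [← map_mul, ← map_mul, this]
  · intro ha
    rw [mem_centralizer_iff] at ha ⊢
    intro s hs
    have h1 : (MulAut.conj g) s ∈ ((MulAut.conj g • H : Subgroup M) : Set M) :=
      smul_mem_pointwise_smul s (MulAut.conj g) H hs
    have h2 := ha _ h1
    have h3 : (MulAut.conj g) (s * a) = (MulAut.conj g) (a * s) := by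
      rw [map_mul, map_mul]; exact h2
    exact (MulAut.conj g).injective h3

section data

variable {M : Type*} [Group M] [Finite M]

/-- existence of the Sylow data in a simple group. -/
theorem j1_data_exists [IsSimpleGroup M] (hG : ¬ IsMulCommutative M) (p : ℕ) [Fact p.Prime]
    (hpM : p ∣ Nat.card M) (hpp : ¬ p * p ∣ Nat.card M) (h19 : 19 ∣ Nat.card M) :
    ∃ n N C e, J1Data M p n N C e := by
  have hp : p.Prime := Fact.out
  obtain ⟨m', hm'⟩ := hpM
  have hpm' : ¬ p ∣ m' := by
    rintro ⟨k, rfl⟩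
    exact hpp ⟨k, by rw [hm']; ring⟩
  have hcard1 : Nat.card M = p ^ 1 * m' := by rw [pow_one]; exact hm'
  have hPcard : ∀ P : Sylow p M, Nat.card P = p := by
    intro P
    have := pg7_card_sylow_of_eq hcard1 hpm' P
    rwa [pow_one] at this
  have hm1 : m' ≠ 1 := by
    rintro rfl
    apply Cfsg.Agent.Lib.Helper17.not_isPGroup_of_simple hG p
    exact IsPGroup.of_card (n := 1) (by rw [hm', mul_one, pow_one])
  obtain ⟨P0⟩ : Nonempty (Sylow p M) := inferInstance
  have hnpos : 0 < Nat.card (Sylow p M) := Nat.card_pos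
  have hn1 : Nat.card (Sylow p M) ≠ 1 :=
    Cfsg.Agent.Lib.Helper17.card_sylow_ne_one_of_simple hcard1 hpm' Nat.one_pos hm1
  obtain ⟨e, he, hNC⟩ := pg7_card_normalizer_prime (P0 : Subgroup M) (hPcard P0)
  have hCN : ∀ P : Sylow p M, centralizer ((P : Subgroup M) : Set M) ≤
      normalizer ((P : Subgroup M) : Set M) := fun P => centralizer_le_normalizer _
  have hNall : ∀ P : Sylow p M, Nat.card (normalizer ((P : Subgroup M) : Set M)) =
      Nat.card (normalizer ((P0 : Subgroup M) : Set M)) := by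
    intro P
    have h1 := pg7_card_normalizer_mul_card_sylow P
    have h2 := pg7_card_normalizer_mul_card_sylow P0
    exact Nat.eq_of_mul_eq_mul_right hnpos (h1.trans h2.symm)
  have hCall : ∀ P : Sylow p M, Nat.card (centralizer ((P : Subgroup M) : Set M)) =
      Nat.card (centralizer ((P0 : Subgroup M) : Set M)) := by
    intro P
    obtain ⟨g, hg⟩ := MulAction.exists_smul_eq M P0 P
    rw [← hg, Sylow.smul_def, Sylow.pointwise_smul_def]
    exact j1_card_centralizer_conj g _
  have hCpos : 0 < Nat.card (centralizer ((P0 : Subgroup M) : Set M)) := Nat.card_pos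
  refine ⟨Nat.card (Sylow p M), Nat.card (normalizer ((P0 : Subgroup M) : Set M)),
    Nat.card (centralizer ((P0 : Subgroup M) : Set M)), e, rfl, hPcard, hNall, hCall, ?_, hpp, ?_⟩
  · intro P
    have h1 := Cfsg.Agent.Lib.Helper17.card_mul_relIndex_of_le (hCN P)
    rw [hNall P, hCall P, hNC] at h1
    exact Nat.eq_of_mul_eq_mul_left hCpos h1
  · refine ⟨?_, ?_, hNC, he, ?_, ?_, ?_⟩
    · rw [mul_comm]; exact pg7_card_normalizer_mul_card_sylow P0
    · have h : Nat.card (Sylow p M) % p = 1 % p := card_sylow_modEq_one p M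
      rw [h, Nat.mod_eq_of_lt hp.one_lt]
    · rintro rfl
      rw [mul_one] at hNC
      apply Cfsg.Agent.Lib.Helper17.not_normalizer_le_centralizer_of_simple hG P0 ⟨m', hm'⟩
      have := eq_of_le_of_card_ge (hCN P0) (le_of_eq hNC)
      rw [this]
    · have hcyc : IsCyclic (P0 : Subgroup M) := isCyclic_of_prime_card (hPcard P0)
      have hcomm : IsMulCommutative (P0 : Subgroup M) := IsCyclic.isMulCommutative
      have hle : (P0 : Subgroup M) ≤ centralizer ((P0 : Subgroup M) : Set M) :=
        le_centralizer _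
      have := card_dvd_of_le hle
      rwa [show Nat.card (P0 : Subgroup M) = p from hPcard P0] at this
    · have h2 := Cfsg.Agent.Lib.Helper17.two_mul_card_dvd_factorial_card_sylow_of_simple
        (p := p) hG hn1
      have h3 : 19 ∣ (Nat.card (Sylow p M)).factorial :=
        (h19.trans (dvd_mul_left _ 2)).trans h2
      exact (Nat.Prime.dvd_factorial (by norm_num)).mp h3

/-- a complement of `P` in its centralizer. -/
theorem j1_exists_complement {p n N C e : ℕ} [Fact p.Prime] (D : J1Data M p n N C e)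
    (P : Sylow p M) :
    ∃ K : Subgroup M, K ≤ centralizer ((P : Subgroup M) : Set M) ∧ Nat.card K = C / p := by
  have hp : p.Prime := Fact.out
  have hcyc : IsCyclic (P : Subgroup M) := isCyclic_of_prime_card (D.hP P)
  have hcomm : IsMulCommutative (P : Subgroup M) := IsCyclic.isMulCommutative
  have hle : (P : Subgroup M) ≤ centralizer ((P : Subgroup M) : Set M) := le_centralizer _
  set Z : Subgroup M := centralizer ((P : Subgroup M) : Set M) with hZ
  set P' : Subgroup Z := (P : Subgroup M).subgroupOf Z with hP'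
  have hnorm : P'.Normal := by
    constructor
    intro x hx z
    have hxP : (x : M) ∈ (P : Subgroup M) := hx
    have hz : (z : M) ∈ centralizer ((P : Subgroup M) : Set M) := z.2
    rw [mem_centralizer_iff] at hz
    have h1 := hz (x : M) hxP
    have h2 : (z * x * z⁻¹ : Z) = x := by
      apply Subtype.ext
      show (z : M) * (x : M) * (z : M)⁻¹ = (x : M)
      rw [← h1]; group
    rw [h2]; exact hx
  have hcardP' : Nat.card P' = p := by
    rw [Nat.card_congr (subgroupOfEquivOfLe hle).toEquiv]; exact D.hP P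
  have hcardZ : Nat.card Z = C := D.hC P
  have hidx : P'.index = C / p := by
    have := P'.index_mul_card
    rw [hcardP', hcardZ] at this
    rw [← this, Nat.mul_div_cancel _ hp.pos]
  have hcop : (Nat.card P').Coprime P'.index := by
    rw [hcardP', hidx, Nat.Prime.coprime_iff_not_dvd hp]
    intro hdvd
    apply D.hpp
    have hpC : p ∣ C := D.hloc.2.2.2.2.2.1
    have h1 : p * p ∣ C := by
      obtain ⟨k, hk⟩ := hdvd
      have h2 : C = p * (C / p) := (Nat.mul_div_cancel' hpC).symm
      rw [h2, hk]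
      exact ⟨k, by ring⟩
    have h3 : C ∣ Nat.card M := by rw [← hcardZ]; exact card_subgroup_dvd_card _
    exact h1.trans h3
  obtain ⟨K', hK'⟩ := exists_right_complement'_of_coprime hcop
  have hK'card : Nat.card K' = C / p := by
    have := hK'.card_mul_card
    rw [hcardP', hcardZ] at this
    rw [← this, Nat.mul_div_cancel_left _ hp.pos]
  refine ⟨K'.map Z.subtype, map_subtype_le _, ?_⟩
  rw [card_map_of_injective (subtype_injective Z)]
  exact hK'card

/-- lower bound for the number of elements of order divisible by `p`. -/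
theorem j1_card_A_ge {p n N C e : ℕ} [Fact p.Prime] (D : J1Data M p n N C e) :
    n * ((p - 1) * (C / p)) ≤ Nat.card {x : M // p ∣ orderOf x} := by
  have hp : p.Prime := Fact.out
  rw [← D.hn]
  refine pg7_card_dvd_orderOf_ge ?_ D.hP (fun P => j1_exists_complement D P)
  rw [Nat.coprime_comm, Nat.Prime.coprime_iff_not_dvd hp]
  intro hdvd
  apply D.hpp
  have hpC : p ∣ C := D.hloc.2.2.2.2.2.1
  obtain ⟨P⟩ : Nonempty (Sylow p M) := inferInstance
  have h1 : p * p ∣ C := by
    obtain ⟨k, hk⟩ := hdvd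
    have h2 : C = p * (C / p) := (Nat.mul_div_cancel' hpC).symm
    rw [h2, hk]
    exact ⟨k, by ring⟩
  have h3 : C ∣ Nat.card M := by rw [← D.hC P]; exact card_subgroup_dvd_card _
  exact h1.trans h3

/-- the number of elements of order `p`. -/
theorem j1_card_B {p n N C e : ℕ} [Fact p.Prime] (D : J1Data M p n N C e) :
    Nat.card {x : M // orderOf x = p} = n * (p - 1) := by
  rw [← D.hn]
  exact pg7_card_orderOf_eq_prime D.hP

/-- adjacency in terms of the order of the centralizer. -/
theorem j1_adj_iff {p n N C e : ℕ} [Fact p.Prime] (D : J1Data M p n N C e) {q : ℕ}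
    [Fact q.Prime] (hpq : p ≠ q) : Pg7Adj M p q ↔ q ∣ C := by
  have hp : p.Prime := Fact.out
  have hq : q.Prime := Fact.out
  constructor
  · intro h
    have hpM : p ∣ Nat.card M := by
      obtain ⟨P⟩ : Nonempty (Sylow p M) := inferInstance
      rw [← D.hP P]; exact card_subgroup_dvd_card _
    obtain ⟨m', hm'⟩ := hpM
    have hpm' : ¬ p ∣ m' := by
      rintro ⟨k, rfl⟩
      exact D.hpp ⟨k, by rw [hm']; ring⟩
    obtain ⟨P, hP⟩ := pg7_exists_sylow_of_adj hm' hpm' hq.ne_zero h
    rwa [D.hC P] at hP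
  · intro h
    by_contra hadj
    obtain ⟨P⟩ : Nonempty (Sylow p M) := inferInstance
    have := pg7_not_dvd_card_centralizer hpq (P : Subgroup M) (D.hP P) hadj
    rw [D.hC P] at this
    exact this h

/-- the adjacency relation is symmetric. -/
theorem j1_cross {p n N C e q n' N' C' e' : ℕ} [Fact p.Prime] [Fact q.Prime]
    (D : J1Data M p n N C e) (D' : J1Data M q n' N' C' e') (hpq : p ≠ q) :
    q ∣ C ↔ p ∣ C' := by
  rw [← j1_adj_iff D hpq, ← j1_adj_iff D' hpq.symm, pg7Adj_comm]

/-- non-adjacent primes do not divide the order of a common element. -/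
theorem j1_disjoint {p n N C e q : ℕ} [Fact p.Prime] [Fact q.Prime]
    (D : J1Data M p n N C e) (hpq : p ≠ q) (h : ¬ q ∣ C) (x : M) (hx : p ∣ orderOf x)
    (hx' : q ∣ orderOf x) : False := by
  have hp : p.Prime := Fact.out
  have hq : q.Prime := Fact.out
  apply h
  rw [← j1_adj_iff D hpq]
  apply pg7Adj_of_dvd_orderOf (x := x)
  exact Nat.Coprime.mul_dvd_of_dvd_of_dvd ((Nat.coprime_primes hp hq).mpr hpq) hx hx'

end data

/-- two exclusive predicates. -/
theorem j1_card2_eq {α : Type*} [Finite α] (a b : α → Prop)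
    (hab : ∀ x, a x → b x → False) :
    Nat.card {x // a x} + Nat.card {x // b x} = Nat.card {x // a x ∨ b x} := by
  classical
  have := Fintype.ofFinite α
  have hd : Disjoint a b := by
    rw [Pi.disjoint_iff]
    intro x
    rw [disjoint_iff_inf_le]
    intro h
    exact hab x h.1 h.2
  simp only [Nat.card_eq_fintype_card]
  exact (Fintype.card_subtype_or_disjoint a b hd).symm

/-- four pairwise exclusive predicates. -/
theorem j1_card4_le {α : Type*} [Finite α] (a b c d : α → Prop)
    (hab : ∀ x, a x → b x → False) (hac : ∀ x, a x → c x → False)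
    (had : ∀ x, a x → d x → False) (hbc : ∀ x, b x → c x → False)
    (hbd : ∀ x, b x → d x → False) (hcd : ∀ x, c x → d x → False) :
    Nat.card {x // a x} + Nat.card {x // b x} + Nat.card {x // c x} + Nat.card {x // d x} ≤
      Nat.card α := by
  have h1 := j1_card2_eq a b hab
  have h2 := j1_card2_eq (fun x => a x ∨ b x) c (by
    rintro x (h | h) h'
    · exact hac x h h'
    · exact hbc x h h')
  have h3 := j1_card2_eq (fun x => (a x ∨ b x) ∨ c x) d (by
    rintro x ((h | h) | h) h'
    · exact had x h h'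
    · exact hbd x h h'
    · exact hcd x h h')
  rw [h1, h2, h3]
  exact Finite.card_subtype_le _

section count

variable {M : Type*} [Group M] [Finite M]

/-- counting: three pairwise non-adjacent primes and a fourth prime. -/
theorem j1_count31 {p1 n1 N1 C1 e1 p2 n2 N2 C2 e2 p3 n3 N3 C3 e3 q n4 N4 C4 e4 : ℕ}
    [Fact p1.Prime] [Fact p2.Prime] [Fact p3.Prime] [Fact q.Prime]
    (D1 : J1Data M p1 n1 N1 C1 e1) (D2 : J1Data M p2 n2 N2 C2 e2)
    (D3 : J1Data M p3 n3 N3 C3 e3) (D4 : J1Data M q n4 N4 C4 e4)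
    (h12 : p1 ≠ p2) (h13 : p1 ≠ p3) (h23 : p2 ≠ p3) (h1q : p1 ≠ q) (h2q : p2 ≠ q)
    (h3q : p3 ≠ q) (a12 : ¬ p2 ∣ C1) (a13 : ¬ p3 ∣ C1) (a23 : ¬ p3 ∣ C2) :
    n1 * ((p1 - 1) * (C1 / p1)) + n2 * ((p2 - 1) * (C2 / p2)) + n3 * ((p3 - 1) * (C3 / p3)) +
      n4 * (q - 1) ≤ Nat.card M := by
  have hq : q.Prime := Fact.out
  have hp1 : p1.Prime := Fact.out
  have hp2 : p2.Prime := Fact.out
  have hp3 : p3.Prime := Fact.out
  have key := j1_card4_le (α := M) (fun x => p1 ∣ orderOf x) (fun x => p2 ∣ orderOf x)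
    (fun x => p3 ∣ orderOf x) (fun x => orderOf x = q)
    (fun x h h' => j1_disjoint D1 h12 a12 x h h')
    (fun x h h' => j1_disjoint D1 h13 a13 x h h')
    (fun x h h' => h1q ((Nat.prime_dvd_prime_iff_eq hp1 hq).mp (h' ▸ h)))
    (fun x h h' => j1_disjoint D2 h23 a23 x h h')
    (fun x h h' => h2q ((Nat.prime_dvd_prime_iff_eq hp2 hq).mp (h' ▸ h)))
    (fun x h h' => h3q ((Nat.prime_dvd_prime_iff_eq hp3 hq).mp (h' ▸ h)))
  have b1 := j1_card_A_ge D1
  have b2 := j1_card_A_ge D2
  have b3 := j1_card_A_ge D3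
  have b4 := j1_card_B D4
  omega

/-- counting: three pairwise non-adjacent primes. -/
theorem j1_count30 {p1 n1 N1 C1 e1 p2 n2 N2 C2 e2 p3 n3 N3 C3 e3 : ℕ}
    [Fact p1.Prime] [Fact p2.Prime] [Fact p3.Prime]
    (D1 : J1Data M p1 n1 N1 C1 e1) (D2 : J1Data M p2 n2 N2 C2 e2)
    (D3 : J1Data M p3 n3 N3 C3 e3)
    (h12 : p1 ≠ p2) (h13 : p1 ≠ p3) (h23 : p2 ≠ p3)
    (a12 : ¬ p2 ∣ C1) (a13 : ¬ p3 ∣ C1) (a23 : ¬ p3 ∣ C2) :
    n1 * ((p1 - 1) * (C1 / p1)) + n2 * ((p2 - 1) * (C2 / p2)) + n3 * ((p3 - 1) * (C3 / p3))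
      ≤ Nat.card M := by
  have key := j1_card4_le (α := M) (fun x => p1 ∣ orderOf x) (fun x => p2 ∣ orderOf x)
    (fun x => p3 ∣ orderOf x) (fun _ => False)
    (fun x h h' => j1_disjoint D1 h12 a12 x h h')
    (fun x h h' => j1_disjoint D1 h13 a13 x h h')
    (fun x _ h' => h')
    (fun x h h' => j1_disjoint D2 h23 a23 x h h')
    (fun x _ h' => h')
    (fun x _ h' => h')
  have b1 := j1_card_A_ge D1
  have b2 := j1_card_A_ge D2
  have b3 := j1_card_A_ge D3
  omega

/-- counting: two non-adjacent primes and a third prime. -/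
theorem j1_count21 {p1 n1 N1 C1 e1 p2 n2 N2 C2 e2 q n4 N4 C4 e4 : ℕ}
    [Fact p1.Prime] [Fact p2.Prime] [Fact q.Prime]
    (D1 : J1Data M p1 n1 N1 C1 e1) (D2 : J1Data M p2 n2 N2 C2 e2)
    (D4 : J1Data M q n4 N4 C4 e4)
    (h12 : p1 ≠ p2) (h1q : p1 ≠ q) (h2q : p2 ≠ q) (a12 : ¬ p2 ∣ C1) :
    n1 * ((p1 - 1) * (C1 / p1)) + n2 * ((p2 - 1) * (C2 / p2)) + n4 * (q - 1) ≤ Nat.card M := by
  have hq : q.Prime := Fact.out
  have hp1 : p1.Prime := Fact.out
  have hp2 : p2.Prime := Fact.out
  have key := j1_card4_le (α := M) (fun x => p1 ∣ orderOf x) (fun x => p2 ∣ orderOf x)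
    (fun _ => False) (fun x => orderOf x = q)
    (fun x h h' => j1_disjoint D1 h12 a12 x h h')
    (fun x _ h' => h')
    (fun x h h' => h1q ((Nat.prime_dvd_prime_iff_eq hp1 hq).mp (h' ▸ h)))
    (fun x _ h' => h')
    (fun x h h' => h2q ((Nat.prime_dvd_prime_iff_eq hp2 hq).mp (h' ▸ h)))
    (fun x h _ => h)
  have b1 := j1_card_A_ge D1
  have b2 := j1_card_A_ge D2
  have b4 := j1_card_B D4
  omega

end count

end Cfsg.Agent.Lib.Helper41
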