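import Mathlib
import Cfsg.Agent.Lib.Helper41.J1Sylow

set_option autoImplicit false

/-!
The relation between Sylow data coming from the hypothesis that every proper subgroup has a normal
Sylow `19`-subgroup, and the assembled global relations `J1G3`, `J1G4` (S4274).
-/

namespace Cfsg.Agent.Lib.Helper41

open Subgroup
open scoped Pointwise

section mc

variable {M : Type*} [Group M] [Finite M]

/-- if `19` divides the order of the normalizer of a Sylow `p`-subgroup, this normalizer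
normalizes a Sylow `19`-subgroup. -/
theorem j1_mc [Fact (Nat.Prime 19)]
    (hMC : ∀ K : Subgroup M, K ≠ ⊤ → ∀ Q : Sylow 19 K, (Q : Subgroup K).Normal)
    {p n N C e n' N' C' e' : ℕ} [Fact p.Prime] (D : J1Data M p n N C e)
    (D' : J1Data M 19 n' N' C' e') (h19 : 19 ∣ N) :
    N ∣ N' ∧ (N' / N) % p = 1 := by
  have hp : p.Prime := Fact.out
  obtain ⟨R⟩ : Nonempty (Sylow p M) := inferInstance
  set H : Subgroup M := normalizer ((R : Subgroup M) : Set M) with hH
  have hHcard : Nat.card H = N := D.hN R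
  obtain ⟨h1, h2, h3, h4, h5, h6, h7⟩ := D.hloc
  have hNpos : 0 < N := by
    rw [← hHcard]; exact Nat.card_pos
  have hHtop : H ≠ ⊤ := by
    intro htop
    have : Nat.card H = Nat.card M := by rw [htop]; exact card_top
    rw [hHcard] at this
    rw [← this] at h1
    have : n * N = 1 * N := by rw [h1, one_mul]
    have := Nat.eq_of_mul_eq_mul_right hNpos this
    omega
  obtain ⟨Q'⟩ : Nonempty (Sylow 19 H) := inferInstance
  have hQ'n : (Q' : Subgroup H).Normal := hMC H hHtop Q'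
  have hQ'card : 19 ∣ Nat.card (Q' : Subgroup H) :=
    Q'.dvd_card_of_dvd_card (by rw [hHcard]; exact h19)
  set Qm : Subgroup M := (Q' : Subgroup H).map H.subtype with hQm
  have hQmp : IsPGroup 19 Qm := Q'.isPGroup'.map _
  obtain ⟨Q, hQ⟩ := hQmp.exists_le_sylow
  have hQmcard : Nat.card Qm = Nat.card (Q' : Subgroup H) :=
    card_map_of_injective (subtype_injective H)
  have hQeq : Qm = (Q : Subgroup M) := by
    apply eq_of_le_of_card_ge hQ
    rw [show Nat.card (Q : Subgroup M) = 19 from D'.hP Q, hQmcard]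
    exact Nat.le_of_dvd Nat.card_pos hQ'card
  have hHle : H ≤ normalizer ((Q : Subgroup M) : Set M) := by
    have h := le_normalizer_map (H := (Q' : Subgroup H)) H.subtype
    rw [normalizer_eq_top_iff.mpr hQ'n, ← MonoidHom.range_eq_map, range_subtype] at h
    rw [← hQeq]
    exact h
  set T : Subgroup M := normalizer ((Q : Subgroup M) : Set M) with hT
  have hTcard : Nat.card T = N' := D'.hN Q
  have hdvd : N ∣ N' := by
    rw [← hHcard, ← hTcard]; exact card_dvd_of_le hHle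
  refine ⟨hdvd, ?_⟩
  have hRT : (R : Subgroup M) ≤ T := le_normalizer.trans hHle
  have hmod : Nat.card (Sylow p T) % p = 1 % p := card_sylow_modEq_one p T
  have hidx : Nat.card (Sylow p T) =
      (normalizer (((R.subtype hRT : Sylow p T) : Subgroup T) : Set T)).index :=
    (R.subtype hRT).card_eq_index_normalizer
  rw [Sylow.coe_subtype, ← subgroupOf_normalizer_eq hRT] at hidx
  have hrel : (H.subgroupOf T).index = H.relIndex T := rfl
  have hmul := Cfsg.Agent.Lib.Helper17.card_mul_relIndex_of_le hHle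
  rw [hHcard, hTcard] at hmul
  have hq : N' / N = H.relIndex T := by
    rw [← hmul]; exact Nat.mul_div_cancel_left _ hNpos
  rw [hq, ← hrel, ← hidx]
  rw [hmod, Nat.mod_eq_of_lt hp.one_lt]

/-- the local arithmetic shape. -/
theorem j1_loc {p n N C e : ℕ} [Fact p.Prime] (D : J1Data M p n N C e) :
    J1Loc (Nat.card M) p n N C e := D.hloc

/-- the global relations between the data of `p`, `q` and `19`. -/
theorem j1_G3 [Fact (Nat.Prime 19)]
    (hMC : ∀ K : Subgroup M, K ≠ ⊤ → ∀ Q : Sylow 19 K, (Q : Subgroup K).Normal)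
    {p n1 N1 C1 e1 q n2 N2 C2 e2 n3 N3 C3 e3 : ℕ} [Fact p.Prime] [Fact q.Prime]
    (D1 : J1Data M p n1 N1 C1 e1) (D2 : J1Data M q n2 N2 C2 e2) (D3 : J1Data M 19 n3 N3 C3 e3)
    (hpq : p ≠ q) (hp19 : p ≠ 19) (hq19 : q ≠ 19) :
    J1G3 (Nat.card M) p q (n1, N1, C1, e1) (n2, N2, C2, e2) (n3, N3, C3, e3) := by
  refine ⟨j1_cross D1 D2 hpq, j1_cross D1 D3 hp19, j1_cross D2 D3 hq19, j1_mc hMC D1 D3,
    j1_mc hMC D2 D3, ?_, ?_⟩
  · intro a12 a13 a23
    exact j1_count30 D1 D2 D3 hpq hp19 hq19 a12 a13 a23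
  · intro a12
    exact j1_count21 D1 D2 D3 hpq hp19 hq19 a12

/-- the global relations between the data of `p`, `q`, `r` and `19`. -/
theorem j1_G4 [Fact (Nat.Prime 19)]
    (hMC : ∀ K : Subgroup M, K ≠ ⊤ → ∀ Q : Sylow 19 K, (Q : Subgroup K).Normal)
    {p n1 N1 C1 e1 q n2 N2 C2 e2 r n4 N4 C4 e4 n3 N3 C3 e3 : ℕ} [Fact p.Prime] [Fact q.Prime]
    [Fact r.Prime]
    (D1 : J1Data M p n1 N1 C1 e1) (D2 : J1Data M q n2 N2 C2 e2) (D4 : J1Data M r n4 N4 C4 e4)
    (D3 : J1Data M 19 n3 N3 C3 e3)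
    (hpq : p ≠ q) (hpr : p ≠ r) (hqr : q ≠ r) (hp19 : p ≠ 19) (hq19 : q ≠ 19) (hr19 : r ≠ 19) :
    J1G4 (Nat.card M) p q r (n1, N1, C1, e1) (n2, N2, C2, e2) (n4, N4, C4, e4)
      (n3, N3, C3, e3) := by
  refine ⟨j1_cross D1 D2 hpq, j1_cross D1 D4 hpr, j1_cross D2 D4 hqr, j1_cross D1 D3 hp19,
    j1_cross D2 D3 hq19, j1_cross D4 D3 hr19, j1_mc hMC D1 D3, j1_mc hMC D2 D3,
    j1_mc hMC D4 D3, ?_, ?_⟩
  · intro a1 a2 a3
    exact j1_count31 D2 D4 D3 D1 hqr hq19 hr19 hpq.symm hpr.symm hp19.symm a1 a2 a3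
  · intro a1 a2 a3
    exact j1_count31 D1 D4 D3 D2 hpr hp19 hr19 hpq hqr.symm hq19.symm a1 a2 a3

end mc

end Cfsg.Agent.Lib.Helper41
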