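import Mathlib
import Cfsg.Agent.Lib.Helper41.PG7Sylow

set_option autoImplicit false

/-!
Reduction for S4274: in a group of order dividing `175560` with a proper nontrivial normal
subgroup, the Sylow `19`-subgroups are normal provided this holds for all groups of smaller
order dividing the order.
-/

namespace Cfsg.Agent.Lib.Helper41

open Subgroup

universe u

/-- all groups of order `n` (in a fixed universe) have normal Sylow `19`-subgroups. -/
def J1Prop (n : ℕ) : Prop :=
  ∀ (K : Type u) [Group K] [Finite K], Nat.card K = n →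
    ∀ Q : Sylow 19 K, (Q : Subgroup K).Normal

/-- a subgroup of order `19` normalizing a subgroup of order less than `19` centralizes it. -/
theorem j1_centralizes_of_normalizes {H : Type*} [Group H] [Finite H] (D R : Subgroup H)
    (hD : Nat.card D = 19) (hR : Nat.card R < 19) (hDR : D ≤ normalizer (R : Set H)) :
    R ≤ centralizer (D : Set H) := by
  have : Fact (Nat.Prime 19) := ⟨by norm_num⟩
  have hDp : IsPGroup 19 D := IsPGroup.of_card (n := 1) (by rw [hD, pow_one])
  let _ : MulAction D R := MulAction.compHom R (Subgroup.inclusion hDR)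
  have hsmul : ∀ (g : D) (y : R), ((g • y : R) : H) = (g : H) * (y : H) * (g : H)⁻¹ := by
    intro g y; rfl
  intro y hy
  rw [mem_centralizer_iff]
  intro g hg
  obtain ⟨n, hn⟩ := hDp.card_orbit (⟨y, hy⟩ : R)
  have hle : Nat.card (MulAction.orbit D (⟨y, hy⟩ : R)) ≤ Nat.card R :=
    Finite.card_subtype_le _
  have hn0 : n = 0 := by
    by_contra h
    have : 19 ≤ 19 ^ n := Nat.le_self_pow h 19
    omega
  rw [hn0, pow_zero] at hn
  have hsub : Subsingleton (MulAction.orbit D (⟨y, hy⟩ : R)) :=
    (Nat.card_eq_one_iff_unique.mp hn).1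
  have h1 : (⟨g, hg⟩ : D) • (⟨y, hy⟩ : R) = ⟨y, hy⟩ := by
    have := hsub.elim ⟨_, MulAction.mem_orbit (⟨y, hy⟩ : R) (⟨g, hg⟩ : D)⟩
      ⟨_, MulAction.mem_orbit_self _⟩
    exact congrArg Subtype.val this
  have h2 := congrArg (fun z : R => (z : H)) h1
  simp only [hsmul] at h2
  calc g * y = (g * y * g⁻¹) * g := by group
    _ = y * g := by rw [h2]

/-- a prime power dividing `9240` is less than `19`. -/
theorem j1_prime_pow_lt {r k : ℕ} (hr : r.Prime) (h : r ^ k ∣ 9240) : r ^ k < 19 := by
  rcases Nat.eq_zero_or_pos k with rfl | hk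
  · norm_num
  have hr9240 : r ∣ 9240 := (dvd_pow_self r hk.ne').trans h
  have hcases : r = 2 ∨ r = 3 ∨ r = 5 ∨ r = 7 ∨ r = 11 := by
    have h1 : (9240 : ℕ) = 2 ^ 3 * 3 * 5 * 7 * 11 := by norm_num
    rw [h1] at hr9240
    rcases (Nat.Prime.dvd_mul hr).mp hr9240 with h2 | h2
    · rcases (Nat.Prime.dvd_mul hr).mp h2 with h3 | h3
      · rcases (Nat.Prime.dvd_mul hr).mp h3 with h4 | h4
        · rcases (Nat.Prime.dvd_mul hr).mp h4 with h5 | h5
          · left
            exact (Nat.prime_dvd_prime_iff_eq hr (by norm_num)).mp (hr.dvd_of_dvd_pow h5)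
          · right; left
            exact (Nat.prime_dvd_prime_iff_eq hr (by norm_num)).mp h5
        · right; right; left
          exact (Nat.prime_dvd_prime_iff_eq hr (by norm_num)).mp h4
      · right; right; right; left
        exact (Nat.prime_dvd_prime_iff_eq hr (by norm_num)).mp h3
    · right; right; right; right
      exact (Nat.prime_dvd_prime_iff_eq hr (by norm_num)).mp h2
  have hbound : ∀ (s j : ℕ), s ^ j ∣ 9240 → ¬ s ^ (j + 1) ∣ 9240 → ∀ i, s ^ i ∣ 9240 → i ≤ j := by
    intro s j _ hnot i hi
    by_contra hlt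
    push Not at hlt
    exact hnot ((pow_dvd_pow s hlt).trans hi)
  rcases hcases with rfl | rfl | rfl | rfl | rfl
  · have := hbound 2 3 (by norm_num) (by norm_num) k h
    calc 2 ^ k ≤ 2 ^ 3 := Nat.pow_le_pow_right (by norm_num) this
      _ < 19 := by norm_num
  · have := hbound 3 1 (by norm_num) (by norm_num) k h
    calc 3 ^ k ≤ 3 ^ 1 := Nat.pow_le_pow_right (by norm_num) this
      _ < 19 := by norm_num
  · have := hbound 5 1 (by norm_num) (by norm_num) k h
    calc 5 ^ k ≤ 5 ^ 1 := Nat.pow_le_pow_right (by norm_num) this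
      _ < 19 := by norm_num
  · have := hbound 7 1 (by norm_num) (by norm_num) k h
    calc 7 ^ k ≤ 7 ^ 1 := Nat.pow_le_pow_right (by norm_num) this
      _ < 19 := by norm_num
  · have := hbound 11 1 (by norm_num) (by norm_num) k h
    calc 11 ^ k ≤ 11 ^ 1 := Nat.pow_le_pow_right (by norm_num) this
      _ < 19 := by norm_num

section reduce

variable {H : Type u} [Group H] [Finite H]

/-- a Sylow subgroup contained in a normal subgroup whose Sylow subgroups are normal is normal. -/
theorem j1_normal_of_le_normal [Fact (Nat.Prime 19)] (N : Subgroup H) [N.Normal]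
    (P : Sylow 19 H) (hPN : (P : Subgroup H) ≤ N)
    (hN : ∀ Q : Sylow 19 N, (Q : Subgroup N).Normal) : (P : Subgroup H).Normal := by
  have h1 := hN (P.subtype hPN)
  have h2 : ((P.subtype hPN : Sylow 19 N) : Subgroup N).Characteristic :=
    Sylow.characteristic_of_normal _ h1
  have h3 : (((P.subtype hPN : Sylow 19 N) : Subgroup N).map N.subtype).Normal :=
    ConjAct.normal_of_characteristic_of_normal
  rwa [Sylow.coe_subtype, map_subgroupOf_eq_of_le hPN] at h3

/-- the Sylow `19`-subgroup when it is complemented by a normal subgroup. -/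
theorem j1_normal_of_sup_eq_top [Fact (Nat.Prime 19)] (hH : Nat.card H ∣ 175560)
    (N : Subgroup H) [N.Normal] (hN19 : ¬ 19 ∣ Nat.card N) (P : Sylow 19 H)
    (hP : Nat.card P = 19) (hPN : (P : Subgroup H) ⊔ N = ⊤) : (P : Subgroup H).Normal := by
  have hNdvd : Nat.card N ∣ 9240 := by
    have h1 : Nat.card N ∣ 19 * 9240 := (card_subgroup_dvd_card N).trans (by norm_num at hH ⊢; exact hH)
    have hcop : Nat.Coprime (Nat.card N) 19 :=
      ((Nat.Prime.coprime_iff_not_dvd (by norm_num)).mpr hN19).symm
    exact hcop.dvd_of_dvd_mul_left h1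
  have hPp : IsPGroup 19 (P : Subgroup H) := P.isPGroup'
  -- `N` centralizes `P`
  set K : Subgroup N := (centralizer ((P : Subgroup H) : Set H)).subgroupOf N with hK
  have hKtop : K = ⊤ := by
    apply eq_top_of_card_eq
    apply Nat.dvd_antisymm (card_subgroup_dvd_card K)
    have hK0 : Nat.card K ≠ 0 := Nat.card_pos.ne'
    have hN0 : Nat.card N ≠ 0 := Nat.card_pos.ne'
    rw [← Nat.factorization_prime_le_iff_dvd hN0 hK0]
    intro r hr
    have : Fact r.Prime := ⟨hr⟩
    obtain ⟨R, hR⟩ := pg7_exists_sylow_normalized N (P : Subgroup H) hPp hN19 r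
    have hRcard : Nat.card ((R : Subgroup N).map N.subtype) = Nat.card (R : Subgroup N) :=
      card_map_of_injective (subtype_injective N)
    have hRpow : Nat.card (R : Subgroup N) = r ^ (Nat.card N).factorization r :=
      R.card_eq_multiplicity
    have hRlt : Nat.card ((R : Subgroup N).map N.subtype) < 19 := by
      rw [hRcard, hRpow]
      apply j1_prime_pow_lt hr
      exact (Nat.ordProj_dvd _ _).trans hNdvd
    have hcent := j1_centralizes_of_normalizes (P : Subgroup H)
      ((R : Subgroup N).map N.subtype) hP hRlt hR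
    have hRK : (R : Subgroup N) ≤ K := by
      intro x hx
      rw [hK, mem_subgroupOf]
      exact hcent (mem_map_of_mem _ hx)
    have := card_dvd_of_le hRK
    rw [hRpow] at this
    exact (Nat.Prime.pow_dvd_iff_le_factorization hr hK0).mp this
  have hNle : N ≤ centralizer ((P : Subgroup H) : Set H) := by
    intro x hx
    have : (⟨x, hx⟩ : N) ∈ K := by rw [hKtop]; exact mem_top _
    rw [hK, mem_subgroupOf] at this
    exact this
  rw [← normalizer_eq_top_iff, eq_top_iff, ← hPN]
  exact sup_le le_normalizer (hNle.trans (centralizer_le_normalizer _))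

omit [Finite H] in
/-- a `19`-subgroup lies in every normal subgroup of index prime to `19`. -/
theorem j1_le_of_index_coprime [Fact (Nat.Prime 19)] (N : Subgroup H) [N.Normal]
    (hidx : ¬ 19 ∣ N.index) (P : Sylow 19 H) : (P : Subgroup H) ≤ N := by
  intro x hx
  obtain ⟨k, hk⟩ := (IsPGroup.iff_orderOf.mp P.isPGroup') ⟨x, hx⟩
  rw [Subgroup.orderOf_mk] at hk
  rw [← QuotientGroup.eq_one_iff]
  have h1 : orderOf (QuotientGroup.mk x : H ⧸ N) ∣ 19 ^ k := by
    rw [← hk]
    exact orderOf_map_dvd (QuotientGroup.mk' N) x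
  have h2 : orderOf (QuotientGroup.mk x : H ⧸ N) ∣ N.index := by
    rw [Subgroup.index_eq_card]
    exact orderOf_dvd_natCard _
  have hcop : Nat.Coprime (19 ^ k) N.index :=
    Nat.Coprime.pow_left _ ((Nat.Prime.coprime_iff_not_dvd (by norm_num)).mpr hidx)
  have h3 : orderOf (QuotientGroup.mk x : H ⧸ N) = 1 :=
    Nat.eq_one_of_dvd_coprimes hcop h1 h2
  exact orderOf_eq_one_iff.mp h3

/-- **Reduction.** In a group of order dividing `175560` with a proper nontrivial normal
subgroup, the Sylow `19`-subgroups are normal if this is so for all groups of smaller order. -/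
theorem j1_normal_of_exists_normal [Fact (Nat.Prime 19)] (hH : Nat.card H ∣ 175560)
    (hsmall : ∀ k, k < Nat.card H → k ∣ Nat.card H → J1Prop.{u} k)
    (N : Subgroup H) [N.Normal] (hN1 : N ≠ ⊥) (hN2 : N ≠ ⊤) (P : Sylow 19 H) :
    (P : Subgroup H).Normal := by
  have hHpos : 0 < Nat.card H := Nat.card_pos
  have hsub : ∀ L : Subgroup H, L ≠ ⊤ → ∀ Q : Sylow 19 L, (Q : Subgroup L).Normal := by
    intro L hL Q
    have hlt : Nat.card L < Nat.card H := by
      rcases lt_or_eq_of_le (Nat.le_of_dvd hHpos (card_subgroup_dvd_card L)) with h | h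
      · exact h
      · exact absurd (eq_top_of_card_eq L h) hL
    exact hsmall _ hlt (card_subgroup_dvd_card L) L rfl Q
  by_cases h19 : 19 ∣ Nat.card H
  swap
  · -- trivial Sylow subgroup
    have h1 := P.card_eq_multiplicity
    rw [Nat.factorization_eq_zero_of_not_dvd h19, pow_zero] at h1
    rw [card_eq_one.mp h1]
    infer_instance
  have h361 : ¬ 19 * 19 ∣ Nat.card H := fun h => by
    have := h.trans hH
    norm_num at this
  have hPcard : Nat.card P = 19 := by
    obtain ⟨m', hm'⟩ := h19
    have hm'' : ¬ 19 ∣ m' := by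
      rintro ⟨k, rfl⟩
      exact h361 ⟨k, by rw [hm']; ring⟩
    have := pg7_card_sylow_of_eq (p := 19) (k := 1) (by rw [pow_one]; exact hm') hm'' P
    rwa [pow_one] at this
  have hcase1 : ∀ L : Subgroup H, L.Normal → L ≠ ⊤ → 19 ∣ Nat.card L →
      (P : Subgroup H).Normal := by
    intro L hLn hL hL19
    have hidx : ¬ 19 ∣ L.index := by
      intro hdvd
      apply h361
      rw [← L.index_mul_card]
      exact Nat.mul_dvd_mul hdvd hL19
    exact j1_normal_of_le_normal L P (j1_le_of_index_coprime L hidx P) (hsub L hL)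
  by_cases hN19 : 19 ∣ Nat.card N
  · exact hcase1 N inferInstance hN2 hN19
  · -- the image of `P` in `H ⧸ N` is normal
    have hQcard : Nat.card (H ⧸ N) < Nat.card H := by
      rw [← Subgroup.index_eq_card]
      have h1 := N.index_mul_card
      have h2 : 1 < Nat.card N := by
        rcases Nat.lt_or_ge 1 (Nat.card N) with h | h
        · exact h
        · have : Nat.card N = 1 := le_antisymm h Nat.card_pos
          exact absurd (card_eq_one.mp this) hN1
      have h3 : 0 < N.index := Nat.pos_of_ne_zero index_ne_zero_of_finite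
      nlinarith
    have hQdvd : Nat.card (H ⧸ N) ∣ Nat.card H := by
      rw [← Subgroup.index_eq_card]; exact index_dvd_card N
    have hsurj : Function.Surjective (QuotientGroup.mk' N) := QuotientGroup.mk'_surjective N
    have hn := hsmall _ hQcard hQdvd (H ⧸ N) rfl (P.mapSurjective hsurj)
    rw [Sylow.coe_mapSurjective] at hn
    have hL : (((P : Subgroup H).map (QuotientGroup.mk' N)).comap (QuotientGroup.mk' N)).Normal :=
      hn.comap _
    rw [comap_map_eq, QuotientGroup.ker_mk'] at hL
    by_cases htop : (P : Subgroup H) ⊔ N = ⊤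
    · exact j1_normal_of_sup_eq_top hH N hN19 P hPcard htop
    · apply hcase1 _ hL htop
      have : Nat.card (P : Subgroup H) ∣ Nat.card ((P : Subgroup H) ⊔ N : Subgroup H) :=
        card_dvd_of_le le_sup_left
      rwa [show Nat.card (P : Subgroup H) = 19 from hPcard] at this

end reduce

end Cfsg.Agent.Lib.Helper41
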