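import Mathlib
import Cfsg.Agent.Lib.Helper41.J1Kill
import Cfsg.Agent.Lib.Helper41.J1MC
import Cfsg.Agent.Lib.Helper41.J1Reduce
import Cfsg.Agent.Lib.Helper41.J1Brauer
import Cfsg.Agent.Lib.Helper41.J1Filter

set_option autoImplicit false

/-!
A group of order `175560` is simple or has a normal Sylow `19`-subgroup (S4274).
-/

namespace Cfsg.Agent.Lib.Helper41

open Subgroup

universe u

section finish

variable {M : Type*} [Group M] [Finite M]

/-- the generic final step with two auxiliary primes. -/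
theorem j1_finish3 [IsSimpleGroup M] (hG : ¬ IsMulCommutative M) [Fact (Nat.Prime 19)]
    (hMC : ∀ K : Subgroup M, K ≠ ⊤ → ∀ Q : Sylow 19 K, (Q : Subgroup K).Normal)
    (m : ℕ) (hcard : Nat.card M = m) (h19 : 19 ∣ m) (p q : ℕ) [Fact p.Prime] [Fact q.Prime]
    (hpq : p ≠ q) (hp19 : p ≠ 19) (hq19 : q ≠ 19) (hpm : p ∣ m) (hpp : ¬ p * p ∣ m)
    (hqm : q ∣ m) (hqq : ¬ q * q ∣ m) {n3 N3 C3 e3 : ℕ} (D3 : J1Data M 19 n3 N3 C3 e3)
    (kill : ∀ {n1 N1 C1 e1 n2 N2 C2 e2 : ℕ}, J1Loc m p n1 N1 C1 e1 → J1Loc m q n2 N2 C2 e2 →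
      J1Loc m 19 n3 N3 C3 e3 →
      J1G3 m p q (n1, N1, C1, e1) (n2, N2, C2, e2) (n3, N3, C3, e3) → False) : False := by
  subst hcard
  obtain ⟨n1, N1, C1, e1, D1⟩ := j1_data_exists hG p hpm hpp h19
  obtain ⟨n2, N2, C2, e2, D2⟩ := j1_data_exists hG q hqm hqq h19
  exact kill D1.hloc D2.hloc D3.hloc (j1_G3 hMC D1 D2 D3 hpq hp19 hq19)

/-- the generic final step with three auxiliary primes. -/
theorem j1_finish4 [IsSimpleGroup M] (hG : ¬ IsMulCommutative M) [Fact (Nat.Prime 19)]
    (hMC : ∀ K : Subgroup M, K ≠ ⊤ → ∀ Q : Sylow 19 K, (Q : Subgroup K).Normal)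
    (m : ℕ) (hcard : Nat.card M = m) (h19 : 19 ∣ m) (p q r : ℕ) [Fact p.Prime] [Fact q.Prime]
    [Fact r.Prime]
    (hpq : p ≠ q) (hpr : p ≠ r) (hqr : q ≠ r) (hp19 : p ≠ 19) (hq19 : q ≠ 19) (hr19 : r ≠ 19)
    (hpm : p ∣ m) (hpp : ¬ p * p ∣ m) (hqm : q ∣ m) (hqq : ¬ q * q ∣ m)
    (hrm : r ∣ m) (hrr : ¬ r * r ∣ m) {n3 N3 C3 e3 : ℕ} (D3 : J1Data M 19 n3 N3 C3 e3)
    (kill : ∀ {n1 N1 C1 e1 n2 N2 C2 e2 n4 N4 C4 e4 : ℕ}, J1Loc m p n1 N1 C1 e1 →
      J1Loc m q n2 N2 C2 e2 → J1Loc m r n4 N4 C4 e4 → J1Loc m 19 n3 N3 C3 e3 →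
      J1G4 m p q r (n1, N1, C1, e1) (n2, N2, C2, e2) (n4, N4, C4, e4) (n3, N3, C3, e3) → False) :
    False := by
  subst hcard
  obtain ⟨n1, N1, C1, e1, D1⟩ := j1_data_exists hG p hpm hpp h19
  obtain ⟨n2, N2, C2, e2, D2⟩ := j1_data_exists hG q hqm hqq h19
  obtain ⟨n4, N4, C4, e4, D4⟩ := j1_data_exists hG r hrm hrr h19
  exact kill D1.hloc D2.hloc D4.hloc D3.hloc
    (j1_G4 hMC D1 D2 D4 D3 hpq hpr hqr hp19 hq19 hr19)

/-- **No simple group of order `19 * d`, `d ∣ 9240`, `1 < d < 9240`, all of whose proper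
subgroups have a normal Sylow `19`-subgroup.** -/
theorem j1_no_simple [IsSimpleGroup M] (d : ℕ) (hd : d ∣ 9240) (hd1 : d ≠ 1) (hd2 : d ≠ 9240)
    (hM : Nat.card M = 19 * d)
    (hMC : ∀ K : Subgroup M, K ≠ ⊤ → ∀ Q : Sylow 19 K, (Q : Subgroup K).Normal) : False := by
  have : Fact (Nat.Prime 19) := ⟨by norm_num⟩
  have : Fact (Nat.Prime 3) := ⟨by norm_num⟩
  have : Fact (Nat.Prime 5) := ⟨by norm_num⟩
  have : Fact (Nat.Prime 7) := ⟨by norm_num⟩
  have : Fact (Nat.Prime 11) := ⟨by norm_num⟩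
  have hG : ¬ IsMulCommutative M := by
    apply Cfsg.Agent.Lib.Helper17.not_comm_of_simple_of_not_prime
    rw [hM]
    exact Nat.not_prime_mul (by norm_num) hd1
  have h19M : 19 ∣ Nat.card M := ⟨d, hM⟩
  have h19d : ¬ 19 ∣ d := fun h => by
    have := h.trans hd
    norm_num at this
  have h361 : ¬ 19 * 19 ∣ Nat.card M := by
    rw [hM]
    intro h
    exact h19d (Nat.dvd_of_mul_dvd_mul_left (by norm_num) h)
  obtain ⟨n3, N3, C3, e3, D3⟩ := j1_data_exists hG 19 h19M h361 h19M
  obtain ⟨l1, l2, l3, l4, l5, l6, l7⟩ := D3.hloc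
  have he18 : e3 ∣ 18 := l4
  have he3d : e3 ∣ d := by
    have h1 : e3 ∣ 19 * d := by
      rw [← hM, ← l1, l3]
      exact Dvd.dvd.mul_left (dvd_mul_left _ _) _
    have hcop : Nat.Coprime e3 19 := by
      have : Nat.Coprime 18 19 := by norm_num
      exact Nat.Coprime.coprime_dvd_left he18 this
    exact hcop.dvd_of_dvd_mul_left h1
  have he6 : e3 ∣ 6 := by
    have := Nat.dvd_gcd he18 (he3d.trans hd)
    norm_num at this
    exact this
  obtain ⟨P⟩ : Nonempty (Sylow 19 M) := inferInstance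
  obtain ⟨n20, n77, n210, n56, n132, f0, ε, b1, b2, b3, b4, b5, b6, b7, b8, b9, b10, b11⟩ :=
    j1_brauer_data hG P (D3.hP P) e3 (D3.hrel P) he6 d hM hd
  have hfilter := j1_filter hd hd2 he6 he3d b1 b2 b3 b4 b5 b6 b7 b8 b9 b10 b11
  rcases hfilter with ⟨rfl, he⟩ | ⟨rfl, he⟩ | ⟨rfl, he⟩ | ⟨rfl, he⟩ | ⟨rfl, he⟩
  · exact j1_finish3 hG hMC 7980 (by rw [hM]) (by norm_num) 5 7 (by norm_num) (by norm_num)
      (by norm_num) (by norm_num) (by norm_num) (by norm_num) (by norm_num) D3
      (fun h1 h2 h3 hG3 => j1_kill_7980 h1 h2 h3 (by rw [he]; simp) hG3)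
  · exact j1_finish4 hG hMC 15960 (by rw [hM]) (by norm_num) 3 5 7 (by norm_num) (by norm_num)
      (by norm_num) (by norm_num) (by norm_num) (by norm_num) (by norm_num) (by norm_num)
      (by norm_num) (by norm_num) (by norm_num) (by norm_num) D3
      (fun h1 h2 h4 h3 hG4 => j1_kill_15960 h1 h2 h4 h3
        (by rcases he with he | he <;> rw [he] <;> simp) hG4)
  · exact j1_finish3 hG hMC 35112 (by rw [hM]) (by norm_num) 7 11 (by norm_num) (by norm_num)
      (by norm_num) (by norm_num) (by norm_num) (by norm_num) (by norm_num) D3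
      (fun h1 h2 h3 hG3 => j1_kill_35112 h1 h2 h3 (by rw [he]; simp) hG3)
  · exact j1_finish3 hG hMC 58520 (by rw [hM]) (by norm_num) 5 7 (by norm_num) (by norm_num)
      (by norm_num) (by norm_num) (by norm_num) (by norm_num) (by norm_num) D3
      (fun h1 h2 h3 hG3 => j1_kill_58520 h1 h2 h3 (by rw [he]; simp) hG3)
  · exact j1_finish3 hG hMC 87780 (by rw [hM]) (by norm_num) 5 7 (by norm_num) (by norm_num)
      (by norm_num) (by norm_num) (by norm_num) (by norm_num) (by norm_num) D3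
      (fun h1 h2 h3 hG3 => j1_kill_87780 h1 h2 h3
        (by rcases he with he | he <;> rw [he] <;> simp) hG3)

end finish

/-- every group of order properly dividing `175560` has normal Sylow `19`-subgroups. -/
theorem j1_key : ∀ n : ℕ, n ∣ 175560 → n ≠ 175560 → J1Prop.{u} n := by
  intro n
  induction n using Nat.strong_induction_on with
  | _ n ih =>
    intro hn hn' K _ _ hK Q
    have : Fact (Nat.Prime 19) := ⟨by norm_num⟩
    have hnle : n ≤ 175560 := Nat.le_of_dvd (by norm_num) hn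
    have hsmall : ∀ k, k < Nat.card K → k ∣ Nat.card K → J1Prop.{u} k := by
      intro k hk hkd
      rw [hK] at hk hkd
      exact ih k hk (hkd.trans hn) (by omega)
    have hKpos : 0 < Nat.card K := Nat.card_pos
    have hsub : ∀ L : Subgroup K, L ≠ ⊤ → ∀ Q' : Sylow 19 L, (Q' : Subgroup L).Normal := by
      intro L hL Q'
      have hlt : Nat.card L < Nat.card K := by
        rcases lt_or_eq_of_le (Nat.le_of_dvd hKpos (card_subgroup_dvd_card L)) with h | h
        · exact h
        · exact absurd (eq_top_of_card_eq L h) hL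
      exact hsmall _ hlt (card_subgroup_dvd_card L) L rfl Q'
    by_cases hs : IsSimpleGroup K
    · by_cases h19 : 19 ∣ n
      · obtain ⟨d, hd⟩ := h19
        have hd9240 : d ∣ 9240 := by
          have : 19 * d ∣ 19 * 9240 := by rw [← hd]; norm_num; exact hn
          exact Nat.dvd_of_mul_dvd_mul_left (by norm_num) this
        have hd2 : d ≠ 9240 := by
          rintro rfl
          exact hn' (by rw [hd])
        by_cases hd1 : d = 1
        · -- the group has order `19`
          have hQ : Nat.card (Q : Subgroup K) = 19 := by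
            have := pg7_card_sylow_of_eq (p := 19) (k := 1) (m := 1) (G := K)
              (by rw [hK, hd, hd1]; norm_num) (by norm_num) Q
            simpa using this
          have : (Q : Subgroup K) = ⊤ := by
            apply eq_top_of_card_eq
            rw [hQ, hK, hd, hd1]
          rw [this]
          infer_instance
        · exfalso
          exact j1_no_simple d hd9240 hd1 hd2 (by rw [hK, hd]) hsub
      · have h1 := Q.card_eq_multiplicity
        rw [hK, Nat.factorization_eq_zero_of_not_dvd h19, pow_zero] at h1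
        rw [card_eq_one.mp h1]
        infer_instance
    · by_cases hnt : Nontrivial K
      · have hex : ∃ N : Subgroup K, N.Normal ∧ N ≠ ⊥ ∧ N ≠ ⊤ := by
          by_contra hcon
          push Not at hcon
          apply hs
          exact ⟨fun N hN => by
            by_contra h
            push Not at h
            exact h.2 (hcon N hN h.1)⟩
        obtain ⟨N, hNn, hN1, hN2⟩ := hex
        exact j1_normal_of_exists_normal (hK ▸ hn) hsmall N hN1 hN2 Q
      · rw [not_nontrivial_iff_subsingleton] at hnt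
        rw [Subgroup.eq_bot_of_subsingleton (Q : Subgroup K)]
        infer_instance

/-- **S4274.** -/
theorem j1_main {G : Type u} [Group G] [Finite G] (hG : Nat.card G = 175560) :
    IsSimpleGroup G ∨ ∀ P : Sylow 19 G, (P : Subgroup G).Normal := by
  by_cases hs : IsSimpleGroup G
  · exact Or.inl hs
  · right
    intro P
    have : Fact (Nat.Prime 19) := ⟨by norm_num⟩
    have hnt : Nontrivial G := by
      rw [← Finite.one_lt_card_iff_nontrivial, hG]; norm_num
    have hex : ∃ N : Subgroup G, N.Normal ∧ N ≠ ⊥ ∧ N ≠ ⊤ := by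
      by_contra hcon
      push Not at hcon
      apply hs
      exact ⟨fun N hN => by
        by_contra h
        push Not at h
        exact h.2 (hcon N hN h.1)⟩
    obtain ⟨N, hNn, hN1, hN2⟩ := hex
    refine j1_normal_of_exists_normal (by rw [hG]) ?_ N hN1 hN2 P
    intro k hk hkd
    rw [hG] at hk hkd
    exact j1_key k hkd (by omega)

end Cfsg.Agent.Lib.Helper41
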