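import Mathlib
import Cfsg.Agent.Lib.Helper41.DicksonNormalForm

set_option autoImplicit false

/-!
# Maximal subfield subgroups (helper41)

* `exists_prime_card_pow_of_no_intermediate`: a subfield `K` of a finite field `F` with no subfield
  strictly in between has `|F| = |K|^r`, `r` prime.
* `exists_map_eq_of_inM`: an element of `SL₂(F)` which is an `F`-multiple of a `K`-matrix of square
  determinant comes from `SL₂(K)`.
* `subfield_eq_or_eq_top_of_coatom`: if the image of `SL₂(K)` is a maximal subgroup of `SL₂(F)` then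
  there is no subfield strictly between `K` and `F`.
-/

namespace Cfsg.Agent.Lib.Helper41

open Cfsg.Agent.Lib.Helper11

/-- a subfield of a finite field with no proper intermediate field has prime degree -/
theorem exists_prime_card_pow_of_no_intermediate {F : Type*} [Field F] [Fintype F]
    (K : Subfield F) (hK : K ≠ ⊤) (hmax : ∀ K₁ : Subfield F, K ≤ K₁ → K₁ = K ∨ K₁ = ⊤) :
    ∃ r : ℕ, r.Prime ∧ Fintype.card F = Nat.card K ^ r := by
  classical
  have : Fintype K := Fintype.ofFinite K
  set m := Module.finrank K F with hm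
  have hcard : Fintype.card F = Fintype.card K ^ m := Module.card_eq_pow_finrank
  have hK2 : 2 ≤ Fintype.card K := Fintype.one_lt_card
  refine ⟨m, ?_, by rw [hcard, Nat.card_eq_fintype_card]⟩
  have hgal : Nat.card (F ≃ₐ[K] F) = m := IsGalois.card_aut_eq_finrank K F
  have hm0 : 0 < m := Module.finrank_pos
  have hm1 : m ≠ 1 := by
    intro h1
    apply hK
    rw [h1, pow_one] at hcard
    rw [eq_top_iff]
    intro x _
    by_contra hx
    have : Fintype.card K < Fintype.card F := Fintype.card_subtype_lt hx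
    omega
  by_contra hmp
  obtain ⟨a, ha, ham⟩ := Nat.exists_prime_and_dvd hm1
  have halt : a < m := lt_of_le_of_ne (Nat.le_of_dvd hm0 ham) (fun h => hmp (h ▸ ha))
  have : Fact a.Prime := ⟨ha⟩
  obtain ⟨σ, hσ⟩ := exists_prime_orderOf_dvd_card' (G := F ≃ₐ[K] F) a (by rw [hgal]; exact ham)
  set H : Subgroup (F ≃ₐ[K] F) := Subgroup.zpowers σ with hH
  have hHc : Nat.card H = a := by rw [Nat.card_zpowers, hσ]
  set E : IntermediateField K F := IntermediateField.fixedField H with hE
  have hEr : Module.finrank E F = a := by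
    rw [IntermediateField.finrank_fixedField_eq_card, hHc]
  have : Fintype E := Fintype.ofFinite E
  have hcardE : Fintype.card F = Fintype.card E ^ a := by
    rw [← hEr]; exact Module.card_eq_pow_finrank
  have hKE : K ≤ E.toSubfield := by
    intro x hx
    exact E.algebraMap_mem ⟨x, hx⟩
  have hcE : Fintype.card E = Nat.card E.toSubfield := by
    rw [← Nat.card_eq_fintype_card]; rfl
  rcases hmax E.toSubfield hKE with h | h
  · rw [hcE, h, Nat.card_eq_fintype_card, hcard] at hcardE
    have := Nat.pow_right_injective hK2 hcardE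
    omega
  · rw [hcE, h] at hcardE
    have htop : Nat.card (⊤ : Subfield F) = Fintype.card F := by
      rw [← Nat.card_eq_fintype_card]
      exact Nat.card_congr (Subfield.topEquiv (K := F)).toEquiv
    rw [htop] at hcardE
    have hF2 : 2 ≤ Fintype.card F := Fintype.one_lt_card
    have h1 : Fintype.card F ^ 1 = Fintype.card F ^ a := by rw [pow_one]; exact hcardE
    have := Nat.pow_right_injective hF2 h1
    exact ha.one_lt.ne this

variable {F : Type*} [Field F]

local notation "SL2" => Matrix.SpecialLinearGroup (Fin 2) F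
local notation "PSL2" => Matrix.ProjectiveSpecialLinearGroup (Fin 2) F

/-- an `F`-multiple of a `K`-matrix with square determinant, lying in `SL₂(F)`, comes from
`SL₂(K)` -/
theorem exists_map_eq_of_inM {K : Type*} [Field K] (φ : K →+* F) (hsq : ∀ x : K, IsSquare x)
    {l : SL2} (hl : InM φ l) :
    ∃ s : Matrix.SpecialLinearGroup (Fin 2) K, Matrix.SpecialLinearGroup.map φ s = l := by
  obtain ⟨c, g', hc, hg'⟩ := hl
  have hdet : φ g'.det = c ^ 2 := by
    rw [← det_map_ringHom, hg', det_smul_coe]
  obtain ⟨r, hr⟩ := hsq g'.det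
  have hsq' : c ^ 2 = (φ r) ^ 2 := by rw [← hdet, hr, map_mul]; ring
  have hr0 : r ≠ 0 := by
    rintro rfl
    rw [map_zero] at hsq'
    exact pow_ne_zero 2 hc (by rw [hsq']; ring)
  obtain ⟨μ, hμ0, hμ⟩ : ∃ μ : K, μ ≠ 0 ∧ φ μ = c := by
    rcases sq_eq_sq_iff_eq_or_eq_neg.mp hsq' with h | h
    · exact ⟨r, hr0, h.symm⟩
    · exact ⟨-r, neg_ne_zero.mpr hr0, by rw [map_neg, h]⟩
  have hμ2 : μ ^ 2 = g'.det := by
    apply φ.injective
    rw [map_pow, hμ, hdet]
  let s : Matrix.SpecialLinearGroup (Fin 2) K := ⟨μ⁻¹ • g', by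
    rw [Matrix.det_smul, Fintype.card_fin, ← hμ2, inv_pow]
    exact inv_mul_cancel₀ (pow_ne_zero 2 hμ0)⟩
  refine ⟨s, ?_⟩
  apply Subtype.ext
  rw [coe_map_sl]
  show (μ⁻¹ • g').map φ = (l : Matrix (Fin 2) (Fin 2) F)
  have : (μ⁻¹ • g').map φ = (φ μ)⁻¹ • g'.map φ := by
    ext i j
    simp [Matrix.map_apply, Matrix.smul_apply]
  rw [this, hg', hμ, smul_smul, inv_mul_cancel₀ hc, one_smul]

/-- `u(t)` lies in the image of `SL₂(K)` iff `t ∈ K` -/
theorem upperU_mem_range_iff (K : Subfield F) (t : F) :
    upperU t ∈ (Matrix.SpecialLinearGroup.map (n := Fin 2) K.subtype).range ↔ t ∈ K := by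
  constructor
  · rintro ⟨s, hs⟩
    have h1 := congrArg (fun g : SL2 => (g : Matrix (Fin 2) (Fin 2) F) 0 1) hs
    simp only [coe_map_sl, Matrix.map_apply, coe_upperU] at h1
    have h2 : K.subtype ((s : Matrix (Fin 2) (Fin 2) K) 0 1) = t := by
      rw [h1]; simp
    rw [← h2]
    exact ((s : Matrix (Fin 2) (Fin 2) K) 0 1).2
  · intro ht
    refine ⟨upperU ⟨t, ht⟩, ?_⟩
    rw [map_upperU]
    rfl

/-- if the image of `SL₂(K)` is a maximal subgroup of `SL₂(F)`, no subfield lies strictly between
`K` and `F` -/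
theorem subfield_eq_or_eq_top_of_coatom (K : Subfield F)
    (hco : IsCoatom (Matrix.SpecialLinearGroup.map (n := Fin 2) K.subtype).range)
    (K₁ : Subfield F) (hKK₁ : K ≤ K₁) : K₁ = K ∨ K₁ = ⊤ := by
  have hle : (Matrix.SpecialLinearGroup.map (n := Fin 2) K.subtype).range
      ≤ (Matrix.SpecialLinearGroup.map (n := Fin 2) K₁.subtype).range := by
    rintro _ ⟨s, rfl⟩
    refine ⟨Matrix.SpecialLinearGroup.map (Subfield.inclusion hKK₁) s, ?_⟩
    apply Subtype.ext
    rw [coe_map_sl, coe_map_sl, coe_map_sl]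
    ext i j
    simp only [Matrix.map_apply, Subfield.coe_subtype]
    rfl
  rcases hco.le_iff.mp hle with h | h
  · right
    rw [eq_top_iff]
    intro t _
    rw [← upperU_mem_range_iff, h]
    exact Subgroup.mem_top _
  · left
    apply le_antisymm _ hKK₁
    intro t ht
    rw [← upperU_mem_range_iff, ← h, upperU_mem_range_iff]
    exact ht

end Cfsg.Agent.Lib.Helper41
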