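import Mathlib
import Cfsg.Agent.Lib.Helper14.PSL2Dihedral
import Cfsg.Agent.Lib.Helper41.DicksonMax3

set_option autoImplicit false

/-!
# Maximal subgroups of `PSL₂(F)` of torus-normaliser type (helper41)

* `exists_conj_mem_of_not_dvd_index`: an `r`-element is conjugate into a subgroup of index prime
  to `r`.
* `coatom_equiv_of_prime_elem`: a maximal subgroup `M` of a simple group normalising `⟨x⟩`, `x` of
  prime order `r`, contains a conjugate of any "dihedral-like" group `D ≥ T` with `r ∤ |G : T|`.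
* `coatom_dihedral_of_clause_a`: in `PSL₂(F)`, a maximal subgroup which is cyclic or dihedral of
  order divisible by an odd prime is dihedral of order `2 (q ± 1) / d`.
-/

namespace Cfsg.Agent.Lib.Helper41

open Cfsg.Agent.Lib.Helper11 Cfsg.Agent.Lib.Helper42 Cfsg.Agent.Lib.Helper14

/-- an `r`-element is conjugate into any subgroup of index prime to `r` -/
theorem exists_conj_mem_of_not_dvd_index {G : Type*} [Group G] (T : Subgroup G) (r : ℕ)
    [Fact r.Prime] (hr : ¬ r ∣ T.index) (x : G) (k : ℕ) (hx : x ^ (r ^ k) = 1) :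
    ∃ g : G, g * x * g⁻¹ ∈ T := by
  have hP : IsPGroup r (Subgroup.zpowers x) := by
    intro y
    refine ⟨k, ?_⟩
    obtain ⟨i, hi⟩ := Subgroup.mem_zpowers_iff.mp y.2
    apply Subtype.ext
    rw [Subgroup.coe_pow, ← hi, ← zpow_natCast, ← zpow_mul, mul_comm, zpow_mul, zpow_natCast, hx,
      one_zpow]
    rfl
  have hidx : ¬ r ∣ Nat.card (G ⧸ T) := hr
  obtain ⟨a, ha⟩ := hP.nonempty_fixed_point_of_prime_not_dvd_card (G ⧸ T) hidx
  induction a using QuotientGroup.induction_on with
  | H g =>
    refine ⟨g⁻¹, ?_⟩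
    have h1 := ha ⟨x, Subgroup.mem_zpowers x⟩
    have h2 : ((x * g : G) : G ⧸ T) = (g : G ⧸ T) := h1
    rw [QuotientGroup.eq] at h2
    have h3 := T.inv_mem h2
    rw [inv_inv]
    have e : ((x * g)⁻¹ * g)⁻¹ = g⁻¹ * x * g := by group
    rwa [e] at h3

/-- a maximal subgroup normalising a subgroup `⟨x⟩` of prime order `r` contains a conjugate of
every group `D` acting by `±1` on a subgroup `T` of index prime to `r` -/
theorem coatom_equiv_of_prime_elem {G : Type*} [Group G] [Finite G] [IsSimpleGroup G]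
    (M : Subgroup G) (hM : IsCoatom M) (T D : Subgroup G)
    (hD : ∀ d ∈ D, ∀ y ∈ T, d * y * d⁻¹ = y ∨ d * y * d⁻¹ = y⁻¹)
    (r : ℕ) [Fact r.Prime] (hr : ¬ r ∣ T.index) (x : G) (hxM : x ∈ M) (hx1 : x ≠ 1)
    (hxr : x ^ r = 1) (hnorm : ∀ m ∈ M, m * x * m⁻¹ ∈ Subgroup.zpowers x)
    (hcard : Nat.card M ≤ Nat.card D) : Nonempty (M ≃* D) := by
  obtain ⟨g, hg⟩ := exists_conj_mem_of_not_dvd_index T r hr x 1 (by rw [pow_one]; exact hxr)
  set N : Subgroup G := Subgroup.normalizer ((Subgroup.zpowers x : Subgroup G) : Set G) with hN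
  -- conjugation by an element sending `x` into `⟨x⟩` (both ways) normalises `⟨x⟩`
  have hmemN : ∀ m : G, m * x * m⁻¹ ∈ Subgroup.zpowers x → m⁻¹ * x * m ∈ Subgroup.zpowers x →
      m ∈ N := by
    intro m h1 h2
    rw [hN, Subgroup.mem_normalizer_iff]
    intro y
    constructor
    · intro hy
      obtain ⟨i, rfl⟩ := Subgroup.mem_zpowers_iff.mp hy
      have : m * x ^ i * m⁻¹ = (m * x * m⁻¹) ^ i := by
        rw [← MulAut.conj_apply, map_zpow, MulAut.conj_apply]
      rw [this]
      exact Subgroup.zpow_mem _ h1 i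
    · intro hy
      obtain ⟨i, hi⟩ := Subgroup.mem_zpowers_iff.mp hy
      have e : y = m⁻¹ * (m * y * m⁻¹) * m := by group
      rw [e, ← hi]
      have : m⁻¹ * x ^ i * m = (m⁻¹ * x * m) ^ i := by
        have h3 := map_zpow (MulAut.conj m⁻¹) x i
        rw [MulAut.conj_apply, MulAut.conj_apply, inv_inv] at h3
        exact h3
      rw [this]
      exact Subgroup.zpow_mem _ h2 i
  have hMN : M ≤ N := by
    intro m hm
    apply hmemN m (hnorm m hm)
    have := hnorm m⁻¹ (M.inv_mem hm)
    rwa [inv_inv] at this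
  set D' : Subgroup G := D.map (MulAut.conj g⁻¹).toMonoidHom with hD'
  have hD'N : D' ≤ N := by
    rintro _ ⟨d, hd, rfl⟩
    have hconj : ∀ d ∈ D, (g⁻¹ * d * g) * x * (g⁻¹ * d * g)⁻¹ ∈ Subgroup.zpowers x := by
      intro d hd
      have e : (g⁻¹ * d * g) * x * (g⁻¹ * d * g)⁻¹ = g⁻¹ * (d * (g * x * g⁻¹) * d⁻¹) * g := by group
      rw [e]
      rcases hD d hd _ hg with h | h
      · rw [h]
        have : g⁻¹ * (g * x * g⁻¹) * g = x := by group
        rw [this]; exact Subgroup.mem_zpowers x
      · rw [h]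
        have : g⁻¹ * (g * x * g⁻¹)⁻¹ * g = x⁻¹ := by group
        rw [this]; exact Subgroup.inv_mem _ (Subgroup.mem_zpowers x)
    have e1 : (MulAut.conj g⁻¹).toMonoidHom d = g⁻¹ * d * g := by
      show g⁻¹ * d * g⁻¹⁻¹ = _
      rw [inv_inv]
    rw [e1]
    apply hmemN _ (hconj d hd)
    have := hconj d⁻¹ (D.inv_mem hd)
    have e2 : (g⁻¹ * d⁻¹ * g) = (g⁻¹ * d * g)⁻¹ := by group
    rw [e2, inv_inv] at this
    exact this
  have hNtop : N ≠ ⊤ := by
    intro htop
    have hnormal : (Subgroup.zpowers x).Normal := Subgroup.normalizer_eq_top_iff.mp htop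
    rcases hnormal.eq_bot_or_eq_top with h | h
    · apply hx1
      have := Subgroup.mem_zpowers x
      rw [h, Subgroup.mem_bot] at this
      exact this
    · apply hM.1
      rw [eq_top_iff, ← h, Subgroup.zpowers_le]
      exact hxM
  have hNM : N = M := by
    rcases hM.le_iff.mp hMN with h | h
    · exact absurd h hNtop
    · exact h
  have hD'M : D' ≤ M := hNM ▸ hD'N
  have eD : D ≃* D' := D.equivMapOfInjective _ (MulAut.conj g⁻¹).injective
  have hcard' : Nat.card M ≤ Nat.card D' := by
    rw [← Nat.card_congr eD.toEquiv]; exact hcard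
  have hDM : D' = M := Subgroup.eq_of_le_of_card_ge hD'M hcard'
  exact ⟨(MulEquiv.subgroupCongr hDM.symm).trans eD.symm⟩

/-- a normal subgroup of prime order `r` in the dihedral group of order `2 n`, `r ∣ n` -/
theorem dihedral_exists_normal_prime {n r : ℕ} (hr : r.Prime) (hrn : r ∣ n) (hn0 : n ≠ 0) :
    ∃ x : DihedralGroup n, x ≠ 1 ∧ x ^ r = 1 ∧
      ∀ m : DihedralGroup n, m * x * m⁻¹ = x ∨ m * x * m⁻¹ = x⁻¹ := by
  obtain ⟨j, rfl⟩ := hrn
  have hj0 : j ≠ 0 := by
    rintro rfl
    exact hn0 (mul_zero r)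
  refine ⟨DihedralGroup.r ((j : ℕ) : ZMod (r * j)), ?_, ?_, ?_⟩
  · intro h
    rw [DihedralGroup.one_def] at h
    have h' : ((j : ℕ) : ZMod (r * j)) = 0 := DihedralGroup.r.inj h
    rw [ZMod.natCast_eq_zero_iff] at h'
    have hle := Nat.le_of_dvd (Nat.pos_of_ne_zero hj0) h'
    have : 2 * j ≤ r * j := Nat.mul_le_mul_right j hr.two_le
    omega
  · rw [DihedralGroup.r_pow, DihedralGroup.one_def]
    congr 1
    have : ((j : ℕ) : ZMod (r * j)) * ((r : ℕ) : ZMod (r * j)) = ((r * j : ℕ) : ZMod (r * j)) := by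
      push_cast; ring
    rw [this, ZMod.natCast_self]
  · intro m
    rcases m with i | i
    · left
      rw [DihedralGroup.inv_r, DihedralGroup.r_mul_r, DihedralGroup.r_mul_r]
      congr 1
      ring
    · right
      rw [DihedralGroup.inv_sr, DihedralGroup.sr_mul_r, DihedralGroup.sr_mul_sr,
        DihedralGroup.inv_r]
      congr 1
      ring

variable {F : Type*} [Field F]

local notation "SL2" => Matrix.SpecialLinearGroup (Fin 2) F
local notation "PSL2" => Matrix.ProjectiveSpecialLinearGroup (Fin 2) F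

/-- the image of the monomial group acts by `±1` on the image of the diagonal torus -/
theorem splitDih_conj (d : PSL2) (hd : d ∈ splitDih F) (y : PSL2) (hy : y ∈ splitTorusBar F) :
    d * y * d⁻¹ = y ∨ d * y * d⁻¹ = y⁻¹ := by
  obtain ⟨h, hh, rfl⟩ := hd
  obtain ⟨t, ht, rfl⟩ := hy
  have ht' : IsDiag t := ht
  rcases hh with hh | hh
  · left
    rw [← map_inv, ← map_mul, ← map_mul]
    congr 1
    have hh' : IsDiag h := hh
    have hdet := sl2_det h
    rw [hh'.1, hh'.2] at hdet
    apply sl2_ext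
    · simp only [mul_apply_00, mul_apply_01, inv_apply_00, inv_apply_10, hh'.1, hh'.2, ht'.1,
        ht'.2]
      linear_combination (t : Matrix (Fin 2) (Fin 2) F) 0 0 * hdet
    · simp only [mul_apply_00, mul_apply_01, inv_apply_01, inv_apply_11, hh'.1, hh'.2, ht'.1,
        ht'.2]
      ring
    · simp only [mul_apply_10, mul_apply_11, inv_apply_00, inv_apply_10, hh'.1, hh'.2, ht'.1,
        ht'.2]
      ring
    · simp only [mul_apply_10, mul_apply_11, inv_apply_01, inv_apply_11, hh'.1, hh'.2, ht'.1,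
        ht'.2]
      linear_combination (t : Matrix (Fin 2) (Fin 2) F) 1 1 * hdet
  · right
    rw [← map_inv, ← map_mul, ← map_mul, ← map_inv]
    congr 1
    exact IsAntidiag.conj_diag hh ht'

/-- the image of the normaliser of the non-split torus acts by `±1` on the image of the torus -/
theorem nsDih_conj (t : F) (d : PSL2) (hd : d ∈ nsDih t) (y : PSL2) (hy : y ∈ nsTorusBar t) :
    d * y * d⁻¹ = y ∨ d * y * d⁻¹ = y⁻¹ := by
  obtain ⟨h, hh, rfl⟩ := hd
  obtain ⟨x, hx, rfl⟩ := hy
  have hx' : IsQuad t x := (mem_nsTorus_iff t x).mp hx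
  rcases hh with hh | hh
  · left
    rw [← map_inv, ← map_mul, ← map_mul]
    congr 1
    rw [hh.commute hx', mul_inv_cancel_right]
  · right
    rw [← map_inv, ← map_mul, ← map_mul, ← map_inv]
    congr 1
    exact hh.conj_quad hx'

/-- a maximal subgroup of `PSL₂(F)` which is cyclic of order `n` or dihedral of order `2 n`, with
`n` dividing the order of the cyclic group `T` and divisible by a prime `r ∤ |G : T|`, is isomorphic
to the dihedral group `D ≥ T` -/
theorem coatom_dihedral_aux [Fintype F] (hq4 : 4 ≤ Fintype.card F) (M : Subgroup PSL2)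
    (hM : IsCoatom M) (T D : Subgroup PSL2)
    (hD : ∀ d ∈ D, ∀ y ∈ T, d * y * d⁻¹ = y ∨ d * y * d⁻¹ = y⁻¹)
    (eD : D ≃* DihedralGroup (Nat.card T)) (r : ℕ) (hr : r.Prime) (hrT : ¬ r ∣ T.index)
    (n : ℕ) (hnT : n ∣ Nat.card T)
    (h : (IsCyclic M ∧ Nat.card M = n) ∨ Nonempty (M ≃* DihedralGroup n)) (hrn : r ∣ n) :
    Nonempty (M ≃* DihedralGroup (Nat.card T)) := by
  classical
  have hfin : Finite PSL2 := by
    have : Finite SL2 := finite_SL2
    exact Finite.of_surjective prj prj_surjective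
  have hsimple : IsSimpleGroup PSL2 :=
    Matrix.ProjectiveSpecialLinearGroup.rank_two_simple (by
      rw [Nat.card_eq_fintype_card]; exact hq4)
  have : Fact r.Prime := ⟨hr⟩
  have hTpos : 0 < Nat.card T := Nat.card_pos
  have hn0 : n ≠ 0 := by
    rintro rfl
    rw [zero_dvd_iff] at hnT
    omega
  have hnle : n ≤ Nat.card T := Nat.le_of_dvd hTpos hnT
  -- the element `x`
  obtain ⟨x, hx1, hxr, hxn⟩ : ∃ x : M, x ≠ 1 ∧ x ^ r = 1 ∧
      ∀ m : M, m * x * m⁻¹ = x ∨ m * x * m⁻¹ = x⁻¹ := by
    rcases h with ⟨hcyc, hcard⟩ | ⟨⟨e⟩⟩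
    · have hrM : r ∣ Nat.card M := by rw [hcard]; exact hrn
      obtain ⟨x, hx⟩ := exists_prime_orderOf_dvd_card' r hrM
      refine ⟨x, ?_, ?_, ?_⟩
      · rintro rfl
        rw [orderOf_one] at hx
        exact hr.one_lt.ne hx
      · rw [← hx]; exact pow_orderOf_eq_one x
      · intro m
        left
        obtain ⟨g, hg⟩ := IsCyclic.exists_generator (α := M)
        obtain ⟨i, rfl⟩ := Subgroup.mem_zpowers_iff.mp (hg m)
        obtain ⟨j, rfl⟩ := Subgroup.mem_zpowers_iff.mp (hg x)
        rw [(Commute.zpow_zpow_self g i j).eq, mul_inv_cancel_right]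
    · obtain ⟨y, hy1, hyr, hyn⟩ := dihedral_exists_normal_prime hr hrn hn0
      refine ⟨e.symm y, ?_, ?_, ?_⟩
      · intro h1
        apply hy1
        have := congrArg e h1
        rwa [e.apply_symm_apply, map_one] at this
      · rw [← map_pow, hyr, map_one]
      · intro m
        rcases hyn (e m) with h1 | h1
        · left
          apply e.injective
          rw [map_mul, map_mul, map_inv, e.apply_symm_apply, h1]
        · right
          apply e.injective
          rw [map_mul, map_mul, map_inv, map_inv, e.apply_symm_apply, h1]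
  have hcardM : Nat.card M ≤ Nat.card D := by
    rw [Nat.card_congr eD.toEquiv, DihedralGroup.nat_card]
    rcases h with ⟨-, hcard⟩ | ⟨⟨e⟩⟩
    · rw [hcard]; omega
    · rw [Nat.card_congr e.toEquiv, DihedralGroup.nat_card]; omega
  obtain ⟨f⟩ := coatom_equiv_of_prime_elem M hM T D hD r hrT (x : PSL2) x.2
    (fun h1 => hx1 (Subtype.ext h1))
    (by
      have := congrArg Subtype.val hxr
      simpa using this)
    (by
      intro m hm
      rcases hxn ⟨m, hm⟩ with h1 | h1
      · have h2 := congrArg Subtype.val h1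
        simp only [Subgroup.coe_mul, Subgroup.coe_inv] at h2
        rw [h2]; exact Subgroup.mem_zpowers _
      · have h2 := congrArg Subtype.val h1
        simp only [Subgroup.coe_mul, Subgroup.coe_inv] at h2
        rw [h2]; exact Subgroup.inv_mem _ (Subgroup.mem_zpowers _))
    hcardM
  exact ⟨f.trans eD⟩

/-- **Torus normalisers.**  A maximal subgroup of `PSL₂(F)`, `|F| = q ≥ 4`, which is cyclic of
order `n` or dihedral of order `2 n` with `n ∣ (q ± 1) / d`, where `n` has an odd prime factor, is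
dihedral of order `2 (q ± 1) / d`. -/
theorem coatom_dihedral_of_clause_a [Fintype F] (hq4 : 4 ≤ Fintype.card F) (M : Subgroup PSL2)
    (hM : IsCoatom M) (n : ℕ)
    (hn : n ∣ (Fintype.card F + 1) / Nat.gcd 2 (Fintype.card F - 1) ∨
      n ∣ (Fintype.card F - 1) / Nat.gcd 2 (Fintype.card F - 1))
    (h : (IsCyclic M ∧ Nat.card M = n) ∨ Nonempty (M ≃* DihedralGroup n))
    (r : ℕ) (hr : r.Prime) (hr2 : r ≠ 2) (hrn : r ∣ n) :
    Nonempty (M ≃* DihedralGroup ((Fintype.card F + 1) / Nat.gcd 2 (Fintype.card F - 1))) ∨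
    Nonempty (M ≃* DihedralGroup ((Fintype.card F - 1) / Nat.gcd 2 (Fintype.card F - 1))) := by
  classical
  have hfinS : Finite SL2 := finite_SL2
  have hfin : Finite PSL2 := Finite.of_surjective prj prj_surjective
  set q := Fintype.card F with hq
  set z := Nat.gcd 2 (q - 1) with hz
  have hzc : Nat.card (Subgroup.center SL2) = z := card_center_eq_gcd
  have hzpos : 0 < z := Nat.gcd_pos_of_pos_left _ (by norm_num)
  have hG : Nat.card PSL2 * z = q * (q ^ 2 - 1) := card_PSL2_mul_gcd
  have hq21 : q ^ 2 - 1 = (q - 1) * (q + 1) := by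
    have h1 : 1 ≤ q := by omega
    obtain ⟨a, ha⟩ : ∃ a, q = a + 1 := ⟨q - 1, by omega⟩
    rw [ha]
    simp only [Nat.add_sub_cancel]
    have : (a + 1) ^ 2 = a * (a + 1 + 1) + 1 := by ring
    rw [this, Nat.add_sub_cancel]
  have hrodd : ¬ r ∣ 2 := by
    intro h2
    exact hr2 ((Nat.prime_dvd_prime_iff_eq hr Nat.prime_two).mp h2)
  rcases hn with hn | hn
  · -- non-split torus
    left
    obtain ⟨t, ht⟩ := exists_nonsplit_trace (F := F)
    have hT : Nat.card (nsTorusBar t) * z = q + 1 := by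
      rw [← hzc]; exact card_nsTorusBar_mul ht
    have hTdiv : (q + 1) / z = Nat.card (nsTorusBar t) :=
      Nat.div_eq_of_eq_mul_left hzpos hT.symm
    obtain ⟨eD⟩ := nsDih_dihedral ht
    have hidx : (nsTorusBar t).index = q * (q - 1) := by
      have h1 := Subgroup.index_mul_card (nsTorusBar t)
      have h2 : (nsTorusBar t).index * (q + 1) = (q * (q - 1)) * (q + 1) := by
        calc (nsTorusBar t).index * (q + 1)
            = ((nsTorusBar t).index * Nat.card (nsTorusBar t)) * z := by rw [← hT]; ring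
          _ = q * (q ^ 2 - 1) := by rw [h1, hG]
          _ = (q * (q - 1)) * (q + 1) := by rw [hq21]; ring
      exact Nat.eq_of_mul_eq_mul_right (by omega) h2
    have hrq1 : r ∣ q + 1 := by
      refine dvd_trans hrn (dvd_trans hn ?_)
      rw [hTdiv]; exact ⟨z, hT.symm⟩
    have hrT : ¬ r ∣ (nsTorusBar t).index := by
      rw [hidx]
      intro hd
      rcases (Nat.Prime.dvd_mul hr).mp hd with h1 | h1
      · have : r ∣ 1 := (Nat.dvd_add_right h1).mp hrq1
        exact hr.one_lt.ne' (Nat.dvd_one.mp this)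
      · apply hrodd
        have e : q + 1 = (q - 1) + 2 := by omega
        rw [e] at hrq1
        exact (Nat.dvd_add_right h1).mp hrq1
    rw [hTdiv]
    exact coatom_dihedral_aux hq4 M hM (nsTorusBar t) (nsDih t) (nsDih_conj t) eD r hr hrT n
      (by rw [← hTdiv]; exact hn) h hrn
  · -- split torus
    right
    have hT : Nat.card (splitTorusBar F) * z = q - 1 := by
      rw [← hzc]; exact card_splitTorusBar_mul
    have hTdiv : (q - 1) / z = Nat.card (splitTorusBar F) :=
      Nat.div_eq_of_eq_mul_left hzpos hT.symm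
    obtain ⟨eD⟩ := splitDih_dihedral (F := F)
    have hidx : (splitTorusBar F).index = q * (q + 1) := by
      have h1 := Subgroup.index_mul_card (splitTorusBar F)
      have h2 : (splitTorusBar F).index * (q - 1) = (q * (q + 1)) * (q - 1) := by
        calc (splitTorusBar F).index * (q - 1)
            = ((splitTorusBar F).index * Nat.card (splitTorusBar F)) * z := by rw [← hT]; ring
          _ = q * (q ^ 2 - 1) := by rw [h1, hG]
          _ = (q * (q + 1)) * (q - 1) := by rw [hq21]; ring
      exact Nat.eq_of_mul_eq_mul_right (by omega) h2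
    have hrq1 : r ∣ q - 1 := by
      refine dvd_trans hrn (dvd_trans hn ?_)
      rw [hTdiv]; exact ⟨z, hT.symm⟩
    have hrT : ¬ r ∣ (splitTorusBar F).index := by
      rw [hidx]
      intro hd
      rcases (Nat.Prime.dvd_mul hr).mp hd with h1 | h1
      · have e : q = (q - 1) + 1 := by omega
        rw [e] at h1
        have : r ∣ 1 := (Nat.dvd_add_right hrq1).mp h1
        exact hr.one_lt.ne' (Nat.dvd_one.mp this)
      · apply hrodd
        have e : q + 1 = (q - 1) + 2 := by omega
        rw [e] at h1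
        exact (Nat.dvd_add_right hrq1).mp h1
    rw [hTdiv]
    exact coatom_dihedral_aux hq4 M hM (splitTorusBar F) (splitDih F) splitDih_conj eD r hr hrT n
      (by rw [← hTdiv]; exact hn) h hrn

end Cfsg.Agent.Lib.Helper41
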