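import Mathlib
import Cfsg.Agent.Lib.Helper41.MaxTorus
import Cfsg.Agent.Lib.Helper41.MaxSubfield

set_option autoImplicit false

/-!
# Maximal subgroups of `PSL₂(F)`, `F` finite of characteristic 2 (helper41)
-/

namespace Cfsg.Agent.Lib.Helper41

open Cfsg.Agent.Lib.Helper11 Cfsg.Agent.Lib.Helper42 Cfsg.Agent.Lib.Helper14

variable {F : Type*} [Field F]

local notation "SL2" => Matrix.SpecialLinearGroup (Fin 2) F
local notation "PSL2" => Matrix.ProjectiveSpecialLinearGroup (Fin 2) F

/-- a subgroup of `PSL₂(F)` of order divisible by `p` has a conjugate containing the image of some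
`u(t)`, `t ≠ 0` -/
theorem exists_conj_upperU_mem [Fintype F] (p : ℕ) [Fact p.Prime] [CharP F p] (H : Subgroup PSL2)
    (hp : p ∣ Nat.card H) :
    ∃ (g : PSL2) (t : F), t ≠ 0 ∧ prj (upperU t) ∈ H.map (MulAut.conj g).toMonoidHom := by
  classical
  have hfin : Finite SL2 := finite_SL2
  set Ht : Subgroup SL2 := H.comap prj with hHt
  have hdvd : p ∣ Nat.card Ht := by
    refine dvd_trans hp ?_
    exact Subgroup.card_dvd_of_surjective (prj.subgroupComap H)
      (MonoidHom.subgroupComap_surjective_of_surjective prj H prj_surjective)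
  obtain ⟨x, hx⟩ := exists_prime_orderOf_dvd_card' p hdvd
  have hxord : orderOf (x : SL2) = p := by rw [Subgroup.orderOf_coe, hx]
  have hP : IsPGroup p (Subgroup.zpowers (x : SL2)) := by
    apply IsPGroup.of_card (n := 1)
    rw [Nat.card_zpowers, hxord, pow_one]
  obtain ⟨g, hg⟩ := Cfsg.Agent.Lib.Helper46.exists_conj_le_upperU (p := p) _ hP
  obtain ⟨t, ht⟩ := hg (x : SL2) (Subgroup.mem_zpowers _)
  have ht' : g⁻¹ * (x : SL2) * g = upperU t := ht
  have ht0 : t ≠ 0 := by
    rintro rfl
    rw [upperU_zero] at ht'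
    have hx1 : (x : SL2) = 1 := by
      calc (x : SL2) = g * (g⁻¹ * (x : SL2) * g) * g⁻¹ := by group
        _ = 1 := by rw [ht']; group
    rw [hx1, orderOf_one] at hxord
    exact (Fact.out : p.Prime).one_lt.ne hxord
  refine ⟨prj g⁻¹, t, ht0, prj (x : SL2), x.2, ?_⟩
  show prj g⁻¹ * prj (x : SL2) * (prj g⁻¹)⁻¹ = prj (upperU t)
  rw [← ht']
  simp only [map_mul, map_inv, inv_inv]

/-- in characteristic 2, a 2-subgroup of `PSL₂(F)` containing the image of `u(t₀)`, `t₀ ≠ 0`,
consists of images of upper unitriangular matrices -/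
theorem eq_prj_upperU_of_two_group [Fintype F] [CharP F 2] (Q : Subgroup PSL2) (hQ : IsPGroup 2 Q)
    {t₀ : F} (ht₀0 : t₀ ≠ 0) (ht₀ : prj (upperU t₀) ∈ Q) (x : PSL2) (hx : x ∈ Q) :
    ∃ s : F, x = prj (upperU s) := by
  classical
  have : Fact (Nat.Prime 2) := ⟨Nat.prime_two⟩
  have h2F : (2 : F) = 0 := by
    have := CharP.cast_eq_zero F 2
    exact_mod_cast this
  have hcen : Subgroup.center SL2 = ⊥ := Cfsg.Agent.Lib.Helper5.center_SL2_eq_bot_of_two_eq_zero h2F
  set Qt : Subgroup SL2 := Q.comap prj with hQt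
  have hPt : IsPGroup 2 Qt := by
    intro y
    obtain ⟨k, hk⟩ := hQ ⟨prj (y : SL2), y.2⟩
    refine ⟨k, ?_⟩
    have h1 : prj ((y : SL2) ^ (2 ^ k)) = 1 := by
      rw [map_pow]
      have := congrArg Subtype.val hk
      simpa using this
    rw [prj_eq_one_iff, hcen, Subgroup.mem_bot] at h1
    apply Subtype.ext
    rw [Subgroup.coe_pow, h1]; rfl
  obtain ⟨g, hg⟩ := Cfsg.Agent.Lib.Helper46.exists_conj_le_upperU (p := 2) Qt hPt
  obtain ⟨y, rfl⟩ := prj_surjective x
  have hyQt : y ∈ Qt := hx
  have huQt : upperU t₀ ∈ Qt := ht₀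
  obtain ⟨a, ha⟩ := hg y hyQt
  obtain ⟨b, hb⟩ := hg (upperU t₀) huQt
  have ha' : g⁻¹ * y * g = upperU a := ha
  have hb' : g⁻¹ * upperU t₀ * g = upperU b := hb
  have hcomm : y * upperU t₀ = upperU t₀ * y := by
    have e1 : y = g * upperU a * g⁻¹ := by rw [← ha']; group
    have e2 : upperU t₀ = g * upperU b * g⁻¹ := by rw [← hb']; group
    have e3 : upperU a * upperU b = upperU b * upperU a := by
      rw [← upperU_add, ← upperU_add, add_comm]
    calc y * upperU t₀ = g * (upperU a * upperU b) * g⁻¹ := by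
          conv_lhs => rw [e1, e2]
          group
      _ = g * (upperU b * upperU a) * g⁻¹ := by rw [e3]
      _ = upperU t₀ * y := by
          conv_rhs => rw [e1, e2]
          group
  have hu1 : upperU t₀ ≠ 1 := by
    intro h1
    rw [← upperU_zero] at h1
    exact ht₀0 (upperU_injective h1)
  rcases centralizer_uniSub' (upperU_mem_uniSub t₀) hu1 hcomm with h | h
  · exact ⟨_, congrArg prj (eq_upperU_of_mem_uniSub h)⟩
  · refine ⟨((y * (-1) : SL2) : Matrix (Fin 2) (Fin 2) F) 0 1, ?_⟩
    rw [← eq_upperU_of_mem_uniSub h, map_mul, prj_neg_one, mul_one]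

/-- in the situation of `eq_prj_upperU_of_two_group`, `|Q| ≤ |M ∩ U|` for `Q ≤ M` -/
theorem card_le_card_uSet_of_two_group [Fintype F] [CharP F 2] (M Q : Subgroup PSL2) (hQM : Q ≤ M)
    (hQ : IsPGroup 2 Q) {t₀ : F} (ht₀0 : t₀ ≠ 0) (ht₀ : prj (upperU t₀) ∈ Q) :
    Nat.card Q ≤ Nat.card (uSet (M.comap prj)) := by
  classical
  have hfinS : Finite SL2 := finite_SL2
  have hex : ∀ x : Q, ∃ s : F, (x : PSL2) = prj (upperU s) :=
    fun x => eq_prj_upperU_of_two_group Q hQ ht₀0 ht₀ x x.2
  choose f hf using hex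
  have hmem : ∀ x : Q, f x ∈ uSet (M.comap prj) := by
    intro x
    show prj (upperU (f x)) ∈ M
    rw [← hf x]
    exact hQM x.2
  have hfinU : Finite (uSet (M.comap prj)) := Subtype.finite
  apply Nat.card_le_card_of_injective (fun x : Q => (⟨f x, hmem x⟩ : uSet (M.comap prj)))
  intro x y hxy
  apply Subtype.ext
  have : f x = f y := congrArg Subtype.val hxy
  rw [hf x, hf y, this]

/-- a maximal subgroup of `PSL₂(F)` whose preimage is upper triangular is the image of the Borel
subgroup -/
theorem coatom_card_of_le_borel [Fintype F] (M : Subgroup PSL2) (hM : IsCoatom M)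
    (hB : M.comap prj ≤ borelSub F) :
    Nat.card M * Nat.gcd 2 (Fintype.card F - 1) = Fintype.card F * (Fintype.card F - 1) := by
  classical
  have hfinS : Finite SL2 := finite_SL2
  have hfin : Finite PSL2 := Finite.of_surjective prj prj_surjective
  have hq2 : 2 ≤ Fintype.card F := Fintype.one_lt_card
  have hle : M ≤ borelBar F := by
    intro x hx
    obtain ⟨y, rfl⟩ := prj_surjective x
    exact ⟨y, hB hx, rfl⟩
  have hcB : Nat.card (borelBar F) * Nat.gcd 2 (Fintype.card F - 1)
      = (Fintype.card F - 1) * Fintype.card F := by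
    rw [← card_center_eq_gcd]; exact card_borelBar_mul
  have hcG : Nat.card PSL2 * Nat.gcd 2 (Fintype.card F - 1)
      = Fintype.card F * (Fintype.card F ^ 2 - 1) := card_PSL2_mul_gcd
  have hne : borelBar F ≠ ⊤ := by
    intro htop
    rw [htop, Subgroup.card_top, hcG] at hcB
    set q := Fintype.card F with hq
    have h1 : q ^ 2 - 1 = q - 1 := by
      have : q * (q ^ 2 - 1) = q * (q - 1) := by rw [hcB]; ring
      exact Nat.eq_of_mul_eq_mul_left (by omega) this
    have h2 : q ^ 2 = q * q := pow_two q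
    have h3 : 2 * q ≤ q * q := Nat.mul_le_mul_right q hq2
    omega
  have hMB : borelBar F = M := by
    rcases hM.le_iff.mp hle with h | h
    · exact absurd h hne
    · exact h
  rw [← hMB, hcB, mul_comm]

/-- a finite field has a model in `Type` -/
theorem exists_type_zero_ringEquiv (K : Type*) [Field K] [Finite K] :
    ∃ (K' : Type) (_ : Field K') (_ : Fintype K'), Nonempty (K' ≃+* K) := by
  classical
  obtain ⟨p, hp⟩ := CharP.exists K
  have := hp
  have : Fact p.Prime := ⟨CharP.char_is_prime K p⟩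
  have : Fintype K := Fintype.ofFinite K
  obtain ⟨n, -, hn⟩ := FiniteField.card K p
  have : Fintype (GaloisField p n) := Fintype.ofFinite _
  have hcard : Fintype.card (GaloisField p n) = Fintype.card K := by
    rw [← Nat.card_eq_fintype_card, GaloisField.card p n n.ne_zero, hn]
  exact ⟨GaloisField p n, inferInstance, inferInstance, ⟨FiniteField.ringEquivOfCardEq hcard⟩⟩

/-- **Subfield case, characteristic 2.** -/
theorem coatom_subfield_of_generic_char_two [Fintype F] [CharP F 2] (M : Subgroup PSL2)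
    (hM : IsCoatom M) (hq : 4 ≤ Nat.card (uSet (M.comap prj)))
    (hnB : ¬ M.comap prj ≤ borelSub F) :
    ∃ (F₀ : Type) (_ : Field F₀) (_ : Fintype F₀) (r : ℕ), r.Prime ∧ Fintype.card F₀ ≠ 2 ∧
      Fintype.card F = Fintype.card F₀ ^ r ∧
      Nonempty (M ≃* Matrix.ProjectiveSpecialLinearGroup (Fin 2) F₀) := by
  classical
  have : Fact (Nat.Prime 2) := ⟨Nat.prime_two⟩
  set Mt : Subgroup SL2 := M.comap prj with hMt
  have hZ : Subgroup.center SL2 ≤ Mt := by
    intro z hz
    show prj z ∈ M
    rw [prj_eq_one_iff.mpr hz]; exact M.one_mem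
  obtain ⟨α, K, hSL, hInM, hU, hcardK⟩ := normal_form_of_not_le_borel 2 Mt hZ hq hnB
  have hcharK : CharP K 2 := (RingHom.charP_iff_charP K.subtype 2).mpr inferInstance
  have hsq : ∀ x : K, IsSquare x := FiniteField.isSquare_of_char_two (ringChar.eq K 2)
  set H₂ : Subgroup SL2 := Mt.map α.toMonoidHom with hH₂
  have hH₂eq : H₂ = (Matrix.SpecialLinearGroup.map (n := Fin 2) K.subtype).range := by
    apply le_antisymm
    · intro l hl
      obtain ⟨s, hs⟩ := exists_map_eq_of_inM K.subtype hsq (hInM l hl)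
      exact ⟨s, hs⟩
    · rintro _ ⟨s, rfl⟩
      exact hSL s
  have hco : IsCoatom H₂ :=
    (OrderIso.isCoatom_iff (MulEquiv.mapSubgroup α) Mt).mpr
      (Subgroup.isCoatom_comap_of_surjective prj_surjective hM)
  have hco' : IsCoatom (Matrix.SpecialLinearGroup.map (n := Fin 2) K.subtype).range := hH₂eq ▸ hco
  have hKtop : K ≠ ⊤ := by
    intro htop
    apply hco'.1
    rw [eq_top_iff]
    intro g _
    have hu : ∀ t : F, upperU t ∈ (Matrix.SpecialLinearGroup.map (n := Fin 2) K.subtype).range := by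
      intro t
      rw [upperU_mem_range_iff, htop]; trivial
    have hl : ∀ t : F, lowerU t ∈ (Matrix.SpecialLinearGroup.map (n := Fin 2) K.subtype).range := by
      intro t
      refine ⟨lowerU ⟨t, by rw [htop]; trivial⟩, ?_⟩
      rw [map_lowerU]; rfl
    have := map_mem_of_upper_lower (RingHom.id F) _ hu hl g
    have hid : Matrix.SpecialLinearGroup.map (RingHom.id F) g = g := by
      apply Subtype.ext
      rw [coe_map_sl]
      ext i j
      simp
    rwa [hid] at this
  obtain ⟨r, hr, hFr⟩ := exists_prime_card_pow_of_no_intermediate K hKtop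
    (subfield_eq_or_eq_top_of_coatom K hco')
  obtain ⟨K', i1, i2, ⟨e⟩⟩ := exists_type_zero_ringEquiv K
  set φ : K' →+* F := K.subtype.comp e.toRingHom with hφ
  have hcardK' : Fintype.card K' = Nat.card K := by
    rw [← Nat.card_eq_fintype_card]; exact Nat.card_congr e.toEquiv
  have hrange : (Matrix.SpecialLinearGroup.map (n := Fin 2) K.subtype).range
      = (Matrix.SpecialLinearGroup.map (n := Fin 2) φ).range := by
    apply le_antisymm
    · rintro _ ⟨s, rfl⟩
      refine ⟨Matrix.SpecialLinearGroup.map e.symm.toRingHom s, ?_⟩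
      apply Subtype.ext
      rw [coe_map_sl, coe_map_sl, coe_map_sl]
      ext i j
      simp [hφ, Matrix.map_apply]
    · rintro _ ⟨s, rfl⟩
      refine ⟨Matrix.SpecialLinearGroup.map e.toRingHom s, ?_⟩
      apply Subtype.ext
      rw [coe_map_sl, coe_map_sl, coe_map_sl]
      ext i j
      simp [hφ, Matrix.map_apply]
  refine ⟨K', i1, i2, r, hr, ?_, ?_, ?_⟩
  · rw [hcardK', hcardK]; omega
  · rw [hcardK']; exact hFr
  · have hmap : Mt.map prj = M := Subgroup.map_comap_eq_self_of_surjective prj_surjective M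
    obtain ⟨e₁⟩ := nonempty_map_mk_equiv_of_aut α Mt
    have h2 : H₂.map (QuotientGroup.mk' (Subgroup.center SL2)) = (pslHom φ).range := by
      rw [hH₂eq, hrange, MonoidHom.map_range]; rfl
    exact ⟨((MulEquiv.subgroupCongr hmap.symm).trans e₁).trans
      ((MulEquiv.subgroupCongr h2).trans (pslHomRangeEquiv φ))⟩

/-- **Small case, characteristic 2.** -/
theorem coatom_dihedral_of_small_char_two [Fintype F] [CharP F 2] (h4 : 4 ≤ Fintype.card F)
    (heven : Even (Fintype.card F)) (M : Subgroup PSL2) (hM : IsCoatom M) {t₀ : F} (ht₀0 : t₀ ≠ 0)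
    (ht₀ : prj (upperU t₀) ∈ M) (hq : Nat.card (uSet (M.comap prj)) < 4)
    (hnB : ¬ M.comap prj ≤ borelSub F) :
    Nonempty (M ≃* DihedralGroup (Fintype.card F + 1)) ∨
      Nonempty (M ≃* DihedralGroup (Fintype.card F - 1)) := by
  classical
  have : Fact (Nat.Prime 2) := ⟨Nat.prime_two⟩
  have hfinS : Finite SL2 := finite_SL2
  have hfin : Finite PSL2 := Finite.of_surjective prj prj_surjective
  have hgcd : Nat.gcd 2 (Fintype.card F - 1) = 1 := by
    have : (Fintype.card F - 1) % 2 = 1 := by have := Nat.even_iff.mp heven; omega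
    rw [Nat.gcd_rec, this]; rfl
  -- the Sylow 2-subgroups of `M` have order at most 2
  have h4M : ¬ 4 ∣ Nat.card M := by
    intro h4M
    set u : M := ⟨prj (upperU t₀), ht₀⟩ with hu
    have hu2 : u ^ 2 = 1 := by
      apply Subtype.ext
      rw [Subgroup.coe_pow, Subgroup.coe_one]
      show prj (upperU t₀) ^ 2 = 1
      rw [← map_pow, upperU_pow_char 2 t₀, map_one]
    have hPu : IsPGroup 2 (Subgroup.zpowers u) := by
      intro y
      refine ⟨1, ?_⟩
      obtain ⟨i, hi⟩ := Subgroup.mem_zpowers_iff.mp y.2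
      apply Subtype.ext
      rw [Subgroup.coe_pow, ← hi, pow_one, ← zpow_natCast, ← zpow_mul, mul_comm, zpow_mul,
        zpow_natCast, hu2, one_zpow]
      rfl
    obtain ⟨P, hP⟩ := hPu.exists_le_sylow
    set Q : Subgroup PSL2 := (P : Subgroup M).map M.subtype with hQ
    have hQM : Q ≤ M := Subgroup.map_subtype_le _
    have hQp : IsPGroup 2 Q := P.2.map _
    have huQ : prj (upperU t₀) ∈ Q := ⟨u, hP (Subgroup.mem_zpowers u), rfl⟩
    have hle := card_le_card_uSet_of_two_group M Q hQM hQp ht₀0 huQ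
    have hcardQ : Nat.card Q = Nat.card P :=
      (Nat.card_congr ((P : Subgroup M).equivMapOfInjective _ M.subtype_injective).toEquiv).symm
    have h4P : 4 ∣ Nat.card P := by
      rw [Sylow.card_eq_multiplicity]
      have : (2 : ℕ) ^ 2 ∣ Nat.card M := by
        have e4 : (2 : ℕ) ^ 2 = 4 := by norm_num
        rw [e4]; exact h4M
      have h2 := (Nat.Prime.pow_dvd_iff_le_factorization Nat.prime_two Nat.card_pos.ne').mp this
      calc 4 = 2 ^ 2 := by norm_num
        _ ∣ 2 ^ (Nat.card M).factorization 2 := Nat.pow_dvd_pow 2 h2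
    have := Nat.le_of_dvd Nat.card_pos h4P
    omega
  rcases clause_ac_of_small 2 M ht₀0 ht₀ hq hnB with ⟨n, hn, h⟩ | ⟨⟨e⟩⟩ | ⟨⟨e⟩⟩ | ⟨⟨e⟩⟩
  · rw [hgcd, Nat.div_one, Nat.div_one] at hn
    have hnodd : n % 2 = 1 := by
      have hQe := Nat.even_iff.mp heven
      rcases hn with ⟨c, hc⟩ | ⟨c, hc⟩
      · have : (Fintype.card F + 1) % 2 = 1 := by omega
        rw [hc, Nat.mul_mod] at this
        rcases Nat.mod_two_eq_zero_or_one n with h0 | h1
        · rw [h0] at this; simp at this
        · exact h1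
      · have : (Fintype.card F - 1) % 2 = 1 := by omega
        rw [hc, Nat.mul_mod] at this
        rcases Nat.mod_two_eq_zero_or_one n with h0 | h1
        · rw [h0] at this; simp at this
        · exact h1
    by_cases hn1 : n = 1
    · exfalso
      subst hn1
      rcases h with ⟨-, hcard⟩ | ⟨⟨e⟩⟩
      · -- `M` is trivial but contains `u ≠ 1`
        have hsub : Subsingleton M := (Nat.card_eq_one_iff_unique.mp hcard).1
        have h1 : (⟨prj (upperU t₀), ht₀⟩ : M) = 1 := Subsingleton.elim _ _
        have h2 : prj (upperU t₀) = 1 := congrArg Subtype.val h1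
        have h3 : upperU t₀ = 1 :=
          eq_one_of_mem_uniSub_of_mem_center' (upperU_mem_uniSub t₀) (prj_eq_one_iff.mp h2)
        rw [← upperU_zero] at h3
        exact ht₀0 (upperU_injective h3)
      · -- `M` has order 2, hence lies in the Borel subgroup
        have hcard : Nat.card M = 2 ^ 1 := by
          rw [Nat.card_congr e.toEquiv, DihedralGroup.nat_card]; norm_num
        have hMp : IsPGroup 2 M := IsPGroup.of_card hcard
        apply hnB
        intro y hy
        obtain ⟨s, hs⟩ := eq_prj_upperU_of_two_group M hMp ht₀0 ht₀ (prj y) hy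
        rw [← mk_mem_borelBar_iff]
        show prj y ∈ borelBar F
        rw [hs]
        exact ⟨upperU s, uniSub_le_borelSub (upperU_mem_uniSub s), rfl⟩
    · have hr : (n.minFac).Prime := Nat.minFac_prime hn1
      have hrn : n.minFac ∣ n := Nat.minFac_dvd n
      have hr2 : n.minFac ≠ 2 := by
        intro h2
        rw [h2] at hrn
        omega
      have := coatom_dihedral_of_clause_a h4 M hM n (by rw [hgcd, Nat.div_one, Nat.div_one]; exact hn)
        h n.minFac hr hr2 hrn
      rw [hgcd, Nat.div_one, Nat.div_one] at this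
      exact this
  · exfalso
    apply h4M
    rw [card_of_equiv_A4 e]; norm_num
  · exfalso
    apply h4M
    rw [card_of_equiv_S4 e]; norm_num
  · exfalso
    apply h4M
    rw [card_of_equiv_A5 e]; norm_num

/-- **Odd order, characteristic 2.**  A maximal subgroup of `PSL₂(F)`, `|F| ≥ 4` even, has even
order. -/
theorem two_dvd_card_of_coatom_char_two [Fintype F] [CharP F 2] (h4 : 4 ≤ Fintype.card F)
    (heven : Even (Fintype.card F)) (M : Subgroup PSL2) (hM : IsCoatom M) :
    2 ∣ Nat.card M := by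
  classical
  have : Fact (Nat.Prime 2) := ⟨Nat.prime_two⟩
  have hfinS : Finite SL2 := finite_SL2
  have hfin : Finite PSL2 := Finite.of_surjective prj prj_surjective
  have hgcd : Nat.gcd 2 (Fintype.card F - 1) = 1 := by
    have : (Fintype.card F - 1) % 2 = 1 := by have := Nat.even_iff.mp heven; omega
    rw [Nat.gcd_rec, this]; rfl
  by_contra hp
  rcases pprime_dickson 2 hp with ⟨n, hn, h⟩ | ⟨⟨e⟩⟩ | ⟨⟨e⟩⟩ | ⟨⟨e⟩⟩
  · by_cases hn1 : n = 1
    · subst hn1
      rcases h with ⟨-, hcard⟩ | ⟨⟨e⟩⟩
      · -- `M = ⊥` is not maximal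
        have hMbot : M = ⊥ := Subgroup.card_eq_one.mp hcard
        set u : PSL2 := prj (upperU (1 : F)) with hu
        have hu1 : u ≠ 1 := by
          intro h1
          have h3 : upperU (1 : F) = 1 :=
            eq_one_of_mem_uniSub_of_mem_center' (upperU_mem_uniSub 1) (prj_eq_one_iff.mp h1)
          rw [← upperU_zero] at h3
          exact one_ne_zero (upperU_injective h3)
        have hu2 : u ^ 2 = 1 := by
          rw [hu, ← map_pow, upperU_pow_char 2 (1 : F), map_one]
        have hle : M ≤ Subgroup.zpowers u := by rw [hMbot]; exact bot_le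
        rcases hM.le_iff.mp hle with h | h
        · -- `⟨u⟩ = ⊤` has order at most 2
          have hc1 : Nat.card (Subgroup.zpowers u) ≤ 2 := by
            rw [Nat.card_zpowers]
            exact orderOf_le_of_pow_eq_one (by norm_num) hu2
          rw [h, Subgroup.card_top] at hc1
          have hG : Nat.card PSL2 * Nat.gcd 2 (Fintype.card F - 1)
              = Fintype.card F * (Fintype.card F ^ 2 - 1) := card_PSL2_mul_gcd
          rw [hgcd, mul_one] at hG
          have h16 : 16 ≤ Fintype.card F ^ 2 := by nlinarith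
          have h15 : 15 ≤ Fintype.card F ^ 2 - 1 := by omega
          have : 4 * 15 ≤ Fintype.card F * (Fintype.card F ^ 2 - 1) := Nat.mul_le_mul h4 h15
          omega
        · apply hu1
          have := Subgroup.mem_zpowers u
          rw [h, hMbot, Subgroup.mem_bot] at this
          exact this
      · apply hp
        rw [Nat.card_congr e.toEquiv, DihedralGroup.nat_card]
    · have hnodd : n % 2 = 1 := by
        rcases h with ⟨-, hcard⟩ | ⟨⟨e⟩⟩
        · rw [← hcard]
          rcases Nat.mod_two_eq_zero_or_one (Nat.card M) with h0 | h1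
          · exact absurd (Nat.dvd_of_mod_eq_zero h0) hp
          · exact h1
        · exfalso
          apply hp
          rw [Nat.card_congr e.toEquiv, DihedralGroup.nat_card]
          exact dvd_mul_right 2 n
      have hr : (n.minFac).Prime := Nat.minFac_prime hn1
      have hrn : n.minFac ∣ n := Nat.minFac_dvd n
      have hr2 : n.minFac ≠ 2 := by
        intro h2
        rw [h2] at hrn
        omega
      rcases coatom_dihedral_of_clause_a h4 M hM n hn h n.minFac hr hr2 hrn with ⟨⟨e⟩⟩ | ⟨⟨e⟩⟩
      · apply hp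
        rw [Nat.card_congr e.toEquiv, DihedralGroup.nat_card]
        exact dvd_mul_right 2 _
      · apply hp
        rw [Nat.card_congr e.toEquiv, DihedralGroup.nat_card]
        exact dvd_mul_right 2 _
  · apply hp
    rw [card_of_equiv_A4 e]; norm_num
  · apply hp
    rw [card_of_equiv_S4 e]; norm_num
  · apply hp
    rw [card_of_equiv_A5 e]; norm_num

/-- **Maximal subgroups of `PSL₂(F)`, `|F| = q ≥ 4` even.** -/
theorem coatom_cases_char_two [Fintype F] (heven : Even (Fintype.card F))
    (h4 : 4 ≤ Fintype.card F) (M : Subgroup PSL2) (hM : IsCoatom M) :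
    Nat.card M = Fintype.card F * (Fintype.card F - 1) ∨
    Nonempty (M ≃* DihedralGroup (Fintype.card F - 1)) ∨
    Nonempty (M ≃* DihedralGroup (Fintype.card F + 1)) ∨
    (∃ (F₀ : Type) (_ : Field F₀) (_ : Fintype F₀) (r : ℕ), r.Prime ∧ Fintype.card F₀ ≠ 2 ∧
        Fintype.card F = Fintype.card F₀ ^ r ∧
        Nonempty (M ≃* Matrix.ProjectiveSpecialLinearGroup (Fin 2) F₀)) := by
  classical
  have hchar : ringChar F = 2 := FiniteField.even_card_iff_char_two.mpr (Nat.even_iff.mp heven)
  have : CharP F 2 := ringChar.of_eq hchar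
  have : Fact (Nat.Prime 2) := ⟨Nat.prime_two⟩
  have hgcd : Nat.gcd 2 (Fintype.card F - 1) = 1 := by
    have : (Fintype.card F - 1) % 2 = 1 := by have := Nat.even_iff.mp heven; omega
    rw [Nat.gcd_rec, this]; rfl
  have hp := two_dvd_card_of_coatom_char_two h4 heven M hM
  obtain ⟨g, t, ht0, ht⟩ := exists_conj_upperU_mem 2 M hp
  set M' : Subgroup PSL2 := M.map (MulAut.conj g).toMonoidHom with hM'
  have e : M ≃* M' := M.equivMapOfInjective _ (MulAut.conj g).injective
  have hco : IsCoatom M' := (OrderIso.isCoatom_iff (MulEquiv.mapSubgroup (MulAut.conj g)) M).mpr hM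
  by_cases hB : M'.comap prj ≤ borelSub F
  · left
    have := coatom_card_of_le_borel M' hco hB
    rw [hgcd, mul_one] at this
    rw [Nat.card_congr e.toEquiv, this]
  · by_cases hq : 4 ≤ Nat.card (uSet (M'.comap prj))
    · right; right; right
      obtain ⟨F₀, i1, i2, r, hr, h2, hFr, ⟨f⟩⟩ := coatom_subfield_of_generic_char_two M' hco hq hB
      exact ⟨F₀, i1, i2, r, hr, h2, hFr, ⟨e.trans f⟩⟩
    · rcases coatom_dihedral_of_small_char_two h4 heven M' hco ht0 ht (not_le.mp hq) hB with
        ⟨⟨f⟩⟩ | ⟨⟨f⟩⟩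
      · right; right; left
        exact ⟨e.trans f⟩
      · right; left
        exact ⟨e.trans f⟩

end Cfsg.Agent.Lib.Helper41
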