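import Mathlib
import Cfsg.Agent.Lib.Helper41.MaxTorus

set_option autoImplicit false

/-!
# Generic non-maximality criteria in finite groups (helper41)

* `exists_conj_le_of_not_dvd_index`: an `r`-subgroup is conjugate into a subgroup of index prime to
  `r`.
* `not_coatom_of_pgroup`: a maximal subgroup which is an `r`-group cannot be smaller than a proper
  subgroup of index prime to `r`.
* `coatom_eq_conj_of_prime_elem`: the conjugacy version of `coatom_equiv_of_prime_elem`.
* `not_coatom_of_dihedral_in`: a maximal subgroup of order `2 r` normalising a subgroup of prime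
  order `r` (`r² ∤ |G|`) is not contained in ... a proper subgroup `H` of different order containing
  a dihedral subgroup of order `2 r`.
-/

namespace Cfsg.Agent.Lib.Helper41

/-- an `r`-subgroup is conjugate into any subgroup of index prime to `r` -/
theorem exists_conj_le_of_not_dvd_index {G : Type*} [Group G] (T Q : Subgroup G) (r : ℕ)
    [Fact r.Prime] (hr : ¬ r ∣ T.index) (hQ : IsPGroup r Q) :
    ∃ g : G, Q.map (MulAut.conj g).toMonoidHom ≤ T := by
  have hidx : ¬ r ∣ Nat.card (G ⧸ T) := hr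
  obtain ⟨a, ha⟩ := hQ.nonempty_fixed_point_of_prime_not_dvd_card (G ⧸ T) hidx
  induction a using QuotientGroup.induction_on with
  | H g =>
    refine ⟨g⁻¹, ?_⟩
    rintro _ ⟨y, hy, rfl⟩
    have h1 := ha ⟨y, hy⟩
    have h2 : ((y * g : G) : G ⧸ T) = (g : G ⧸ T) := h1
    rw [QuotientGroup.eq] at h2
    have h3 := T.inv_mem h2
    have e : ((y * g)⁻¹ * g)⁻¹ = g⁻¹ * y * g := by group
    rw [e] at h3
    show g⁻¹ * y * g⁻¹⁻¹ ∈ T
    rw [inv_inv]
    exact h3

/-- conjugates of a coatom are coatoms -/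
theorem isCoatom_map_conj {G : Type*} [Group G] {M : Subgroup G} (hM : IsCoatom M) (g : G) :
    IsCoatom (M.map (MulAut.conj g).toMonoidHom) :=
  (OrderIso.isCoatom_iff (MulEquiv.mapSubgroup (MulAut.conj g)) M).mpr hM

theorem card_map_conj {G : Type*} [Group G] (M : Subgroup G) (g : G) :
    Nat.card (M.map (MulAut.conj g).toMonoidHom) = Nat.card M :=
  (Nat.card_congr (M.equivMapOfInjective _ (MulAut.conj g).injective).toEquiv).symm

/-- a maximal subgroup which is an `r`-group is not smaller than a proper subgroup of index prime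
to `r` -/
theorem not_coatom_of_pgroup {G : Type*} [Group G] [Finite G] (M H : Subgroup G) (hM : IsCoatom M)
    (r : ℕ) [Fact r.Prime] (hMp : IsPGroup r M) (hH : H ≠ ⊤) (hr : ¬ r ∣ H.index)
    (hcard : Nat.card M < Nat.card H) : False := by
  obtain ⟨g, hg⟩ := exists_conj_le_of_not_dvd_index H M r hr hMp
  have hco := isCoatom_map_conj hM g
  rcases hco.le_iff.mp hg with h | h
  · exact hH h
  · rw [h, card_map_conj] at hcard
    exact lt_irrefl _ hcard

/-- a maximal subgroup normalising a subgroup `⟨x⟩` of prime order `r` is a conjugate of any group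
`D` acting by `±1` on a subgroup `T` of index prime to `r`, provided `|M| ≤ |D|` -/
theorem coatom_eq_conj_of_prime_elem {G : Type*} [Group G] [Finite G] [IsSimpleGroup G]
    (M : Subgroup G) (hM : IsCoatom M) (T D : Subgroup G)
    (hD : ∀ d ∈ D, ∀ y ∈ T, d * y * d⁻¹ = y ∨ d * y * d⁻¹ = y⁻¹)
    (r : ℕ) [Fact r.Prime] (hr : ¬ r ∣ T.index) (x : G) (hxM : x ∈ M) (hx1 : x ≠ 1)
    (hxr : x ^ r = 1) (hnorm : ∀ m ∈ M, m * x * m⁻¹ ∈ Subgroup.zpowers x)
    (hcard : Nat.card M ≤ Nat.card D) : ∃ g : G, D.map (MulAut.conj g).toMonoidHom = M := by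
  obtain ⟨g, hg⟩ := exists_conj_mem_of_not_dvd_index T r hr x 1 (by rw [pow_one]; exact hxr)
  set N : Subgroup G := Subgroup.normalizer ((Subgroup.zpowers x : Subgroup G) : Set G) with hN
  have hmemN : ∀ m : G, m * x * m⁻¹ ∈ Subgroup.zpowers x → m⁻¹ * x * m ∈ Subgroup.zpowers x →
      m ∈ N := by
    intro m h1 h2
    rw [hN, Subgroup.mem_normalizer_iff]
    intro y
    constructor
    · intro hy
      obtain ⟨i, rfl⟩ := Subgroup.mem_zpowers_iff.mp hy
      have : m * x ^ i * m⁻¹ = (m * x * m⁻¹) ^ i := by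
        rw [← MulAut.conj_apply, map_zpow, MulAut.conj_apply]
      rw [this]
      exact Subgroup.zpow_mem _ h1 i
    · intro hy
      obtain ⟨i, hi⟩ := Subgroup.mem_zpowers_iff.mp hy
      have e : y = m⁻¹ * (m * y * m⁻¹) * m := by group
      rw [e, ← hi]
      have : m⁻¹ * x ^ i * m = (m⁻¹ * x * m) ^ i := by
        have h3 := map_zpow (MulAut.conj m⁻¹) x i
        rw [MulAut.conj_apply, MulAut.conj_apply, inv_inv] at h3
        exact h3
      rw [this]
      exact Subgroup.zpow_mem _ h2 i
  have hMN : M ≤ N := by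
    intro m hm
    apply hmemN m (hnorm m hm)
    have := hnorm m⁻¹ (M.inv_mem hm)
    rwa [inv_inv] at this
  set D' : Subgroup G := D.map (MulAut.conj g⁻¹).toMonoidHom with hD'
  have hD'N : D' ≤ N := by
    rintro _ ⟨d, hd, rfl⟩
    have hconj : ∀ d ∈ D, (g⁻¹ * d * g) * x * (g⁻¹ * d * g)⁻¹ ∈ Subgroup.zpowers x := by
      intro d hd
      have e : (g⁻¹ * d * g) * x * (g⁻¹ * d * g)⁻¹ = g⁻¹ * (d * (g * x * g⁻¹) * d⁻¹) * g := by group
      rw [e]
      rcases hD d hd _ hg with h | h
      · rw [h]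
        have : g⁻¹ * (g * x * g⁻¹) * g = x := by group
        rw [this]; exact Subgroup.mem_zpowers x
      · rw [h]
        have : g⁻¹ * (g * x * g⁻¹)⁻¹ * g = x⁻¹ := by group
        rw [this]; exact Subgroup.inv_mem _ (Subgroup.mem_zpowers x)
    have e1 : (MulAut.conj g⁻¹).toMonoidHom d = g⁻¹ * d * g := by
      show g⁻¹ * d * g⁻¹⁻¹ = _
      rw [inv_inv]
    rw [e1]
    apply hmemN _ (hconj d hd)
    have := hconj d⁻¹ (D.inv_mem hd)
    have e2 : (g⁻¹ * d⁻¹ * g) = (g⁻¹ * d * g)⁻¹ := by group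
    rw [e2, inv_inv] at this
    exact this
  have hNtop : N ≠ ⊤ := by
    intro htop
    have hnormal : (Subgroup.zpowers x).Normal := Subgroup.normalizer_eq_top_iff.mp htop
    rcases hnormal.eq_bot_or_eq_top with h | h
    · apply hx1
      have := Subgroup.mem_zpowers x
      rw [h, Subgroup.mem_bot] at this
      exact this
    · apply hM.1
      rw [eq_top_iff, ← h, Subgroup.zpowers_le]
      exact hxM
  have hNM : N = M := by
    rcases hM.le_iff.mp hMN with h | h
    · exact absurd h hNtop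
    · exact h
  have hD'M : D' ≤ M := hNM ▸ hD'N
  have hcard' : Nat.card M ≤ Nat.card D' := by
    rw [card_map_conj]; exact hcard
  exact ⟨g⁻¹, Subgroup.eq_of_le_of_card_ge hD'M hcard'⟩

/-- a maximal subgroup `M` of order `2 r` of a simple group normalising a subgroup of prime order
`r`, `r² ∤ |G|`, cannot coexist with a proper subgroup `H` of order `≠ 2 r` containing elements
`x` of order `r` and `y ∉ ⟨x⟩` inverting `x` -/
theorem not_coatom_of_dihedral_in {G : Type*} [Group G] [Finite G] [IsSimpleGroup G]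
    (M H : Subgroup G) (hM : IsCoatom M) (r : ℕ) [Fact r.Prime] (hG : ¬ r ^ 2 ∣ Nat.card G)
    (hMcard : Nat.card M = 2 * r) (x₀ : G) (hx₀M : x₀ ∈ M) (hx₀1 : x₀ ≠ 1) (hx₀r : x₀ ^ r = 1)
    (hnorm : ∀ m ∈ M, m * x₀ * m⁻¹ ∈ Subgroup.zpowers x₀)
    (hH : H ≠ ⊤) (hHcard : Nat.card H ≠ 2 * r) (x y : G) (hxH : x ∈ H) (hyH : y ∈ H)
    (hx1 : x ≠ 1) (hxr : x ^ r = 1) (hyx : y * x * y⁻¹ = x⁻¹) (hy : y ∉ Subgroup.zpowers x) :
    False := by
  have hr := (Fact.out : r.Prime)
  set T : Subgroup G := Subgroup.zpowers x with hT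
  have hTcard : Nat.card T = r := by
    rw [Nat.card_zpowers]
    exact orderOf_eq_prime hxr hx1
  have hrT : ¬ r ∣ T.index := by
    intro hd
    apply hG
    rw [← Subgroup.index_mul_card T, hTcard, pow_two]
    exact Nat.mul_dvd_mul_right hd r
  set D : Subgroup G := Subgroup.closure {x, y} with hDdef
  have hxD : x ∈ D := Subgroup.subset_closure (by simp)
  have hyD : y ∈ D := Subgroup.subset_closure (by simp)
  have hDH : D ≤ H := by
    rw [hDdef, Subgroup.closure_le]
    intro z hz
    rcases hz with rfl | rfl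
    · exact hxH
    · exact hyH
  have hD : ∀ d ∈ D, ∀ t ∈ T, d * t * d⁻¹ = t ∨ d * t * d⁻¹ = t⁻¹ := by
    intro d hd
    induction hd using Subgroup.closure_induction with
    | mem z hz =>
      intro t ht
      obtain ⟨i, rfl⟩ := Subgroup.mem_zpowers_iff.mp ht
      rcases hz with rfl | rfl
      · left
        rw [(Commute.self_zpow z i).eq, mul_inv_cancel_right]
      · right
        have : z * x ^ i * z⁻¹ = (z * x * z⁻¹) ^ i := by
          rw [← MulAut.conj_apply, map_zpow, MulAut.conj_apply]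
        rw [this, hyx, inv_zpow]
    | one =>
      intro t _
      left; simp
    | mul a b _ _ iha ihb =>
      intro t ht
      have e : a * b * t * (a * b)⁻¹ = a * (b * t * b⁻¹) * a⁻¹ := by group
      rw [e]
      rcases ihb t ht with h | h
      · rw [h]; exact iha t ht
      · rw [h]
        rcases iha t⁻¹ (T.inv_mem ht) with h' | h'
        · right; exact h'
        · left; rw [h', inv_inv]
    | inv a _ iha =>
      intro t ht
      rw [inv_inv]
      rcases iha t ht with h | h
      · left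
        calc a⁻¹ * t * a = a⁻¹ * (a * t * a⁻¹) * a := by rw [h]
          _ = t := by group
      · right
        have h' : a * t⁻¹ * a⁻¹ = t := by
          have : a * t⁻¹ * a⁻¹ = (a * t * a⁻¹)⁻¹ := by group
          rw [this, h, inv_inv]
        calc a⁻¹ * t * a = a⁻¹ * (a * t⁻¹ * a⁻¹) * a := by rw [h']
          _ = t⁻¹ := by group
  have hTD : T ≤ D := by
    rw [hT, Subgroup.zpowers_le]; exact hxD
  have hDcard : 2 * r ≤ Nat.card D := by
    have hdvd : r ∣ Nat.card D := by
      rw [← hTcard]; exact Subgroup.card_dvd_of_le hTD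
    obtain ⟨c, hc⟩ := hdvd
    have hDpos : 0 < Nat.card D := Nat.card_pos
    have hc1 : c ≠ 1 := by
      intro h1
      rw [h1, mul_one] at hc
      have : T = D := Subgroup.eq_of_le_of_card_ge hTD (by rw [hc, hTcard])
      apply hy
      rw [this]; exact hyD
    have hc0 : c ≠ 0 := by
      rintro rfl
      rw [mul_zero] at hc; omega
    have : 2 ≤ c := by omega
    rw [hc, mul_comm]
    exact Nat.mul_le_mul_left r this
  obtain ⟨g, hg⟩ := coatom_eq_conj_of_prime_elem M hM T D hD r hrT x₀ hx₀M hx₀1 hx₀r hnorm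
    (by rw [hMcard]; exact hDcard)
  have hle : M ≤ H.map (MulAut.conj g).toMonoidHom := by
    rw [← hg]; exact Subgroup.map_mono hDH
  rcases hM.le_iff.mp hle with h | h
  · apply hH
    have h1 : (MulEquiv.mapSubgroup (MulAut.conj g)) H = ⊤ := h
    have h2 : (MulEquiv.mapSubgroup (MulAut.conj g)) ⊤ = ⊤ := map_top _
    exact (MulEquiv.mapSubgroup (MulAut.conj g)).injective (h1.trans h2.symm)
  · apply hHcard
    rw [← hMcard, ← h, card_map_conj]

end Cfsg.Agent.Lib.Helper41
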