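import Mathlib
import Cfsg.Agent.Lib.Helper41.SL2Basic
import Cfsg.Agent.Lib.Helper41.SL2Conj

set_option autoImplicit false

/-!
# Small powers of elements of `SL₂(F)` from their traces (helper41)

`tr = 0 ⇒ g² = -1`, `tr = -1 ⇒ g³ = 1`, `tr = 1 ⇒ g³ = -1`, `tr² + tr = 1 ⇒ g⁵ = 1`, and the
corresponding statements in `PSL₂(F)`.
-/

namespace Cfsg.Agent.Lib.Helper41

variable {F : Type*} [Field F]

theorem tr2_mul (A B : Matrix.SpecialLinearGroup (Fin 2) F) :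
    tr2 (A * B) = (A : Matrix (Fin 2) (Fin 2) F) 0 0 * (B : Matrix (Fin 2) (Fin 2) F) 0 0
      + (A : Matrix (Fin 2) (Fin 2) F) 0 1 * (B : Matrix (Fin 2) (Fin 2) F) 1 0
      + (A : Matrix (Fin 2) (Fin 2) F) 1 0 * (B : Matrix (Fin 2) (Fin 2) F) 0 1
      + (A : Matrix (Fin 2) (Fin 2) F) 1 1 * (B : Matrix (Fin 2) (Fin 2) F) 1 1 := by
  unfold tr2
  rw [Matrix.SpecialLinearGroup.coe_mul]
  simp only [Matrix.mul_apply, Fin.sum_univ_two]
  ring

theorem coe_sq_of_tr2_zero (g : Matrix.SpecialLinearGroup (Fin 2) F) (h : tr2 g = 0) :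
    (g : Matrix (Fin 2) (Fin 2) F) ^ 2 = -1 := by
  rw [pow_two, cayley_hamilton, h, zero_smul, zero_sub]

theorem coe_pow_three_of_tr2 (g : Matrix.SpecialLinearGroup (Fin 2) F) :
    (g : Matrix (Fin 2) (Fin 2) F) ^ 3
      = (tr2 g ^ 2 - 1) • (g : Matrix (Fin 2) (Fin 2) F) - tr2 g • (1 : Matrix (Fin 2) (Fin 2) F) := by
  rw [pow_succ, pow_two, cayley_hamilton, Matrix.sub_mul, Matrix.smul_mul, cayley_hamilton,
    Matrix.one_mul]
  module

theorem coe_pow_three_of_tr2_neg_one (g : Matrix.SpecialLinearGroup (Fin 2) F) (h : tr2 g = -1) :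
    (g : Matrix (Fin 2) (Fin 2) F) ^ 3 = 1 := by
  rw [coe_pow_three_of_tr2, h]
  simp

theorem coe_pow_three_of_tr2_one (g : Matrix.SpecialLinearGroup (Fin 2) F) (h : tr2 g = 1) :
    (g : Matrix (Fin 2) (Fin 2) F) ^ 3 = -1 := by
  rw [coe_pow_three_of_tr2, h]
  simp

theorem smul_add_smul_mul_of {G : Matrix (Fin 2) (Fin 2) F} {t : F}
    (hG : G * G = t • G - 1) (a b : F) :
    (a • G + b • (1 : Matrix (Fin 2) (Fin 2) F)) * G
      = (a * t + b) • G + (-a) • (1 : Matrix (Fin 2) (Fin 2) F) := by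
  rw [Matrix.add_mul, Matrix.smul_mul, Matrix.smul_mul, Matrix.one_mul, hG]
  module

theorem pow_five_of_sq {G : Matrix (Fin 2) (Fin 2) F} {t : F}
    (hG : G * G = t • G - 1) (h : t ^ 2 + t = 1) : G ^ 5 = 1 := by
  have h1 : G ^ 1 = (1 : F) • G + (0 : F) • (1 : Matrix (Fin 2) (Fin 2) F) := by
    rw [pow_one, one_smul, zero_smul, add_zero]
  have h2 : G ^ 2
      = (1 * t + 0) • G + (-1 : F) • (1 : Matrix (Fin 2) (Fin 2) F) := by
    rw [pow_succ, h1, smul_add_smul_mul_of hG]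
  have h3 : G ^ 3
      = ((1 * t + 0) * t + -1) • G + (-(1 * t + 0)) • (1 : Matrix (Fin 2) (Fin 2) F) := by
    rw [pow_succ, h2, smul_add_smul_mul_of hG]
  have h4 : G ^ 4
      = (((1 * t + 0) * t + -1) * t + -(1 * t + 0)) • G + (-((1 * t + 0) * t + -1)) • (1 : Matrix (Fin 2) (Fin 2) F) := by
    rw [pow_succ, h3, smul_add_smul_mul_of hG]
  have h5 : G ^ 5
      = ((((1 * t + 0) * t + -1) * t + -(1 * t + 0)) * t + -((1 * t + 0) * t + -1)) • G + (-(((1 * t + 0) * t + -1) * t + -(1 * t + 0))) • (1 : Matrix (Fin 2) (Fin 2) F) := by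
    rw [pow_succ, h4, smul_add_smul_mul_of hG]
  rw [h5]
  have e1 : t ^ 2 = 1 - t := by linear_combination h
  have c1 : (((1 * t + 0) * t + -1) * t + -(1 * t + 0)) * t + -((1 * t + 0) * t + -1) = 0 := by
    have : (((1 * t + 0) * t + -1) * t + -(1 * t + 0)) * t + -((1 * t + 0) * t + -1)
        = (t ^ 2) ^ 2 - 3 * t ^ 2 + 1 := by ring
    rw [this, e1]
    ring_nf
    linear_combination h
  have c2 : -(((1 * t + 0) * t + -1) * t + -(1 * t + 0)) = 1 := by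
    have : -(((1 * t + 0) * t + -1) * t + -(1 * t + 0)) = 2 * t - t ^ 2 * t := by ring
    rw [this, e1]
    linear_combination h
  rw [c1, c2, zero_smul, zero_add, one_smul]

theorem coe_pow_five_of_tr2 (g : Matrix.SpecialLinearGroup (Fin 2) F) (h : tr2 g ^ 2 + tr2 g = 1) :
    (g : Matrix (Fin 2) (Fin 2) F) ^ 5 = 1 :=
  pow_five_of_sq (cayley_hamilton g) h

theorem mk_mul_self_of_tr2_zero (g : Matrix.SpecialLinearGroup (Fin 2) F) (h : tr2 g = 0) :
    (QuotientGroup.mk g : Matrix.ProjectiveSpecialLinearGroup (Fin 2) F) * QuotientGroup.mk g = 1 := by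
  rw [← pow_two, mk_pow_eq_one_iff]
  right
  exact coe_sq_of_tr2_zero g h

theorem mk_pow_three_of_tr2 (g : Matrix.SpecialLinearGroup (Fin 2) F)
    (h : tr2 g = 1 ∨ tr2 g = -1) :
    (QuotientGroup.mk g : Matrix.ProjectiveSpecialLinearGroup (Fin 2) F) ^ 3 = 1 := by
  rw [mk_pow_eq_one_iff]
  rcases h with h | h
  · right; exact coe_pow_three_of_tr2_one g h
  · left; exact coe_pow_three_of_tr2_neg_one g h

theorem mk_pow_five_of_tr2 (g : Matrix.SpecialLinearGroup (Fin 2) F)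
    (h : tr2 g ^ 2 + tr2 g = 1) :
    (QuotientGroup.mk g : Matrix.ProjectiveSpecialLinearGroup (Fin 2) F) ^ 5 = 1 := by
  rw [mk_pow_eq_one_iff]
  left; exact coe_pow_five_of_tr2 g h

end Cfsg.Agent.Lib.Helper41
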