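import Mathlib
import Cfsg.Agent.Lib.Helper41.MaxGeneric
import Cfsg.Agent.Lib.Helper41.DicksonMax3
import Cfsg.Agent.S0802
import Cfsg.Agent.S0803
import Cfsg.Agent.S0804

set_option autoImplicit false

/-!
# Dihedral maximal subgroups of `PSL₂(F)`, `|F|` odd (helper41)
-/

namespace Cfsg.Agent.Lib.Helper41

open Cfsg.Agent.Lib.Helper11 Cfsg.Agent.Lib.Helper42 Cfsg.Agent.Lib.Helper14

theorem not_mem_zpowers_of_inverts {G : Type*} [Group G] {x y : G} {r : ℕ} (hr : Odd r)
    (hx1 : x ≠ 1) (hxr : x ^ r = 1) (hyx : y * x * y⁻¹ = x⁻¹) : y ∉ Subgroup.zpowers x := by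
  intro hy
  obtain ⟨i, rfl⟩ := Subgroup.mem_zpowers_iff.mp hy
  have h1 : x ^ i * x * (x ^ i)⁻¹ = x := by
    rw [(Commute.zpow_self x i).eq, mul_inv_cancel_right]
  rw [h1] at hyx
  have h2 : x ^ 2 = 1 := by
    rw [pow_two]
    nth_rewrite 1 [hyx]
    exact inv_mul_cancel x
  obtain ⟨j, rfl⟩ := hr
  apply hx1
  have : x ^ (2 * j + 1) = x := by rw [pow_succ, pow_mul, h2, one_pow, one_mul]
  rw [← this, hxr]

variable {F : Type*} [Field F]

local notation "SL2" => Matrix.SpecialLinearGroup (Fin 2) F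
local notation "PSL2" => Matrix.ProjectiveSpecialLinearGroup (Fin 2) F

/-- Sylow-type exclusion -/
theorem not_coatom_dihedral_two_pow [Fintype F] (M H : Subgroup PSL2) (hM : IsCoatom M) (k a : ℕ)
    (hk : 2 * k = 2 ^ a) (e : M ≃* DihedralGroup k) (hk0 : k ≠ 0) (hH : H ≠ ⊤)
    (hidx : ¬ 2 ∣ H.index) (hlt : 2 * k < Nat.card H) : False := by
  have hfinS : Finite SL2 := finite_SL2
  have hfin : Finite PSL2 := Finite.of_surjective prj prj_surjective
  have : Fact (Nat.Prime 2) := ⟨Nat.prime_two⟩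
  have : NeZero k := ⟨hk0⟩
  have hcard : Nat.card M = 2 ^ a := by
    rw [Nat.card_congr e.toEquiv, DihedralGroup.nat_card, hk]
  have hMp : IsPGroup 2 M := IsPGroup.of_card hcard
  exact not_coatom_of_pgroup M H hM 2 hMp hH hidx (by rw [hcard, ← hk]; exact hlt)

/-- normaliser-type exclusion -/
theorem not_coatom_dihedral_prime [Fintype F] (hq4 : 4 ≤ Fintype.card F) (M H : Subgroup PSL2)
    (hM : IsCoatom M) (r : ℕ) [Fact r.Prime] (hr2 : r ≠ 2) (hG : ¬ r ^ 2 ∣ Nat.card PSL2)
    (e : M ≃* DihedralGroup r) (hH : H ≠ ⊤) (hHcard : Nat.card H ≠ 2 * r) (x y : PSL2)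
    (hxH : x ∈ H) (hyH : y ∈ H) (hx1 : x ≠ 1) (hxr : x ^ r = 1) (hyx : y * x * y⁻¹ = x⁻¹) :
    False := by
  have hfinS : Finite SL2 := finite_SL2
  have hfin : Finite PSL2 := Finite.of_surjective prj prj_surjective
  have hr := (Fact.out : r.Prime)
  have hsimple : IsSimpleGroup PSL2 :=
    Matrix.ProjectiveSpecialLinearGroup.rank_two_simple (by
      rw [Nat.card_eq_fintype_card]; exact hq4)
  have : NeZero r := ⟨hr.ne_zero⟩
  have hcard : Nat.card M = 2 * r := by
    rw [Nat.card_congr e.toEquiv, DihedralGroup.nat_card]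
  obtain ⟨x₁, hx₁1, hx₁r, hx₁n⟩ := dihedral_exists_normal_prime hr (dvd_refl r) hr.ne_zero
  have hrodd : Odd r := hr.odd_of_ne_two hr2
  refine not_coatom_of_dihedral_in M H hM r hG hcard ((e.symm x₁ : M) : PSL2) (e.symm x₁).2 ?_ ?_ ?_
    hH hHcard x y hxH hyH hx1 hxr hyx (not_mem_zpowers_of_inverts hrodd hx1 hxr hyx)
  · intro h1
    apply hx₁1
    have h2 : e.symm x₁ = 1 := Subtype.ext h1
    have := congrArg e h2
    rwa [e.apply_symm_apply, map_one] at this
  · rw [← Subgroup.coe_pow, ← map_pow, hx₁r, map_one, Subgroup.coe_one]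
  · intro m hm
    rcases hx₁n (e ⟨m, hm⟩) with h1 | h1
    · have h2 : (⟨m, hm⟩ : M) * e.symm x₁ * (⟨m, hm⟩ : M)⁻¹ = e.symm x₁ := by
        apply e.injective
        rw [map_mul, map_mul, map_inv, e.apply_symm_apply, h1]
      have h3 := congrArg Subtype.val h2
      simp only [Subgroup.coe_mul, Subgroup.coe_inv] at h3
      rw [h3]; exact Subgroup.mem_zpowers _
    · have h2 : (⟨m, hm⟩ : M) * e.symm x₁ * (⟨m, hm⟩ : M)⁻¹ = (e.symm x₁)⁻¹ := by
        apply e.injective
        rw [map_mul, map_mul, map_inv, map_inv, e.apply_symm_apply, h1]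
      have h3 := congrArg Subtype.val h2
      simp only [Subgroup.coe_mul, Subgroup.coe_inv] at h3
      rw [h3]; exact Subgroup.inv_mem _ (Subgroup.mem_zpowers _)

theorem card_PSL2_mul_two_of_odd [Fintype F] (hodd : Odd (Fintype.card F)) :
    Nat.card PSL2 * 2 = Fintype.card F * (Fintype.card F ^ 2 - 1) := by
  have := card_PSL2_mul_gcd (K := F)
  rwa [gcd_two_pred_of_odd hodd] at this

set_option maxRecDepth 100000 in
/-- `D₃` is not maximal in a group containing `S₄` properly, `9 ∤ |G|` -/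
theorem not_coatom_D3_of_S4 [Fintype F] (hq4 : 4 ≤ Fintype.card F) (M H : Subgroup PSL2)
    (hM : IsCoatom M) (hG9 : ¬ 9 ∣ Nat.card PSL2) (hG24 : Nat.card PSL2 ≠ 24)
    (e : M ≃* DihedralGroup 3) (f : H ≃* Equiv.Perm (Fin 4)) : False := by
  have : Fact (Nat.Prime 3) := ⟨Nat.prime_three⟩
  have hcH : Nat.card H = 24 := card_of_equiv_S4 f
  refine not_coatom_dihedral_prime hq4 M H hM 3 (by norm_num) (by norm_num; exact hG9) e ?_
    (by rw [hcH]; norm_num)
    ((f.symm (c[0, 1, 2] : Equiv.Perm (Fin 4)) : H) : PSL2)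
    ((f.symm (Equiv.swap 0 1 : Equiv.Perm (Fin 4)) : H) : PSL2)
    (f.symm _).2 (f.symm _).2 ?_ ?_ ?_
  · intro htop
    rw [htop, Subgroup.card_top] at hcH
    exact hG24 hcH
  · intro h1
    have h2 : f.symm (c[0, 1, 2] : Equiv.Perm (Fin 4)) = 1 := Subtype.ext h1
    have h3 := congrArg f h2
    rw [f.apply_symm_apply, map_one] at h3
    revert h3
    decide
  · rw [← Subgroup.coe_pow, ← map_pow]
    have : (c[0, 1, 2] : Equiv.Perm (Fin 4)) ^ 3 = 1 := by decide
    rw [this, map_one, Subgroup.coe_one]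
  · rw [← Subgroup.coe_inv, ← Subgroup.coe_inv, ← Subgroup.coe_mul, ← Subgroup.coe_mul, ← map_inv,
      ← map_mul, ← map_mul, ← map_inv]
    have : (Equiv.swap 0 1 : Equiv.Perm (Fin 4)) * c[0, 1, 2] * (Equiv.swap 0 1)⁻¹
        = (c[0, 1, 2])⁻¹ := by decide
    rw [this]

set_option maxRecDepth 100000 in
/-- `D₅` is not maximal in a group containing `A₅` properly, `25 ∤ |G|` -/
theorem not_coatom_D5_of_A5 [Fintype F] (hq4 : 4 ≤ Fintype.card F) (M H : Subgroup PSL2)
    (hM : IsCoatom M) (hG25 : ¬ 25 ∣ Nat.card PSL2) (hG60 : Nat.card PSL2 ≠ 60)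
    (e : M ≃* DihedralGroup 5) (f : H ≃* alternatingGroup (Fin 5)) : False := by
  have : Fact (Nat.Prime 5) := ⟨Nat.prime_five⟩
  have hcH : Nat.card H = 60 := card_of_equiv_A5 f
  set a : alternatingGroup (Fin 5) := ⟨c[0, 1, 2, 3, 4], by rw [Equiv.Perm.mem_alternatingGroup]; decide⟩ with ha
  set b : alternatingGroup (Fin 5) := ⟨Equiv.swap 1 4 * Equiv.swap 2 3, by rw [Equiv.Perm.mem_alternatingGroup]; decide⟩ with hb
  refine not_coatom_dihedral_prime hq4 M H hM 5 (by norm_num) (by norm_num; exact hG25) e ?_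
    (by rw [hcH]; norm_num)
    ((f.symm a : H) : PSL2) ((f.symm b : H) : PSL2)
    (f.symm _).2 (f.symm _).2 ?_ ?_ ?_
  · intro htop
    rw [htop, Subgroup.card_top] at hcH
    exact hG60 hcH
  · intro h1
    have h2 : f.symm a = 1 := Subtype.ext h1
    have h3 := congrArg f h2
    rw [f.apply_symm_apply, map_one] at h3
    revert h3
    decide
  · rw [← Subgroup.coe_pow, ← map_pow]
    have : a ^ 5 = 1 := by decide
    rw [this, map_one, Subgroup.coe_one]
  · rw [← Subgroup.coe_inv, ← Subgroup.coe_inv, ← Subgroup.coe_mul, ← Subgroup.coe_mul, ← map_inv,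
      ← map_mul, ← map_mul, ← map_inv]
    have : b * a * b⁻¹ = a⁻¹ := by decide
    rw [this]

/-- `q = 5`: the four-group is not maximal -/
theorem not_coatom_D2_of_card_five [Fintype F] (p : ℕ) [Fact p.Prime] [CharP F p]
    (hq : Fintype.card F = 5) (M : Subgroup PSL2) (hM : IsCoatom M) (e : M ≃* DihedralGroup 2) :
    False := by
  obtain ⟨n, -, hn⟩ := FiniteField.card F p
  have hA : ∃ H : Subgroup PSL2, Nonempty (H ≃* alternatingGroup (Fin 4)) := by
    refine (Cfsg.Agent.S0802.result p n hn).mpr ?_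
    rintro ⟨rfl, -⟩
    have : 2 ∣ 5 := by
      rw [← hq, hn]; exact dvd_pow_self 2 n.pos.ne'
    omega
  obtain ⟨H, ⟨f⟩⟩ := hA
  have hcH : Nat.card H = 12 := card_of_equiv_A4 f
  have hcG : Nat.card PSL2 = 60 := by
    have := card_PSL2_mul_two_of_odd (F := F) (by rw [hq]; decide)
    rw [hq] at this
    omega
  refine not_coatom_dihedral_two_pow M H hM 2 2 (by norm_num) e (by norm_num) ?_ ?_
    (by rw [hcH]; norm_num)
  · intro htop
    rw [htop, Subgroup.card_top, hcG] at hcH
    omega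
  · have := Subgroup.index_mul_card H
    rw [hcH, hcG] at this
    omega

/-- `q = 7, 9`: the dihedral group of order 8 is not maximal -/
theorem not_coatom_D4_of_card [Fintype F] (hq : Fintype.card F = 7 ∨ Fintype.card F = 9)
    (M : Subgroup PSL2) (hM : IsCoatom M) (e : M ≃* DihedralGroup 4) : False := by
  have hS : ∃ H : Subgroup PSL2, Nonempty (H ≃* Equiv.Perm (Fin 4)) := by
    refine (Cfsg.Agent.S0803.result (q := Fintype.card F) rfl).mpr ?_
    rcases hq with h | h <;> rw [h] <;> norm_num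
  obtain ⟨H, ⟨f⟩⟩ := hS
  have hcH : Nat.card H = 24 := card_of_equiv_S4 f
  have hcG : Nat.card PSL2 = 168 ∨ Nat.card PSL2 = 360 := by
    rcases hq with h | h
    · left
      have := card_PSL2_mul_two_of_odd (F := F) (by rw [h]; decide)
      rw [h] at this
      omega
    · right
      have := card_PSL2_mul_two_of_odd (F := F) (by rw [h]; decide)
      rw [h] at this
      omega
  refine not_coatom_dihedral_two_pow M H hM 4 3 (by norm_num) e (by norm_num) ?_ ?_
    (by rw [hcH]; norm_num)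
  · intro htop
    rw [htop, Subgroup.card_top] at hcH
    omega
  · have := Subgroup.index_mul_card H
    rw [hcH] at this
    omega

/-- `q = 7`: `D₃` is not maximal -/
theorem not_coatom_D3_of_card_seven [Fintype F] (hq : Fintype.card F = 7)
    (M : Subgroup PSL2) (hM : IsCoatom M) (e : M ≃* DihedralGroup 3) : False := by
  have hS : ∃ H : Subgroup PSL2, Nonempty (H ≃* Equiv.Perm (Fin 4)) := by
    refine (Cfsg.Agent.S0803.result (q := Fintype.card F) rfl).mpr ?_
    rw [hq]; norm_num
  obtain ⟨H, ⟨f⟩⟩ := hS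
  have hcG : Nat.card PSL2 = 168 := by
    have := card_PSL2_mul_two_of_odd (F := F) (by rw [hq]; decide)
    rw [hq] at this
    omega
  exact not_coatom_D3_of_S4 (by omega) M H hM (by rw [hcG]; norm_num) (by rw [hcG]; norm_num) e f

/-- `q = 9, 11`: `D₅` is not maximal -/
theorem not_coatom_D5_of_card [Fintype F] (hq : Fintype.card F = 9 ∨ Fintype.card F = 11)
    (M : Subgroup PSL2) (hM : IsCoatom M) (e : M ≃* DihedralGroup 5) : False := by
  have hS : ∃ H : Subgroup PSL2, Nonempty (H ≃* alternatingGroup (Fin 5)) := by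
    refine (Cfsg.Agent.S0804.result (q := Fintype.card F) rfl).mpr ?_
    rcases hq with h | h <;> rw [h] <;> norm_num
  obtain ⟨H, ⟨f⟩⟩ := hS
  have hcG : Nat.card PSL2 = 360 ∨ Nat.card PSL2 = 660 := by
    rcases hq with h | h
    · left
      have := card_PSL2_mul_two_of_odd (F := F) (by rw [h]; decide)
      rw [h] at this
      omega
    · right
      have := card_PSL2_mul_two_of_odd (F := F) (by rw [h]; decide)
      rw [h] at this
      omega
  refine not_coatom_D5_of_A5 (by rcases hq with h | h <;> omega) M H hM ?_ ?_ e f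
  · rcases hcG with h | h <;> rw [h] <;> norm_num
  · rcases hcG with h | h <;> rw [h] <;> norm_num

/-- a maximal subgroup of `PSL₂(F)`, `|F| = q` odd, which is a `2`-group is dihedral of order
`q ± 1` -/
theorem coatom_dihedral_of_two_group [Fintype F] (hodd : Odd (Fintype.card F))
    (h5 : 5 ≤ Fintype.card F) (M : Subgroup PSL2) (hM : IsCoatom M) (hM2 : IsPGroup 2 M) :
    Nonempty (M ≃* DihedralGroup ((Fintype.card F + 1) / 2)) ∨
    Nonempty (M ≃* DihedralGroup ((Fintype.card F - 1) / 2)) := by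
  classical
  have hfinS : Finite SL2 := finite_SL2
  have hfin : Finite PSL2 := Finite.of_surjective prj prj_surjective
  have : Fact (Nat.Prime 2) := ⟨Nat.prime_two⟩
  have hzc : Nat.card (Subgroup.center SL2) = 2 := by
    rw [card_center_eq_gcd, gcd_two_pred_of_odd hodd]
  have hG : Nat.card PSL2 * 2 = Fintype.card F * (Fintype.card F ^ 2 - 1) :=
    card_PSL2_mul_two_of_odd hodd
  set q := Fintype.card F with hq
  have hq21 : q ^ 2 - 1 = (q - 1) * (q + 1) := by
    obtain ⟨a, ha⟩ : ∃ a, q = a + 1 := ⟨q - 1, by omega⟩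
    rw [ha]
    simp only [Nat.add_sub_cancel]
    have : (a + 1) ^ 2 = a * (a + 1 + 1) + 1 := by ring
    rw [this, Nat.add_sub_cancel]
  have key : ∀ D : Subgroup PSL2, D ≠ ⊤ → ¬ 2 ∣ D.index → Nonempty (M ≃* D) := by
    intro D hD hidx
    obtain ⟨g, hg⟩ := exists_conj_le_of_not_dvd_index D M 2 hidx hM2
    have hco := isCoatom_map_conj hM g
    rcases hco.le_iff.mp hg with h | h
    · exact absurd h hD
    · exact ⟨(M.equivMapOfInjective _ (MulAut.conj g).injective).trans
        (MulEquiv.subgroupCongr h.symm)⟩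
  obtain ⟨k, hk⟩ := hodd
  rcases Nat.even_or_odd k with ⟨j, hj⟩ | ⟨j, hj⟩
  · -- `q = 4 j + 1`
    right
    obtain ⟨eD⟩ := splitDih_dihedral (F := F)
    have hT : Nat.card (splitTorusBar F) * 2 = q - 1 := by
      have := card_splitTorusBar_mul (F := F)
      rwa [hzc] at this
    have hTdiv : (q - 1) / 2 = Nat.card (splitTorusBar F) := by omega
    have hTpos : 0 < Nat.card (splitTorusBar F) := Nat.card_pos
    have : NeZero (Nat.card (splitTorusBar F)) := ⟨hTpos.ne'⟩
    have hcD : Nat.card (splitDih F) = q - 1 := by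
      rw [Nat.card_congr eD.toEquiv, DihedralGroup.nat_card]; omega
    have hidx := Subgroup.index_mul_card (splitDih F)
    rw [hcD] at hidx
    have hidx2 : (splitDih F).index * 2 = q * (q + 1) := by
      have h2 : ((splitDih F).index * 2) * (q - 1) = (q * (q + 1)) * (q - 1) := by
        calc ((splitDih F).index * 2) * (q - 1)
            = ((splitDih F).index * (q - 1)) * 2 := by ring
          _ = q * (q ^ 2 - 1) := by rw [hidx, hG]
          _ = (q * (q + 1)) * (q - 1) := by rw [hq21]; ring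
      exact Nat.eq_of_mul_eq_mul_right (by omega) h2
    have hqj : q = 4 * j + 1 := by omega
    have hne : splitDih F ≠ ⊤ := by
      intro htop
      rw [htop, Subgroup.index_top] at hidx2
      have : 5 * 6 ≤ q * (q + 1) := Nat.mul_le_mul h5 (by omega)
      omega
    have hoddidx : ¬ 2 ∣ (splitDih F).index := by
      rintro ⟨m, hm⟩
      rw [hm, hqj] at hidx2
      have : (4 * j + 1) * (4 * j + 1 + 1) = 4 * (4 * (j * j) + 3 * j) + 2 := by ring
      rw [this] at hidx2
      omega
    obtain ⟨f⟩ := key (splitDih F) hne hoddidx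
    rw [hTdiv]
    exact ⟨f.trans eD⟩
  · -- `q = 4 j + 3`
    left
    obtain ⟨t, ht⟩ := exists_nonsplit_trace (F := F)
    obtain ⟨eD⟩ := nsDih_dihedral ht
    have hT : Nat.card (nsTorusBar t) * 2 = q + 1 := by
      have := card_nsTorusBar_mul ht
      rwa [hzc] at this
    have hTdiv : (q + 1) / 2 = Nat.card (nsTorusBar t) := by omega
    have hTpos : 0 < Nat.card (nsTorusBar t) := Nat.card_pos
    have : NeZero (Nat.card (nsTorusBar t)) := ⟨hTpos.ne'⟩
    have hcD : Nat.card (nsDih t) = q + 1 := by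
      rw [Nat.card_congr eD.toEquiv, DihedralGroup.nat_card]; omega
    have hidx := Subgroup.index_mul_card (nsDih t)
    rw [hcD] at hidx
    have hidx2 : (nsDih t).index * 2 = q * (q - 1) := by
      have h2 : ((nsDih t).index * 2) * (q + 1) = (q * (q - 1)) * (q + 1) := by
        calc ((nsDih t).index * 2) * (q + 1)
            = ((nsDih t).index * (q + 1)) * 2 := by ring
          _ = q * (q ^ 2 - 1) := by rw [hidx, hG]
          _ = (q * (q - 1)) * (q + 1) := by rw [hq21]; ring
      exact Nat.eq_of_mul_eq_mul_right (by omega) h2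
    have hqj : q = 4 * j + 3 := by omega
    have hne : nsDih t ≠ ⊤ := by
      intro htop
      rw [htop, Subgroup.index_top] at hidx2
      have : 5 * 4 ≤ q * (q - 1) := Nat.mul_le_mul h5 (by omega)
      omega
    have hoddidx : ¬ 2 ∣ (nsDih t).index := by
      rintro ⟨m, hm⟩
      rw [hm, hqj] at hidx2
      have : (4 * j + 3) * (4 * j + 3 - 1) = 4 * (4 * (j * j) + 5 * j + 1) + 2 := by
        have e : 4 * j + 3 - 1 = 4 * j + 2 := by omega
        rw [e]; ring
      rw [this] at hidx2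
      omega
    obtain ⟨f⟩ := key (nsDih t) hne hoddidx
    rw [hTdiv]
    exact ⟨f.trans eD⟩

/-- **Clause (a), odd `q`.**  A maximal subgroup of `PSL₂(F)`, `|F| = q ≥ 5` odd, which is cyclic
or dihedral of the torus type is dihedral of order `q - 1` (`q ≥ 13`) or `q + 1` (`q ≠ 7, 9`). -/
theorem coatom_clause_a_odd [Fintype F] (p : ℕ) [Fact p.Prime] [CharP F p]
    (hodd : Odd (Fintype.card F)) (h5 : 5 ≤ Fintype.card F)
    (M : Subgroup PSL2) (hM : IsCoatom M) (n : ℕ)
    (hn : n ∣ (Fintype.card F + 1) / Nat.gcd 2 (Fintype.card F - 1) ∨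
      n ∣ (Fintype.card F - 1) / Nat.gcd 2 (Fintype.card F - 1))
    (h : (IsCyclic M ∧ Nat.card M = n) ∨ Nonempty (M ≃* DihedralGroup n)) :
    (13 ≤ Fintype.card F ∧
      (∃ k : ℕ, 2 * k = Fintype.card F - 1 ∧ Nonempty (M ≃* DihedralGroup k))) ∨
    (Fintype.card F ≠ 7 ∧ Fintype.card F ≠ 9 ∧
      (∃ k : ℕ, 2 * k = Fintype.card F + 1 ∧ Nonempty (M ≃* DihedralGroup k))) := by
  classical
  have hgcd : Nat.gcd 2 (Fintype.card F - 1) = 2 := gcd_two_pred_of_odd hodd
  have hT1 : Nonempty (M ≃* DihedralGroup ((Fintype.card F + 1) / 2)) ∨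
      Nonempty (M ≃* DihedralGroup ((Fintype.card F - 1) / 2)) := by
    have hn0 : n ≠ 0 := by
      rintro rfl
      rw [hgcd] at hn
      rcases hn with hn | hn <;> rw [zero_dvd_iff] at hn <;> omega
    rcases Nat.eq_two_pow_or_exists_odd_prime_and_dvd n with ⟨a, ha⟩ | ⟨r, hr, hrn, hrodd⟩
    · apply coatom_dihedral_of_two_group hodd h5 M hM
      have : Fact (Nat.Prime 2) := ⟨Nat.prime_two⟩
      rcases h with ⟨-, hcard⟩ | ⟨⟨e⟩⟩
      · exact IsPGroup.of_card (n := a) (by rw [hcard, ha])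
      · have : NeZero n := ⟨hn0⟩
        exact IsPGroup.of_card (n := a + 1) (by
          rw [Nat.card_congr e.toEquiv, DihedralGroup.nat_card, ha, pow_succ, mul_comm])
    · have hr2 : r ≠ 2 := by
        rintro rfl
        exact (by decide : ¬ Odd 2) hrodd
      have := coatom_dihedral_of_clause_a (by omega) M hM n hn h r hr hr2 hrn
      rwa [hgcd] at this
  obtain ⟨k, hk⟩ := hodd
  rcases hT1 with ⟨⟨e⟩⟩ | ⟨⟨e⟩⟩
  · right
    refine ⟨?_, ?_, (Fintype.card F + 1) / 2, by omega, ⟨e⟩⟩
    · intro h7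
      have e' : M ≃* DihedralGroup 4 := by
        have h4 : (Fintype.card F + 1) / 2 = 4 := by omega
        rw [h4] at e; exact e
      exact not_coatom_D4_of_card (Or.inl h7) M hM e'
    · intro h9
      have e' : M ≃* DihedralGroup 5 := by
        have h4 : (Fintype.card F + 1) / 2 = 5 := by omega
        rw [h4] at e; exact e
      exact not_coatom_D5_of_card (Or.inl h9) M hM e'
  · left
    refine ⟨?_, (Fintype.card F - 1) / 2, by omega, ⟨e⟩⟩
    by_contra hlt
    have hcases : Fintype.card F = 5 ∨ Fintype.card F = 7 ∨ Fintype.card F = 9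
        ∨ Fintype.card F = 11 := by omega
    rcases hcases with h | h | h | h
    · have e' : M ≃* DihedralGroup 2 := by
        have h4 : (Fintype.card F - 1) / 2 = 2 := by omega
        rw [h4] at e; exact e
      exact not_coatom_D2_of_card_five p h M hM e'
    · have e' : M ≃* DihedralGroup 3 := by
        have h4 : (Fintype.card F - 1) / 2 = 3 := by omega
        rw [h4] at e; exact e
      exact not_coatom_D3_of_card_seven h M hM e'
    · have e' : M ≃* DihedralGroup 4 := by
        have h4 : (Fintype.card F - 1) / 2 = 4 := by omega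
        rw [h4] at e; exact e
      exact not_coatom_D4_of_card (Or.inr h) M hM e'
    · have e' : M ≃* DihedralGroup 5 := by
        have h4 : (Fintype.card F - 1) / 2 = 5 := by omega
        rw [h4] at e; exact e
      exact not_coatom_D5_of_card (Or.inr h) M hM e'

end Cfsg.Agent.Lib.Helper41
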