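import Mathlib

set_option autoImplicit false

/-!
# Frobenius-fixed subfields of a finite field and square roots of 5 (helper41)
-/

namespace Cfsg.Agent.Lib.Helper41

variable {F : Type*} [Field F]

/-- the fixed field of the Frobenius map -/
def fix1 (p : ℕ) [Fact p.Prime] [CharP F p] : Subfield F :=
  RingHom.eqLocusField (frobenius F p) (RingHom.id F)

/-- the fixed field of the square of the Frobenius map -/
def fix2 (p : ℕ) [Fact p.Prime] [CharP F p] : Subfield F :=
  RingHom.eqLocusField ((frobenius F p).comp (frobenius F p)) (RingHom.id F)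

theorem mem_fix1 (p : ℕ) [Fact p.Prime] [CharP F p] (x : F) : x ∈ fix1 (F := F) p ↔ x ^ p = x := by
  show (frobenius F p) x = (RingHom.id F) x ↔ _
  rw [frobenius_def, RingHom.id_apply]

theorem mem_fix2 (p : ℕ) [Fact p.Prime] [CharP F p] (x : F) :
    x ∈ fix2 (F := F) p ↔ (x ^ p) ^ p = x := by
  show ((frobenius F p).comp (frobenius F p)) x = (RingHom.id F) x ↔ _
  rw [RingHom.comp_apply, frobenius_def, frobenius_def, RingHom.id_apply]

/-- if every element of a finite field satisfies `x ^ N = x` then the field has at most `N`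
elements -/
theorem card_le_of_forall_pow_eq [Fintype F] (N : ℕ) (hN : 2 ≤ N) (h : ∀ x : F, x ^ N = x) :
    Fintype.card F ≤ N := by
  classical
  obtain ⟨g, hg⟩ := IsCyclic.exists_generator (α := Fˣ)
  have hord : orderOf g = Fintype.card Fˣ := by
    rw [← Nat.card_eq_fintype_card]; exact orderOf_eq_card_of_forall_mem_zpowers hg
  have h1 : g ^ (N - 1) = 1 := by
    apply Units.ext
    rw [Units.val_pow_eq_pow_val, Units.val_one]
    have h2 := h (g : F)
    have h3 : (g : F) ^ (N - 1) * (g : F) = (g : F) := by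
      rw [← pow_succ, Nat.sub_add_cancel (by omega)]; exact h2
    have hg0 : (g : F) ≠ 0 := g.ne_zero
    exact mul_right_cancel₀ hg0 (by rw [h3, one_mul])
  have h2 : Fintype.card Fˣ ∣ N - 1 := hord ▸ orderOf_dvd_of_pow_eq_one h1
  rw [Fintype.card_units] at h2
  have := Nat.le_of_dvd (by omega) h2
  omega

theorem card_of_fix1_eq_top [Fintype F] (p : ℕ) [Fact p.Prime] [CharP F p]
    (h : fix1 (F := F) p = ⊤) : Fintype.card F = p := by
  have hp := (Fact.out : p.Prime)
  have hle : Fintype.card F ≤ p := by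
    apply card_le_of_forall_pow_eq p hp.two_le
    intro x
    rw [← mem_fix1, h]; trivial
  obtain ⟨n, -, hn⟩ := FiniteField.card F p
  have h1 : p ^ 1 ≤ p ^ (n : ℕ) := Nat.pow_le_pow_right hp.pos n.pos
  rw [pow_one, ← hn] at h1
  omega

theorem card_of_fix2_eq_top [Fintype F] (p : ℕ) [Fact p.Prime] [CharP F p]
    (h : fix2 (F := F) p = ⊤) : Fintype.card F = p ∨ Fintype.card F = p ^ 2 := by
  have hp := (Fact.out : p.Prime)
  have hle : Fintype.card F ≤ p ^ 2 := by
    apply card_le_of_forall_pow_eq (p ^ 2)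
    · calc 2 ≤ p := hp.two_le
        _ = p ^ 1 := (pow_one p).symm
        _ ≤ p ^ 2 := Nat.pow_le_pow_right hp.pos (by norm_num)
    intro x
    rw [pow_two, pow_mul, ← mem_fix2, h]; trivial
  obtain ⟨n, -, hn⟩ := FiniteField.card F p
  rw [hn] at hle ⊢
  have hn2 : (n : ℕ) ≤ 2 := (Nat.pow_le_pow_iff_right hp.one_lt).mp hle
  have hn1 : 1 ≤ (n : ℕ) := n.pos
  rcases (by omega : (n : ℕ) = 1 ∨ (n : ℕ) = 2) with h1 | h1
  · left; rw [h1, pow_one]
  · right; rw [h1]

/-- every subfield contains a solution of `a² + b² = -1` -/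
theorem exists_sq_add_sq_mem (p : ℕ) [Fact p.Prime] [CharP F p] (K : Subfield F) :
    ∃ a b : F, a ∈ K ∧ b ∈ K ∧ a ^ 2 + b ^ 2 = -1 := by
  obtain ⟨a₀, b₀, h⟩ := ZMod.sq_add_sq p (-1)
  have hmem : ∀ z : ZMod p, (ZMod.castHom (dvd_refl p) F) z ∈ K := by
    intro z
    have : z = ((z.val : ℕ) : ZMod p) := (ZMod.natCast_zmod_val z).symm
    rw [this, map_natCast]
    exact natCast_mem K _
  refine ⟨ZMod.castHom (dvd_refl p) F a₀, ZMod.castHom (dvd_refl p) F b₀, hmem _, hmem _, ?_⟩
  rw [← map_pow, ← map_pow, ← map_add, h, map_neg, map_one]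

/-- roots of `X² + X - 1` are fixed by the square of the Frobenius map -/
theorem mem_fix2_of_root (p : ℕ) [Fact p.Prime] [CharP F p] {t : F} (ht : t ^ 2 + t - 1 = 0) :
    t ∈ fix2 (F := F) p := by
  rw [mem_fix2]
  have h1 : (t ^ p) ^ 2 + t ^ p - 1 = 0 := by
    have := congrArg (frobenius F p) ht
    rw [map_sub, map_add, map_pow, map_one, map_zero, frobenius_def] at this
    exact this
  have h2 : (t ^ p - t) * (t ^ p + 1 + t) = 0 := by linear_combination h1 - ht
  rcases mul_eq_zero.mp h2 with h3 | h3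
  · have : t ^ p = t := sub_eq_zero.mp h3
    rw [this, this]
  · have h4 : t ^ p = -1 - t := by linear_combination h3
    rw [h4]
    have h5 : (-1 - t) ^ p = -1 - t ^ p := by
      have := map_sub (frobenius F p) (-1) t
      rw [frobenius_def, frobenius_def, frobenius_def] at this
      rw [this]
      congr 1
      have := map_neg (frobenius F p) 1
      rw [frobenius_def, frobenius_def, one_pow] at this
      exact this
    rw [h5, h4]; ring

theorem mem_fix2_of_root' (p : ℕ) [Fact p.Prime] [CharP F p] {t : F} (ht : t ^ 2 - t - 1 = 0) :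
    t ∈ fix2 (F := F) p := by
  have h1 : (-t) ^ 2 + (-t) - 1 = 0 := by linear_combination ht
  have := mem_fix2_of_root p h1
  have h2 := (fix2 (F := F) p).neg_mem this
  rwa [neg_neg] at h2

/-- roots of `X² ± X - 1` lie in a subfield containing a square root of 5 -/
theorem mem_of_root_of_sqrt_five (K : Subfield F) (h2 : (2 : F) ≠ 0) {s : F} (hs : s ∈ K)
    (hs5 : s ^ 2 = 5) {t : F} (ht : t ^ 2 + t - 1 = 0 ∨ t ^ 2 - t - 1 = 0) : t ∈ K := by
  have h2K : (2 : F)⁻¹ ∈ K := K.inv_mem (by
    have : (2 : F) = 1 + 1 := by norm_num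
    rw [this]; exact K.add_mem K.one_mem K.one_mem)
  rcases ht with ht | ht
  · have h1 : (2 * t + 1 - s) * (2 * t + 1 + s) = 0 := by linear_combination 4 * ht - hs5
    rcases mul_eq_zero.mp h1 with h3 | h3
    · have : t = 2⁻¹ * (s - 1) := by
        field_simp
        linear_combination h3
      rw [this]; exact K.mul_mem h2K (K.sub_mem hs K.one_mem)
    · have : t = 2⁻¹ * (-s - 1) := by
        field_simp
        linear_combination h3
      rw [this]; exact K.mul_mem h2K (K.sub_mem (K.neg_mem hs) K.one_mem)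
  · have h1 : (2 * t - 1 - s) * (2 * t - 1 + s) = 0 := by linear_combination 4 * ht - hs5
    rcases mul_eq_zero.mp h1 with h3 | h3
    · have : t = 2⁻¹ * (s + 1) := by
        field_simp
        linear_combination h3
      rw [this]; exact K.mul_mem h2K (K.add_mem hs K.one_mem)
    · have : t = 2⁻¹ * (-s + 1) := by
        field_simp
        linear_combination h3
      rw [this]; exact K.mul_mem h2K (K.add_mem (K.neg_mem hs) K.one_mem)

/-- quadratic reciprocity for 5: if `p ≡ ±1 (mod 10)` (or `p = 5`), every subfield of a field of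
characteristic `p` contains a square root of 5 -/
theorem exists_sqrt_five_mem (p : ℕ) [Fact p.Prime] [CharP F p] (K : Subfield F)
    (hp : p % 10 = 1 ∨ p % 10 = 9 ∨ p = 5) : ∃ s : F, s ∈ K ∧ s ^ 2 = 5 := by
  have hprime := (Fact.out : p.Prime)
  have hsq : IsSquare ((5 : ℕ) : ZMod p) := by
    have : Fact (Nat.Prime 5) := ⟨Nat.prime_five⟩
    rcases hp with hp | hp | hp
    · have hp2 : p ≠ 2 := by omega
      rw [← ZMod.exists_sq_eq_prime_iff_of_mod_four_eq_one (p := 5) (q := p) (by norm_num) hp2]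
      rw [← ZMod.natCast_mod p 5]
      have h5 : p % 5 = 1 := by omega
      rw [h5]
      exact ⟨1, by norm_num⟩
    · have hp2 : p ≠ 2 := by omega
      rw [← ZMod.exists_sq_eq_prime_iff_of_mod_four_eq_one (p := 5) (q := p) (by norm_num) hp2]
      rw [← ZMod.natCast_mod p 5]
      have h5 : p % 5 = 4 := by omega
      rw [h5]
      exact ⟨2, by norm_num⟩
    · subst hp
      exact ⟨0, by rw [ZMod.natCast_self, mul_zero]⟩
  obtain ⟨s₀, hs₀⟩ := hsq
  refine ⟨ZMod.castHom (dvd_refl p) F s₀, ?_, ?_⟩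
  · have : s₀ = ((s₀.val : ℕ) : ZMod p) := (ZMod.natCast_zmod_val s₀).symm
    rw [this, map_natCast]
    exact natCast_mem K _
  · rw [pow_two, ← map_mul, ← hs₀, map_natCast]
    norm_num

end Cfsg.Agent.Lib.Helper41
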