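import Mathlib
import Cfsg.Agent.Lib.Helper41.SL2TracePow
import Cfsg.Agent.Lib.Helper41.DicksonSubfield1
import Cfsg.Agent.Lib.Helper42.PPrimePSL

set_option autoImplicit false

/-!
# Traces of elements of small projective order in `SL₂(F)` and descent to a subfield (helper41)
-/

namespace Cfsg.Agent.Lib.Helper41

open Cfsg.Agent.Lib.Helper11 Cfsg.Agent.Lib.Helper42

variable {F : Type*} [Field F]

local notation "SL2" => Matrix.SpecialLinearGroup (Fin 2) F
local notation "PSL2" => Matrix.ProjectiveSpecialLinearGroup (Fin 2) F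

theorem pow_formulas {G : Matrix (Fin 2) (Fin 2) F} {t : F} (hG : G * G = t • G - 1) :
    G ^ 2 = t • G + (-1 : F) • (1 : Matrix (Fin 2) (Fin 2) F) ∧
    G ^ 3 = (t ^ 2 - 1) • G + (-t) • (1 : Matrix (Fin 2) (Fin 2) F) ∧
    G ^ 4 = (t ^ 3 - 2 * t) • G + (-(t ^ 2 - 1)) • (1 : Matrix (Fin 2) (Fin 2) F) ∧
    G ^ 5 = (t ^ 4 - 3 * t ^ 2 + 1) • G + (-(t ^ 3 - 2 * t)) • (1 : Matrix (Fin 2) (Fin 2) F) := by
  have h2 : G ^ 2 = t • G + (-1 : F) • (1 : Matrix (Fin 2) (Fin 2) F) := by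
    rw [pow_two, hG]; module
  have h3 : G ^ 3 = (t ^ 2 - 1) • G + (-t) • (1 : Matrix (Fin 2) (Fin 2) F) := by
    rw [pow_succ, h2, smul_add_smul_mul_of hG]
    have : t * t + -1 = t ^ 2 - 1 := by ring
    rw [this]
  have h4 : G ^ 4 = (t ^ 3 - 2 * t) • G + (-(t ^ 2 - 1)) • (1 : Matrix (Fin 2) (Fin 2) F) := by
    rw [pow_succ, h3, smul_add_smul_mul_of hG]
    have : (t ^ 2 - 1) * t + -t = t ^ 3 - 2 * t := by ring
    rw [this]
  have h5 : G ^ 5 = (t ^ 4 - 3 * t ^ 2 + 1) • G
      + (-(t ^ 3 - 2 * t)) • (1 : Matrix (Fin 2) (Fin 2) F) := by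
    rw [pow_succ, h4, smul_add_smul_mul_of hG]
    have : (t ^ 3 - 2 * t) * t + -(t ^ 2 - 1) = t ^ 4 - 3 * t ^ 2 + 1 := by ring
    rw [this]
  exact ⟨h2, h3, h4, h5⟩

theorem coeff_eq_zero_of_not_center {g : SL2} (hg : g ∉ Subgroup.center SL2) {a b : F}
    (h : a • (g : Matrix (Fin 2) (Fin 2) F) = b • (1 : Matrix (Fin 2) (Fin 2) F)) : a = 0 := by
  by_contra ha
  apply hg
  apply mem_center_of_scalar g (a⁻¹ * b)
  have : (g : Matrix (Fin 2) (Fin 2) F) = a⁻¹ • (a • (g : Matrix (Fin 2) (Fin 2) F)) := by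
    rw [smul_smul, inv_mul_cancel₀ ha, one_smul]
  rw [this, h, smul_smul]

theorem tr2_of_mem_center {g : SL2} (hg : g ∈ Subgroup.center SL2) : tr2 g = 2 ∨ tr2 g = -2 := by
  rcases (mem_center_iff_pm g).mp hg with h | h
  · left
    unfold tr2
    rw [h]; norm_num
  · right
    unfold tr2
    rw [h]; norm_num

theorem tr2_of_prj_sq {g : SL2} (h : prj g ^ 2 = 1) : tr2 g = 0 ∨ tr2 g = 2 ∨ tr2 g = -2 := by
  by_cases hg : g ∈ Subgroup.center SL2
  · right; exact tr2_of_mem_center hg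
  left
  have hf := (pow_formulas (cayley_hamilton g)).1
  rcases (mk_pow_eq_one_iff g 2).mp h with h1 | h1
  · rw [hf] at h1
    exact coeff_eq_zero_of_not_center hg (b := 2) (by linear_combination (norm := module) h1)
  · rw [hf] at h1
    exact coeff_eq_zero_of_not_center hg (b := 0) (by linear_combination (norm := module) h1)

theorem tr2_of_prj_cube {g : SL2} (h : prj g ^ 3 = 1) :
    tr2 g = 1 ∨ tr2 g = -1 ∨ tr2 g = 2 ∨ tr2 g = -2 := by
  by_cases hg : g ∈ Subgroup.center SL2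
  · right; right; exact tr2_of_mem_center hg
  have hf := (pow_formulas (cayley_hamilton g)).2.1
  have h0 : tr2 g ^ 2 - 1 = 0 := by
    rcases (mk_pow_eq_one_iff g 3).mp h with h1 | h1
    · rw [hf] at h1
      exact coeff_eq_zero_of_not_center hg (b := 1 + tr2 g)
        (by linear_combination (norm := module) h1)
    · rw [hf] at h1
      exact coeff_eq_zero_of_not_center hg (b := tr2 g - 1)
        (by linear_combination (norm := module) h1)
  have : (tr2 g - 1) * (tr2 g + 1) = 0 := by linear_combination h0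
  rcases mul_eq_zero.mp this with h1 | h1
  · left; exact sub_eq_zero.mp h1
  · right; left; exact eq_neg_of_add_eq_zero_left h1

theorem tr2_of_prj_pow_four {g : SL2} (h : prj g ^ 4 = 1) (h1 : prj g ≠ 1) :
    tr2 g = 0 ∨ tr2 g ^ 2 = 2 := by
  have hg : g ∉ Subgroup.center SL2 := fun hc => h1 (prj_eq_one_iff.mpr hc)
  have hf := (pow_formulas (cayley_hamilton g)).2.2.1
  have h0 : tr2 g ^ 3 - 2 * tr2 g = 0 := by
    rcases (mk_pow_eq_one_iff g 4).mp h with h1 | h1
    · rw [hf] at h1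
      exact coeff_eq_zero_of_not_center hg (b := 1 + (tr2 g ^ 2 - 1))
        (by linear_combination (norm := module) h1)
    · rw [hf] at h1
      exact coeff_eq_zero_of_not_center hg (b := -1 + (tr2 g ^ 2 - 1))
        (by linear_combination (norm := module) h1)
  have : tr2 g * (tr2 g ^ 2 - 2) = 0 := by linear_combination h0
  rcases mul_eq_zero.mp this with h1 | h1
  · left; exact h1
  · right; exact sub_eq_zero.mp h1

theorem tr2_of_prj_pow_five {g : SL2} (h : prj g ^ 5 = 1) :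
    tr2 g = 2 ∨ tr2 g = -2 ∨ tr2 g ^ 2 + tr2 g - 1 = 0 ∨ tr2 g ^ 2 - tr2 g - 1 = 0 := by
  by_cases hg : g ∈ Subgroup.center SL2
  · rcases tr2_of_mem_center hg with h1 | h1
    · left; exact h1
    · right; left; exact h1
  have hf := (pow_formulas (cayley_hamilton g)).2.2.2
  have h0 : tr2 g ^ 4 - 3 * tr2 g ^ 2 + 1 = 0 := by
    rcases (mk_pow_eq_one_iff g 5).mp h with h1 | h1
    · rw [hf] at h1
      exact coeff_eq_zero_of_not_center hg (b := 1 + (tr2 g ^ 3 - 2 * tr2 g))
        (by linear_combination (norm := module) h1)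
    · rw [hf] at h1
      exact coeff_eq_zero_of_not_center hg (b := -1 + (tr2 g ^ 3 - 2 * tr2 g))
        (by linear_combination (norm := module) h1)
  have : (tr2 g ^ 2 + tr2 g - 1) * (tr2 g ^ 2 - tr2 g - 1) = 0 := by linear_combination h0
  rcases mul_eq_zero.mp this with h1 | h1
  · right; right; left; exact h1
  · right; right; right; exact h1

/-! ### The standard quaternion frame -/

/-- `I₀` -/
def frameI : SL2 := ⟨!![0, -1; 1, 0], by simp [Matrix.det_fin_two]⟩

/-- `J₀` -/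
def frameJ (a b : F) (hab : a ^ 2 + b ^ 2 = -1) : SL2 :=
  ⟨!![a, b; b, -a], by rw [Matrix.det_fin_two_of]; linear_combination -hab⟩

theorem coe_frameI : ((frameI : SL2) : Matrix (Fin 2) (Fin 2) F) = !![0, -1; 1, 0] := rfl

theorem coe_frameJ (a b : F) (hab : a ^ 2 + b ^ 2 = -1) :
    ((frameJ a b hab : SL2) : Matrix (Fin 2) (Fin 2) F) = !![a, b; b, -a] := rfl

/-- **Trace descent.** -/
theorem inM_of_traces (K : Subfield F) (h2 : (2 : F) ≠ 0) {a b : F} (ha : a ∈ K) (hb : b ∈ K)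
    (hab : a ^ 2 + b ^ 2 = -1) (h : SL2) (c : F) (hc : c ≠ 0) (h0 : c * tr2 h ∈ K)
    (h1 : c * tr2 (h * frameI) ∈ K) (h2' : c * tr2 (h * frameJ a b hab) ∈ K)
    (h3 : c * tr2 (h * (frameI * frameJ a b hab)) ∈ K) : InM K.subtype h := by
  set h00 := (h : Matrix (Fin 2) (Fin 2) F) 0 0 with hh00
  set h01 := (h : Matrix (Fin 2) (Fin 2) F) 0 1 with hh01
  set h10 := (h : Matrix (Fin 2) (Fin 2) F) 1 0 with hh10
  set h11 := (h : Matrix (Fin 2) (Fin 2) F) 1 1 with hh11
  have e0 : tr2 h = h00 + h11 := rfl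
  have e1 : tr2 (h * frameI) = h01 - h10 := by
    rw [tr2_mul, coe_frameI]
    simp only [Matrix.of_apply, Matrix.cons_val', Matrix.cons_val_zero, Matrix.cons_val_one,
      Matrix.cons_val_fin_one]
    ring
  have e2 : tr2 (h * frameJ a b hab) = a * (h00 - h11) + b * (h01 + h10) := by
    rw [tr2_mul, coe_frameJ]
    simp only [Matrix.of_apply, Matrix.cons_val', Matrix.cons_val_zero, Matrix.cons_val_one,
      Matrix.cons_val_fin_one]
    ring
  have e3 : tr2 (h * (frameI * frameJ a b hab)) = -b * (h00 - h11) + a * (h01 + h10) := by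
    rw [tr2_mul, Matrix.SpecialLinearGroup.coe_mul, coe_frameI, coe_frameJ]
    simp only [Matrix.mul_apply, Fin.sum_univ_two, Matrix.of_apply, Matrix.cons_val',
      Matrix.cons_val_zero, Matrix.cons_val_one, Matrix.cons_val_fin_one]
    ring
  rw [e0] at h0
  rw [e1] at h1
  rw [e2] at h2'
  rw [e3] at h3
  have h2K : (2 : F)⁻¹ ∈ K := K.inv_mem (by
    have : (2 : F) = 1 + 1 := by norm_num
    rw [this]; exact K.add_mem K.one_mem K.one_mem)
  have m00 : c * h00 ∈ K := by
    have k : 2 * (c * h00) = c * (h00 + h11) - a * (c * (a * (h00 - h11) + b * (h01 + h10)))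
        + b * (c * (-b * (h00 - h11) + a * (h01 + h10))) := by
      linear_combination (c * (h00 - h11)) * hab
    have : c * h00 = 2⁻¹ * (2 * (c * h00)) := by
      rw [← mul_assoc, inv_mul_cancel₀ h2, one_mul]
    rw [this, k]
    exact K.mul_mem h2K (K.add_mem (K.sub_mem h0 (K.mul_mem ha h2')) (K.mul_mem hb h3))
  have m11 : c * h11 ∈ K := by
    have : c * h11 = c * (h00 + h11) - c * h00 := by ring
    rw [this]; exact K.sub_mem h0 m00
  have m01 : c * h01 ∈ K := by
    have k : 2 * (c * h01) = c * (h01 - h10) - b * (c * (a * (h00 - h11) + b * (h01 + h10)))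
        - a * (c * (-b * (h00 - h11) + a * (h01 + h10))) := by
      linear_combination (c * (h01 + h10)) * hab
    have : c * h01 = 2⁻¹ * (2 * (c * h01)) := by
      rw [← mul_assoc, inv_mul_cancel₀ h2, one_mul]
    rw [this, k]
    exact K.mul_mem h2K (K.sub_mem (K.sub_mem h1 (K.mul_mem hb h2')) (K.mul_mem ha h3))
  have m10 : c * h10 ∈ K := by
    have : c * h10 = c * h01 - c * (h01 - h10) := by ring
    rw [this]; exact K.sub_mem m01 h1
  refine ⟨c, !![⟨c * h00, m00⟩, ⟨c * h01, m01⟩; ⟨c * h10, m10⟩, ⟨c * h11, m11⟩], hc, ?_⟩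
  ext i j
  fin_cases i <;> fin_cases j <;> simp [Matrix.map_apply, Matrix.smul_apply, hh00, hh01, hh10, hh11]

end Cfsg.Agent.Lib.Helper41
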