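import Mathlib
import Cfsg.Agent.Lib.Helper41.MaxExcTrace
import Cfsg.Agent.Lib.Helper41.SL2Trace
import Cfsg.Agent.Lib.Helper41.SL2Conj

set_option autoImplicit false

/-!
# Conjugating a quaternion frame `(i, j)` of `SL₂(F)` to the standard frame (helper41)
-/

namespace Cfsg.Agent.Lib.Helper41

open Cfsg.Agent.Lib.Helper11 Cfsg.Agent.Lib.Helper42

variable {F : Type*} [Field F]

local notation "SL2" => Matrix.SpecialLinearGroup (Fin 2) F
local notation "PSL2" => Matrix.ProjectiveSpecialLinearGroup (Fin 2) F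

theorem gl_mul_inv (W : GL (Fin 2) F) :
    (W : Matrix (Fin 2) (Fin 2) F) * ((W⁻¹ : GL (Fin 2) F) : Matrix (Fin 2) (Fin 2) F) = 1 := by
  rw [← Units.val_mul, mul_inv_cancel, Units.val_one]

theorem gl_inv_mul (W : GL (Fin 2) F) :
    ((W⁻¹ : GL (Fin 2) F) : Matrix (Fin 2) (Fin 2) F) * (W : Matrix (Fin 2) (Fin 2) F) = 1 := by
  rw [← Units.val_mul, inv_mul_cancel, Units.val_one]

/-- conjugation by `W ∈ GL₂(F)` as a map of `SL₂(F)` -/
def glConjFun (W : GL (Fin 2) F) (g : SL2) : SL2 :=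
  ⟨(W : Matrix (Fin 2) (Fin 2) F) * (g : Matrix (Fin 2) (Fin 2) F)
      * ((W⁻¹ : GL (Fin 2) F) : Matrix (Fin 2) (Fin 2) F), by
    rw [Matrix.det_mul, Matrix.det_mul, g.det_coe, mul_one, ← Matrix.det_mul, gl_mul_inv,
      Matrix.det_one]⟩

theorem coe_glConjFun (W : GL (Fin 2) F) (g : SL2) :
    ((glConjFun W g : SL2) : Matrix (Fin 2) (Fin 2) F)
      = (W : Matrix (Fin 2) (Fin 2) F) * (g : Matrix (Fin 2) (Fin 2) F)
        * ((W⁻¹ : GL (Fin 2) F) : Matrix (Fin 2) (Fin 2) F) := rfl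

theorem glConjFun_glConjFun_inv (W : GL (Fin 2) F) (g : SL2) :
    glConjFun W⁻¹ (glConjFun W g) = g := by
  apply Subtype.ext
  rw [coe_glConjFun, coe_glConjFun, inv_inv]
  calc ((W⁻¹ : GL (Fin 2) F) : Matrix (Fin 2) (Fin 2) F) * ((W : Matrix (Fin 2) (Fin 2) F)
        * (g : Matrix (Fin 2) (Fin 2) F) * ((W⁻¹ : GL (Fin 2) F) : Matrix (Fin 2) (Fin 2) F))
        * (W : Matrix (Fin 2) (Fin 2) F)
      = (((W⁻¹ : GL (Fin 2) F) : Matrix (Fin 2) (Fin 2) F) * (W : Matrix (Fin 2) (Fin 2) F))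
        * (g : Matrix (Fin 2) (Fin 2) F) * (((W⁻¹ : GL (Fin 2) F) : Matrix (Fin 2) (Fin 2) F)
        * (W : Matrix (Fin 2) (Fin 2) F)) := by simp only [Matrix.mul_assoc]
    _ = (g : Matrix (Fin 2) (Fin 2) F) := by rw [gl_inv_mul, Matrix.one_mul, Matrix.mul_one]

/-- conjugation by `W ∈ GL₂(F)` as an automorphism of `SL₂(F)` -/
def glConj (W : GL (Fin 2) F) : MulAut SL2 where
  toFun := glConjFun W
  invFun := glConjFun W⁻¹
  left_inv := glConjFun_glConjFun_inv W
  right_inv := by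
    intro g
    have := glConjFun_glConjFun_inv W⁻¹ g
    rwa [inv_inv] at this
  map_mul' := by
    intro g h
    apply Subtype.ext
    rw [Matrix.SpecialLinearGroup.coe_mul, coe_glConjFun, coe_glConjFun, coe_glConjFun,
      Matrix.SpecialLinearGroup.coe_mul]
    calc (W : Matrix (Fin 2) (Fin 2) F) * ((g : Matrix (Fin 2) (Fin 2) F)
          * (h : Matrix (Fin 2) (Fin 2) F)) * ((W⁻¹ : GL (Fin 2) F) : Matrix (Fin 2) (Fin 2) F)
        = (W : Matrix (Fin 2) (Fin 2) F) * (g : Matrix (Fin 2) (Fin 2) F) * 1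
          * (h : Matrix (Fin 2) (Fin 2) F)
          * ((W⁻¹ : GL (Fin 2) F) : Matrix (Fin 2) (Fin 2) F) := by
          rw [Matrix.mul_one]; simp only [Matrix.mul_assoc]
      _ = _ := by rw [← gl_inv_mul W]; simp only [Matrix.mul_assoc]

theorem glConj_apply (W : GL (Fin 2) F) (g : SL2) : glConj W g = glConjFun W g := rfl

/-- `glConj W g = g'` follows from `W g = g' W` -/
theorem glConj_eq_of_mul_eq (W : GL (Fin 2) F) (g g' : SL2)
    (h : (W : Matrix (Fin 2) (Fin 2) F) * (g : Matrix (Fin 2) (Fin 2) F)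
      = (g' : Matrix (Fin 2) (Fin 2) F) * (W : Matrix (Fin 2) (Fin 2) F)) : glConj W g = g' := by
  apply Subtype.ext
  rw [glConj_apply, coe_glConjFun, h, Matrix.mul_assoc, gl_mul_inv, Matrix.mul_one]

theorem companion_zero : companion (0 : F) = frameI := Subtype.ext rfl

theorem tr2_glConj (W : GL (Fin 2) F) (g : SL2) : tr2 (glConj W g) = tr2 g := by
  rw [tr2_eq_trace, tr2_eq_trace, glConj_apply, coe_glConjFun, Matrix.trace_mul_comm,
    ← Matrix.mul_assoc, gl_inv_mul, Matrix.one_mul]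

/-- rotation step: a traceless `j' = [[x, y], [y, -x]]` is conjugate, under the centraliser of
`I₀` in `GL₂(F)`, to `[[a, b], [b, -a]]` -/
theorem exists_rotate (h2 : (2 : F) ≠ 0) (j' : SL2) (x y : F)
    (hj' : (j' : Matrix (Fin 2) (Fin 2) F) = !![x, y; y, -x])
    (a b : F) (hab : a ^ 2 + b ^ 2 = -1) (hne : a * x + b * y ≠ 1) :
    ∃ W : GL (Fin 2) F, glConj W frameI = frameI ∧ glConj W j' = frameJ a b hab := by
  have hxy : x ^ 2 + y ^ 2 = -1 := by
    have := j'.det_coe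
    rw [hj', Matrix.det_fin_two_of] at this
    linear_combination -this
  set ρ₁ : F := -(a * x + b * y) with hρ₁
  set ρ₂ : F := a * y - b * x with hρ₂
  have hρ : ρ₁ ^ 2 + ρ₂ ^ 2 = 1 := by
    rw [hρ₁, hρ₂]
    linear_combination (x ^ 2 + y ^ 2) * hab - hxy
  have hdet : (!![1 + ρ₁, -ρ₂; ρ₂, 1 + ρ₁] : Matrix (Fin 2) (Fin 2) F).det ≠ 0 := by
    rw [Matrix.det_fin_two_of]
    have : (1 + ρ₁) * (1 + ρ₁) - -ρ₂ * ρ₂ = 2 * (1 + ρ₁) := by linear_combination hρ
    rw [this]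
    refine mul_ne_zero h2 ?_
    intro h0
    apply hne
    rw [hρ₁] at h0
    linear_combination -h0
  set W : GL (Fin 2) F := Matrix.GeneralLinearGroup.mkOfDetNeZero _ hdet with hW
  have hWcoe : (W : Matrix (Fin 2) (Fin 2) F) = !![1 + ρ₁, -ρ₂; ρ₂, 1 + ρ₁] := rfl
  refine ⟨W, ?_, ?_⟩
  · apply glConj_eq_of_mul_eq
    rw [hWcoe, coe_frameI]
    ext i j
    fin_cases i <;> fin_cases j <;> simp [Matrix.mul_apply, Fin.sum_univ_two]
  · apply glConj_eq_of_mul_eq
    rw [hWcoe, coe_frameJ, hj']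
    ext i j
    fin_cases i <;> fin_cases j <;> simp [Matrix.mul_apply, Fin.sum_univ_two]
    · rw [hρ₁, hρ₂]
      linear_combination (-a) * hxy + x * hab
    · rw [hρ₁, hρ₂]
      linear_combination (-b) * hxy + y * hab
    · rw [hρ₁, hρ₂]
      linear_combination (-b) * hxy + y * hab
    · rw [hρ₁, hρ₂]
      linear_combination (a) * hxy - x * hab

/-- **Standard frame.**  Anticommuting elements `i, j` of order 4 of `SL₂(F)` can be moved, by an
automorphism of `SL₂(F)`, to `I₀` and `J₀(a', b')` with `(a', b') = ± (a, b)`. -/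
theorem exists_frame [Fintype F] (h2 : (2 : F) ≠ 0) (K : Subfield F) (i j : SL2)
    (hi : tr2 i = 0) (hj : tr2 j = 0) (hij : tr2 (i * j) = 0) (a b : F) (ha : a ∈ K) (hb : b ∈ K)
    (hab : a ^ 2 + b ^ 2 = -1) :
    ∃ (α : MulAut SL2) (a' b' : F) (hab' : a' ^ 2 + b' ^ 2 = -1), a' ∈ K ∧ b' ∈ K ∧
      (∀ g : SL2, tr2 (α g) = tr2 g) ∧ α i = frameI ∧ α j = frameJ a' b' hab' := by
  have h4 : (tr2 i) ^ 2 ≠ 4 := by
    rw [hi]
    intro h
    apply h2
    have : (2 : F) * 2 = 0 := by linear_combination -h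
    rcases mul_eq_zero.mp this with h' | h' <;> exact h'
  obtain ⟨P, hP⟩ := exists_conj_companion i h4
  rw [hi, companion_zero] at hP
  have hPi : P⁻¹ * i * P = frameI := by
    rw [mul_assoc, hP, ← mul_assoc, inv_mul_cancel, one_mul]
  set j' : SL2 := P⁻¹ * j * P with hj'def
  have htj' : tr2 j' = 0 := by
    have := tr2_conj P⁻¹ j
    rw [inv_inv] at this
    rw [hj'def, this, hj]
  have htij' : tr2 (frameI * j') = 0 := by
    have e : frameI * j' = P⁻¹ * (i * j) * P⁻¹⁻¹ := by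
      rw [← hPi, hj'def, inv_inv]; group
    rw [e, tr2_conj, hij]
  set x := (j' : Matrix (Fin 2) (Fin 2) F) 0 0 with hx
  set y := (j' : Matrix (Fin 2) (Fin 2) F) 0 1 with hy
  have h11 : (j' : Matrix (Fin 2) (Fin 2) F) 1 1 = -x := by
    have : x + (j' : Matrix (Fin 2) (Fin 2) F) 1 1 = 0 := htj'
    linear_combination this
  have h10 : (j' : Matrix (Fin 2) (Fin 2) F) 1 0 = y := by
    rw [tr2_mul, coe_frameI] at htij'
    simp only [Matrix.of_apply, Matrix.cons_val', Matrix.cons_val_zero, Matrix.cons_val_one,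
      Matrix.cons_val_fin_one] at htij'
    linear_combination -htij'
  have hjmat : (j' : Matrix (Fin 2) (Fin 2) F) = !![x, y; y, -x] := by
    ext r c
    fin_cases r <;> fin_cases c <;> simp [hx, hy, h10, h11]
  have hconj : ∀ g : SL2, (MulAut.conj P⁻¹) g = P⁻¹ * g * P := by
    intro g
    rw [MulAut.conj_apply, inv_inv]
  have htrα : ∀ (W : GL (Fin 2) F) (g : SL2),
      tr2 ((glConj W * MulAut.conj P⁻¹ : MulAut SL2) g) = tr2 g := by
    intro W g
    rw [MulAut.mul_apply, tr2_glConj, MulAut.conj_apply, tr2_conj]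
  by_cases hne : a * x + b * y ≠ 1
  · obtain ⟨W, hW1, hW2⟩ := exists_rotate h2 j' x y hjmat a b hab hne
    refine ⟨glConj W * MulAut.conj P⁻¹, a, b, hab, ha, hb, htrα W, ?_, ?_⟩
    · rw [MulAut.mul_apply, hconj, hPi, hW1]
    · rw [MulAut.mul_apply, hconj, hW2]
  · have hne' : a * x + b * y = 1 := not_not.mp hne
    have hab' : (-a) ^ 2 + (-b) ^ 2 = -1 := by linear_combination hab
    have hne'' : (-a) * x + (-b) * y ≠ 1 := by
      intro h
      apply h2
      linear_combination -hne' - h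
    obtain ⟨W, hW1, hW2⟩ := exists_rotate h2 j' x y hjmat (-a) (-b) hab' hne''
    refine ⟨glConj W * MulAut.conj P⁻¹, -a, -b, hab', K.neg_mem ha, K.neg_mem hb, htrα W, ?_, ?_⟩
    · rw [MulAut.mul_apply, hconj, hPi, hW1]
    · rw [MulAut.mul_apply, hconj, hW2]

end Cfsg.Agent.Lib.Helper41
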