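import Mathlib
import Cfsg.Agent.Lib.Helper41.MaxGeneric
import Cfsg.Agent.S0253
import Cfsg.Agent.S0802

set_option autoImplicit false

/-!
# Maximal subgroups isomorphic to `A₄` in finite simple groups (helper41)
-/

namespace Cfsg.Agent.Lib.Helper41

open scoped Pointwise

/-- the four-group of `A₄` -/
def kleinA4 : Subgroup (alternatingGroup (Fin 4)) where
  carrier := {g | g ^ 2 = 1}
  mul_mem' := by
    intro a b ha hb
    have key : ∀ a b : alternatingGroup (Fin 4), a ^ 2 = 1 → b ^ 2 = 1 → (a * b) ^ 2 = 1 := by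
      decide
    exact key a b ha hb
  one_mem' := one_pow 2
  inv_mem' := by
    intro a ha
    show a⁻¹ ^ 2 = 1
    rw [inv_pow, show a ^ 2 = 1 from ha, inv_one]

theorem mem_kleinA4_iff (g : alternatingGroup (Fin 4)) : g ∈ kleinA4 ↔ g ^ 2 = 1 := Iff.rfl

instance decidablePred_mem_kleinA4 : DecidablePred (· ∈ kleinA4) :=
  fun g => inferInstanceAs (Decidable (g ^ 2 = 1))

theorem card_kleinA4 : Nat.card kleinA4 = 4 := by
  rw [Nat.card_eq_fintype_card, Fintype.card_subtype]
  decide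

/-- a subgroup isomorphic to `A₄` normalises a four-group -/
theorem exists_klein_of_A4 {G : Type*} [Group G] (M : Subgroup G)
    (e : M ≃* alternatingGroup (Fin 4)) :
    ∃ V : Subgroup G, V ≤ M ∧ Nat.card V = 4 ∧ M ≤ Subgroup.normalizer (V : Set G) := by
  set V₁ : Subgroup M := kleinA4.map e.symm.toMonoidHom with hV₁
  set V : Subgroup G := V₁.map M.subtype with hV
  have hVM : V ≤ M := Subgroup.map_subtype_le _
  have hcard : Nat.card V = 4 := by
    rw [← Nat.card_congr (V₁.equivMapOfInjective _ M.subtype_injective).toEquiv,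
      ← Nat.card_congr (kleinA4.equivMapOfInjective _ e.symm.injective).toEquiv, card_kleinA4]
  have hconj : ∀ m ∈ M, ∀ v ∈ V, m * v * m⁻¹ ∈ V := by
    rintro m hm _ ⟨_, ⟨k, hk, rfl⟩, rfl⟩
    refine ⟨⟨m, hm⟩ * e.symm k * ⟨m, hm⟩⁻¹, ⟨e ⟨m, hm⟩ * k * (e ⟨m, hm⟩)⁻¹, ?_, ?_⟩, rfl⟩
    · rw [SetLike.mem_coe, mem_kleinA4_iff, conj_pow, (mem_kleinA4_iff k).mp hk, mul_one,
        mul_inv_cancel]
    · show e.symm (e ⟨m, hm⟩ * k * (e ⟨m, hm⟩)⁻¹) = _
      rw [map_mul, map_mul, map_inv, e.symm_apply_apply]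
  refine ⟨V, hVM, hcard, ?_⟩
  intro m hm
  rw [Subgroup.mem_normalizer_iff]
  intro v
  constructor
  · exact hconj m hm v
  · intro hv
    have := hconj m⁻¹ (M.inv_mem hm) _ hv
    rw [inv_inv] at this
    have e' : m⁻¹ * (m * v * m⁻¹) * m = v := by group
    rwa [e'] at this

/-- in a simple group, the normaliser of a nontrivial subgroup normal in a maximal subgroup `M`
is `M` -/
theorem normalizer_eq_of_coatom {G : Type*} [Group G] [IsSimpleGroup G] (M V : Subgroup G)
    (hM : IsCoatom M) (hVM : V ≤ M) (hV : V ≠ ⊥) (hMN : M ≤ Subgroup.normalizer (V : Set G)) :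
    Subgroup.normalizer (V : Set G) = M := by
  rcases hM.le_iff.mp hMN with h | h
  · exfalso
    have hn : V.Normal := Subgroup.normalizer_eq_top_iff.mp h
    rcases hn.eq_bot_or_eq_top with h1 | h1
    · exact hV h1
    · apply hM.1
      rw [eq_top_iff, ← h1]; exact hVM
  · exact h

/-- a maximal subgroup isomorphic to `A₄` in a finite simple group of order divisible by 8 does
not exist -/
theorem not_coatom_A4_of_eight_dvd {G : Type*} [Group G] [Finite G] [IsSimpleGroup G]
    (M : Subgroup G) (hM : IsCoatom M) (e : M ≃* alternatingGroup (Fin 4))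
    (h8 : 8 ∣ Nat.card G) : False := by
  have : Fact (Nat.Prime 2) := ⟨Nat.prime_two⟩
  obtain ⟨V, hVM, hVcard, hMN⟩ := exists_klein_of_A4 M e
  have hVbot : V ≠ ⊥ := by
    rintro rfl
    rw [Subgroup.card_bot] at hVcard
    omega
  have hN := normalizer_eq_of_coatom M V hM hVM hVbot hMN
  have hVp : IsPGroup 2 V := IsPGroup.of_card (n := 2) (by rw [hVcard]; norm_num)
  obtain ⟨P, hVP⟩ := hVp.exists_le_sylow
  have hPcard : 8 ∣ Nat.card (P : Subgroup G) := by
    rw [Sylow.card_eq_multiplicity]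
    have h3 : (2 : ℕ) ^ 3 ∣ Nat.card G := by norm_num; exact h8
    have := (Nat.Prime.pow_dvd_iff_le_factorization Nat.prime_two Nat.card_pos.ne').mp h3
    calc 8 = 2 ^ 3 := by norm_num
      _ ∣ 2 ^ (Nat.card G).factorization 2 := Nat.pow_dvd_pow 2 this
  -- normaliser condition in `P`
  have hnil : Group.IsNilpotent (P : Subgroup G) := P.2.isNilpotent
  have hNC : NormalizerCondition (P : Subgroup G) := Group.normalizerCondition_of_isNilpotent
  set VP : Subgroup (P : Subgroup G) := V.subgroupOf P with hVPdef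
  have hVPcard : Nat.card VP = 4 := by
    rw [← hVcard]
    exact Nat.card_congr (Subgroup.subgroupOfEquivOfLe hVP).toEquiv
  have hVPtop : VP < ⊤ := by
    rw [lt_top_iff_ne_top]
    intro htop
    rw [htop, Subgroup.card_top] at hVPcard
    rw [hVPcard] at hPcard
    omega
  obtain ⟨y, hyN, hyV⟩ := SetLike.exists_of_lt (hNC VP hVPtop)
  -- `y` normalises `V`
  have hyG : (y : G) ∈ Subgroup.normalizer (V : Set G) := by
    rw [Subgroup.mem_normalizer_iff]
    intro v
    have hy' := Subgroup.mem_normalizer_iff.mp hyN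
    constructor
    · intro hv
      have := (hy' ⟨v, hVP hv⟩).mp (Subgroup.mem_subgroupOf.mpr hv)
      exact Subgroup.mem_subgroupOf.mp this
    · intro hv
      have hvP : v ∈ (P : Subgroup G) := by
        have h1 : (y : G)⁻¹ * ((y : G) * v * (y : G)⁻¹) * (y : G) = v := by group
        rw [← h1]
        exact (P : Subgroup G).mul_mem ((P : Subgroup G).mul_mem ((P : Subgroup G).inv_mem y.2)
          (hVP hv)) y.2
      have := (hy' ⟨v, hvP⟩).mpr (Subgroup.mem_subgroupOf.mpr hv)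
      exact Subgroup.mem_subgroupOf.mp this
  have hyM : (y : G) ∈ M := hN ▸ hyG
  -- the 2-subgroup `P ⊓ M` of `M` has more than 4 elements
  set Q : Subgroup G := (P : Subgroup G) ⊓ M with hQ
  have hQp : IsPGroup 2 Q := P.2.to_le inf_le_left
  have hVQ : V ≤ Q := le_inf hVP hVM
  have hyQ : (y : G) ∈ Q := ⟨y.2, hyM⟩
  have hyV' : (y : G) ∉ V := fun h => hyV (Subgroup.mem_subgroupOf.mpr h)
  have hVQlt : V < Q := lt_of_le_of_ne hVQ (fun h => hyV' (h ▸ hyQ))
  have hcardlt : Nat.card V < Nat.card Q := by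
    by_contra hle
    exact hVQlt.ne (Subgroup.eq_of_le_of_card_ge hVQ (not_lt.mp hle))
  obtain ⟨k, hk⟩ := (IsPGroup.iff_card.mp hQp)
  have hQM : Nat.card Q ∣ 12 := by
    have h12 : Nat.card M = 12 := by
      rw [Nat.card_congr e.toEquiv, nat_card_alternatingGroup, Nat.card_eq_fintype_card,
        Fintype.card_fin]; rfl
    rw [← h12]
    exact Subgroup.card_dvd_of_le inf_le_right
  rw [hk] at hQM hcardlt
  rw [hVcard] at hcardlt
  have hk3 : 3 ≤ k := by
    by_contra hlt
    have : k ≤ 2 := by omega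
    have : 2 ^ k ≤ 2 ^ 2 := Nat.pow_le_pow_right (by norm_num) this
    omega
  have : 2 ^ 3 ∣ 2 ^ k := Nat.pow_dvd_pow 2 hk3
  have : 8 ∣ 12 := dvd_trans (by norm_num at this ⊢; exact this) hQM
  omega

theorem le_normalizer_of_conj_mem {G : Type*} [Group G] (V S : Subgroup G)
    (hS : ∀ s ∈ S, ∀ v ∈ V, s * v * s⁻¹ ∈ V) : S ≤ Subgroup.normalizer (V : Set G) := by
  intro m hm
  rw [Subgroup.mem_normalizer_iff]
  intro v
  constructor
  · exact hS m hm v
  · intro hv
    have := hS m⁻¹ (S.inv_mem hm) _ hv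
    rw [inv_inv] at this
    have e' : m⁻¹ * (m * v * m⁻¹) * m = v := by group
    rwa [e'] at this

/-- a group isomorphic to `A₅` contains a subgroup isomorphic to `A₄` -/
theorem exists_A4_le_of_A5 {G : Type*} [Group G] (H : Subgroup G)
    (f : H ≃* alternatingGroup (Fin 5)) :
    ∃ A : Subgroup G, A ≤ H ∧ Nonempty (A ≃* alternatingGroup (Fin 4)) := by
  have : Fact (Nat.Prime 5) := ⟨Nat.prime_five⟩
  obtain ⟨φ⟩ := Cfsg.Agent.S0253.result (F := ZMod 5) (by rw [ZMod.card])
  obtain ⟨B, ⟨eB⟩⟩ := (Cfsg.Agent.S0802.result (F := ZMod 5) 5 1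
    (by rw [ZMod.card, pow_one])).mpr (by rintro ⟨h, -⟩; omega)
  set ψ : Matrix.ProjectiveSpecialLinearGroup (Fin 2) (ZMod 5) →* G :=
    H.subtype.comp (f.symm.toMonoidHom.comp φ.toMonoidHom) with hψ
  have hψinj : Function.Injective ψ := by
    intro x y hxy
    have h1 : f.symm (φ x) = f.symm (φ y) := Subtype.ext hxy
    exact φ.injective (f.symm.injective h1)
  refine ⟨B.map ψ, ?_, ⟨(B.equivMapOfInjective ψ hψinj).symm.trans eB⟩⟩
  rintro _ ⟨b, -, rfl⟩
  exact (f.symm (φ b)).2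

/-- in a finite simple group whose Sylow 2-subgroups have order 4, a maximal subgroup isomorphic
to `A₄` cannot coexist with a proper subgroup `H` of order `≠ 12` containing a copy of `A₄` -/
theorem not_coatom_A4_of_A4_le {G : Type*} [Group G] [Finite G] [IsSimpleGroup G]
    (M A H : Subgroup G) (hM : IsCoatom M) (e : M ≃* alternatingGroup (Fin 4))
    (f : A ≃* alternatingGroup (Fin 4)) (hAH : A ≤ H) (hH : H ≠ ⊤) (hHcard : Nat.card H ≠ 12)
    (h8 : ¬ 8 ∣ Nat.card G) : False := by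
  have : Fact (Nat.Prime 2) := ⟨Nat.prime_two⟩
  obtain ⟨V, hVM, hVcard, hMN⟩ := exists_klein_of_A4 M e
  obtain ⟨V', hV'A, hV'card, hAN⟩ := exists_klein_of_A4 A f
  have hVbot : V ≠ ⊥ := by
    rintro rfl
    rw [Subgroup.card_bot] at hVcard
    omega
  have hN := normalizer_eq_of_coatom M V hM hVM hVbot hMN
  have h12 : ∀ (X : Subgroup G), (X ≃* alternatingGroup (Fin 4)) → Nat.card X = 12 := by
    intro X eX
    rw [Nat.card_congr eX.toEquiv, nat_card_alternatingGroup, Nat.card_eq_fintype_card,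
      Fintype.card_fin]; rfl
  -- four-groups are Sylow
  have hsyl : ∀ W : Subgroup G, Nat.card W = 4 → ∃ P : Sylow 2 G, (P : Subgroup G) = W := by
    intro W hW
    have hWp : IsPGroup 2 W := IsPGroup.of_card (n := 2) (by rw [hW]; norm_num)
    obtain ⟨P, hWP⟩ := hWp.exists_le_sylow
    refine ⟨P, (Subgroup.eq_of_le_of_card_ge hWP ?_).symm⟩
    rw [hW, Sylow.card_eq_multiplicity]
    have hk : (Nat.card G).factorization 2 ≤ 2 := by
      by_contra hlt
      apply h8
      have h3 : 3 ≤ (Nat.card G).factorization 2 := by omega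
      have := (Nat.Prime.pow_dvd_iff_le_factorization Nat.prime_two Nat.card_pos.ne').mpr h3
      norm_num at this
      exact this
    calc 2 ^ (Nat.card G).factorization 2 ≤ 2 ^ 2 := Nat.pow_le_pow_right (by norm_num) hk
      _ = 4 := by norm_num
  obtain ⟨P, hP⟩ := hsyl V hVcard
  obtain ⟨P', hP'⟩ := hsyl V' hV'card
  obtain ⟨g, hg⟩ := MulAction.exists_smul_eq G P P'
  have hV' : ∀ x : G, x ∈ V' ↔ g⁻¹ * x * g ∈ V := by
    intro x
    have h1 := Sylow.coe_subgroup_smul (g := g) (P := P)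
    rw [hg] at h1
    have h2 : x ∈ (P' : Subgroup G) ↔ g⁻¹ * x * g ∈ (P : Subgroup G) := by
      rw [h1, Subgroup.mem_pointwise_smul_iff_inv_smul_mem, MulAut.smul_def,
        MulAut.conj_inv_apply]
    rw [hP', hP] at h2
    exact h2
  -- the conjugate of `A`
  set S : Subgroup G := A.map (MulAut.conj g⁻¹).toMonoidHom with hS
  have hSN : S ≤ Subgroup.normalizer (V : Set G) := by
    apply le_normalizer_of_conj_mem
    rintro _ ⟨a, ha, rfl⟩ v hv
    have hv' : g * v * g⁻¹ ∈ V' := by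
      rw [hV']
      have : g⁻¹ * (g * v * g⁻¹) * g = v := by group
      rw [this]; exact hv
    have h2 : a * (g * v * g⁻¹) * a⁻¹ ∈ V' :=
      (Subgroup.mem_normalizer_iff.mp (hAN ha) _).mp hv'
    have h3 := (hV' _).mp h2
    have e1 : (MulAut.conj g⁻¹).toMonoidHom a * v * ((MulAut.conj g⁻¹).toMonoidHom a)⁻¹
        = g⁻¹ * (a * (g * v * g⁻¹) * a⁻¹) * g := by
      show g⁻¹ * a * g⁻¹⁻¹ * v * (g⁻¹ * a * g⁻¹⁻¹)⁻¹ = _
      group
    rw [e1]; exact h3
  rw [hN] at hSN
  have hScard : Nat.card S = 12 := by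
    rw [card_map_conj]; exact h12 A f
  have hSM : S = M := Subgroup.eq_of_le_of_card_ge hSN (by rw [hScard, h12 M e])
  set H' : Subgroup G := H.map (MulAut.conj g⁻¹).toMonoidHom with hH'
  have hMH' : M ≤ H' := by
    rw [← hSM]; exact Subgroup.map_mono hAH
  rcases hM.le_iff.mp hMH' with h | h
  · apply hH
    have h1 : (MulEquiv.mapSubgroup (MulAut.conj g⁻¹)) H = ⊤ := h
    have h2 : (MulEquiv.mapSubgroup (MulAut.conj g⁻¹)) ⊤ = ⊤ := map_top _
    exact (MulEquiv.mapSubgroup (MulAut.conj g⁻¹)).injective (h1.trans h2.symm)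
  · apply hHcard
    rw [← card_map_conj H g⁻¹, ← hH', h, h12 M e]

end Cfsg.Agent.Lib.Helper41
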