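import Mathlib
import Cfsg.Agent.Lib.Helper41.MaxCharTwo
import Cfsg.Agent.Lib.Helper41.DicksonMax3
import Cfsg.Agent.Lib.Helper41.SubfieldPSL
import Cfsg.Agent.S0805

set_option autoImplicit false

/-!
# Maximal subgroups of `PSL₂(F)` defined over a proper subfield, `|F|` odd (helper41)

`coatom_subfield_of_inM_odd`: a maximal subgroup of `PSL₂(F)` whose preimage is conjugate (under an
automorphism of `SL₂(F)`) to a group of matrices which are scalar multiples of matrices over a proper
subfield `K` is `PGL₂(K)` (`|F| = |K|²`) or `PSL₂(K)` (`|F| = |K|^r`, `r` an odd prime).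
-/

namespace Cfsg.Agent.Lib.Helper41

open Cfsg.Agent.Lib.Helper11 Cfsg.Agent.Lib.Helper42 Cfsg.Agent.Lib.Helper14

variable {F : Type*} [Field F]

local notation "SL2" => Matrix.SpecialLinearGroup (Fin 2) F
local notation "PSL2" => Matrix.ProjectiveSpecialLinearGroup (Fin 2) F

theorem inM_one {K : Type*} [Field K] (φ : K →+* F) : InM φ (1 : SL2) := by
  refine ⟨1, 1, one_ne_zero, ?_⟩
  rw [one_smul, Matrix.SpecialLinearGroup.coe_one]
  exact Matrix.map_one _ φ.map_zero φ.map_one

theorem inM_inv {K : Type*} [Field K] (φ : K →+* F) {g : SL2} (hg : InM φ g) : InM φ g⁻¹ := by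
  obtain ⟨c, g', hc, hg'⟩ := hg
  refine ⟨c, g'.adjugate, hc, ?_⟩
  have h00 : φ (g' 0 0) = c * (g : Matrix (Fin 2) (Fin 2) F) 0 0 := by
    have := congrFun (congrFun hg' 0) 0
    simpa [Matrix.map_apply, Matrix.smul_apply] using this
  have h01 : φ (g' 0 1) = c * (g : Matrix (Fin 2) (Fin 2) F) 0 1 := by
    have := congrFun (congrFun hg' 0) 1
    simpa [Matrix.map_apply, Matrix.smul_apply] using this
  have h10 : φ (g' 1 0) = c * (g : Matrix (Fin 2) (Fin 2) F) 1 0 := by
    have := congrFun (congrFun hg' 1) 0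
    simpa [Matrix.map_apply, Matrix.smul_apply] using this
  have h11 : φ (g' 1 1) = c * (g : Matrix (Fin 2) (Fin 2) F) 1 1 := by
    have := congrFun (congrFun hg' 1) 1
    simpa [Matrix.map_apply, Matrix.smul_apply] using this
  rw [Matrix.SpecialLinearGroup.coe_inv, Matrix.adjugate_fin_two, Matrix.adjugate_fin_two]
  ext i j
  fin_cases i <;> fin_cases j <;>
    simp [Matrix.map_apply, Matrix.smul_apply, h00, h01, h10, h11]

/-- the subgroup of `SL₂(F)` of matrices which are scalar multiples of matrices over `K` -/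
def inMSub (K : Subfield F) : Subgroup SL2 where
  carrier := {g | InM K.subtype g}
  mul_mem' := fun ha hb => InM.mul ha hb
  one_mem' := inM_one _
  inv_mem' := fun ha => inM_inv _ ha

theorem mem_inMSub_iff (K : Subfield F) (g : SL2) : g ∈ inMSub K ↔ InM K.subtype g := Iff.rfl

theorem upperU_mem_inMSub_iff (K : Subfield F) (t : F) : upperU t ∈ inMSub K ↔ t ∈ K := by
  constructor
  · rintro ⟨c, g', hc, hg'⟩
    have h00 : ((g' 0 0 : K) : F) = c := by
      have := congrFun (congrFun hg' 0) 0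
      simpa [Matrix.map_apply, Matrix.smul_apply, coe_upperU] using this
    have h01 : ((g' 0 1 : K) : F) = c * t := by
      have := congrFun (congrFun hg' 0) 1
      simpa [Matrix.map_apply, Matrix.smul_apply, coe_upperU] using this
    have hcK : c ∈ K := h00 ▸ (g' 0 0).2
    have hctK : c * t ∈ K := h01 ▸ (g' 0 1).2
    have : t = c⁻¹ * (c * t) := by field_simp
    rw [this]
    exact K.mul_mem (K.inv_mem hcK) hctK
  · intro ht
    refine ⟨1, !![1, ⟨t, ht⟩; 0, 1], one_ne_zero, ?_⟩
    rw [one_smul, coe_upperU]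
    ext i j
    fin_cases i <;> fin_cases j <;> simp [Matrix.map_apply]

theorem inMSub_mono {K K₁ : Subfield F} (h : K ≤ K₁) : inMSub K ≤ inMSub K₁ := by
  rintro g ⟨c, g', hc, hg'⟩
  refine ⟨c, g'.map (Subfield.inclusion h), hc, ?_⟩
  rw [← hg']
  ext i j
  simp only [Matrix.map_apply, Subfield.coe_subtype]
  rfl

theorem inMSub_ne_top {K : Subfield F} (hK : K ≠ ⊤) : inMSub K ≠ ⊤ := by
  intro htop
  apply hK
  rw [eq_top_iff]
  intro t _
  rw [← upperU_mem_inMSub_iff, htop]
  exact Subgroup.mem_top _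

theorem map_subtype_mem_inMSub (K : Subfield F) (s : Matrix.SpecialLinearGroup (Fin 2) K) :
    Matrix.SpecialLinearGroup.map K.subtype s ∈ inMSub K := by
  refine ⟨1, (s : Matrix (Fin 2) (Fin 2) K), one_ne_zero, ?_⟩
  rw [one_smul, coe_map_sl]

/-- **Subfield subgroups, odd characteristic.** -/
theorem coatom_subfield_of_inM_odd [Fintype F] (hodd : Odd (Fintype.card F)) (M : Subgroup PSL2)
    (hM : IsCoatom M) (α : MulAut SL2) (K : Subfield F) (hK : K ≠ ⊤)
    (hInM : ∀ l ∈ (M.comap prj).map α.toMonoidHom, InM K.subtype l) :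
    (∃ (F₀ : Type) (_ : Field F₀) (_ : Fintype F₀), Fintype.card F = Fintype.card F₀ ^ 2 ∧
        Nonempty (M ≃* Matrix.ProjGenLinGroup (Fin 2) F₀)) ∨
    (∃ (F₀ : Type) (_ : Field F₀) (_ : Fintype F₀) (r : ℕ), r.Prime ∧ Odd r ∧
        Fintype.card F = Fintype.card F₀ ^ r ∧
        Nonempty (M ≃* Matrix.ProjectiveSpecialLinearGroup (Fin 2) F₀)) := by
  classical
  have hfinS : Finite SL2 := finite_SL2
  have hfin : Finite PSL2 := Finite.of_surjective prj prj_surjective
  set Mt : Subgroup SL2 := M.comap prj with hMt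
  set H₂ : Subgroup SL2 := Mt.map α.toMonoidHom with hH₂
  have hco : IsCoatom H₂ :=
    (OrderIso.isCoatom_iff (MulEquiv.mapSubgroup α) Mt).mpr
      (Subgroup.isCoatom_comap_of_surjective prj_surjective hM)
  have hle : H₂ ≤ inMSub K := fun l hl => hInM l hl
  have hH₂eq : inMSub K = H₂ := by
    rcases hco.le_iff.mp hle with h | h
    · exact absurd h (inMSub_ne_top hK)
    · exact h
  have hco' : IsCoatom (inMSub K) := hH₂eq ▸ hco
  have hmax : ∀ K₁ : Subfield F, K ≤ K₁ → K₁ = K ∨ K₁ = ⊤ := by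
    intro K₁ hKK₁
    rcases hco'.le_iff.mp (inMSub_mono hKK₁) with h | h
    · right
      by_contra hne
      exact inMSub_ne_top hne h
    · left
      apply le_antisymm _ hKK₁
      intro t ht
      rw [← upperU_mem_inMSub_iff, ← h, upperU_mem_inMSub_iff]
      exact ht
  obtain ⟨r, hr, hFr⟩ := exists_prime_card_pow_of_no_intermediate K hK hmax
  obtain ⟨K', i1, i2, ⟨e⟩⟩ := exists_type_zero_ringEquiv K
  set φ : K' →+* F := K.subtype.comp e.toRingHom with hφ
  have hcardK' : Fintype.card K' = Nat.card K := by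
    rw [← Nat.card_eq_fintype_card]; exact Nat.card_congr e.toEquiv
  have hFr' : Fintype.card K' ^ r = Fintype.card F := by rw [hcardK', hFr]
  have hK'odd : Odd (Fintype.card K') := by
    have : Odd (Fintype.card K' ^ r) := hFr' ▸ hodd
    exact (Nat.odd_pow_iff hr.ne_zero).mp this
  -- identification
  have hw : antiD (1 : Fˣ) ∈ inMSub K := by
    refine ⟨1, !![0, -1; 1, 0], one_ne_zero, ?_⟩
    rw [one_smul, coe_antiD]
    ext i j
    fin_cases i <;> fin_cases j <;> simp [Matrix.map_apply]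
  have hu : ∀ k : K', upperU (φ k) ∈ inMSub K := fun k =>
    (upperU_mem_inMSub_iff K _).mpr (e k).2
  have hl : ∀ l ∈ inMSub K, (l : Matrix (Fin 2) (Fin 2) F) 1 0 ≠ 0 →
      ∃ k : K', (l : Matrix (Fin 2) (Fin 2) F) 0 0 = φ k * (l : Matrix (Fin 2) (Fin 2) F) 1 0 := by
    rintro l ⟨c, g', hc, hg'⟩ hl10
    have h00 : ((g' 0 0 : K) : F) = c * (l : Matrix (Fin 2) (Fin 2) F) 0 0 := by
      have := congrFun (congrFun hg' 0) 0
      simpa [Matrix.map_apply, Matrix.smul_apply] using this
    have h10 : ((g' 1 0 : K) : F) = c * (l : Matrix (Fin 2) (Fin 2) F) 1 0 := by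
      have := congrFun (congrFun hg' 1) 0
      simpa [Matrix.map_apply, Matrix.smul_apply] using this
    refine ⟨e.symm (g' 0 0 / g' 1 0), ?_⟩
    have : φ (e.symm (g' 0 0 / g' 1 0)) = ((g' 0 0 : K) : F) / ((g' 1 0 : K) : F) := by
      simp [hφ]
    rw [this, h00, h10]
    field_simp
  have hres := psl_or_pgl_of_normal_form φ (inMSub K) 1 hw 1 (by simp) hu hl
  have hmap : Mt.map prj = M := Subgroup.map_comap_eq_self_of_surjective prj_surjective M
  obtain ⟨e₁⟩ := nonempty_map_mk_equiv_of_aut α Mt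
  have eM : M ≃* (inMSub K).map (QuotientGroup.mk' (Subgroup.center SL2)) :=
    ((MulEquiv.subgroupCongr hmap.symm).trans e₁).trans
      (MulEquiv.subgroupCongr (by rw [hH₂eq]))
  rcases hres with ⟨⟨e₃⟩⟩ | ⟨⟨e₃⟩⟩
  · rcases hr.eq_two_or_odd' with h2 | hodd_r
    · exfalso
      subst h2
      have hsq := exists_sq_of_even_degree φ 2 (by decide) hodd hFr'
      choose δ hδ using hsq
      have hrange : (pglHom φ δ hδ).range
          ≤ (inMSub K).map (QuotientGroup.mk' (Subgroup.center SL2)) := by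
        rintro _ ⟨g, rfl⟩
        rw [pglHom_apply]
        refine ⟨glToSL φ δ hδ g, ?_, rfl⟩
        refine ⟨δ (g : Matrix (Fin 2) (Fin 2) K').det, (g : Matrix (Fin 2) (Fin 2) K').map e,
          delta_det_ne_zero φ δ hδ g, ?_⟩
        rw [coe_glToSL, smul_smul, mul_inv_cancel₀ (delta_det_ne_zero φ δ hδ g), one_smul]
        ext i j
        simp [Matrix.map_apply, hφ]
      have hc1 : Nat.card (pglHom φ δ hδ).range
          = Fintype.card K' * (Fintype.card K' ^ 2 - 1) := by
        rw [Nat.card_congr (pglHomRangeEquiv φ δ hδ).toEquiv, card_PGL2]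
      have hc2 : Nat.card ((inMSub K).map (QuotientGroup.mk' (Subgroup.center SL2))) * 2
          = Fintype.card K' * (Fintype.card K' ^ 2 - 1) := by
        rw [Nat.card_congr e₃.toEquiv]
        have := card_PSL2_mul_gcd (K := K')
        rw [gcd_two_pred_of_odd hK'odd] at this
        exact this
      have hle' : Nat.card (pglHom φ δ hδ).range
          ≤ Nat.card ((inMSub K).map (QuotientGroup.mk' (Subgroup.center SL2))) :=
        Subgroup.card_le_of_le hrange
      have hpos : 0 < Nat.card ((inMSub K).map (QuotientGroup.mk' (Subgroup.center SL2))) :=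
        Nat.card_pos
      rw [hc1, ← hc2] at hle'
      omega
    · right
      exact ⟨K', i1, i2, r, hr, hodd_r, hFr'.symm, ⟨eM.trans e₃⟩⟩
  · left
    have hS := (Cfsg.Agent.S0805.result (F := F) (K := K') rfl hodd r hr.one_lt.le hFr').2
    have hev : Even r := hS.mp ⟨_, ⟨e₃⟩⟩
    have hr2 : r = 2 := (Nat.Prime.even_iff hr).mp hev
    subst hr2
    exact ⟨K', i1, i2, hFr'.symm, ⟨eM.trans e₃⟩⟩

end Cfsg.Agent.Lib.Helper41
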