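import Mathlib
import Cfsg.Agent.Lib.Helper41.MaxExcFrame
import Cfsg.Agent.Lib.Helper41.MaxExcField
import Cfsg.Agent.Lib.Helper41.MaxExcGroup
import Cfsg.Agent.Lib.Helper41.MaxInM
import Cfsg.Agent.Lib.Helper41.MaxDihOdd
import Cfsg.Agent.Lib.Helper14.PSL2MaxGroup
import Cfsg.Agent.Lib.Helper14.PSL2Arith

set_option autoImplicit false

/-!
# Maximal subgroups of `PSL₂(F)` isomorphic to `A₄`, `S₄`, `A₅`, `|F|` odd (helper41)
-/

namespace Cfsg.Agent.Lib.Helper41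

open Cfsg.Agent.Lib.Helper11 Cfsg.Agent.Lib.Helper42 Cfsg.Agent.Lib.Helper14

variable {F : Type*} [Field F]

local notation "SL2" => Matrix.SpecialLinearGroup (Fin 2) F
local notation "PSL2" => Matrix.ProjectiveSpecialLinearGroup (Fin 2) F

theorem two_ne_zero_of_odd_card [Fintype F] (hodd : Odd (Fintype.card F)) : (2 : F) ≠ 0 := by
  intro h
  have := (two_eq_zero_iff_even_card (F := F)).mp h
  rcases hodd with ⟨k, hk⟩
  omega

theorem tr2_eq_zero_of_prj_sq {g : SL2} (h : prj g ^ 2 = 1) (h1 : prj g ≠ 1) : tr2 g = 0 := by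
  have hg : g ∉ Subgroup.center SL2 := fun hc => h1 (prj_eq_one_iff.mpr hc)
  have hf := (pow_formulas (cayley_hamilton g)).1
  rcases (mk_pow_eq_one_iff g 2).mp h with h1 | h1
  · rw [hf] at h1
    exact coeff_eq_zero_of_not_center hg (b := 2) (by linear_combination (norm := module) h1)
  · rw [hf] at h1
    exact coeff_eq_zero_of_not_center hg (b := 0) (by linear_combination (norm := module) h1)

/-- lifts of two distinct commuting involutions of `PSL₂(F)` form a quaternion frame -/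
theorem exists_frame_lifts (a b : PSL2) (ha2 : a ^ 2 = 1) (hb2 : b ^ 2 = 1) (ha1 : a ≠ 1)
    (hb1 : b ≠ 1) (hab : a * b = b * a) (hne : a ≠ b) :
    ∃ i j : SL2, prj i = a ∧ prj j = b ∧ tr2 i = 0 ∧ tr2 j = 0 ∧ tr2 (i * j) = 0 := by
  obtain ⟨i, rfl⟩ := prj_surjective a
  obtain ⟨j, rfl⟩ := prj_surjective b
  refine ⟨i, j, rfl, rfl, tr2_eq_zero_of_prj_sq ha2 ha1, tr2_eq_zero_of_prj_sq hb2 hb1, ?_⟩
  apply tr2_eq_zero_of_prj_sq
  · rw [map_mul, (show Commute (prj i) (prj j) from hab).mul_pow, ha2, hb2, one_mul]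
  · rw [map_mul]
    intro h
    apply hne
    have : prj i = (prj j)⁻¹ := eq_inv_of_mul_eq_one_left h
    rw [this]
    exact inv_eq_of_mul_eq_one_left (by rw [← pow_two]; exact hb2)

/-- **Descent.** -/
theorem coatom_subfield_of_frame [Fintype F] (p : ℕ) [Fact p.Prime] [CharP F p]
    (hodd : Odd (Fintype.card F)) (M : Subgroup PSL2) (hM : IsCoatom M) (K : Subfield F)
    (hK : K ≠ ⊤) (i j : SL2) (hi : tr2 i = 0) (hj : tr2 j = 0) (hij : tr2 (i * j) = 0)
    (htr : ∀ g : SL2, prj g ∈ M → ∃ c : F, c ≠ 0 ∧ c * tr2 g ∈ K ∧ c * tr2 (g * i) ∈ K ∧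
      c * tr2 (g * j) ∈ K ∧ c * tr2 (g * (i * j)) ∈ K) :
    (∃ (F₀ : Type) (_ : Field F₀) (_ : Fintype F₀), Fintype.card F = Fintype.card F₀ ^ 2 ∧
        Nonempty (M ≃* Matrix.ProjGenLinGroup (Fin 2) F₀)) ∨
    (∃ (F₀ : Type) (_ : Field F₀) (_ : Fintype F₀) (r : ℕ), r.Prime ∧ Odd r ∧
        Fintype.card F = Fintype.card F₀ ^ r ∧
        Nonempty (M ≃* Matrix.ProjectiveSpecialLinearGroup (Fin 2) F₀)) := by
  have h2 : (2 : F) ≠ 0 := two_ne_zero_of_odd_card hodd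
  obtain ⟨a, b, ha, hb, hab⟩ := exists_sq_add_sq_mem p K
  obtain ⟨α, a', b', hab', ha', hb', htrα, hαi, hαj⟩ :=
    exists_frame h2 K i j hi hj hij a b ha hb hab
  apply coatom_subfield_of_inM_odd hodd M hM α K hK
  rintro _ ⟨g, hg, rfl⟩
  obtain ⟨c, hc, h0, h1, h2', h3⟩ := htr g hg
  have e0 : α.toMonoidHom g = α g := rfl
  rw [e0]
  apply inM_of_traces K h2 ha' hb' hab' (α g) c hc
  · rw [htrα]; exact h0
  · rw [← hαi, ← map_mul, htrα]; exact h1
  · rw [← hαj, ← map_mul, htrα]; exact h2'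
  · rw [← hαi, ← hαj, ← map_mul, ← map_mul, htrα]; exact h3

/-- the small traces lie in every subfield -/
theorem small_tr2_mem (K : Subfield F) {t : F}
    (h : t = 0 ∨ t = 1 ∨ t = -1 ∨ t = 2 ∨ t = -2) : t ∈ K := by
  have h2K : (2 : F) ∈ K := by
    have : (2 : F) = 1 + 1 := by norm_num
    rw [this]; exact K.add_mem K.one_mem K.one_mem
  rcases h with rfl | rfl | rfl | rfl | rfl
  · exact K.zero_mem
  · exact K.one_mem
  · exact K.neg_mem K.one_mem
  · exact h2K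
  · exact K.neg_mem h2K

theorem tr2_mem_of_sq_or_cube (K : Subfield F) {g : SL2}
    (h : prj g ^ 2 = 1 ∨ prj g ^ 3 = 1) : tr2 g ∈ K := by
  apply small_tr2_mem
  rcases h with h | h
  · rcases tr2_of_prj_sq h with h1 | h1 | h1
    · exact Or.inl h1
    · exact Or.inr (Or.inr (Or.inr (Or.inl h1)))
    · exact Or.inr (Or.inr (Or.inr (Or.inr h1)))
  · rcases tr2_of_prj_cube h with h1 | h1 | h1 | h1
    · exact Or.inr (Or.inl h1)
    · exact Or.inr (Or.inr (Or.inl h1))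
    · exact Or.inr (Or.inr (Or.inr (Or.inl h1)))
    · exact Or.inr (Or.inr (Or.inr (Or.inr h1)))

theorem pow_eq_one_of_equiv {X : Type*} [Group X] {M : Subgroup PSL2} (e : M ≃* X) {y : PSL2}
    (hy : y ∈ M) {n : ℕ} (h : (e ⟨y, hy⟩) ^ n = 1) : y ^ n = 1 := by
  have h1 : (⟨y, hy⟩ : M) ^ n = 1 := by
    apply e.injective
    rw [map_pow, h, map_one]
  have h2 := congrArg Subtype.val h1
  simpa using h2

/-- a quaternion frame from two commuting involutions of `M ≅ X` -/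
theorem exists_frame_of_equiv {X : Type*} [Group X] (M : Subgroup PSL2) (e : M ≃* X) (σ₁ σ₂ : X)
    (h1 : σ₁ ^ 2 = 1) (h2 : σ₂ ^ 2 = 1) (h3 : σ₁ ≠ 1) (h4 : σ₂ ≠ 1) (h5 : σ₁ * σ₂ = σ₂ * σ₁)
    (h6 : σ₁ ≠ σ₂) :
    ∃ (i j : SL2) (hi : prj i ∈ M) (hj : prj j ∈ M), e ⟨prj i, hi⟩ = σ₁ ∧ e ⟨prj j, hj⟩ = σ₂ ∧
      tr2 i = 0 ∧ tr2 j = 0 ∧ tr2 (i * j) = 0 := by
  have hne1 : ∀ σ : X, σ ≠ 1 → ((e.symm σ : M) : PSL2) ≠ 1 := by
    intro σ hσ h
    apply hσ
    have : e.symm σ = 1 := Subtype.ext h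
    have h' := congrArg e this
    rwa [e.apply_symm_apply, map_one] at h'
  obtain ⟨i, j, hi, hj, ti, tj, tij⟩ := exists_frame_lifts ((e.symm σ₁ : M) : PSL2)
    ((e.symm σ₂ : M) : PSL2)
    (by rw [← Subgroup.coe_pow, ← map_pow, h1, map_one, Subgroup.coe_one])
    (by rw [← Subgroup.coe_pow, ← map_pow, h2, map_one, Subgroup.coe_one])
    (hne1 σ₁ h3) (hne1 σ₂ h4)
    (by rw [← Subgroup.coe_mul, ← Subgroup.coe_mul, ← map_mul, ← map_mul, h5])
    (by
      intro h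
      apply h6
      have : e.symm σ₁ = e.symm σ₂ := Subtype.ext h
      exact e.symm.injective this)
  refine ⟨i, j, by rw [hi]; exact (e.symm σ₁).2, by rw [hj]; exact (e.symm σ₂).2, ?_, ?_, ti, tj,
    tij⟩
  · have : (⟨prj i, by rw [hi]; exact (e.symm σ₁).2⟩ : M) = e.symm σ₁ := Subtype.ext hi
    rw [this, e.apply_symm_apply]
  · have : (⟨prj j, by rw [hj]; exact (e.symm σ₂).2⟩ : M) = e.symm σ₂ := Subtype.ext hj
    rw [this, e.apply_symm_apply]

theorem sq_mod_sixteen (p : ℕ) (hp : p % 2 = 1) :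
    ((p % 8 = 1 ∨ p % 8 = 7) ∧ p ^ 2 % 16 = 1) ∨ ((p % 8 = 3 ∨ p % 8 = 5) ∧ p ^ 2 % 16 = 9) := by
  rw [Nat.pow_mod]
  have h16 := Nat.mod_lt p (by norm_num : 16 > 0)
  have h8 : p % 8 = (p % 16) % 8 := (Nat.mod_mod_of_dvd p (by norm_num : 8 ∣ 16)).symm
  have h2 : (p % 16) % 2 = 1 := by rw [Nat.mod_mod_of_dvd p (by norm_num : 2 ∣ 16)]; exact hp
  rw [h8]
  generalize p % 16 = r at *
  interval_cases r <;> simp_all

/-- the four-group elements of `A₄` -/
def a4s1 : alternatingGroup (Fin 4) :=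
  ⟨Equiv.swap 0 1 * Equiv.swap 2 3, by rw [Equiv.Perm.mem_alternatingGroup]; decide⟩

def a4s2 : alternatingGroup (Fin 4) :=
  ⟨Equiv.swap 0 2 * Equiv.swap 1 3, by rw [Equiv.Perm.mem_alternatingGroup]; decide⟩

/-- **`A₄`.** -/
theorem coatom_A4_odd [Fintype F] (p : ℕ) [Fact p.Prime] [CharP F p]
    (hodd : Odd (Fintype.card F)) (h5 : 5 ≤ Fintype.card F) (M : Subgroup PSL2) (hM : IsCoatom M)
    (e : M ≃* alternatingGroup (Fin 4)) :
    (∃ (F₀ : Type) (_ : Field F₀) (_ : Fintype F₀), Fintype.card F = Fintype.card F₀ ^ 2 ∧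
        Nonempty (M ≃* Matrix.ProjGenLinGroup (Fin 2) F₀)) ∨
    (∃ (F₀ : Type) (_ : Field F₀) (_ : Fintype F₀) (r : ℕ), r.Prime ∧ Odd r ∧
        Fintype.card F = Fintype.card F₀ ^ r ∧
        Nonempty (M ≃* Matrix.ProjectiveSpecialLinearGroup (Fin 2) F₀)) ∨
    (Fintype.card F = p ∧ (p % 8 = 3 ∨ p % 8 = 5) ∧ ¬ (p % 10 = 1 ∨ p % 10 = 9)) := by
  classical
  have hfinS : Finite SL2 := finite_SL2
  have hfin : Finite PSL2 := Finite.of_surjective prj prj_surjective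
  have hsimple : IsSimpleGroup PSL2 :=
    Matrix.ProjectiveSpecialLinearGroup.rank_two_simple (by
      rw [Nat.card_eq_fintype_card]; omega)
  obtain ⟨i, j, hi, hj, -, -, ti, tj, tij⟩ := exists_frame_of_equiv M e a4s1 a4s2
    (by decide) (by decide) (by decide) (by decide) (by decide) (by decide)
  have hord : ∀ g : SL2, prj g ∈ M → tr2 g ∈ fix1 (F := F) p := by
    intro g hg
    apply tr2_mem_of_sq_or_cube
    have key : ∀ x : alternatingGroup (Fin 4), x ^ 2 = 1 ∨ x ^ 3 = 1 := by decide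
    rcases key (e ⟨prj g, hg⟩) with h | h
    · left; exact pow_eq_one_of_equiv e hg h
    · right; exact pow_eq_one_of_equiv e hg h
  by_cases hK : fix1 (F := F) p = ⊤
  · right; right
    have hq : Fintype.card F = p := card_of_fix1_eq_top p hK
    have hG : Nat.card PSL2 * 2 = p * (p ^ 2 - 1) := by
      have := card_PSL2_mul_two_of_odd hodd
      rwa [hq] at this
    have hp2 : p % 2 = 1 := by
      rw [hq] at hodd
      exact Nat.odd_iff.mp hodd
    have hp1 : 1 ≤ p ^ 2 := Nat.one_le_pow _ _ (by omega)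
    rcases sq_mod_sixteen p hp2 with ⟨h8, h16⟩ | ⟨h8, h16⟩
    · exfalso
      apply not_coatom_A4_of_eight_dvd M hM e
      obtain ⟨c, hc⟩ : ∃ c, p ^ 2 = 16 * c + 1 := ⟨p ^ 2 / 16, by omega⟩
      have e1 : p * (p ^ 2 - 1) = 2 * (8 * (p * c)) := by
        rw [hc, Nat.add_sub_cancel]; ring
      exact ⟨p * c, by omega⟩
    · refine ⟨hq, h8, ?_⟩
      intro h10
      have hn8 : ¬ 8 ∣ Nat.card PSL2 := by
        rintro ⟨w, hw⟩
        obtain ⟨c, hc⟩ : ∃ c, p ^ 2 = 16 * c + 9 := ⟨p ^ 2 / 16, by omega⟩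
        have e1 : p * (p ^ 2 - 1) = 16 * (p * c) + 8 * p := by
          have : 16 * c + 9 - 1 = 16 * c + 8 := by omega
          rw [hc, this]; ring
        rw [hw, e1] at hG
        omega
      have h5dvd : 5 ∣ Fintype.card F * (Fintype.card F ^ 2 - 1) := by
        rw [hq]
        have h5 : p ^ 2 % 5 = 1 := by
          rw [Nat.pow_mod]
          have : p % 5 = 1 ∨ p % 5 = 4 := by omega
          rcases this with h | h <;> rw [h]
        have h5' : 5 ∣ p ^ 2 - 1 := by omega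
        exact Dvd.dvd.mul_left h5' p
      obtain ⟨H, ⟨f⟩⟩ := (Cfsg.Agent.S0804.result (q := Fintype.card F) rfl).mpr h5dvd
      obtain ⟨A, hAH, ⟨fA⟩⟩ := exists_A4_le_of_A5 H f
      have hcH : Nat.card H = 60 := card_of_equiv_A5 f
      refine not_coatom_A4_of_A4_le M A H hM e fA hAH ?_ (by rw [hcH]; norm_num) hn8
      intro htop
      rw [htop, Subgroup.card_top] at hcH
      rw [hcH] at hG
      -- `p (p² - 1) = 120` forces `p = 5`
      have hp5 : p = 5 := by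
        have hp3 : p < 6 := by
          by_contra hlt
          have h6 : 6 ≤ p := by omega
          have : 6 * 35 ≤ p * (p ^ 2 - 1) := by
            apply Nat.mul_le_mul h6
            have : 36 ≤ p ^ 2 := by nlinarith
            omega
          omega
        have hp5' : 5 ≤ p := by rw [← hq]; exact h5
        omega
      omega
  · have := coatom_subfield_of_frame p hodd M hM (fix1 (F := F) p) hK i j ti tj tij (by
      intro g hg
      refine ⟨1, one_ne_zero, ?_, ?_, ?_, ?_⟩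
      · rw [one_mul]; exact hord g hg
      · rw [one_mul]; exact hord _ (by rw [map_mul]; exact M.mul_mem hg hi)
      · rw [one_mul]; exact hord _ (by rw [map_mul]; exact M.mul_mem hg hj)
      · rw [one_mul]
        exact hord _ (by rw [map_mul, map_mul]; exact M.mul_mem hg (M.mul_mem hi hj)))
    rcases this with h | h
    · left; exact h
    · right; left; exact h

/-! ### `S₄` -/

def s4s1 : Equiv.Perm (Fin 4) := Equiv.swap 0 1 * Equiv.swap 2 3

def s4s2 : Equiv.Perm (Fin 4) := Equiv.swap 0 2 * Equiv.swap 1 3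

set_option maxRecDepth 100000 in
theorem s4_coset_orders : ∀ σ : Equiv.Perm (Fin 4),
    ((σ ^ 2 = 1 ∨ σ ^ 3 = 1) ∧ ((σ * s4s1) ^ 2 = 1 ∨ (σ * s4s1) ^ 3 = 1) ∧
      ((σ * s4s2) ^ 2 = 1 ∨ (σ * s4s2) ^ 3 = 1) ∧
      ((σ * (s4s1 * s4s2)) ^ 2 = 1 ∨ (σ * (s4s1 * s4s2)) ^ 3 = 1)) ∨
    ((σ ^ 4 = 1 ∧ σ ≠ 1) ∧ ((σ * s4s1) ^ 4 = 1 ∧ σ * s4s1 ≠ 1) ∧
      ((σ * s4s2) ^ 4 = 1 ∧ σ * s4s2 ≠ 1) ∧
      ((σ * (s4s1 * s4s2)) ^ 4 = 1 ∧ σ * (s4s1 * s4s2) ≠ 1)) := by
  decide

theorem exists_scale (K : Subfield F) (h2 : (2 : F) ≠ 0) (t0 t1 t2 t3 : F)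
    (h0 : t0 = 0 ∨ t0 ^ 2 = 2) (h1 : t1 = 0 ∨ t1 ^ 2 = 2) (h2' : t2 = 0 ∨ t2 ^ 2 = 2)
    (h3 : t3 = 0 ∨ t3 ^ 2 = 2) :
    ∃ c : F, c ≠ 0 ∧ c * t0 ∈ K ∧ c * t1 ∈ K ∧ c * t2 ∈ K ∧ c * t3 ∈ K := by
  have key : ∀ s t : F, s ^ 2 = 2 → (t = 0 ∨ t ^ 2 = 2) → s⁻¹ * t ∈ K := by
    intro s t hs ht
    have hs0 : s ≠ 0 := by
      rintro rfl
      apply h2
      rw [← hs]; ring
    rcases ht with rfl | ht
    · rw [mul_zero]; exact K.zero_mem
    · have : (t - s) * (t + s) = 0 := by linear_combination ht - hs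
      rcases mul_eq_zero.mp this with h | h
      · have : t = s := sub_eq_zero.mp h
        rw [this, inv_mul_cancel₀ hs0]; exact K.one_mem
      · have : t = -s := eq_neg_of_add_eq_zero_left h
        rw [this, mul_neg, inv_mul_cancel₀ hs0]; exact K.neg_mem K.one_mem
  have hs0 : ∀ s : F, s ^ 2 = 2 → s⁻¹ ≠ 0 := by
    intro s hs
    apply inv_ne_zero
    rintro rfl
    apply h2
    rw [← hs]; ring
  by_cases e0 : t0 = 0
  · by_cases e1 : t1 = 0
    · by_cases e2 : t2 = 0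
      · by_cases e3 : t3 = 0
        · refine ⟨1, one_ne_zero, ?_, ?_, ?_, ?_⟩ <;> simp [e0, e1, e2, e3, K.zero_mem]
        · have hs : t3 ^ 2 = 2 := h3.resolve_left e3
          exact ⟨t3⁻¹, hs0 _ hs, key _ _ hs h0, key _ _ hs h1, key _ _ hs h2', key _ _ hs h3⟩
      · have hs : t2 ^ 2 = 2 := h2'.resolve_left e2
        exact ⟨t2⁻¹, hs0 _ hs, key _ _ hs h0, key _ _ hs h1, key _ _ hs h2', key _ _ hs h3⟩
    · have hs : t1 ^ 2 = 2 := h1.resolve_left e1
      exact ⟨t1⁻¹, hs0 _ hs, key _ _ hs h0, key _ _ hs h1, key _ _ hs h2', key _ _ hs h3⟩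
  · have hs : t0 ^ 2 = 2 := h0.resolve_left e0
    exact ⟨t0⁻¹, hs0 _ hs, key _ _ hs h0, key _ _ hs h1, key _ _ hs h2', key _ _ hs h3⟩

theorem ne_one_of_equiv {X : Type*} [Group X] {M : Subgroup PSL2} (e : M ≃* X) {y : PSL2}
    (hy : y ∈ M) (h : e ⟨y, hy⟩ ≠ 1) : y ≠ 1 := by
  rintro rfl
  apply h
  have : (⟨1, hy⟩ : M) = 1 := rfl
  rw [this, map_one]

/-- **`S₄`.** -/
theorem coatom_S4_odd [Fintype F] (p : ℕ) [Fact p.Prime] [CharP F p]
    (hodd : Odd (Fintype.card F)) (M : Subgroup PSL2) (hM : IsCoatom M)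
    (e : M ≃* Equiv.Perm (Fin 4)) :
    (∃ (F₀ : Type) (_ : Field F₀) (_ : Fintype F₀), Fintype.card F = Fintype.card F₀ ^ 2 ∧
        Nonempty (M ≃* Matrix.ProjGenLinGroup (Fin 2) F₀)) ∨
    (∃ (F₀ : Type) (_ : Field F₀) (_ : Fintype F₀) (r : ℕ), r.Prime ∧ Odd r ∧
        Fintype.card F = Fintype.card F₀ ^ r ∧
        Nonempty (M ≃* Matrix.ProjectiveSpecialLinearGroup (Fin 2) F₀)) ∨
    (Fintype.card F = p ∧ (p % 8 = 1 ∨ p % 8 = 7)) := by
  classical
  have h2 : (2 : F) ≠ 0 := two_ne_zero_of_odd_card hodd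
  obtain ⟨i, j, hi, hj, hi', hj', ti, tj, tij⟩ := exists_frame_of_equiv M e s4s1 s4s2
    (by decide) (by decide) (by decide) (by decide) (by decide) (by decide)
  by_cases hK : fix1 (F := F) p = ⊤
  · right; right
    have hq : Fintype.card F = p := card_of_fix1_eq_top p hK
    refine ⟨hq, ?_⟩
    have h16 := (Cfsg.Agent.S0803.result (q := Fintype.card F) rfl).mp ⟨M, ⟨e⟩⟩
    rw [hq] at h16 hodd
    rcases sq_mod_sixteen p (Nat.odd_iff.mp hodd) with ⟨h8, -⟩ | ⟨-, h9⟩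
    · exact h8
    · omega
  · have := coatom_subfield_of_frame p hodd M hM (fix1 (F := F) p) hK i j ti tj tij (by
      intro g hg
      have hgi : prj (g * i) ∈ M := by rw [map_mul]; exact M.mul_mem hg hi
      have hgj : prj (g * j) ∈ M := by rw [map_mul]; exact M.mul_mem hg hj
      have hgij : prj (g * (i * j)) ∈ M := by
        rw [map_mul, map_mul]; exact M.mul_mem hg (M.mul_mem hi hj)
      have e1 : e ⟨prj (g * i), hgi⟩ = e ⟨prj g, hg⟩ * s4s1 := by
        rw [← hi', ← map_mul]; congr 1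
      have e2 : e ⟨prj (g * j), hgj⟩ = e ⟨prj g, hg⟩ * s4s2 := by
        rw [← hj', ← map_mul]; congr 1
      have e3 : e ⟨prj (g * (i * j)), hgij⟩ = e ⟨prj g, hg⟩ * (s4s1 * s4s2) := by
        rw [← hi', ← hj', ← map_mul, ← map_mul]; congr 1
      rcases s4_coset_orders (e ⟨prj g, hg⟩) with ⟨k0, k1, k2, k3⟩ | ⟨k0, k1, k2, k3⟩
      · rw [← e1] at k1
        rw [← e2] at k2
        rw [← e3] at k3
        have m : ∀ {y : SL2} (hy : prj y ∈ M),
            ((e ⟨prj y, hy⟩) ^ 2 = 1 ∨ (e ⟨prj y, hy⟩) ^ 3 = 1) → tr2 y ∈ fix1 (F := F) p := by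
          intro y hy h
          apply tr2_mem_of_sq_or_cube
          rcases h with h | h
          · left; exact pow_eq_one_of_equiv e hy h
          · right; exact pow_eq_one_of_equiv e hy h
        refine ⟨1, one_ne_zero, ?_, ?_, ?_, ?_⟩
        · rw [one_mul]; exact m hg k0
        · rw [one_mul]; exact m hgi k1
        · rw [one_mul]; exact m hgj k2
        · rw [one_mul]; exact m hgij k3
      · rw [← e1] at k1
        rw [← e2] at k2
        rw [← e3] at k3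
        have m : ∀ {y : SL2} (hy : prj y ∈ M),
            ((e ⟨prj y, hy⟩) ^ 4 = 1 ∧ e ⟨prj y, hy⟩ ≠ 1) → (tr2 y = 0 ∨ tr2 y ^ 2 = 2) := by
          intro y hy h
          exact tr2_of_prj_pow_four (pow_eq_one_of_equiv e hy h.1) (ne_one_of_equiv e hy h.2)
        exact exists_scale _ h2 _ _ _ _ (m hg k0) (m hgi k1) (m hgj k2) (m hgij k3))
    rcases this with h | h
    · left; exact h
    · right; left; exact h

/-! ### `A₅` -/

def a5s1 : alternatingGroup (Fin 5) :=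
  ⟨Equiv.swap 0 1 * Equiv.swap 2 3, by rw [Equiv.Perm.mem_alternatingGroup]; decide⟩

def a5s2 : alternatingGroup (Fin 5) :=
  ⟨Equiv.swap 0 2 * Equiv.swap 1 3, by rw [Equiv.Perm.mem_alternatingGroup]; decide⟩

/-- `q = p` and `A₅` maximal force `p ≡ ±1 (mod 10)` -/
theorem mod_ten_of_A5 [Fintype F] (p : ℕ) [Fact p.Prime] (hodd : Odd (Fintype.card F))
    (hq : Fintype.card F = p) (M : Subgroup PSL2) (hM : IsCoatom M)
    (e : M ≃* alternatingGroup (Fin 5)) : p % 10 = 1 ∨ p % 10 = 9 := by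
  have hp := (Fact.out : p.Prime)
  have h5 := (Cfsg.Agent.S0804.result (q := Fintype.card F) rfl).mp ⟨M, ⟨e⟩⟩
  have hG := card_PSL2_mul_two_of_odd hodd
  rw [hq] at h5 hG hodd
  have hp2 : p % 2 = 1 := Nat.odd_iff.mp hodd
  have hp5 : p ≠ 5 := by
    rintro rfl
    apply hM.1
    apply Subgroup.eq_top_of_card_eq
    rw [card_of_equiv_A5 e]
    norm_num at hG
    omega
  have hndvd : ¬ 5 ∣ p := by
    intro h
    exact hp5 ((Nat.prime_dvd_prime_iff_eq Nat.prime_five hp).mp h).symm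
  have h5' : 5 ∣ p ^ 2 - 1 := (Nat.Prime.dvd_mul Nat.prime_five).mp h5 |>.resolve_left hndvd
  have hp1 : 1 ≤ p ^ 2 := Nat.one_le_pow _ _ hp.pos
  have h51 : p ^ 2 % 5 = 1 := by omega
  rw [Nat.pow_mod] at h51
  have h5lt := Nat.mod_lt p (by norm_num : 5 > 0)
  have : p % 5 = 1 ∨ p % 5 = 4 := by
    generalize p % 5 = r at *
    interval_cases r <;> simp_all
  omega

/-- **`A₅`.** -/
theorem coatom_A5_odd [Fintype F] (p : ℕ) [Fact p.Prime] [CharP F p]
    (hodd : Odd (Fintype.card F)) (M : Subgroup PSL2) (hM : IsCoatom M)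
    (e : M ≃* alternatingGroup (Fin 5)) :
    (∃ (F₀ : Type) (_ : Field F₀) (_ : Fintype F₀), Fintype.card F = Fintype.card F₀ ^ 2 ∧
        Nonempty (M ≃* Matrix.ProjGenLinGroup (Fin 2) F₀)) ∨
    (∃ (F₀ : Type) (_ : Field F₀) (_ : Fintype F₀) (r : ℕ), r.Prime ∧ Odd r ∧
        Fintype.card F = Fintype.card F₀ ^ r ∧
        Nonempty (M ≃* Matrix.ProjectiveSpecialLinearGroup (Fin 2) F₀)) ∨
    ((Fintype.card F % 10 = 1 ∨ Fintype.card F % 10 = 9) ∧
        (Fintype.card F = p ∨ (Fintype.card F = p ^ 2 ∧ (p % 10 = 3 ∨ p % 10 = 7)))) := by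
  classical
  have hp := (Fact.out : p.Prime)
  have h2 : (2 : F) ≠ 0 := two_ne_zero_of_odd_card hodd
  obtain ⟨i, j, hi, hj, -, -, ti, tj, tij⟩ := exists_frame_of_equiv M e a5s1 a5s2
    (by decide) (by decide) (by decide) (by decide) (by decide) (by decide)
  -- traces lie in any subfield containing the roots of `X² ± X - 1`
  have hord : ∀ K : Subfield F, (∀ t : F, (t ^ 2 + t - 1 = 0 ∨ t ^ 2 - t - 1 = 0) → t ∈ K) →
      ∀ g : SL2, prj g ∈ M → tr2 g ∈ K := by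
    intro K hK g hg
    rcases alt5_orders (e ⟨prj g, hg⟩) with h | h | h
    · exact tr2_mem_of_sq_or_cube K (Or.inl (pow_eq_one_of_equiv e hg h))
    · exact tr2_mem_of_sq_or_cube K (Or.inr (pow_eq_one_of_equiv e hg h))
    · rcases tr2_of_prj_pow_five (pow_eq_one_of_equiv e hg h) with h1 | h1 | h1 | h1
      · exact small_tr2_mem K (Or.inr (Or.inr (Or.inr (Or.inl h1))))
      · exact small_tr2_mem K (Or.inr (Or.inr (Or.inr (Or.inr h1))))
      · exact hK _ (Or.inl h1)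
      · exact hK _ (Or.inr h1)
  have hlemma : ∀ K : Subfield F, K ≠ ⊤ →
      (∀ t : F, (t ^ 2 + t - 1 = 0 ∨ t ^ 2 - t - 1 = 0) → t ∈ K) →
      (∃ (F₀ : Type) (_ : Field F₀) (_ : Fintype F₀), Fintype.card F = Fintype.card F₀ ^ 2 ∧
        Nonempty (M ≃* Matrix.ProjGenLinGroup (Fin 2) F₀)) ∨
      (∃ (F₀ : Type) (_ : Field F₀) (_ : Fintype F₀) (r : ℕ), r.Prime ∧ Odd r ∧
        Fintype.card F = Fintype.card F₀ ^ r ∧
        Nonempty (M ≃* Matrix.ProjectiveSpecialLinearGroup (Fin 2) F₀)) := by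
    intro K hKtop hK
    apply coatom_subfield_of_frame p hodd M hM K hKtop i j ti tj tij
    intro g hg
    refine ⟨1, one_ne_zero, ?_, ?_, ?_, ?_⟩
    · rw [one_mul]; exact hord K hK g hg
    · rw [one_mul]; exact hord K hK _ (by rw [map_mul]; exact M.mul_mem hg hi)
    · rw [one_mul]; exact hord K hK _ (by rw [map_mul]; exact M.mul_mem hg hj)
    · rw [one_mul]
      exact hord K hK _ (by rw [map_mul, map_mul]; exact M.mul_mem hg (M.mul_mem hi hj))
  have hcase_p : Fintype.card F = p →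
      ((Fintype.card F % 10 = 1 ∨ Fintype.card F % 10 = 9) ∧
        (Fintype.card F = p ∨ (Fintype.card F = p ^ 2 ∧ (p % 10 = 3 ∨ p % 10 = 7)))) := by
    intro hq
    refine ⟨?_, Or.inl hq⟩
    rw [hq]
    exact mod_ten_of_A5 p hodd hq M hM e
  by_cases hs : ∃ s : F, s ∈ fix1 (F := F) p ∧ s ^ 2 = 5
  · obtain ⟨s, hsK, hs5⟩ := hs
    by_cases hK : fix1 (F := F) p = ⊤
    · right; right
      exact hcase_p (card_of_fix1_eq_top p hK)
    · rcases hlemma _ hK (fun t ht => mem_of_root_of_sqrt_five _ h2 hsK hs5 ht) with h | h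
      · left; exact h
      · right; left; exact h
  · by_cases hK : fix2 (F := F) p = ⊤
    · right; right
      rcases card_of_fix2_eq_top p hK with hq | hq
      · exact hcase_p hq
      · have hp2 : p % 2 = 1 := by
          rw [hq] at hodd
          have := (Nat.odd_pow_iff (by norm_num : 2 ≠ 0)).mp hodd
          exact Nat.odd_iff.mp this
        have h37 : p % 10 = 3 ∨ p % 10 = 7 := by
          by_contra hne
          apply hs
          apply exists_sqrt_five_mem p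
          have h5 : p % 10 = 5 → p = 5 := by
            intro h
            have : 5 ∣ p := by omega
            exact ((Nat.prime_dvd_prime_iff_eq Nat.prime_five hp).mp this).symm
          have : p % 10 = 1 ∨ p % 10 = 9 ∨ p % 10 = 5 := by omega
          rcases this with h | h | h
          · exact Or.inl h
          · exact Or.inr (Or.inl h)
          · exact Or.inr (Or.inr (h5 h))
        refine ⟨?_, Or.inr ⟨hq, h37⟩⟩
        rw [hq, Nat.pow_mod]
        rcases h37 with h | h <;> rw [h] <;> norm_num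
    · rcases hlemma _ hK (fun t ht => by
        rcases ht with ht | ht
        · exact mem_fix2_of_root p ht
        · exact mem_fix2_of_root' p ht) with h | h
      · left; exact h
      · right; left; exact h

end Cfsg.Agent.Lib.Helper41
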