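import Mathlib
import Cfsg.Agent.Lib.Helper41.MaxExcMain
import Cfsg.Agent.Lib.Helper41.DicksonNormalForm
import Cfsg.Agent.Lib.Helper41.DicksonSmall

set_option autoImplicit false

/-!
# Maximal subgroups of `PSL₂(F)`, `|F| = q ≥ 5` odd (helper41)
-/

namespace Cfsg.Agent.Lib.Helper41

open Cfsg.Agent.Lib.Helper11 Cfsg.Agent.Lib.Helper42 Cfsg.Agent.Lib.Helper14

/-- the list of isomorphism types of maximal subgroups of `PSL₂(q)`, `q` odd -/
def OddMaxList (F : Type*) [Field F] [Fintype F] (p : ℕ) (M : Type*) [Group M] : Prop :=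
  2 * Nat.card M = Fintype.card F * (Fintype.card F - 1) ∨
  (13 ≤ Fintype.card F ∧ (∃ k : ℕ, 2 * k = Fintype.card F - 1 ∧ Nonempty (M ≃* DihedralGroup k))) ∨
  (Fintype.card F ≠ 7 ∧ Fintype.card F ≠ 9 ∧
    (∃ k : ℕ, 2 * k = Fintype.card F + 1 ∧ Nonempty (M ≃* DihedralGroup k))) ∨
  (∃ (F₀ : Type) (_ : Field F₀) (_ : Fintype F₀), Fintype.card F = Fintype.card F₀ ^ 2 ∧
      Nonempty (M ≃* Matrix.ProjGenLinGroup (Fin 2) F₀)) ∨
  (∃ (F₀ : Type) (_ : Field F₀) (_ : Fintype F₀) (r : ℕ), r.Prime ∧ Odd r ∧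
      Fintype.card F = Fintype.card F₀ ^ r ∧
      Nonempty (M ≃* Matrix.ProjectiveSpecialLinearGroup (Fin 2) F₀)) ∨
  ((Fintype.card F % 10 = 1 ∨ Fintype.card F % 10 = 9) ∧
      (Fintype.card F = p ∨ (Fintype.card F = p ^ 2 ∧ (p % 10 = 3 ∨ p % 10 = 7))) ∧
      Nonempty (M ≃* alternatingGroup (Fin 5))) ∨
  (Fintype.card F = p ∧ (p % 8 = 3 ∨ p % 8 = 5) ∧ ¬ (p % 10 = 1 ∨ p % 10 = 9) ∧
      Nonempty (M ≃* alternatingGroup (Fin 4))) ∨
  (Fintype.card F = p ∧ (p % 8 = 1 ∨ p % 8 = 7) ∧ Nonempty (M ≃* Equiv.Perm (Fin 4)))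

theorem OddMaxList.of_equiv {F : Type*} [Field F] [Fintype F] {p : ℕ} {M M' : Type*} [Group M]
    [Group M'] (e : M ≃* M') (h : OddMaxList F p M') : OddMaxList F p M := by
  rcases h with h | ⟨h1, k, hk, ⟨f⟩⟩ | ⟨h1, h2, k, hk, ⟨f⟩⟩ | ⟨F₀, i1, i2, h1, ⟨f⟩⟩ |
    ⟨F₀, i1, i2, r, h1, h2, h3, ⟨f⟩⟩ | ⟨h1, h2, ⟨f⟩⟩ | ⟨h1, h2, h3, ⟨f⟩⟩ | ⟨h1, h2, ⟨f⟩⟩
  · left
    rw [Nat.card_congr e.toEquiv]; exact h
  · right; left
    exact ⟨h1, k, hk, ⟨e.trans f⟩⟩
  · right; right; left
    exact ⟨h1, h2, k, hk, ⟨e.trans f⟩⟩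
  · right; right; right; left
    exact ⟨F₀, i1, i2, h1, ⟨e.trans f⟩⟩
  · right; right; right; right; left
    exact ⟨F₀, i1, i2, r, h1, h2, h3, ⟨e.trans f⟩⟩
  · right; right; right; right; right; left
    exact ⟨h1, h2, ⟨e.trans f⟩⟩
  · right; right; right; right; right; right; left
    exact ⟨h1, h2, h3, ⟨e.trans f⟩⟩
  · right; right; right; right; right; right; right
    exact ⟨h1, h2, ⟨e.trans f⟩⟩

variable {F : Type*} [Field F]

local notation "SL2" => Matrix.SpecialLinearGroup (Fin 2) F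
local notation "PSL2" => Matrix.ProjectiveSpecialLinearGroup (Fin 2) F

/-- the cases of Dickson's list which are not of subfield type -/
theorem oddMaxList_of_dickson [Fintype F] (p : ℕ) [Fact p.Prime] [CharP F p]
    (hodd : Odd (Fintype.card F)) (h5 : 5 ≤ Fintype.card F) (M : Subgroup PSL2) (hM : IsCoatom M)
    (h : (∃ k : ℕ, (k ∣ (Fintype.card F + 1) / Nat.gcd 2 (Fintype.card F - 1) ∨
        k ∣ (Fintype.card F - 1) / Nat.gcd 2 (Fintype.card F - 1)) ∧
      ((IsCyclic M ∧ Nat.card M = k) ∨ Nonempty (M ≃* DihedralGroup k))) ∨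
    Nonempty (M ≃* alternatingGroup (Fin 4)) ∨ Nonempty (M ≃* Equiv.Perm (Fin 4)) ∨
    Nonempty (M ≃* alternatingGroup (Fin 5))) : OddMaxList F p M := by
  rcases h with ⟨n, hn, h⟩ | ⟨⟨e⟩⟩ | ⟨⟨e⟩⟩ | ⟨⟨e⟩⟩
  · rcases coatom_clause_a_odd p hodd h5 M hM n hn h with h1 | h1
    · right; left; exact h1
    · right; right; left; exact h1
  · rcases coatom_A4_odd p hodd h5 M hM e with h1 | h1 | ⟨h1, h2, h3⟩
    · right; right; right; left; exact h1
    · right; right; right; right; left; exact h1
    · right; right; right; right; right; right; left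
      exact ⟨h1, h2, h3, ⟨e⟩⟩
  · rcases coatom_S4_odd p hodd M hM e with h1 | h1 | ⟨h1, h2⟩
    · right; right; right; left; exact h1
    · right; right; right; right; left; exact h1
    · right; right; right; right; right; right; right
      exact ⟨h1, h2, ⟨e⟩⟩
  · rcases coatom_A5_odd p hodd M hM e with h1 | h1 | ⟨h1, h2⟩
    · right; right; right; left; exact h1
    · right; right; right; right; left; exact h1
    · right; right; right; right; right; left
      exact ⟨h1, h2, ⟨e⟩⟩

/-- **Maximal subgroups of `PSL₂(F)`, `|F| = q ≥ 5` odd.** -/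
theorem coatom_cases_odd [Fintype F] (p : ℕ) [Fact p.Prime] [CharP F p]
    (hodd : Odd (Fintype.card F)) (h5 : 5 ≤ Fintype.card F) (M : Subgroup PSL2)
    (hM : IsCoatom M) : OddMaxList F p M := by
  classical
  have hgcd : Nat.gcd 2 (Fintype.card F - 1) = 2 := gcd_two_pred_of_odd hodd
  by_cases hp : p ∣ Nat.card M
  · obtain ⟨g, t, ht0, ht⟩ := exists_conj_upperU_mem p M hp
    set M' : Subgroup PSL2 := M.map (MulAut.conj g).toMonoidHom with hM'
    have e : M ≃* M' := M.equivMapOfInjective _ (MulAut.conj g).injective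
    have hco : IsCoatom M' := isCoatom_map_conj hM g
    apply OddMaxList.of_equiv e
    by_cases hB : M'.comap prj ≤ borelSub F
    · left
      have := coatom_card_of_le_borel M' hco hB
      rw [hgcd] at this
      rw [← this]; ring
    · by_cases hq : 4 ≤ Nat.card (uSet (M'.comap prj))
      · set Mt : Subgroup SL2 := M'.comap prj with hMt
        have hZ : Subgroup.center SL2 ≤ Mt := by
          intro z hz
          show prj z ∈ M'
          rw [prj_eq_one_iff.mpr hz]; exact M'.one_mem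
        obtain ⟨α, K, hSL, hInM, hU, hcardK⟩ := normal_form_of_not_le_borel p Mt hZ hq hB
        have hco2 : IsCoatom (Mt.map α.toMonoidHom) :=
          (OrderIso.isCoatom_iff (MulEquiv.mapSubgroup α) Mt).mpr
            (Subgroup.isCoatom_comap_of_surjective prj_surjective hco)
        have hKtop : K ≠ ⊤ := by
          intro htop
          apply hco2.1
          rw [eq_top_iff]
          intro x _
          have hu : ∀ s : F, upperU s ∈ Mt.map α.toMonoidHom := by
            intro s
            rw [hU, htop]; trivial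
          have hl : ∀ s : F, lowerU s ∈ Mt.map α.toMonoidHom := by
            intro s
            have := hSL (lowerU ⟨s, by rw [htop]; trivial⟩)
            rw [map_lowerU] at this
            exact this
          have := map_mem_of_upper_lower (RingHom.id F) _ hu hl x
          have hid : Matrix.SpecialLinearGroup.map (RingHom.id F) x = x := by
            apply Subtype.ext
            rw [coe_map_sl]
            ext i j
            simp
          rwa [hid] at this
        rcases coatom_subfield_of_inM_odd hodd M' hco α K hKtop hInM with h | h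
        · right; right; right; left; exact h
        · right; right; right; right; left; exact h
      · exact oddMaxList_of_dickson p hodd h5 M' hco
          (clause_ac_of_small p M' ht0 ht (not_le.mp hq) hB)
  · exact oddMaxList_of_dickson p hodd h5 M hM (pprime_dickson p hp)

end Cfsg.Agent.Lib.Helper41
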