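import Mathlib
import Cfsg.Agent.Lib.Helper41.PG7Sylow

set_option autoImplicit false

/-!
Groups of order 7920: Sylow 11 data, and the case where 11 and 2 are not adjacent
(then the group is simple).
-/

namespace Cfsg.Agent.Lib.Helper41

open Subgroup
open scoped Pointwise

theorem pg7_dvd10 {e : ℕ} (h : e ∣ 10) : e = 1 ∨ e = 2 ∨ e = 5 ∨ e = 10 := by
  have := Nat.le_of_dvd (by norm_num) h
  interval_cases e <;> simp_all

theorem pg7_dvd55 {e : ℕ} (h : e ∣ 55) : e = 1 ∨ e = 5 ∨ e = 11 ∨ e = 55 := by
  have := Nat.le_of_dvd (by norm_num) h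
  interval_cases e <;> revert h <;> decide

theorem pg7_dvd4 {e : ℕ} (h : e ∣ 4) : e = 1 ∨ e = 2 ∨ e = 4 := by
  have := Nat.le_of_dvd (by norm_num) h
  interval_cases e <;> simp_all

set_option maxRecDepth 100000 in
theorem pg7_n11_arith : ∀ n ∈ Nat.divisors 720, n % 11 = 1 →
    n = 1 ∨ n = 12 ∨ n = 45 ∨ n = 144 := by decide

theorem pg7_prime_dvd_7920 {r : ℕ} (hr : r.Prime) (h : r ∣ 7920) :
    r = 2 ∨ r = 3 ∨ r = 5 ∨ r = 11 := by
  have h1 : (7920 : ℕ) = 2 ^ 4 * 3 ^ 2 * 5 * 11 := by norm_num
  rw [h1] at h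
  rcases (Nat.Prime.dvd_mul hr).mp h with h | h
  · rcases (Nat.Prime.dvd_mul hr).mp h with h | h
    · rcases (Nat.Prime.dvd_mul hr).mp h with h | h
      · left
        exact (Nat.prime_dvd_prime_iff_eq hr (by norm_num)).mp (hr.dvd_of_dvd_pow h)
      · right; left
        exact (Nat.prime_dvd_prime_iff_eq hr (by norm_num)).mp (hr.dvd_of_dvd_pow h)
    · right; right; left
      exact (Nat.prime_dvd_prime_iff_eq hr (by norm_num)).mp h
  · right; right; right
    exact (Nat.prime_dvd_prime_iff_eq hr (by norm_num)).mp h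

/-- `11 ∤ r ^ k - 1` for prime powers `r ^ k ∣ 7920`, `r ∈ {2, 3, 5}`. -/
theorem pg7_not_11_dvd_pow_sub_one {r k : ℕ} (hr : r = 2 ∨ r = 3 ∨ r = 5) (hk : 1 ≤ k)
    (h : r ^ k ∣ 7920) : ¬ 11 ∣ r ^ k - 1 := by
  have hk13 : k < 13 := by
    by_contra hcon
    have h2 : 2 ≤ r := by rcases hr with rfl | rfl | rfl <;> norm_num
    have : 2 ^ 13 ≤ r ^ k :=
      (Nat.pow_le_pow_left h2 13).trans (Nat.pow_le_pow_right (by omega) (by omega))
    have := Nat.le_of_dvd (by norm_num) h
    omega
  rcases hr with rfl | rfl | rfl <;> interval_cases k <;> revert h <;> decide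

section order7920

variable {G : Type*} [Group G] [Finite G]

theorem pg7_sylow11_card (hord : Nat.card G = 7920) [Fact (Nat.Prime 11)] (P : Sylow 11 G) :
    Nat.card P = 11 := by
  have := pg7_card_sylow_of_eq (p := 11) (k := 1) (m := 720) (by rw [hord]; norm_num) (by decide) P
  simpa using this

theorem pg7_n11_cases (hord : Nat.card G = 7920) [Fact (Nat.Prime 11)] :
    Nat.card (Sylow 11 G) = 1 ∨ Nat.card (Sylow 11 G) = 12 ∨ Nat.card (Sylow 11 G) = 45 ∨
      Nat.card (Sylow 11 G) = 144 := by
  obtain ⟨P⟩ : Nonempty (Sylow 11 G) := inferInstance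
  have h1 : Nat.card (Sylow 11 G) ∣ (P : Subgroup G).index := P.card_dvd_index
  have h2 : (P : Subgroup G).index = 720 := by
    have := Subgroup.card_mul_index (P : Subgroup G)
    rw [pg7_sylow11_card hord P, hord] at this
    omega
  rw [h2] at h1
  have h3 : Nat.card (Sylow 11 G) % 11 = 1 := card_sylow_modEq_one 11 G
  exact pg7_n11_arith _ (Nat.mem_divisors.mpr ⟨h1, by norm_num⟩) h3

/-- order of the normalizer of a Sylow 11-subgroup -/
theorem pg7_normalizer11_cases (hord : Nat.card G = 7920) [Fact (Nat.Prime 11)] (P : Sylow 11 G) :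
    (Nat.card (Sylow 11 G) = 1 ∧ Nat.card (normalizer ((P : Subgroup G) : Set G)) = 7920) ∨
    (Nat.card (Sylow 11 G) = 12 ∧ Nat.card (normalizer ((P : Subgroup G) : Set G)) = 660) ∨
    (Nat.card (Sylow 11 G) = 45 ∧ Nat.card (normalizer ((P : Subgroup G) : Set G)) = 176) ∨
    (Nat.card (Sylow 11 G) = 144 ∧ Nat.card (normalizer ((P : Subgroup G) : Set G)) = 55) := by
  have h1 := pg7_card_normalizer_mul_card_sylow P
  rw [hord] at h1
  rcases pg7_n11_cases hord with hn | hn | hn | hn <;> rw [hn] at h1
  · left; exact ⟨hn, by omega⟩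
  · right; left; exact ⟨hn, by omega⟩
  · right; right; left; exact ⟨hn, by omega⟩
  · right; right; right; exact ⟨hn, by omega⟩

/-- If all Sylow 11-normalizers have order 55, then 11 is adjacent to neither 2 nor 3. -/
theorem pg7_not_adj_of_normalizer_55 (hord : Nat.card G = 7920) [Fact (Nat.Prime 11)]
    (hN : ∀ P : Sylow 11 G, Nat.card (normalizer ((P : Subgroup G) : Set G)) = 55)
    {r : ℕ} (hr0 : r ≠ 0) (hr : ¬ r ∣ 55) : ¬ Pg7Adj G 11 r := by
  intro h3
  obtain ⟨P, hP⟩ := pg7_exists_sylow_of_adj (p := 11) (m := 720) (by rw [hord]) (by decide) hr0 h3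
  have := Subgroup.card_dvd_of_le (centralizer_le_normalizer ((P : Subgroup G) : Set G))
  rw [hN P] at this
  exact hr (hP.trans this)

theorem pg7_simple_of_not_adj_11_2 (hord : Nat.card G = 7920) (h2 : ¬ Pg7Adj G 11 2) :
    IsSimpleGroup G := by
  have : Fact (Nat.Prime 11) := ⟨by norm_num⟩
  have : Fact (Nat.Prime 2) := ⟨by norm_num⟩
  have : Fact (Nat.Prime 3) := ⟨by norm_num⟩
  have : Fact (Nat.Prime 5) := ⟨by norm_num⟩
  have hcardP : ∀ P : Sylow 11 G, Nat.card P = 11 := fun P => pg7_sylow11_card hord P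
  -- normalizers have order 55
  have hN : ∀ P : Sylow 11 G, Nat.card (normalizer ((P : Subgroup G) : Set G)) = 55 := by
    intro P
    obtain ⟨e, he, hNe⟩ := pg7_card_normalizer_prime (P : Subgroup G) (hcardP P)
    have hC2 := pg7_not_dvd_card_centralizer (by norm_num) (P : Subgroup G) (hcardP P) h2
    have he' := pg7_dvd10 he
    rcases pg7_normalizer11_cases hord P with ⟨-, hn⟩ | ⟨-, hn⟩ | ⟨-, hn⟩ | ⟨-, hn⟩ <;>
      rcases he' with rfl | rfl | rfl | rfl <;> omega
  have hadj3 : ¬ Pg7Adj G 11 3 := pg7_not_adj_of_normalizer_55 hord hN (by norm_num) (by decide)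
  -- centralizers have order 11
  have hC : ∀ P : Sylow 11 G, Nat.card (centralizer ((P : Subgroup G) : Set G)) = 11 := by
    intro P
    obtain ⟨e, he, hNe⟩ := pg7_card_normalizer_prime (P : Subgroup G) (hcardP P)
    rw [hN P] at hNe
    rcases pg7_dvd10 he with rfl | rfl | rfl | rfl
    · exfalso
      have hle : normalizer ((P : Subgroup G) : Set G) ≤ centralizer ((P : Subgroup G) : Set G) := by
        have heq := Subgroup.eq_of_le_of_card_ge
          (centralizer_le_normalizer ((P : Subgroup G) : Set G)) (by rw [hN P]; omega)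
        exact heq.symm.le
      apply hadj3
      refine pg7_adj_of_normalizer_le_centralizer (by norm_num) P (hcardP P) hle
        (by rw [hord]; norm_num) (fun k hk hdvd => ?_)
      rw [hord] at hdvd
      exact pg7_not_11_dvd_pow_sub_one (Or.inr (Or.inl rfl)) hk hdvd
    · omega
    · omega
    · omega
  have hiso : ∀ r : ℕ, r = 2 ∨ r = 3 ∨ r = 5 → ¬ Pg7Adj G 11 r := by
    intro r hr h
    obtain ⟨P, hP⟩ := pg7_exists_sylow_of_adj (p := 11) (m := 720) (by rw [hord]) (by decide)
      (by rcases hr with rfl | rfl | rfl <;> norm_num) h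
    rw [hC P] at hP
    rcases hr with rfl | rfl | rfl <;> omega
  -- simplicity
  have : Nontrivial G := by
    rw [← Finite.one_lt_card_iff_nontrivial, hord]; norm_num
  refine ⟨fun N hNn => ?_⟩
  by_cases hbot : N = ⊥
  · left; exact hbot
  right
  have hNcard : Nat.card N ∣ 7920 := hord ▸ Subgroup.card_subgroup_dvd_card N
  obtain ⟨P⟩ : Nonempty (Sylow 11 G) := inferInstance
  by_cases h11 : 11 ∣ Nat.card N
  · -- Frattini argument
    obtain ⟨Q0⟩ : Nonempty (Sylow 11 N) := inferInstance
    obtain ⟨m, hm⟩ := h11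
    have hm11 : ¬ 11 ∣ m := by
      intro h
      obtain ⟨j, rfl⟩ := h
      rw [hm] at hNcard
      have : (121 : ℕ) ∣ 7920 := Dvd.dvd.trans ⟨j, by ring⟩ hNcard
      omega
    have hQ0 : Nat.card Q0 = 11 := by
      have := pg7_card_sylow_of_eq (p := 11) (k := 1) (m := m) (by rw [hm]; ring) hm11 Q0
      simpa using this
    set Pm : Subgroup G := (Q0 : Subgroup N).map N.subtype with hPm
    have hPmcard : Nat.card Pm = 11 := by
      rw [← hQ0]
      exact Nat.card_congr
        ((Q0 : Subgroup N).equivMapOfInjective N.subtype N.subtype_injective).symm.toEquiv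
    have hPmS : Nat.card Pm = 11 ^ (Nat.card G).factorization 11 := by
      have := (pg7_card_sylow_of_eq (p := 11) (k := 1) (m := 720) (by rw [hord]; norm_num)
        (by decide) P)
      rw [P.card_eq_multiplicity] at this
      rw [this, hPmcard]; norm_num
    have hfrat : normalizer (Pm : Set G) ⊔ N = ⊤ := Sylow.normalizer_sup_eq_top Q0
    have hNPm : Nat.card (normalizer (Pm : Set G)) = 55 := hN (Sylow.ofCard Pm hPmS)
    have hidx : N.index = N.relIndex (normalizer (Pm : Set G)) := by
      rw [← Subgroup.relIndex_sup_right (K := N) (H := normalizer (Pm : Set G)), hfrat,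
        Subgroup.relIndex_top_right]
    have hidx55 : N.index ∣ 55 := by
      rw [hidx, ← hNPm]; exact Subgroup.relIndex_dvd_card _ _
    have hmul := Subgroup.card_mul_index N
    rw [hord, hm] at hmul
    have hidxcases : N.index = 1 ∨ N.index = 5 := by
      have hle := Nat.le_of_dvd (by norm_num) hidx55
      have h11i : ¬ 11 ∣ N.index := by
        intro h
        obtain ⟨j, hj⟩ := h
        rw [hj] at hmul
        have : (121 : ℕ) ∣ 7920 := ⟨m * j, by rw [← hmul]; ring⟩
        omega
      rcases pg7_dvd55 hidx55 with h | h | h | h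
      · exact Or.inl h
      · exact Or.inr h
      · exact absurd (h ▸ dvd_refl _) h11i
      · exact absurd (h ▸ (by norm_num : (11 : ℕ) ∣ 55)) h11i
    rcases hidxcases with h1 | h5
    · exact Subgroup.index_eq_one.mp h1
    · exfalso
      rw [h5] at hmul
      have hNc : Nat.card N = 1584 := by rw [hm]; omega
      -- work inside N
      have hadjN : ∀ r : ℕ, r = 2 ∨ r = 3 ∨ r = 5 → ¬ Pg7Adj N 11 r :=
        fun r hr h => hiso r hr (pg7Adj_of_subgroup N h)
      obtain ⟨e, he, hNe⟩ := pg7_card_normalizer_prime (Q0 : Subgroup N) hQ0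
      have hC2 := pg7_not_dvd_card_centralizer (by norm_num) (Q0 : Subgroup N) hQ0
        (hadjN 2 (Or.inl rfl))
      have hC3 := pg7_not_dvd_card_centralizer (by norm_num) (Q0 : Subgroup N) hQ0
        (hadjN 3 (Or.inr (Or.inl rfl)))
      have hCdvd : Nat.card (centralizer ((Q0 : Subgroup N) : Set N)) ∣ 1584 :=
        hNc ▸ Subgroup.card_subgroup_dvd_card _
      have hC11 : Nat.card (centralizer ((Q0 : Subgroup N) : Set N)) ∣ 11 := by
        have h1584 : (1584 : ℕ) = 144 * 11 := by norm_num
        rw [h1584] at hCdvd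
        refine (Nat.Coprime.dvd_mul_left ?_).mp hCdvd
        have h144 : (144 : ℕ) = 2 ^ 4 * 3 ^ 2 := by norm_num
        rw [h144]
        refine Nat.Coprime.mul_right (Nat.Coprime.pow_right _ ?_) (Nat.Coprime.pow_right _ ?_)
        · exact (Nat.Coprime.symm ((Nat.Prime.coprime_iff_not_dvd (by norm_num)).mpr hC2))
        · exact (Nat.Coprime.symm ((Nat.Prime.coprime_iff_not_dvd (by norm_num)).mpr hC3))
      have hCle : Nat.card (centralizer ((Q0 : Subgroup N) : Set N)) ≤ 11 :=
        Nat.le_of_dvd (by norm_num) hC11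
      have hmulN := pg7_card_normalizer_mul_card_sylow Q0
      rw [hNc] at hmulN
      -- number of Sylow 11-subgroups of N
      have hnN : Nat.card (Sylow 11 N) ∣ 144 := by
        have h1 : Nat.card (Sylow 11 N) ∣ (Q0 : Subgroup N).index := Q0.card_dvd_index
        have h2 : (Q0 : Subgroup N).index = 144 := by
          have := Subgroup.card_mul_index (Q0 : Subgroup N)
          rw [hQ0, hNc] at this
          omega
        rwa [h2] at h1
      have hnN1 : Nat.card (Sylow 11 N) % 11 = 1 := card_sylow_modEq_one 11 N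
      have hCpos : 0 < Nat.card (centralizer ((Q0 : Subgroup N) : Set N)) := Nat.card_pos
      have hNN : Nat.card (normalizer ((Q0 : Subgroup N) : Set N)) = 11 := by
        have hnle : Nat.card (normalizer ((Q0 : Subgroup N) : Set N)) ≤ 110 := by
          rw [hNe]
          have := Nat.le_of_dvd (by norm_num) he
          calc _ ≤ 11 * 10 := Nat.mul_le_mul hCle (by omega)
            _ = 110 := by norm_num
        have hn144 : Nat.card (Sylow 11 N) ≤ 144 := Nat.le_of_dvd (by norm_num) hnN
        have hQle : 11 ≤ Nat.card (normalizer ((Q0 : Subgroup N) : Set N)) := by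
          have := Subgroup.card_le_of_le (Subgroup.le_normalizer (H := (Q0 : Subgroup N)))
          omega
        generalize Nat.card (normalizer ((Q0 : Subgroup N) : Set N)) = x at *
        generalize Nat.card (Sylow 11 N) = y at *
        have hy : 15 ≤ y := by
          by_contra hcon
          have : x * y ≤ 110 * 14 := Nat.mul_le_mul hnle (by omega)
          omega
        have hycases : y = 144 := by
          have := pg7_n11_arith y (Nat.mem_divisors.mpr
            ⟨hnN.trans (by norm_num : (144 : ℕ) ∣ 720), by norm_num⟩) hnN1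
          rcases this with h | h | h | h
          · omega
          · omega
          · rw [h] at hnN; omega
          · exact h
        subst hycases
        omega
      have hle : normalizer ((Q0 : Subgroup N) : Set N) ≤ centralizer ((Q0 : Subgroup N) : Set N) := by
        have hCge : 11 ≤ Nat.card (centralizer ((Q0 : Subgroup N) : Set N)) := by
          rw [hNN] at hNe
          rcases pg7_dvd10 he with rfl | rfl | rfl | rfl <;> omega
        have heq := Subgroup.eq_of_le_of_card_ge
          (centralizer_le_normalizer ((Q0 : Subgroup N) : Set N)) (by rw [hNN]; exact hCge)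
        exact heq.symm.le
      apply hadjN 3 (Or.inr (Or.inl rfl))
      refine pg7_adj_of_normalizer_le_centralizer (by norm_num) Q0 hQ0 hle
        (by rw [hNc]; norm_num) (fun k hk hdvd => ?_)
      rw [hNc] at hdvd
      exact pg7_not_11_dvd_pow_sub_one (Or.inr (Or.inl rfl)) hk
        (hdvd.trans (by norm_num : (1584 : ℕ) ∣ 7920))
  · -- coprime action of P on N
    exfalso
    have hN1 : Nat.card N ≠ 1 := fun h => hbot (Subgroup.card_eq_one.mp h)
    obtain ⟨r, hrp, hrN⟩ := Nat.exists_prime_and_dvd hN1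
    have hr7920 := pg7_prime_dvd_7920 hrp (hrN.trans hNcard)
    have hr : r = 2 ∨ r = 3 ∨ r = 5 := by
      rcases hr7920 with h | h | h | h
      · exact Or.inl h
      · exact Or.inr (Or.inl h)
      · exact Or.inr (Or.inr h)
      · exact absurd (h ▸ hrN) h11
    have : Fact r.Prime := ⟨hrp⟩
    apply hiso r hr
    refine pg7_adj_of_normal_coprime (by rcases hr with rfl | rfl | rfl <;> norm_num)
      (P : Subgroup G) (hcardP P) N h11 hrN (fun k hk hdvd => ?_)
    exact pg7_not_11_dvd_pow_sub_one hr hk (hdvd.trans hNcard)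

end order7920

end Cfsg.Agent.Lib.Helper41
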