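import Mathlib
import Cfsg.Agent.Lib.Helper41.PG7CaseI
import Cfsg.Agent.Lib.Helper41.PG7Count

set_option autoImplicit false

/-!
Groups of order 7920 in which 11 is adjacent to 2 but 3 is adjacent to neither 2 nor 11:
impossible when the prime graph is disconnected accordingly.
-/

namespace Cfsg.Agent.Lib.Helper41

open Subgroup

set_option maxRecDepth 1000000 in
theorem pg7_arith_split3 : ∀ o ∈ Nat.divisors 7920, ¬ 6 ∣ o → ¬ 33 ∣ o → ¬ 15 ∣ o →
    o ∣ 9 ∨ o ∣ 880 := by decide

set_option maxRecDepth 1000000 in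
theorem pg7_arith_split35 : ∀ o ∈ Nat.divisors 7920, ¬ 6 ∣ o → ¬ 33 ∣ o → ¬ 10 ∣ o → ¬ 55 ∣ o →
    o ∣ 45 ∨ o ∣ 176 := by decide

section

variable {G : Type*} [Group G] [Finite G]

/-- If `11` is adjacent to `2` but not to `3`, then there are 45 Sylow 11-subgroups, with
normalizers of order 176. -/
theorem pg7_n11_eq_45 (hord : Nat.card G = 7920) [Fact (Nat.Prime 11)]
    (h112 : Pg7Adj G 11 2) (h113 : ¬ Pg7Adj G 11 3) :
    Nat.card (Sylow 11 G) = 45 ∧
      ∀ P : Sylow 11 G, Nat.card (normalizer ((P : Subgroup G) : Set G)) = 176 := by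
  have : Fact (Nat.Prime 3) := ⟨by norm_num⟩
  have hcardP : ∀ P : Sylow 11 G, Nat.card P = 11 := fun P => pg7_sylow11_card hord P
  have key : ∀ P : Sylow 11 G, Nat.card (Sylow 11 G) = 45 ∨ Nat.card (Sylow 11 G) = 144 := by
    intro P
    obtain ⟨e, he, hNe⟩ := pg7_card_normalizer_prime (P : Subgroup G) (hcardP P)
    have hC3 := pg7_not_dvd_card_centralizer (by norm_num) (P : Subgroup G) (hcardP P) h113
    have he' := pg7_dvd10 he
    rcases pg7_normalizer11_cases hord P with ⟨hn, hN⟩ | ⟨hn, hN⟩ | ⟨hn, hN⟩ | ⟨hn, hN⟩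
    · exfalso; rcases he' with rfl | rfl | rfl | rfl <;> omega
    · exfalso; rcases he' with rfl | rfl | rfl | rfl <;> omega
    · exact Or.inl hn
    · exact Or.inr hn
  obtain ⟨P0⟩ : Nonempty (Sylow 11 G) := inferInstance
  have hn45 : Nat.card (Sylow 11 G) = 45 := by
    rcases key P0 with h | h
    · exact h
    · exfalso
      obtain ⟨P, hP⟩ := pg7_exists_sylow_of_adj (p := 11) (m := 720) (by rw [hord]) (by decide)
        (by norm_num) h112
      have hdvd := Subgroup.card_dvd_of_le (centralizer_le_normalizer ((P : Subgroup G) : Set G))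
      have := hP.trans hdvd
      rcases pg7_normalizer11_cases hord P with ⟨hn, hN⟩ | ⟨hn, hN⟩ | ⟨hn, hN⟩ | ⟨hn, hN⟩ <;>
        omega
  refine ⟨hn45, fun P => ?_⟩
  rcases pg7_normalizer11_cases hord P with ⟨hn, hN⟩ | ⟨hn, hN⟩ | ⟨hn, hN⟩ | ⟨hn, hN⟩ <;> omega

/-- lower bound for the number of elements of order divisible by 11 when `n_11 = 45`. -/
theorem pg7_card_E11_ge_3600 (hord : Nat.card G = 7920) [Fact (Nat.Prime 11)]
    (hn : Nat.card (Sylow 11 G) = 45)
    (hN : ∀ P : Sylow 11 G, Nat.card (normalizer ((P : Subgroup G) : Set G)) = 176) :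
    3600 ≤ Nat.card {x : G // 11 ∣ orderOf x} := by
  have : Fact (Nat.Prime 2) := ⟨by norm_num⟩
  have hcardP : ∀ P : Sylow 11 G, Nat.card P = 11 := fun P => pg7_sylow11_card hord P
  have hK : ∀ P : Sylow 11 G, ∃ K : Subgroup G,
      K ≤ centralizer ((P : Subgroup G) : Set G) ∧ Nat.card K = 8 := by
    intro P
    obtain ⟨e, he, hNe⟩ := pg7_card_normalizer_prime (P : Subgroup G) (hcardP P)
    rw [hN P] at hNe
    have h8 : 2 ^ 3 ∣ Nat.card (centralizer ((P : Subgroup G) : Set G)) := by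
      rcases pg7_dvd10 he with rfl | rfl | rfl | rfl <;> omega
    obtain ⟨K', hK'⟩ := Sylow.exists_subgroup_card_pow_prime 2 h8
    refine ⟨K'.map (centralizer ((P : Subgroup G) : Set G)).subtype, ?_, ?_⟩
    · rintro _ ⟨y, -, rfl⟩
      exact y.2
    · have h1 : Nat.card (K'.map (centralizer ((P : Subgroup G) : Set G)).subtype) = Nat.card K' :=
        Nat.card_congr (K'.equivMapOfInjective _ (Subgroup.subtype_injective _)).symm.toEquiv
      rw [h1, hK']; norm_num
  have := pg7_card_dvd_orderOf_ge (p := 11) (c := 8) (by norm_num) hcardP hK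
  rw [hn] at this
  omega

theorem pg7_caseII3 (hord : Nat.card G = 7920) (h112 : Pg7Adj G 11 2)
    (h32 : ¬ Pg7Adj G 3 2) (h311 : ¬ Pg7Adj G 3 11)
    (h : ¬ Pg7Adj G 3 5 ∨ (¬ Pg7Adj G 5 2 ∧ ¬ Pg7Adj G 5 11)) : False := by
  classical
  have : Fact (Nat.Prime 11) := ⟨by norm_num⟩
  have h113 : ¬ Pg7Adj G 11 3 := fun h => h311 (pg7Adj_comm.mp h)
  obtain ⟨hn, hN⟩ := pg7_n11_eq_45 hord h112 h113
  have hE := pg7_card_E11_ge_3600 hord hn hN
  have := Fintype.ofFinite G
  have hcardG : Fintype.card G = 7920 := by rw [← Nat.card_eq_fintype_card]; exact hord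
  rw [Nat.card_eq_fintype_card, Fintype.card_subtype] at hE
  have hodvd : ∀ x : G, orderOf x ∈ Nat.divisors 7920 := fun x =>
    Nat.mem_divisors.mpr ⟨hord ▸ orderOf_dvd_natCard x, by norm_num⟩
  have h6 : ∀ x : G, ¬ 6 ∣ orderOf x := fun x hx =>
    h32 (pg7Adj_of_dvd_orderOf (p := 3) (q := 2) hx)
  have h33 : ∀ x : G, ¬ 33 ∣ orderOf x := fun x hx =>
    h311 (pg7Adj_of_dvd_orderOf (p := 3) (q := 11) hx)
  -- generic counting
  have hcount : ∀ mA mB : ℕ, Nat.Coprime mA mB → mA ∣ 7920 → mB ∣ 7920 →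
      (∀ x : G, orderOf x ∣ mB ∨ orderOf x ∣ mA) →
      (Finset.univ.filter (fun x : G => orderOf x ∣ mB)).card +
        (Finset.univ.filter (fun x : G => orderOf x ∣ mA)).card = 7921 ∧
      mB ∣ (Finset.univ.filter (fun x : G => orderOf x ∣ mB)).card ∧
      mA ∣ (Finset.univ.filter (fun x : G => orderOf x ∣ mA)).card := by
    intro mA mB hcop hA hB hsplit
    refine ⟨?_, pg7_frobenius mB (hcardG ▸ hB), pg7_frobenius mA (hcardG ▸ hA)⟩
    rw [← Finset.card_union_add_card_inter]
    have hunion : (Finset.univ.filter (fun x : G => orderOf x ∣ mB)) ∪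
        (Finset.univ.filter (fun x : G => orderOf x ∣ mA)) = Finset.univ := by
      ext x
      simp only [Finset.mem_union, Finset.mem_filter, Finset.mem_univ, true_and, iff_true]
      exact hsplit x
    have hinter : (Finset.univ.filter (fun x : G => orderOf x ∣ mB)) ∩
        (Finset.univ.filter (fun x : G => orderOf x ∣ mA)) = {1} := by
      ext x
      simp only [Finset.mem_inter, Finset.mem_filter, Finset.mem_univ, true_and,
        Finset.mem_singleton]
      constructor
      · rintro ⟨hb, ha⟩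
        have := Nat.dvd_gcd ha hb
        rw [hcop, Nat.dvd_one] at this
        exact orderOf_eq_one_iff.mp this
      · rintro rfl
        simp
    rw [hunion, hinter, Finset.card_univ, hcardG, Finset.card_singleton]
  rcases h with h35 | ⟨h52, h511⟩
  · -- 3 isolated
    have h15 : ∀ x : G, ¬ 15 ∣ orderOf x := fun x hx =>
      h35 (pg7Adj_of_dvd_orderOf (p := 3) (q := 5) hx)
    have hsplit : ∀ x : G, orderOf x ∣ 9 ∨ orderOf x ∣ 880 := fun x =>
      pg7_arith_split3 _ (hodvd x) (h6 x) (h33 x) (h15 x)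
    obtain ⟨hsum, hB, hA⟩ := hcount 880 9 (by norm_num) (by norm_num) (by norm_num) hsplit
    have hle : (Finset.univ.filter (fun x : G => 11 ∣ orderOf x)).card ≤
        (Finset.univ.filter (fun x : G => orderOf x ∣ 880)).card := by
      apply pg7_card_filter_le
      intro x hx
      rcases hsplit x with h9 | h880
      · exfalso
        have := hx.trans h9
        omega
      · exact h880
    omega
  · have h10 : ∀ x : G, ¬ 10 ∣ orderOf x := fun x hx =>
      h52 (pg7Adj_of_dvd_orderOf (p := 5) (q := 2) hx)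
    have h55 : ∀ x : G, ¬ 55 ∣ orderOf x := fun x hx =>
      h511 (pg7Adj_of_dvd_orderOf (p := 5) (q := 11) hx)
    have hsplit : ∀ x : G, orderOf x ∣ 45 ∨ orderOf x ∣ 176 := fun x =>
      pg7_arith_split35 _ (hodvd x) (h6 x) (h33 x) (h10 x) (h55 x)
    obtain ⟨hsum, hB, hA⟩ := hcount 176 45 (by norm_num) (by norm_num) (by norm_num) hsplit
    have hle : (Finset.univ.filter (fun x : G => 11 ∣ orderOf x)).card ≤
        (Finset.univ.filter (fun x : G => orderOf x ∣ 176)).card := by
      apply pg7_card_filter_le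
      intro x hx
      rcases hsplit x with h45 | h176
      · exfalso
        have := hx.trans h45
        omega
      · exact h176
    omega

end

end Cfsg.Agent.Lib.Helper41
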