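import Mathlib
import Cfsg.Agent.Lib.Helper41.PG7CaseI
import Cfsg.Agent.Lib.Helper41.PG7Count

set_option autoImplicit false

/-!
There is no group of order 3960 in which 5 is isolated in the prime graph and 11 is not
adjacent to 3.  Part (a): Sylow 5 and Sylow 11 data and element counts.
-/

namespace Cfsg.Agent.Lib.Helper41

open Subgroup

set_option maxRecDepth 1000000 in
theorem pg7b_arith : ∀ o ∈ Nat.divisors 3960, ¬ 10 ∣ o → ¬ 15 ∣ o → ¬ 55 ∣ o → ¬ 33 ∣ o →
    ((o ∣ 40 ↔ o ∣ 8 ∨ o = 5) ∧ (o ∣ 45 ↔ o ∣ 9 ∨ o = 5) ∧ (o ∣ 99 ↔ o ∣ 9 ∨ o = 11) ∧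
     (o ∣ 88 ↔ o ∣ 8 ∨ 11 ∣ o) ∧ (o ∣ 360 ↔ o ∣ 72 ∨ o = 5) ∧ (o ∣ 72 ∨ o = 5 ∨ 11 ∣ o)) := by
  decide

set_option maxRecDepth 1000000 in
theorem pg7b_arith_c5 : ∀ c ∈ Nat.divisors 3960, ¬ 2 ∣ c → ¬ 3 ∣ c → ¬ 11 ∣ c → c ∣ 5 := by
  decide

set_option maxRecDepth 1000000 in
theorem pg7b_arith_c9 : ∀ c ∈ Nat.divisors 3960, ¬ 2 ∣ c → ¬ 5 ∣ c → ¬ 11 ∣ c → c ∣ 9 := by
  decide

set_option maxRecDepth 1000000 in
theorem pg7b_arith_c88 : ∀ c ∈ Nat.divisors 3960, ¬ 3 ∣ c → ¬ 5 ∣ c → c ∣ 88 := by decide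

set_option maxRecDepth 100000 in
theorem pg7b_n11_arith : ∀ n ∈ Nat.divisors 360, n % 11 = 1 → n = 1 ∨ n = 12 ∨ n = 45 := by
  decide

section

variable {N : Type*} [Group N] [Finite N]

theorem pg7b_sylow5_card (hord : Nat.card N = 3960) [Fact (Nat.Prime 5)] (Q : Sylow 5 N) :
    Nat.card Q = 5 := by
  have := pg7_card_sylow_of_eq (p := 5) (k := 1) (m := 792) (by rw [hord]; norm_num) (by decide) Q
  simpa using this

theorem pg7b_sylow11_card (hord : Nat.card N = 3960) [Fact (Nat.Prime 11)] (P : Sylow 11 N) :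
    Nat.card P = 11 := by
  have := pg7_card_sylow_of_eq (p := 11) (k := 1) (m := 360) (by rw [hord]; norm_num)
    (by decide) P
  simpa using this

/-- a subgroup of prime order is contained in its centralizer -/
theorem pg7_le_centralizer_of_prime_card {p : ℕ} [Fact p.Prime] (P : Subgroup N)
    (hP : Nat.card P = p) : P ≤ centralizer (P : Set N) := by
  have hcyc : IsCyclic P := isCyclic_of_prime_card hP
  intro x hx
  rw [mem_centralizer_iff]
  intro y hy
  have := (IsCyclic.commGroup (α := P)).mul_comm ⟨y, hy⟩ ⟨x, hx⟩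
  exact congrArg Subtype.val this

theorem pg7b_n5 (hord : Nat.card N = 3960) (h52 : ¬ Pg7Adj N 5 2) (h53 : ¬ Pg7Adj N 5 3)
    (h511 : ¬ Pg7Adj N 5 11) [Fact (Nat.Prime 5)] : Nat.card (Sylow 5 N) = 396 := by
  have : Fact (Nat.Prime 2) := ⟨by norm_num⟩
  have : Fact (Nat.Prime 3) := ⟨by norm_num⟩
  have : Fact (Nat.Prime 11) := ⟨by norm_num⟩
  obtain ⟨Q⟩ : Nonempty (Sylow 5 N) := inferInstance
  have hQ := pg7b_sylow5_card hord Q
  obtain ⟨e, he, hNe⟩ := pg7_card_normalizer_prime (Q : Subgroup N) hQ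
  have hC2 := pg7_not_dvd_card_centralizer (by norm_num) (Q : Subgroup N) hQ h52
  have hC3 := pg7_not_dvd_card_centralizer (by norm_num) (Q : Subgroup N) hQ h53
  have hC11 := pg7_not_dvd_card_centralizer (by norm_num) (Q : Subgroup N) hQ h511
  have hCdvd : Nat.card (centralizer ((Q : Subgroup N) : Set N)) ∣ 3960 :=
    hord ▸ Subgroup.card_subgroup_dvd_card _
  have hC5 := pg7b_arith_c5 _ (Nat.mem_divisors.mpr ⟨hCdvd, by norm_num⟩) hC2 hC3 hC11
  have h5C : 5 ∣ Nat.card (centralizer ((Q : Subgroup N) : Set N)) := by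
    have := Subgroup.card_dvd_of_le (pg7_le_centralizer_of_prime_card (Q : Subgroup N) hQ)
    rwa [hQ] at this
  have hCeq : Nat.card (centralizer ((Q : Subgroup N) : Set N)) = 5 :=
    Nat.dvd_antisymm hC5 h5C
  rw [hCeq] at hNe
  have hmul := pg7_card_normalizer_mul_card_sylow Q
  rw [hord, hNe] at hmul
  have hmod : Nat.card (Sylow 5 N) % 5 = 1 := card_sylow_modEq_one 5 N
  rcases pg7_dvd4 he with rfl | rfl | rfl <;> omega

theorem pg7b_card_order5 (hord : Nat.card N = 3960) (h52 : ¬ Pg7Adj N 5 2)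
    (h53 : ¬ Pg7Adj N 5 3) (h511 : ¬ Pg7Adj N 5 11) :
    Nat.card {x : N // orderOf x = 5} = 1584 := by
  have : Fact (Nat.Prime 5) := ⟨by norm_num⟩
  rw [pg7_card_orderOf_eq_prime (p := 5) (fun Q => pg7b_sylow5_card hord Q),
    pg7b_n5 hord h52 h53 h511]

/-- Sylow 11 data: 45 Sylow 11-subgroups, normalizers of order 88, centralizers of order 44. -/
theorem pg7b_n11 (hord : Nat.card N = 3960) (h52 : ¬ Pg7Adj N 5 2) (h53 : ¬ Pg7Adj N 5 3)
    (h511 : ¬ Pg7Adj N 5 11) (h113 : ¬ Pg7Adj N 11 3) [Fact (Nat.Prime 11)] :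
    Nat.card (Sylow 11 N) = 45 ∧
      ∀ P : Sylow 11 N, Nat.card (normalizer ((P : Subgroup N) : Set N)) = 88 ∧
        Nat.card (centralizer ((P : Subgroup N) : Set N)) = 44 := by
  have : Fact (Nat.Prime 3) := ⟨by norm_num⟩
  have : Fact (Nat.Prime 5) := ⟨by norm_num⟩
  have hcardP : ∀ P : Sylow 11 N, Nat.card P = 11 := fun P => pg7b_sylow11_card hord P
  have hn : Nat.card (Sylow 11 N) = 1 ∨ Nat.card (Sylow 11 N) = 12 ∨
      Nat.card (Sylow 11 N) = 45 := by
    obtain ⟨P⟩ : Nonempty (Sylow 11 N) := inferInstance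
    have h1 : Nat.card (Sylow 11 N) ∣ (P : Subgroup N).index := P.card_dvd_index
    have h2 : (P : Subgroup N).index = 360 := by
      have := Subgroup.card_mul_index (P : Subgroup N)
      rw [hcardP P, hord] at this
      omega
    rw [h2] at h1
    have h3 : Nat.card (Sylow 11 N) % 11 = 1 := card_sylow_modEq_one 11 N
    exact pg7b_n11_arith _ (Nat.mem_divisors.mpr ⟨h1, by norm_num⟩) h3
  have key : ∀ P : Sylow 11 N, Nat.card (Sylow 11 N) = 45 ∧
      Nat.card (normalizer ((P : Subgroup N) : Set N)) = 88 ∧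
      (Nat.card (centralizer ((P : Subgroup N) : Set N)) = 44 ∨
        Nat.card (centralizer ((P : Subgroup N) : Set N)) = 88) := by
    intro P
    obtain ⟨e, he, hNe⟩ := pg7_card_normalizer_prime (P : Subgroup N) (hcardP P)
    have hC3 := pg7_not_dvd_card_centralizer (by norm_num) (P : Subgroup N) (hcardP P) h113
    have hmul := pg7_card_normalizer_mul_card_sylow P
    rw [hord] at hmul
    have he' := pg7_dvd10 he
    rcases hn with h | h | h <;> rw [h] at hmul <;> rcases he' with rfl | rfl | rfl | rfl <;>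
      first
        | omega
        | (refine ⟨h, by omega, ?_⟩; omega)
  obtain ⟨P0⟩ : Nonempty (Sylow 11 N) := inferInstance
  refine ⟨(key P0).1, fun P => ⟨(key P).2.1, ?_⟩⟩
  rcases (key P).2.2 with h | h
  · exact h
  · exfalso
    have hle : normalizer ((P : Subgroup N) : Set N) ≤ centralizer ((P : Subgroup N) : Set N) := by
      have heq := Subgroup.eq_of_le_of_card_ge
        (centralizer_le_normalizer ((P : Subgroup N) : Set N)) (by rw [(key P).2.1, h])
      exact heq.symm.le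
    obtain ⟨K, -, hKcard, hKmem⟩ := pg7_exists_normal_complement P hle
    rw [hcardP P, hord] at hKcard
    have hK360 : Nat.card K = 360 := by omega
    have h5 := pg7b_card_order5 hord h52 h53 h511
    have hinj : Nat.card {x : N // orderOf x = 5} ≤ Nat.card K := by
      refine Nat.card_le_card_of_injective
        (fun x : {x : N // orderOf x = 5} => (⟨x.1, hKmem x.1 (by rw [hcardP P, x.2]; norm_num)⟩ : K))
        ?_
      intro x y hxy
      exact Subtype.ext (congrArg (fun z : K => (z : N)) hxy)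
    omega

theorem pg7b_card_order11 (hord : Nat.card N = 3960) (h52 : ¬ Pg7Adj N 5 2)
    (h53 : ¬ Pg7Adj N 5 3) (h511 : ¬ Pg7Adj N 5 11) (h113 : ¬ Pg7Adj N 11 3) :
    Nat.card {x : N // orderOf x = 11} = 450 := by
  have : Fact (Nat.Prime 11) := ⟨by norm_num⟩
  rw [pg7_card_orderOf_eq_prime (p := 11) (fun Q => pg7b_sylow11_card hord Q),
    (pg7b_n11 hord h52 h53 h511 h113).1]

theorem pg7b_E11_ge (hord : Nat.card N = 3960) (h52 : ¬ Pg7Adj N 5 2)
    (h53 : ¬ Pg7Adj N 5 3) (h511 : ¬ Pg7Adj N 5 11) (h113 : ¬ Pg7Adj N 11 3) :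
    1800 ≤ Nat.card {x : N // 11 ∣ orderOf x} := by
  have : Fact (Nat.Prime 11) := ⟨by norm_num⟩
  have : Fact (Nat.Prime 2) := ⟨by norm_num⟩
  obtain ⟨hn, hNC⟩ := pg7b_n11 hord h52 h53 h511 h113
  have hK : ∀ P : Sylow 11 N, ∃ K : Subgroup N,
      K ≤ centralizer ((P : Subgroup N) : Set N) ∧ Nat.card K = 4 := by
    intro P
    have h4 : 2 ^ 2 ∣ Nat.card (centralizer ((P : Subgroup N) : Set N)) := by
      rw [(hNC P).2]; norm_num
    obtain ⟨K', hK'⟩ := Sylow.exists_subgroup_card_pow_prime 2 h4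
    refine ⟨K'.map (centralizer ((P : Subgroup N) : Set N)).subtype, ?_, ?_⟩
    · rintro _ ⟨y, -, rfl⟩
      exact y.2
    · have h1 : Nat.card (K'.map (centralizer ((P : Subgroup N) : Set N)).subtype) = Nat.card K' :=
        Nat.card_congr (K'.equivMapOfInjective _ (Subgroup.subtype_injective _)).symm.toEquiv
      rw [h1, hK']; norm_num
  have := pg7_card_dvd_orderOf_ge (p := 11) (c := 4) (by norm_num)
    (fun P => pg7b_sylow11_card hord P) hK
  rw [hn] at this
  omega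

end

end Cfsg.Agent.Lib.Helper41
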