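import Mathlib
import Cfsg.Agent.Lib.Helper41.PG7N3960a

set_option autoImplicit false

/-!
There is no group of order 3960 in which 5 is isolated in the prime graph and 11 is not
adjacent to 3.  Part (b): Frobenius counting.
-/

namespace Cfsg.Agent.Lib.Helper41

open Subgroup

section

variable {N : Type*} [Group N] [Finite N]

/-- The counting step: exactly 136 elements with `x ^ 8 = 1`, 441 with `x ^ 9 = 1`, and every
`{2,3}`-element is a `2`-element or a `3`-element. -/
theorem pg7b_counts [Fintype N] [DecidableEq N] (hord : Nat.card N = 3960)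
    (h52 : ¬ Pg7Adj N 5 2) (h53 : ¬ Pg7Adj N 5 3) (h511 : ¬ Pg7Adj N 5 11)
    (h113 : ¬ Pg7Adj N 11 3) :
    (Finset.univ.filter (fun x : N => orderOf x ∣ 8)).card = 136 ∧
    (Finset.univ.filter (fun x : N => orderOf x ∣ 9)).card = 441 ∧
    ∀ x : N, orderOf x ∣ 72 → orderOf x ∣ 8 ∨ orderOf x ∣ 9 := by
  have hcardN : Fintype.card N = 3960 := by rw [← Nat.card_eq_fintype_card]; exact hord
  have hO5 : (Finset.univ.filter (fun x : N => orderOf x = 5)).card = 1584 := by
    have := pg7b_card_order5 hord h52 h53 h511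
    rwa [Nat.card_eq_fintype_card, Fintype.card_subtype] at this
  have hO11 : (Finset.univ.filter (fun x : N => orderOf x = 11)).card = 450 := by
    have := pg7b_card_order11 hord h52 h53 h511 h113
    rwa [Nat.card_eq_fintype_card, Fintype.card_subtype] at this
  have hE : 1800 ≤ (Finset.univ.filter (fun x : N => 11 ∣ orderOf x)).card := by
    have := pg7b_E11_ge hord h52 h53 h511 h113
    rwa [Nat.card_eq_fintype_card, Fintype.card_subtype] at this
  have hx : ∀ x : N, _ := fun x => pg7b_arith (orderOf x)
    (Nat.mem_divisors.mpr ⟨hord ▸ orderOf_dvd_natCard x, by norm_num⟩)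
    (fun h => h52 (pg7Adj_of_dvd_orderOf (p := 5) (q := 2) h))
    (fun h => h53 (pg7Adj_of_dvd_orderOf (p := 5) (q := 3) h))
    (fun h => h511 (pg7Adj_of_dvd_orderOf (p := 5) (q := 11) h))
    (fun h => h113 (pg7Adj_of_dvd_orderOf (p := 11) (q := 3) h))
  have e40 := pg7_card_filter_or (fun x : N => orderOf x ∣ 40) (fun x => orderOf x ∣ 8)
    (fun x => orderOf x = 5) (fun x => (hx x).1) (fun x h1 h2 => by rw [h2] at h1; omega)
  have e45 := pg7_card_filter_or (fun x : N => orderOf x ∣ 45) (fun x => orderOf x ∣ 9)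
    (fun x => orderOf x = 5) (fun x => (hx x).2.1) (fun x h1 h2 => by rw [h2] at h1; omega)
  have e99 := pg7_card_filter_or (fun x : N => orderOf x ∣ 99) (fun x => orderOf x ∣ 9)
    (fun x => orderOf x = 11) (fun x => (hx x).2.2.1) (fun x h1 h2 => by rw [h2] at h1; omega)
  have e88 := pg7_card_filter_or (fun x : N => orderOf x ∣ 88) (fun x => orderOf x ∣ 8)
    (fun x => 11 ∣ orderOf x) (fun x => (hx x).2.2.2.1)
    (fun x h1 h2 => by have := h2.trans h1; omega)
  have e360 := pg7_card_filter_or (fun x : N => orderOf x ∣ 360) (fun x => orderOf x ∣ 72)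
    (fun x => orderOf x = 5) (fun x => (hx x).2.2.2.2.1) (fun x h1 h2 => by rw [h2] at h1; omega)
  have eall1 := pg7_card_filter_or (fun _ : N => True) (fun x => orderOf x ∣ 72)
    (fun x => orderOf x = 5 ∨ 11 ∣ orderOf x) (fun x => by simpa using (hx x).2.2.2.2.2)
    (fun x h1 h2 => by
      rcases h2 with h2 | h2
      · rw [h2] at h1; omega
      · have := h2.trans h1; omega)
  have eall2 := pg7_card_filter_or (fun x : N => orderOf x = 5 ∨ 11 ∣ orderOf x)
    (fun x => orderOf x = 5) (fun x => 11 ∣ orderOf x) (fun x => Iff.rfl)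
    (fun x h1 h2 => by rw [h1] at h2; omega)
  have huniv : (Finset.univ.filter (fun _ : N => True)).card = 3960 := by
    rw [Finset.filter_true_of_mem (fun _ _ => trivial), Finset.card_univ, hcardN]
  -- A8 and A9 inside A72
  have hsub : (Finset.univ.filter (fun x : N => orderOf x ∣ 8)) ∪
      (Finset.univ.filter (fun x : N => orderOf x ∣ 9)) ⊆
      (Finset.univ.filter (fun x : N => orderOf x ∣ 72)) := by
    intro x hx'
    simp only [Finset.mem_union, Finset.mem_filter, Finset.mem_univ, true_and] at hx' ⊢
    rcases hx' with h | h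
    · exact h.trans (by norm_num)
    · exact h.trans (by norm_num)
  have hinter : (Finset.univ.filter (fun x : N => orderOf x ∣ 8)) ∩
      (Finset.univ.filter (fun x : N => orderOf x ∣ 9)) = {1} := by
    ext x
    simp only [Finset.mem_inter, Finset.mem_filter, Finset.mem_univ, true_and,
      Finset.mem_singleton]
    constructor
    · rintro ⟨h8, h9⟩
      have := Nat.dvd_gcd h8 h9
      rw [show Nat.gcd 8 9 = 1 by norm_num, Nat.dvd_one] at this
      exact orderOf_eq_one_iff.mp this
    · rintro rfl
      simp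
  have hui := Finset.card_union_add_card_inter (Finset.univ.filter (fun x : N => orderOf x ∣ 8))
    (Finset.univ.filter (fun x : N => orderOf x ∣ 9))
  rw [hinter, Finset.card_singleton] at hui
  have hle := Finset.card_le_card hsub
  -- Frobenius
  have f8 := pg7_frobenius (G := N) 8 (by rw [hcardN]; norm_num)
  have f9 := pg7_frobenius (G := N) 9 (by rw [hcardN]; norm_num)
  have f40 := pg7_frobenius (G := N) 40 (by rw [hcardN]; norm_num)
  have f45 := pg7_frobenius (G := N) 45 (by rw [hcardN]; norm_num)
  have f99 := pg7_frobenius (G := N) 99 (by rw [hcardN]; norm_num)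
  have f88 := pg7_frobenius (G := N) 88 (by rw [hcardN]; norm_num)
  have f72 := pg7_frobenius (G := N) 72 (by rw [hcardN]; norm_num)
  have f360 := pg7_frobenius (G := N) 360 (by rw [hcardN]; norm_num)
  have h1pos : 1 ≤ (Finset.univ.filter (fun x : N => orderOf x ∣ 8)).card :=
    Finset.card_pos.mpr ⟨1, by simp⟩
  have h72 : (Finset.univ.filter (fun x : N => orderOf x ∣ 72)).card = 576 := by omega
  have h9 : (Finset.univ.filter (fun x : N => orderOf x ∣ 9)).card = 441 := by omega
  have h8 : (Finset.univ.filter (fun x : N => orderOf x ∣ 8)).card = 136 := by omega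
  refine ⟨h8, h9, ?_⟩
  have heq : (Finset.univ.filter (fun x : N => orderOf x ∣ 8)) ∪
      (Finset.univ.filter (fun x : N => orderOf x ∣ 9)) =
      (Finset.univ.filter (fun x : N => orderOf x ∣ 72)) :=
    Finset.eq_of_subset_of_card_le hsub (by omega)
  intro x hx72
  have : x ∈ (Finset.univ.filter (fun x : N => orderOf x ∣ 72)) := by simp [hx72]
  rw [← heq] at this
  simpa using this

end

end Cfsg.Agent.Lib.Helper41
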