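import Mathlib
import Cfsg.Agent.Lib.Helper41.PG7N3960b

set_option autoImplicit false

/-!
There is no group of order 3960 in which 5 is isolated in the prime graph and 11 is not
adjacent to 3.  Part (c): Sylow 3-subgroups and involutions.
-/

namespace Cfsg.Agent.Lib.Helper41

open Subgroup
open scoped Pointwise

section

variable {N : Type*} [Group N] [Finite N]

theorem pg7_card_ne_one' (H : Subgroup N) :
    Nat.card {a : H // a ≠ 1} = Nat.card H - 1 := by
  classical
  have := Fintype.ofFinite H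
  rw [Nat.card_eq_fintype_card, Fintype.card_subtype_compl, Fintype.card_subtype_eq,
    ← Nat.card_eq_fintype_card]

/-- centralizers of nontrivial `r`-elements have order prime to `q` when `r`, `q` are not
adjacent. -/
theorem pg7_not_dvd_card_centralizer_elt {r q : ℕ} [Fact r.Prime] [Fact q.Prime] (hrq : r ≠ q)
    {x : N} {k : ℕ} (hxo : orderOf x = r ^ k) (hx1 : x ≠ 1) (h : ¬ Pg7Adj N r q) :
    ¬ q ∣ Nat.card (centralizer ({x} : Set N)) := by
  intro hdvd
  obtain ⟨y, hy⟩ := exists_prime_orderOf_dvd_card' q (G := centralizer ({x} : Set N)) hdvd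
  obtain ⟨m, hm⟩ := pg7_exists_pow_orderOf_eq hxo hx1
  have hc : Commute x (y : N) := by
    have := y.2
    rw [mem_centralizer_iff] at this
    exact this x (Set.mem_singleton x)
  apply h
  exact pg7Adj_of_commute (hc.pow_left m) hm (by rw [Subgroup.orderOf_coe]; exact hy)
    ((Nat.coprime_primes Fact.out Fact.out).mpr hrq)

theorem pg7b_no6 (hord : Nat.card N = 3960) (h52 : ¬ Pg7Adj N 5 2) (h53 : ¬ Pg7Adj N 5 3)
    (h511 : ¬ Pg7Adj N 5 11) (h113 : ¬ Pg7Adj N 11 3) : ¬ Pg7Adj N 3 2 := by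
  classical
  have := Fintype.ofFinite N
  obtain ⟨-, -, h⟩ := pg7b_counts hord h52 h53 h511 h113
  rintro ⟨g, hg⟩
  have := h g (by rw [hg]; norm_num)
  rw [hg] at this
  omega

theorem pg7b_sylow3_card (hord : Nat.card N = 3960) [Fact (Nat.Prime 3)] (S : Sylow 3 N) :
    Nat.card S = 9 := by
  have := pg7_card_sylow_of_eq (p := 3) (k := 2) (m := 440) (by rw [hord]; norm_num) (by decide) S
  simpa using this

theorem pg7b_sylow3_comm (hord : Nat.card N = 3960) [Fact (Nat.Prime 3)] (S : Sylow 3 N)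
    {a b : N} (ha : a ∈ S) (hb : b ∈ S) : a * b = b * a := by
  have h9 : Nat.card (S : Subgroup N) = 3 ^ 2 := by rw [pg7b_sylow3_card hord S]; norm_num
  have hc := IsPGroup.isMulCommutative_of_card_eq_prime_sq h9
  have := hc.is_comm.comm ⟨a, ha⟩ ⟨b, hb⟩
  exact congrArg Subtype.val this

/-- a nontrivial 3-element lies in a unique Sylow 3-subgroup. -/
theorem pg7b_sylow3_unique (hord : Nat.card N = 3960) (h52 : ¬ Pg7Adj N 5 2)
    (h53 : ¬ Pg7Adj N 5 3) (h511 : ¬ Pg7Adj N 5 11) (h113 : ¬ Pg7Adj N 11 3)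
    [Fact (Nat.Prime 3)] (S S' : Sylow 3 N) {x : N} (hx : x ∈ S) (hx' : x ∈ S') (hx1 : x ≠ 1) :
    S = S' := by
  have : Fact (Nat.Prime 2) := ⟨by norm_num⟩
  have : Fact (Nat.Prime 5) := ⟨by norm_num⟩
  have : Fact (Nat.Prime 11) := ⟨by norm_num⟩
  obtain ⟨k, hk⟩ := (IsPGroup.iff_orderOf.mp S.2) ⟨x, hx⟩
  rw [Subgroup.orderOf_mk] at hk
  have hC2 := pg7_not_dvd_card_centralizer_elt (r := 3) (q := 2) (by norm_num) hk hx1
    (pg7b_no6 hord h52 h53 h511 h113)
  have hC5 := pg7_not_dvd_card_centralizer_elt (r := 3) (q := 5) (by norm_num) hk hx1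
    (fun h => h53 (pg7Adj_comm.mp h))
  have hC11 := pg7_not_dvd_card_centralizer_elt (r := 3) (q := 11) (by norm_num) hk hx1
    (fun h => h113 (pg7Adj_comm.mp h))
  have hCdvd : Nat.card (centralizer ({x} : Set N)) ∣ 3960 :=
    hord ▸ Subgroup.card_subgroup_dvd_card _
  have hC9 := pg7b_arith_c9 _ (Nat.mem_divisors.mpr ⟨hCdvd, by norm_num⟩) hC2 hC5 hC11
  have hCle : Nat.card (centralizer ({x} : Set N)) ≤ 9 := Nat.le_of_dvd (by norm_num) hC9
  have hle : ∀ S'' : Sylow 3 N, x ∈ S'' → (S'' : Subgroup N) = centralizer ({x} : Set N) := by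
    intro S'' hxS
    refine Subgroup.eq_of_le_of_card_ge ?_ (by rw [pg7b_sylow3_card hord S'']; exact hCle)
    intro s hs
    rw [mem_centralizer_iff]
    intro y hy
    rw [Set.mem_singleton_iff] at hy
    rw [hy]
    exact pg7b_sylow3_comm hord S'' hxS hs
  apply Sylow.ext
  rw [hle S hx, hle S' hx']

theorem pg7b_n3 (hord : Nat.card N = 3960) (h52 : ¬ Pg7Adj N 5 2) (h53 : ¬ Pg7Adj N 5 3)
    (h511 : ¬ Pg7Adj N 5 11) (h113 : ¬ Pg7Adj N 11 3) [Fact (Nat.Prime 3)] :
    Nat.card (Sylow 3 N) = 55 := by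
  classical
  have := Fintype.ofFinite N
  have := Fintype.ofFinite (Sylow 3 N)
  have hp3 : Nat.Prime 3 := by norm_num
  obtain ⟨-, h9, -⟩ := pg7b_counts hord h52 h53 h511 h113
  have hB : Nat.card {x : N // orderOf x ∣ 9 ∧ x ≠ 1} = 440 := by
    rw [Nat.card_eq_fintype_card, Fintype.card_subtype]
    have : (Finset.univ.filter (fun x : N => orderOf x ∣ 9 ∧ x ≠ 1)) =
        (Finset.univ.filter (fun x : N => orderOf x ∣ 9)).erase 1 := by
      ext x; simp [and_comm]
    rw [this, Finset.card_erase_of_mem (by simp), h9]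
  have hsig : Nat.card (Σ S : Sylow 3 N, {a : (S : Subgroup N) // a ≠ 1}) =
      Nat.card (Sylow 3 N) * 8 := by
    rw [Nat.card_sigma]
    simp_rw [pg7_card_ne_one', pg7b_sylow3_card hord]
    simp [Nat.card_eq_fintype_card]
  have h1 : Nat.card (Sylow 3 N) * 8 ≤ 440 := by
    rw [← hsig, ← hB]
    let ψ : (Σ S : Sylow 3 N, {a : (S : Subgroup N) // a ≠ 1}) →
        {x : N // orderOf x ∣ 9 ∧ x ≠ 1} :=
      fun t => ⟨t.2.1.1, by
        have := orderOf_dvd_natCard (t.2.1 : (t.1 : Subgroup N))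
        rw [pg7b_sylow3_card hord t.1] at this
        rw [Subgroup.orderOf_coe]
        exact this, fun h => t.2.2 (Subtype.ext h)⟩
    refine Nat.card_le_card_of_injective ψ ?_
    rintro ⟨S, a, ha⟩ ⟨S', a', ha'⟩ hxy
    have h2 : (a : N) = (a' : N) := congrArg Subtype.val hxy
    have hSS : S = S' :=
      pg7b_sylow3_unique hord h52 h53 h511 h113 S S' a.2 (h2 ▸ a'.2)
        (fun h => ha (Subtype.ext h))
    subst hSS
    have : a = a' := Subtype.ext h2
    subst this
    rfl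
  have h2 : 440 ≤ Nat.card (Sylow 3 N) * 8 := by
    rw [← hsig, ← hB]
    have hex : ∀ x : {x : N // orderOf x ∣ 9 ∧ x ≠ 1}, ∃ S : Sylow 3 N, x.1 ∈ S := by
      intro x
      have hpg : IsPGroup 3 (zpowers x.1) := by
        have h92 : orderOf x.1 ∣ 3 ^ 2 := by
          have := x.2.1
          norm_num
          exact this
        obtain ⟨j, -, hj⟩ := (Nat.dvd_prime_pow hp3).mp h92
        exact IsPGroup.of_card (n := j) (by rw [Nat.card_zpowers, hj])
      obtain ⟨S, hS⟩ := hpg.exists_le_sylow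
      exact ⟨S, hS (mem_zpowers x.1)⟩
    choose Sx hSx using hex
    let φ : {x : N // orderOf x ∣ 9 ∧ x ≠ 1} →
        (Σ S : Sylow 3 N, {a : (S : Subgroup N) // a ≠ 1}) :=
      fun x => ⟨Sx x, ⟨⟨x.1, hSx x⟩, fun h => x.2.2 (congrArg Subtype.val h)⟩⟩
    refine Nat.card_le_card_of_injective φ ?_
    intro x y hxy
    have h3 : ((φ x).2.1 : N) = ((φ y).2.1 : N) := by rw [hxy]
    exact Subtype.ext h3
  omega

end

end Cfsg.Agent.Lib.Helper41
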