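import Mathlib
import Cfsg.Agent.Lib.Helper41.PG7N3960c

set_option autoImplicit false

/-!
There is no group of order 3960 in which 5 is isolated in the prime graph and 11 is not
adjacent to 3.  Part (d): involutions and the final contradiction.
-/

namespace Cfsg.Agent.Lib.Helper41

open Subgroup
open scoped Pointwise

section

variable {N : Type*} [Group N] [Finite N]

/-- a 2-group normalizing a Sylow 3-subgroup has at most one involution (when there are no
elements of order 6). -/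
theorem pg7b_ui_of_normalizes (hord : Nat.card N = 3960) (no6 : ¬ Pg7Adj N 3 2)
    [Fact (Nat.Prime 3)] [Fact (Nat.Prime 2)] (S : Sylow 3 N) (T1 : Subgroup N)
    (hT1 : IsPGroup 2 T1) (hn : T1 ≤ normalizer ((S : Subgroup N) : Set N)) {u u' : N}
    (hu : u ∈ T1) (hu' : u' ∈ T1) (huo : orderOf u = 2) (huo' : orderOf u' = 2) : u = u' := by
  have hfree : ∀ v ∈ T1, v ≠ 1 → ∀ s ∈ (S : Subgroup N), s ≠ 1 → ¬ Commute v s := by
    intro v hv hv1 s hs hs1 hc
    obtain ⟨k, hk⟩ := (IsPGroup.iff_orderOf.mp hT1) ⟨v, hv⟩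
    rw [Subgroup.orderOf_mk] at hk
    obtain ⟨j, hj⟩ := (IsPGroup.iff_orderOf.mp S.2) ⟨s, hs⟩
    rw [Subgroup.orderOf_mk] at hj
    obtain ⟨m, hm⟩ := pg7_exists_pow_orderOf_eq hk hv1
    obtain ⟨m', hm'⟩ := pg7_exists_pow_orderOf_eq hj hs1
    exact no6 (pg7Adj_of_commute ((hc.pow_pow m m').symm) hm' hm (by norm_num))
  have hinv : ∀ v ∈ T1, orderOf v = 2 → ∀ s ∈ (S : Subgroup N), v * s * v⁻¹ = s⁻¹ := by
    intro v hv hvo s hs
    have hv1 : v ≠ 1 := by
      rintro rfl
      rw [orderOf_one] at hvo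
      omega
    have hvv : v * v = 1 := by rw [← pow_two, ← hvo, pow_orderOf_eq_one]
    have hvinv : v⁻¹ = v := inv_eq_of_mul_eq_one_left hvv
    have hcs : v * s * v⁻¹ ∈ (S : Subgroup N) := (mem_normalizer_iff.mp (hn hv) s).mp hs
    have hwS : s * (v * s * v⁻¹) ∈ (S : Subgroup N) := mul_mem hs hcs
    have h1 : v * (s * (v * s * v⁻¹)) = (v * s * v⁻¹) * s * v := by
      rw [hvinv]
      group
    have h2 : (v * s * v⁻¹) * s = s * (v * s * v⁻¹) := pg7b_sylow3_comm hord S hcs hs
    have hcomm : Commute v (s * (v * s * v⁻¹)) := by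
      show v * (s * (v * s * v⁻¹)) = (s * (v * s * v⁻¹)) * v
      rw [h1, h2]
    by_cases hw1 : s * (v * s * v⁻¹) = 1
    · exact (eq_inv_of_mul_eq_one_right hw1)
    · exact absurd hcomm (hfree v hv hv1 _ hwS hw1)
  by_contra hne
  have hS1 : (S : Subgroup N) ≠ ⊥ := by
    intro h
    have := pg7b_sylow3_card hord S
    rw [h, Subgroup.card_bot] at this
    omega
  obtain ⟨s0, hs01⟩ := (Subgroup.ne_bot_iff_exists_ne_one).mp hS1
  have hs0 : (s0 : N) ≠ 1 := fun h => hs01 (Subtype.ext h)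
  have huu : u * u = 1 := by rw [← pow_two, ← huo, pow_orderOf_eq_one]
  have huinv : u⁻¹ = u := inv_eq_of_mul_eq_one_left huu
  have hv1 : u * u' ≠ 1 := by
    intro h
    apply hne
    have := eq_inv_of_mul_eq_one_right h
    rw [this, huinv]
  have hc : Commute (u * u') (s0 : N) := by
    have h1 : (u * u') * (s0 : N) * (u * u')⁻¹ = (s0 : N) := by
      have e1 := hinv u' hu' huo' (s0 : N) s0.2
      have e2 := hinv u hu huo ((s0 : N)⁻¹) (inv_mem s0.2)
      calc (u * u') * (s0 : N) * (u * u')⁻¹ = u * (u' * (s0 : N) * u'⁻¹) * u⁻¹ := by group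
        _ = u * (s0 : N)⁻¹ * u⁻¹ := by rw [e1]
        _ = ((s0 : N)⁻¹)⁻¹ := e2
        _ = (s0 : N) := inv_inv _
    show (u * u') * (s0 : N) = (s0 : N) * (u * u')
    calc (u * u') * (s0 : N) = ((u * u') * (s0 : N) * (u * u')⁻¹) * (u * u') := by group
      _ = (s0 : N) * (u * u') := by rw [h1]
  exact hfree (u * u') (mul_mem hu hu') hv1 (s0 : N) s0.2 hs0 hc

/-- subgroups of order 8 from a divisibility in a subgroup -/
theorem pg7_exists_subgroup_card_8_le (H : Subgroup N) (h8 : 8 ∣ Nat.card H) :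
    ∃ T : Subgroup N, T ≤ H ∧ Nat.card T = 8 := by
  have : Fact (Nat.Prime 2) := ⟨by norm_num⟩
  have h8' : 2 ^ 3 ∣ Nat.card H := by norm_num; exact h8
  obtain ⟨K', hK'⟩ := Sylow.exists_subgroup_card_pow_prime 2 h8'
  refine ⟨K'.map H.subtype, ?_, ?_⟩
  · rintro _ ⟨y, -, rfl⟩
    exact y.2
  · have h1 : Nat.card (K'.map H.subtype) = Nat.card K' :=
      Nat.card_congr (K'.equivMapOfInjective _ (Subgroup.subtype_injective _)).symm.toEquiv
    rw [h1, hK']; norm_num

/-- every subgroup of order 8 has a unique involution -/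
theorem pg7b_unique_involution (hord : Nat.card N = 3960) (h52 : ¬ Pg7Adj N 5 2)
    (h53 : ¬ Pg7Adj N 5 3) (h511 : ¬ Pg7Adj N 5 11) (h113 : ¬ Pg7Adj N 11 3)
    (T : Subgroup N) (hT : Nat.card T = 8) {u u' : N} (hu : u ∈ T) (hu' : u' ∈ T)
    (huo : orderOf u = 2) (huo' : orderOf u' = 2) : u = u' := by
  have : Fact (Nat.Prime 2) := ⟨by norm_num⟩
  have : Fact (Nat.Prime 3) := ⟨by norm_num⟩
  have no6 := pg7b_no6 hord h52 h53 h511 h113
  obtain ⟨S⟩ : Nonempty (Sylow 3 N) := inferInstance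
  have hNS : Nat.card (normalizer ((S : Subgroup N) : Set N)) = 72 := by
    have := pg7_card_normalizer_mul_card_sylow S
    rw [pg7b_n3 hord h52 h53 h511 h113, hord] at this
    omega
  obtain ⟨T1, hT1le, hT1card⟩ := pg7_exists_subgroup_card_8_le
    (normalizer ((S : Subgroup N) : Set N)) (by rw [hNS]; norm_num)
  have hT1p : IsPGroup 2 T1 := IsPGroup.of_card (n := 3) (by rw [hT1card]; norm_num)
  -- Sylow structures
  have hfac : 8 = 2 ^ (Nat.card N).factorization 2 := by
    obtain ⟨P0⟩ : Nonempty (Sylow 2 N) := inferInstance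
    have h1 := P0.card_eq_multiplicity
    have h2 := pg7_card_sylow_of_eq (p := 2) (k := 3) (m := 495) (by rw [hord]; norm_num)
      (by decide) P0
    rw [h2] at h1
    rw [← h1]; norm_num
  obtain ⟨g, hg⟩ := MulAction.exists_smul_eq N
    (Sylow.ofCard T (by rw [hT]; exact hfac)) (Sylow.ofCard T1 (by rw [hT1card]; exact hfac))
  have hconj : ∀ x ∈ T, g * x * g⁻¹ ∈ T1 := by
    intro x hx
    have h1 := Sylow.coe_subgroup_smul (g := g) (P := Sylow.ofCard T (by rw [hT]; exact hfac))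
    rw [hg] at h1
    have h2 : g * x * g⁻¹ ∈ ((Sylow.ofCard T1 (by rw [hT1card]; exact hfac) : Sylow 2 N) :
        Subgroup N) := by
      rw [h1]
      have := Subgroup.smul_mem_pointwise_smul x (MulAut.conj g) T hx
      simpa [MulAut.smul_def, MulAut.conj_apply] using this
    exact h2
  have hord' : ∀ x : N, orderOf (g * x * g⁻¹) = orderOf x := fun x =>
    orderOf_injective (MulAut.conj g).toMonoidHom (MulAut.conj g).injective x
  have := pg7b_ui_of_normalizes hord no6 S T1 hT1p hT1le (hconj u hu) (hconj u' hu')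
    (by rw [hord' u]; exact huo) (by rw [hord' u']; exact huo')
  exact mul_left_cancel (mul_right_cancel this)

end

end Cfsg.Agent.Lib.Helper41
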