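import Mathlib
import Cfsg.Agent.Lib.Helper41.PG7N3960d

set_option autoImplicit false

/-!
There is no group of order 3960 in which 5 is isolated in the prime graph and 11 is not
adjacent to 3.  Part (e): the final contradiction.
-/

namespace Cfsg.Agent.Lib.Helper41

open Subgroup
open scoped Pointwise

section

variable {N : Type*} [Group N] [Finite N]

/-- an involution centralizing a Sylow 11-subgroup and central in a subgroup of order 8 -/
theorem pg7b_exists_involution (hord : Nat.card N = 3960) (h52 : ¬ Pg7Adj N 5 2)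
    (h53 : ¬ Pg7Adj N 5 3) (h511 : ¬ Pg7Adj N 5 11) (h113 : ¬ Pg7Adj N 11 3) :
    ∃ z : N, orderOf z = 2 ∧ Nat.card (centralizer ({z} : Set N)) = 88 := by
  have : Fact (Nat.Prime 2) := ⟨by norm_num⟩
  have : Fact (Nat.Prime 3) := ⟨by norm_num⟩
  have : Fact (Nat.Prime 5) := ⟨by norm_num⟩
  have : Fact (Nat.Prime 11) := ⟨by norm_num⟩
  obtain ⟨P⟩ : Nonempty (Sylow 11 N) := inferInstance
  obtain ⟨-, hNC⟩ := pg7b_n11 hord h52 h53 h511 h113
  obtain ⟨hNP, hCP⟩ := hNC P
  obtain ⟨T2, hT2le, hT2card⟩ := pg7_exists_subgroup_card_8_le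
    (normalizer ((P : Subgroup N) : Set N)) (by rw [hNP]; norm_num)
  -- the centralizer of P has index 2 in the normalizer
  have hrel : (centralizer ((P : Subgroup N) : Set N)).relIndex
      (normalizer ((P : Subgroup N) : Set N)) = 2 := by
    have h1 := Subgroup.card_mul_index
      ((centralizer ((P : Subgroup N) : Set N)).subgroupOf (normalizer ((P : Subgroup N) : Set N)))
    have h2 : Nat.card ((centralizer ((P : Subgroup N) : Set N)).subgroupOf
        (normalizer ((P : Subgroup N) : Set N))) = 44 := by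
      rw [← hCP]
      exact Nat.card_congr (Subgroup.subgroupOfEquivOfLe
        (Subgroup.centralizer_le_normalizer ((P : Subgroup N) : Set N))).toEquiv
    rw [h2, hNP] at h1
    unfold Subgroup.relIndex
    omega
  have hrelT : (centralizer ((P : Subgroup N) : Set N)).relIndex T2 ≤ 2 := by
    rw [← hrel]
    exact Subgroup.relIndex_le_of_le_right hT2le (by rw [hrel]; norm_num)
  -- an involution in T2 ∩ C(P)
  have hVcard := Subgroup.card_mul_index ((centralizer ((P : Subgroup N) : Set N)).subgroupOf T2)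
  rw [hT2card] at hVcard
  have hidx : ((centralizer ((P : Subgroup N) : Set N)).subgroupOf T2).index ≤ 2 := hrelT
  have h2V : 2 ∣ Nat.card ((centralizer ((P : Subgroup N) : Set N)).subgroupOf T2) := by
    have hpos : 0 < ((centralizer ((P : Subgroup N) : Set N)).subgroupOf T2).index :=
      Nat.pos_of_ne_zero (Subgroup.index_ne_zero_of_finite)
    generalize ((centralizer ((P : Subgroup N) : Set N)).subgroupOf T2).index = i at *
    generalize Nat.card ((centralizer ((P : Subgroup N) : Set N)).subgroupOf T2) = c at *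
    interval_cases i <;> omega
  obtain ⟨y, hy⟩ := exists_prime_orderOf_dvd_card' 2 h2V
  set z : N := ((y : T2) : N) with hz
  have hzT : z ∈ T2 := (y : T2).2
  have hzC : z ∈ centralizer ((P : Subgroup N) : Set N) := by
    have := y.2
    rwa [Subgroup.mem_subgroupOf] at this
  have hzo : orderOf z = 2 := by
    rw [hz, Subgroup.orderOf_coe, Subgroup.orderOf_coe]; exact hy
  refine ⟨z, hzo, ?_⟩
  -- z is central in T2
  have hzcent : ∀ t ∈ T2, t * z = z * t := by
    intro t ht
    have h1 : t * z * t⁻¹ ∈ T2 := mul_mem (mul_mem ht hzT) (inv_mem ht)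
    have h2 : orderOf (t * z * t⁻¹) = 2 := by
      rw [← hzo]
      exact orderOf_injective (MulAut.conj t).toMonoidHom (MulAut.conj t).injective z
    have := pg7b_unique_involution hord h52 h53 h511 h113 T2 hT2card h1 hzT h2 hzo
    calc t * z = (t * z * t⁻¹) * t := by group
      _ = z * t := by rw [this]
  have hT2C : T2 ≤ centralizer ({z} : Set N) := by
    intro t ht
    rw [mem_centralizer_iff]
    intro w hw
    rw [Set.mem_singleton_iff] at hw
    rw [hw]
    exact (hzcent t ht).symm
  have hPC : (P : Subgroup N) ≤ centralizer ({z} : Set N) := by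
    intro a ha
    rw [mem_centralizer_iff]
    intro w hw
    rw [Set.mem_singleton_iff] at hw
    rw [hw]
    rw [mem_centralizer_iff] at hzC
    exact (hzC a ha).symm
  have h8 : 8 ∣ Nat.card (centralizer ({z} : Set N)) := by
    rw [← hT2card]; exact Subgroup.card_dvd_of_le hT2C
  have h11 : 11 ∣ Nat.card (centralizer ({z} : Set N)) := by
    rw [← pg7b_sylow11_card hord P]; exact Subgroup.card_dvd_of_le hPC
  have h88 : 88 ∣ Nat.card (centralizer ({z} : Set N)) :=
    Nat.Coprime.mul_dvd_of_dvd_of_dvd (by norm_num : Nat.Coprime 8 11) h8 h11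
  have hz1 : z ≠ 1 := by
    intro h
    rw [h, orderOf_one] at hzo
    omega
  have hzo' : orderOf z = 2 ^ 1 := by rw [hzo]; norm_num
  have hC3 := pg7_not_dvd_card_centralizer_elt (r := 2) (q := 3) (by norm_num) hzo' hz1
    (fun h => pg7b_no6 hord h52 h53 h511 h113 (pg7Adj_comm.mp h))
  have hC5 := pg7_not_dvd_card_centralizer_elt (r := 2) (q := 5) (by norm_num) hzo' hz1
    (fun h => h52 (pg7Adj_comm.mp h))
  have hCdvd : Nat.card (centralizer ({z} : Set N)) ∣ 3960 :=
    hord ▸ Subgroup.card_subgroup_dvd_card _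
  have := pg7b_arith_c88 _ (Nat.mem_divisors.mpr ⟨hCdvd, by norm_num⟩) hC3 hC5
  exact Nat.dvd_antisymm this h88

theorem pg7b_false (hord : Nat.card N = 3960) (h52 : ¬ Pg7Adj N 5 2)
    (h53 : ¬ Pg7Adj N 5 3) (h511 : ¬ Pg7Adj N 5 11) (h113 : ¬ Pg7Adj N 11 3) : False := by
  classical
  have : Fact (Nat.Prime 2) := ⟨by norm_num⟩
  have := Fintype.ofFinite N
  obtain ⟨z, hzo, hzC⟩ := pg7b_exists_involution hord h52 h53 h511 h113
  -- the class of z has 45 elements
  have hclass := Cfsg.Agent.Lib.Helper40.card_carrier_mul_card_centralizer z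
  rw [hzC, hord] at hclass
  have hclass45 : Nat.card (ConjClasses.mk z).carrier = 45 := by omega
  -- at least 45 involutions
  have hI : 45 ≤ Nat.card {x : N // orderOf x = 2} := by
    rw [← hclass45]
    refine Nat.card_le_card_of_injective
      (fun x : (ConjClasses.mk z).carrier => (⟨x.1, by
        have := x.2
        rw [ConjClasses.mem_carrier_iff_mk_eq, ConjClasses.mk_eq_mk_iff_isConj,
          isConj_iff] at this
        obtain ⟨c, hc⟩ := this
        have h1 : orderOf (c * x.1 * c⁻¹) = orderOf x.1 :=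
          orderOf_injective (MulAut.conj c).toMonoidHom (MulAut.conj c).injective x.1
        rw [hc, hzo] at h1
        exact h1.symm⟩ :
        {x : N // orderOf x = 2})) ?_
    intro x y hxy
    exact Subtype.ext (congrArg (fun t : {x : N // orderOf x = 2} => (t : N)) hxy)
  -- each involution lies in a subgroup of order 8
  have hfac : (Nat.card N).factorization 2 = 3 := by
    obtain ⟨P0⟩ : Nonempty (Sylow 2 N) := inferInstance
    have h1 := P0.card_eq_multiplicity
    have h2 := pg7_card_sylow_of_eq (p := 2) (k := 3) (m := 495) (by rw [hord]; norm_num)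
      (by decide) P0
    rw [h2] at h1
    exact (Nat.pow_right_injective (le_refl 2) h1).symm
  have hex : ∀ x : {x : N // orderOf x = 2}, ∃ T : Subgroup N, Nat.card T = 8 ∧ x.1 ∈ T := by
    intro x
    have hpg : IsPGroup 2 (zpowers x.1) :=
      IsPGroup.of_card (n := 1) (by rw [Nat.card_zpowers, x.2]; norm_num)
    obtain ⟨S, hS⟩ := hpg.exists_le_sylow
    refine ⟨S, ?_, hS (mem_zpowers x.1)⟩
    rw [S.card_eq_multiplicity, hfac]; norm_num
  choose Tx hTxcard hTxmem using hex
  have hsig : Nat.card (Σ x : {x : N // orderOf x = 2}, {u : Tx x // u ≠ 1}) =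
      Nat.card {x : N // orderOf x = 2} * 7 := by
    rw [Nat.card_sigma]
    simp_rw [pg7_card_ne_one', hTxcard]
    simp [Nat.card_eq_fintype_card]
  obtain ⟨h8, -, -⟩ := pg7b_counts hord h52 h53 h511 h113
  have hB : Nat.card {x : N // orderOf x ∣ 8 ∧ x ≠ 1} = 135 := by
    rw [Nat.card_eq_fintype_card, Fintype.card_subtype]
    have : (Finset.univ.filter (fun x : N => orderOf x ∣ 8 ∧ x ≠ 1)) =
        (Finset.univ.filter (fun x : N => orderOf x ∣ 8)).erase 1 := by
      ext x; simp [and_comm]
    rw [this, Finset.card_erase_of_mem (by simp), h8]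
  have hle : Nat.card {x : N // orderOf x = 2} * 7 ≤ 135 := by
    rw [← hsig, ← hB]
    let ψ : (Σ x : {x : N // orderOf x = 2}, {u : Tx x // u ≠ 1}) →
        {x : N // orderOf x ∣ 8 ∧ x ≠ 1} :=
      fun t => ⟨t.2.1.1, by
        have := orderOf_dvd_natCard (t.2.1 : Tx t.1)
        rw [hTxcard t.1] at this
        rw [Subgroup.orderOf_coe]
        exact this, fun h => t.2.2 (Subtype.ext h)⟩
    refine Nat.card_le_card_of_injective ψ ?_
    rintro ⟨x, u, hu⟩ ⟨x', u', hu'⟩ hxy
    have h2 : (u : N) = (u' : N) := congrArg Subtype.val hxy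
    -- the involution in ⟨u⟩
    have hTp : IsPGroup 2 (Tx x) := IsPGroup.of_card (n := 3) (by rw [hTxcard x]; norm_num)
    obtain ⟨k, hk⟩ := (IsPGroup.iff_orderOf.mp hTp) u
    rw [← Subgroup.orderOf_coe] at hk
    have hu1 : (u : N) ≠ 1 := fun h => hu (Subtype.ext h)
    obtain ⟨m, hm⟩ := pg7_exists_pow_orderOf_eq hk hu1
    have e1 : (u : N) ^ m = x.1 :=
      pg7b_unique_involution hord h52 h53 h511 h113 (Tx x) (hTxcard x)
        ((Tx x).pow_mem u.2 m) (hTxmem x) hm x.2
    have e2 : (u : N) ^ m = x'.1 :=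
      pg7b_unique_involution hord h52 h53 h511 h113 (Tx x') (hTxcard x')
        (h2 ▸ (Tx x').pow_mem u'.2 m) (hTxmem x') hm x'.2
    have hxx : x = x' := Subtype.ext (e1.symm.trans e2)
    subst hxx
    have : u = u' := Subtype.ext h2
    subst this
    rfl
  omega

end

end Cfsg.Agent.Lib.Helper41
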