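import Mathlib
import Cfsg.Agent.Lib.Helper41.PG7CaseII3
import Cfsg.Agent.Lib.Helper41.PG7N3960e

set_option autoImplicit false

/-!
Groups of order 7920 in which 5 is isolated in the prime graph and 11 is adjacent to 2:
such a group is simple.
-/

namespace Cfsg.Agent.Lib.Helper41

open Subgroup
open scoped Pointwise

set_option maxRecDepth 1000000 in
theorem pg7_arith_c5 : ∀ c ∈ Nat.divisors 7920, ¬ 2 ∣ c → ¬ 3 ∣ c → ¬ 11 ∣ c → c ∣ 5 := by
  decide

theorem pg7_not_5_dvd_pow3_sub_one {k : ℕ} (hk : 1 ≤ k) (h : 3 ^ k ∣ 7920) : ¬ 5 ∣ 3 ^ k - 1 := by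
  have hk3 : k < 3 := by
    by_contra hcon
    have : 3 ^ 3 ∣ 3 ^ k := pow_dvd_pow 3 (by omega)
    have := this.trans h
    omega
  interval_cases k <;> omega

theorem pg7_not_5_dvd_pow2_sub_one {k : ℕ} (hk : 1 ≤ k) (h : 2 ^ k ∣ 7920) (h16 : ¬ 16 ∣ 2 ^ k) :
    ¬ 5 ∣ 2 ^ k - 1 := by
  have hk4 : k < 4 := by
    by_contra hcon
    exact h16 (pow_dvd_pow 2 (by omega : 4 ≤ k))
  interval_cases k <;> omega

theorem pg7_dvd20 {e : ℕ} (h : e ∣ 20) : e = 1 ∨ e = 2 ∨ e = 4 ∨ e = 5 ∨ e = 10 ∨ e = 20 := by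
  have := Nat.le_of_dvd (by norm_num) h
  interval_cases e <;> revert h <;> decide

set_option maxRecDepth 1000000 in
theorem pg7_arith_dvd16 : ∀ c ∈ Nat.divisors 7920, ¬ 3 ∣ c → ¬ 5 ∣ c → ¬ 11 ∣ c → c ∣ 16 := by
  decide

section

variable {G : Type*} [Group G] [Finite G]

theorem pg7_sylow5_card (hord : Nat.card G = 7920) [Fact (Nat.Prime 5)] (Q : Sylow 5 G) :
    Nat.card Q = 5 := by
  have := pg7_card_sylow_of_eq (p := 5) (k := 1) (m := 1584) (by rw [hord]; norm_num)
    (by decide) Q
  simpa using this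

/-- when 5 is isolated, Sylow 5-normalizers have order 20. -/
theorem pg7_normalizer5 (hord : Nat.card G = 7920) (h52 : ¬ Pg7Adj G 5 2)
    (h53 : ¬ Pg7Adj G 5 3) (h511 : ¬ Pg7Adj G 5 11) [Fact (Nat.Prime 5)] (Q : Sylow 5 G) :
    Nat.card (normalizer ((Q : Subgroup G) : Set G)) = 20 := by
  have : Fact (Nat.Prime 2) := ⟨by norm_num⟩
  have : Fact (Nat.Prime 3) := ⟨by norm_num⟩
  have : Fact (Nat.Prime 11) := ⟨by norm_num⟩
  have hQ := pg7_sylow5_card hord Q
  obtain ⟨e, he, hNe⟩ := pg7_card_normalizer_prime (Q : Subgroup G) hQ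
  have hC2 := pg7_not_dvd_card_centralizer (by norm_num) (Q : Subgroup G) hQ h52
  have hC3 := pg7_not_dvd_card_centralizer (by norm_num) (Q : Subgroup G) hQ h53
  have hC11 := pg7_not_dvd_card_centralizer (by norm_num) (Q : Subgroup G) hQ h511
  have hCdvd : Nat.card (centralizer ((Q : Subgroup G) : Set G)) ∣ 7920 :=
    hord ▸ Subgroup.card_subgroup_dvd_card _
  have hC5 := pg7_arith_c5 _ (Nat.mem_divisors.mpr ⟨hCdvd, by norm_num⟩) hC2 hC3 hC11
  have h5C : 5 ∣ Nat.card (centralizer ((Q : Subgroup G) : Set G)) := by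
    have := Subgroup.card_dvd_of_le (pg7_le_centralizer_of_prime_card (Q : Subgroup G) hQ)
    rwa [hQ] at this
  have hCeq : Nat.card (centralizer ((Q : Subgroup G) : Set G)) = 5 :=
    Nat.dvd_antisymm hC5 h5C
  rw [hCeq] at hNe
  have hmul := pg7_card_normalizer_mul_card_sylow Q
  rw [hord, hNe] at hmul
  have hmod : Nat.card (Sylow 5 G) % 5 = 1 := card_sylow_modEq_one 5 G
  rw [hNe]
  rcases pg7_dvd4 he with rfl | rfl | rfl <;> omega

/-- if `15 ∣ |N(P)|` for a Sylow 11-subgroup `P`, then 5 is adjacent to 11 or to 3. -/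
theorem pg7_claim15 (hord : Nat.card G = 7920) [Fact (Nat.Prime 11)] (P : Sylow 11 G)
    (h15 : 15 ∣ Nat.card (normalizer ((P : Subgroup G) : Set G)))
    (h53 : ¬ Pg7Adj G 5 3) (h511 : ¬ Pg7Adj G 5 11) : False := by
  have : Fact (Nat.Prime 3) := ⟨by norm_num⟩
  have : Fact (Nat.Prime 5) := ⟨by norm_num⟩
  have hP := pg7_sylow11_card hord P
  obtain ⟨e, he, hNe⟩ := pg7_card_normalizer_prime (P : Subgroup G) hP
  have hC5 := pg7_not_dvd_card_centralizer (by norm_num) (P : Subgroup G) hP
    (fun h => h511 (pg7Adj_comm.mp h))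
  have hC3 : 3 ∣ Nat.card (centralizer ((P : Subgroup G) : Set G)) := by
    rw [hNe] at h15
    rcases pg7_dvd10 he with rfl | rfl | rfl | rfl <;> omega
  -- the centralizer as a normal subgroup of the normalizer
  have hLcard : Nat.card ((P : Subgroup G).normalizerMonoidHom.ker) =
      Nat.card (centralizer ((P : Subgroup G) : Set G)) := by
    rw [normalizerMonoidHom_ker]
    exact Nat.card_congr (Subgroup.subgroupOfEquivOfLe
      (Subgroup.centralizer_le_normalizer ((P : Subgroup G) : Set G))).toEquiv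
  obtain ⟨d, hd⟩ := exists_prime_orderOf_dvd_card' 5
    (G := normalizer ((P : Subgroup G) : Set G)) ((by norm_num : 5 ∣ 15).trans h15)
  have hD : Nat.card (zpowers d) = 5 := by rw [Nat.card_zpowers, hd]
  have hCdvd : Nat.card (centralizer ((P : Subgroup G) : Set G)) ∣ 7920 :=
    hord ▸ Subgroup.card_subgroup_dvd_card _
  have := pg7_adj_of_normal_coprime (p := 5) (r := 3) (by norm_num) (zpowers d) hD
    ((P : Subgroup G).normalizerMonoidHom.ker) (by rw [hLcard]; exact hC5)
    (by rw [hLcard]; exact hC3)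
    (fun k hk hdvd => pg7_not_5_dvd_pow3_sub_one hk (by
      rw [hLcard] at hdvd; exact hdvd.trans hCdvd))
  exact h53 (pg7Adj_of_subgroup _ this)

/-- 5 isolated and 11 adjacent to 2: Sylow 11-normalizers have order 176. -/
theorem pg7_normalizer11_of_5_isolated (hord : Nat.card G = 7920) (h112 : Pg7Adj G 11 2)
    (h53 : ¬ Pg7Adj G 5 3) (h511 : ¬ Pg7Adj G 5 11) [Fact (Nat.Prime 11)] (P : Sylow 11 G) :
    Nat.card (normalizer ((P : Subgroup G) : Set G)) = 176 := by
  have key : ∀ P : Sylow 11 G, Nat.card (Sylow 11 G) = 45 ∨ Nat.card (Sylow 11 G) = 144 := by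
    intro P
    rcases pg7_normalizer11_cases hord P with ⟨hn, hN⟩ | ⟨hn, hN⟩ | ⟨hn, hN⟩ | ⟨hn, hN⟩
    · exact (pg7_claim15 hord P (by rw [hN]; norm_num) h53 h511).elim
    · exact (pg7_claim15 hord P (by rw [hN]; norm_num) h53 h511).elim
    · exact Or.inl hn
    · exact Or.inr hn
  have hn45 : Nat.card (Sylow 11 G) = 45 := by
    rcases key P with h | h
    · exact h
    · exfalso
      obtain ⟨P', hP'⟩ := pg7_exists_sylow_of_adj (p := 11) (m := 720) (by rw [hord]) (by decide)
        (by norm_num) h112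
      have hdvd := Subgroup.card_dvd_of_le (centralizer_le_normalizer ((P' : Subgroup G) : Set G))
      have := hP'.trans hdvd
      rcases pg7_normalizer11_cases hord P' with ⟨hn, hN⟩ | ⟨hn, hN⟩ | ⟨hn, hN⟩ | ⟨hn, hN⟩ <;>
        omega
  rcases pg7_normalizer11_cases hord P with ⟨hn, hN⟩ | ⟨hn, hN⟩ | ⟨hn, hN⟩ | ⟨hn, hN⟩ <;> omega

/-- a normal subgroup of order divisible by 5 has index 1, 2 or 4 when 5 is isolated. -/
theorem pg7_index_of_5_dvd (hord : Nat.card G = 7920) (h52 : ¬ Pg7Adj G 5 2)
    (h53 : ¬ Pg7Adj G 5 3) (h511 : ¬ Pg7Adj G 5 11) (N : Subgroup G) [N.Normal]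
    (h5 : 5 ∣ Nat.card N) : N.index = 1 ∨ N.index = 2 ∨ N.index = 4 := by
  have : Fact (Nat.Prime 5) := ⟨by norm_num⟩
  have hNcard : Nat.card N ∣ 7920 := hord ▸ Subgroup.card_subgroup_dvd_card N
  obtain ⟨P⟩ : Nonempty (Sylow 5 G) := inferInstance
  obtain ⟨Q0⟩ : Nonempty (Sylow 5 N) := inferInstance
  obtain ⟨m, hm⟩ := h5
  have hm5 : ¬ 5 ∣ m := by
    intro h
    obtain ⟨j, rfl⟩ := h
    rw [hm] at hNcard
    have : (25 : ℕ) ∣ 7920 := Dvd.dvd.trans ⟨j, by ring⟩ hNcard
    omega
  have hQ0 : Nat.card Q0 = 5 := by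
    have := pg7_card_sylow_of_eq (p := 5) (k := 1) (m := m) (by rw [hm]; ring) hm5 Q0
    simpa using this
  set Pm : Subgroup G := (Q0 : Subgroup N).map N.subtype with hPm
  have hPmcard : Nat.card Pm = 5 := by
    rw [← hQ0]
    exact Nat.card_congr
      ((Q0 : Subgroup N).equivMapOfInjective N.subtype N.subtype_injective).symm.toEquiv
  have hPmS : Nat.card Pm = 5 ^ (Nat.card G).factorization 5 := by
    have := pg7_sylow5_card hord P
    rw [P.card_eq_multiplicity] at this
    rw [this, hPmcard]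
  have hfrat : normalizer (Pm : Set G) ⊔ N = ⊤ := Sylow.normalizer_sup_eq_top Q0
  have hNPm : Nat.card (normalizer (Pm : Set G)) = 20 :=
    pg7_normalizer5 hord h52 h53 h511 (Sylow.ofCard Pm hPmS)
  have hidx : N.index = N.relIndex (normalizer (Pm : Set G)) := by
    rw [← Subgroup.relIndex_sup_right (K := N) (H := normalizer (Pm : Set G)), hfrat,
      Subgroup.relIndex_top_right]
  have hidx20 : N.index ∣ 20 := by
    rw [hidx, ← hNPm]; exact Subgroup.relIndex_dvd_card _ _
  have hmul := Subgroup.card_mul_index N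
  rw [hord, hm] at hmul
  have h5i : ¬ 5 ∣ N.index := by
    intro h
    obtain ⟨j, hj⟩ := h
    rw [hj] at hmul
    have : (25 : ℕ) ∣ 7920 := ⟨m * j, by rw [← hmul]; ring⟩
    omega
  rcases pg7_dvd20 hidx20 with h | h | h | h | h | h
  · exact Or.inl h
  · exact Or.inr (Or.inl h)
  · exact Or.inr (Or.inr h)
  · exact absurd (h ▸ dvd_refl _) h5i
  · exact absurd (h ▸ (by norm_num : (5 : ℕ) ∣ 10)) h5i
  · exact absurd (h ▸ (by norm_num : (5 : ℕ) ∣ 20)) h5i

/-- a subgroup of order 3960 from a proper normal subgroup of 2-power index -/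
theorem pg7_exists_subgroup_3960 (hord : Nat.card G = 7920) (N : Subgroup G) [N.Normal]
    (hidx : N.index = 2 ∨ N.index = 4) : ∃ M : Subgroup G, Nat.card M = 3960 := by
  have : Fact (Nat.Prime 2) := ⟨by norm_num⟩
  rcases hidx with h | h
  · refine ⟨N, ?_⟩
    have := Subgroup.card_mul_index N
    rw [hord, h] at this
    omega
  · have hq : Nat.card (G ⧸ N) = 4 := by rw [← h]; rfl
    obtain ⟨K, hK⟩ := Sylow.exists_subgroup_card_pow_prime (G := G ⧸ N) 2 (n := 1)
      (by rw [hq]; norm_num)
    refine ⟨K.comap (QuotientGroup.mk' N), ?_⟩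
    have hKidx : K.index = 2 := by
      have := Subgroup.card_mul_index K
      rw [hK, hq] at this
      omega
    have hcidx : (K.comap (QuotientGroup.mk' N)).index = 2 := by
      rw [Subgroup.index_comap_of_surjective K (QuotientGroup.mk'_surjective N), hKidx]
    have := Subgroup.card_mul_index (K.comap (QuotientGroup.mk' N))
    rw [hord, hcidx] at this
    omega

theorem pg7_simple_of_5_isolated (hord : Nat.card G = 7920) (h112 : Pg7Adj G 11 2)
    (h52 : ¬ Pg7Adj G 5 2) (h53 : ¬ Pg7Adj G 5 3) (h511 : ¬ Pg7Adj G 5 11) :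
    IsSimpleGroup G := by
  have : Fact (Nat.Prime 2) := ⟨by norm_num⟩
  have : Fact (Nat.Prime 3) := ⟨by norm_num⟩
  have : Fact (Nat.Prime 5) := ⟨by norm_num⟩
  have : Fact (Nat.Prime 11) := ⟨by norm_num⟩
  have hN11 := fun P : Sylow 11 G => pg7_normalizer11_of_5_isolated hord h112 h53 h511 P
  have h113 : ¬ Pg7Adj G 11 3 := by
    intro h
    obtain ⟨P, hP⟩ := pg7_exists_sylow_of_adj (p := 11) (m := 720) (by rw [hord]) (by decide)
      (by norm_num) h
    have hdvd := Subgroup.card_dvd_of_le (centralizer_le_normalizer ((P : Subgroup G) : Set G))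
    rw [hN11 P] at hdvd
    have := hP.trans hdvd
    omega
  have : Nontrivial G := by
    rw [← Finite.one_lt_card_iff_nontrivial, hord]; norm_num
  refine ⟨fun N hNn => ?_⟩
  by_cases hbot : N = ⊥
  · left; exact hbot
  by_cases htop : N = ⊤
  · right; exact htop
  exfalso
  have hNcard : Nat.card N ∣ 7920 := hord ▸ Subgroup.card_subgroup_dvd_card N
  obtain ⟨Q⟩ : Nonempty (Sylow 5 G) := inferInstance
  have hQ := pg7_sylow5_card hord Q
  by_cases h5 : 5 ∣ Nat.card N
  · rcases pg7_index_of_5_dvd hord h52 h53 h511 N h5 with h | h | h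
    · exact htop (Subgroup.index_eq_one.mp h)
    · obtain ⟨M, hM⟩ := pg7_exists_subgroup_3960 hord N (Or.inl h)
      exact pg7b_false (N := M) hM (fun h => h52 (pg7Adj_of_subgroup M h))
        (fun h => h53 (pg7Adj_of_subgroup M h)) (fun h => h511 (pg7Adj_of_subgroup M h))
        (fun h => h113 (pg7Adj_of_subgroup M h))
    · obtain ⟨M, hM⟩ := pg7_exists_subgroup_3960 hord N (Or.inr h)
      exact pg7b_false (N := M) hM (fun h => h52 (pg7Adj_of_subgroup M h))
        (fun h => h53 (pg7Adj_of_subgroup M h)) (fun h => h511 (pg7Adj_of_subgroup M h))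
        (fun h => h113 (pg7Adj_of_subgroup M h))
  · by_cases h11 : 11 ∣ Nat.card N
    · -- Q normalizes a Sylow 11-subgroup
      obtain ⟨R, hR⟩ := pg7_exists_sylow_normalized N (Q : Subgroup G) Q.2 h5 11
      obtain ⟨m, hm⟩ := h11
      have hm11 : ¬ 11 ∣ m := by
        intro h
        obtain ⟨j, rfl⟩ := h
        rw [hm] at hNcard
        have : (121 : ℕ) ∣ 7920 := Dvd.dvd.trans ⟨j, by ring⟩ hNcard
        omega
      have hRc : Nat.card R = 11 := by
        have := pg7_card_sylow_of_eq (p := 11) (k := 1) (m := m) (by rw [hm]; ring) hm11 R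
        simpa using this
      set Rm : Subgroup G := (R : Subgroup N).map N.subtype with hRm
      have hRmcard : Nat.card Rm = 11 := by
        rw [← hRc]
        exact Nat.card_congr
          ((R : Subgroup N).equivMapOfInjective N.subtype N.subtype_injective).symm.toEquiv
      obtain ⟨P⟩ : Nonempty (Sylow 11 G) := inferInstance
      have hRmS : Nat.card Rm = 11 ^ (Nat.card G).factorization 11 := by
        have := pg7_sylow11_card hord P
        rw [P.card_eq_multiplicity] at this
        rw [this, hRmcard]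
      have h176 := hN11 (Sylow.ofCard Rm hRmS)
      have hdvd : Nat.card (Q : Subgroup G) ∣ Nat.card (normalizer (Rm : Set G)) :=
        Subgroup.card_dvd_of_le hR
      have h176' : Nat.card (normalizer (Rm : Set G)) = 176 := h176
      rw [hQ, h176'] at hdvd
      omega
    · by_cases h3 : 3 ∣ Nat.card N
      · apply h53
        exact pg7_adj_of_normal_coprime (p := 5) (r := 3) (by norm_num) (Q : Subgroup G) hQ N h5 h3
          (fun k hk hdvd => pg7_not_5_dvd_pow3_sub_one hk (hdvd.trans hNcard))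
      · have h16 := pg7_arith_dvd16 _ (Nat.mem_divisors.mpr ⟨hNcard, by norm_num⟩) h3 h5 h11
        have hN1 : Nat.card N ≠ 1 := fun h => hbot (Subgroup.card_eq_one.mp h)
        have h2N : 2 ∣ Nat.card N := by
          have hle := Nat.le_of_dvd (by norm_num) h16
          generalize Nat.card N = c at *
          interval_cases c <;> first | omega | (exfalso; revert h16; decide)
        by_cases hN16 : Nat.card N = 16
        · -- commutator argument
          have hN5 := pg7_normalizer5 hord h52 h53 h511 Q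
          obtain ⟨t, ht⟩ := exists_prime_orderOf_dvd_card' 2
            (G := normalizer ((Q : Subgroup G) : Set G)) (by rw [hN5]; norm_num)
          obtain ⟨y, hy⟩ := exists_prime_orderOf_dvd_card' 5 (G := (Q : Subgroup G))
            (by rw [hQ])
          have hto : orderOf (t : G) = 2 := by rw [Subgroup.orderOf_coe]; exact ht
          have hyo : orderOf (y : G) = 5 := by rw [Subgroup.orderOf_coe]; exact hy
          have hidx : N.index = 495 := by
            have := Subgroup.card_mul_index N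
            rw [hord, hN16] at this
            omega
          have htN : (t : G) ∈ N := by
            rw [← QuotientGroup.eq_one_iff]
            have h1 : orderOf ((t : G) : G ⧸ N) ∣ 2 := by
              rw [← hto]; exact orderOf_map_dvd (QuotientGroup.mk' N) (t : G)
            have h2 : orderOf ((t : G) : G ⧸ N) ∣ 495 := by
              rw [← hidx]; exact orderOf_dvd_natCard _
            have := Nat.dvd_gcd h1 h2
            rw [show Nat.gcd 2 495 = 1 by norm_num, Nat.dvd_one] at this
            exact orderOf_eq_one_iff.mp this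
          have hcQ : (t : G) * (y : G) * (t : G)⁻¹ * (y : G)⁻¹ ∈ (Q : Subgroup G) := by
            have := (mem_normalizer_iff.mp t.2 (y : G)).mp y.2
            exact mul_mem this (inv_mem y.2)
          have hcN : (t : G) * (y : G) * (t : G)⁻¹ * (y : G)⁻¹ ∈ N := by
            have h1 : (y : G) * (t : G)⁻¹ * (y : G)⁻¹ ∈ N := hNn.conj_mem _ (inv_mem htN) _
            have h2 : (t : G) * (y : G) * (t : G)⁻¹ * (y : G)⁻¹ =
                (t : G) * ((y : G) * (t : G)⁻¹ * (y : G)⁻¹) := by group
            rw [h2]; exact mul_mem htN h1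
          have hc1 : (t : G) * (y : G) * (t : G)⁻¹ * (y : G)⁻¹ = 1 := by
            have h1 : orderOf ((t : G) * (y : G) * (t : G)⁻¹ * (y : G)⁻¹) ∣ 5 := by
              have := orderOf_dvd_natCard (⟨_, hcQ⟩ : (Q : Subgroup G))
              rwa [hQ, Subgroup.orderOf_mk] at this
            have h2 : orderOf ((t : G) * (y : G) * (t : G)⁻¹ * (y : G)⁻¹) ∣ 16 := by
              have := orderOf_dvd_natCard (⟨_, hcN⟩ : N)
              rwa [hN16, Subgroup.orderOf_mk] at this
            have := Nat.dvd_gcd h1 h2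
            rw [show Nat.gcd 5 16 = 1 by norm_num, Nat.dvd_one] at this
            exact orderOf_eq_one_iff.mp this
          have hcomm : Commute (t : G) (y : G) := by
            show (t : G) * (y : G) = (y : G) * (t : G)
            calc (t : G) * (y : G) = ((t : G) * (y : G) * (t : G)⁻¹ * (y : G)⁻¹) * (y : G) * (t : G) := by
                  group
              _ = (y : G) * (t : G) := by rw [hc1, one_mul]
          exact h52 (pg7Adj_comm.mp (pg7Adj_of_commute hcomm hto hyo (by norm_num)))
        · apply h52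
          refine pg7_adj_of_normal_coprime (p := 5) (r := 2) (by norm_num) (Q : Subgroup G) hQ N h5
            h2N (fun k hk hdvd => pg7_not_5_dvd_pow2_sub_one hk (hdvd.trans hNcard) ?_)
          intro h16k
          exact hN16 (Nat.dvd_antisymm h16 (h16k.trans hdvd))

end

end Cfsg.Agent.Lib.Helper41
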