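import Mathlib
import Cfsg.Agent.Lib.Helper41.SubfieldPSL
import Cfsg.Agent.Lib.Helper42.PPrimeMain

set_option autoImplicit false

/-!
# Dickson's theorem for `p'`-subgroups of `PGL₂(q)`, via `PGL₂(q) ≤ PSL₂(q²)` (helper41)
-/

namespace Cfsg.Agent.Lib.Helper41

open Cfsg.Agent.Lib.Helper42

/-- a `p'`-subgroup of `PGL₂(q)`, `q` odd, is cyclic, dihedral, `A₄`, `S₄` or `A₅` -/
theorem pgl_pprime_types {F : Type*} [Field F] [Fintype F] (p : ℕ) [Fact p.Prime] [CharP F p]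
    (hodd : Odd (Fintype.card F)) (M : Subgroup (Matrix.ProjGenLinGroup (Fin 2) F))
    (hp : ¬ p ∣ Nat.card M) :
    (∃ k : ℕ, (IsCyclic M ∧ Nat.card M = k) ∨ Nonempty (M ≃* DihedralGroup k)) ∨
      Nonempty (M ≃* alternatingGroup (Fin 4)) ∨ Nonempty (M ≃* Equiv.Perm (Fin 4)) ∨
      Nonempty (M ≃* alternatingGroup (Fin 5)) := by
  obtain ⟨n, hpp, hn⟩ := FiniteField.card F p
  have hn0 : 2 * (n : ℕ) ≠ 0 := by
    have := n.pos
    omega
  let E := GaloisField p (2 * (n : ℕ))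
  have : Fintype E := Fintype.ofFinite _
  have hcardE : Fintype.card E = Fintype.card F ^ 2 := by
    rw [← Nat.card_eq_fintype_card, GaloisField.card p _ hn0, hn, ← pow_mul, mul_comm]
  obtain ⟨φ⟩ := exists_ringHom_of_card_pow (K := F) (F := E) 2 (by norm_num) hcardE.symm
  have hoddE : Odd (Fintype.card E) := by rw [hcardE]; exact hodd.pow
  have hsq : ∀ x : F, ∃ d : E, d ^ 2 = φ x :=
    exists_sq_of_even_degree φ 2 even_two hoddE hcardE.symm
  obtain ⟨H, ⟨e⟩⟩ := exists_subgroup_pgl_of_ringHom φ hsq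
  set M' : Subgroup (Matrix.ProjectiveSpecialLinearGroup (Fin 2) E) :=
    (M.map e.symm.toMonoidHom).map H.subtype with hM'
  have f : M ≃* M' :=
    (M.equivMapOfInjective _ e.symm.injective).trans
      ((M.map e.symm.toMonoidHom).equivMapOfInjective _ H.subtype_injective)
  have hp' : ¬ p ∣ Nat.card M' := by rw [← Nat.card_congr f.toEquiv]; exact hp
  rcases pprime_dickson (F := E) p (H := M') hp' with ⟨k, -, h | ⟨⟨g⟩⟩⟩ | ⟨⟨g⟩⟩ | ⟨⟨g⟩⟩ | ⟨⟨g⟩⟩
  · left
    refine ⟨k, Or.inl ⟨?_, ?_⟩⟩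
    · have := h.1
      exact isCyclic_of_surjective f.symm f.symm.surjective
    · rw [Nat.card_congr f.toEquiv]; exact h.2
  · left; exact ⟨k, Or.inr ⟨f.trans g⟩⟩
  · right; left; exact ⟨f.trans g⟩
  · right; right; left; exact ⟨f.trans g⟩
  · right; right; right; exact ⟨f.trans g⟩

end Cfsg.Agent.Lib.Helper41
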