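import Mathlib
import Cfsg.Agent.Lib.Helper41.DicksonMax

set_option autoImplicit false

/-!
# The image `L` of `SL₂(F)` in `PGL₂(F)` (helper41)
-/

namespace Cfsg.Agent.Lib.Helper41

variable {F : Type*} [Field F]

/-- the image of `SL₂(F)` in `PGL₂(F)` -/
def pglL (F : Type*) [Field F] : Subgroup (Matrix.ProjGenLinGroup (Fin 2) F) :=
  (Matrix.ProjGenLinGroup.mk.comp Matrix.SpecialLinearGroup.toGL).range

theorem pglL_eq_range_toPGL :
    pglL F = (Matrix.ProjectiveSpecialLinearGroup.toPGL (n := Fin 2) (R := F)).range := by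
  ext x
  constructor
  · rintro ⟨s, rfl⟩
    exact ⟨QuotientGroup.mk s, rfl⟩
  · rintro ⟨s, rfl⟩
    induction s using QuotientGroup.induction_on with
    | H s => exact ⟨s, rfl⟩

/-- `PSL₂(F) ≃* L` -/
noncomputable def pglLEquiv :
    Matrix.ProjectiveSpecialLinearGroup (Fin 2) F ≃* pglL F :=
  (MonoidHom.ofInjective Matrix.ProjectiveSpecialLinearGroup.toPGL_injective).trans
    (MulEquiv.subgroupCongr pglL_eq_range_toPGL.symm)

theorem mk_mem_pglL_iff (g : GL (Fin 2) F) :
    Matrix.ProjGenLinGroup.mk g ∈ pglL F ↔ IsSquare (Matrix.GeneralLinearGroup.det g) := by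
  constructor
  · rintro ⟨s, hs⟩
    rw [MonoidHom.comp_apply, Matrix.ProjGenLinGroup.mk_eq_mk_iff] at hs
    obtain ⟨u, hu⟩ := hs
    refine ⟨u, ?_⟩
    rw [← hu, map_mul]
    have h1 : Matrix.GeneralLinearGroup.det (Matrix.SpecialLinearGroup.toGL s) = 1 := by
      ext; simp
    rw [h1, one_mul]
    ext
    simp [Matrix.GeneralLinearGroup.scalar, pow_two]
  · rintro ⟨u, hu⟩
    have hdet : ((u⁻¹ : Fˣ) : F) ^ 2 * (g : Matrix (Fin 2) (Fin 2) F).det = 1 := by
      have h1 : (g : Matrix (Fin 2) (Fin 2) F).det = (u : F) * u := by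
        have := congrArg Units.val hu
        simpa using this
      rw [h1]
      have : ((u⁻¹ : Fˣ) : F) * u = 1 := by rw [← Units.val_mul]; simp
      linear_combination (((u⁻¹ : Fˣ) : F) * u + 1) * this
    have hdet' : (((u⁻¹ : Fˣ) : F) • (g : Matrix (Fin 2) (Fin 2) F)).det = 1 := by
      rw [Matrix.det_smul]; simpa using hdet
    obtain ⟨s, hs⟩ : ∃ s : Matrix.SpecialLinearGroup (Fin 2) F,
        (s : Matrix (Fin 2) (Fin 2) F) = ((u⁻¹ : Fˣ) : F) • (g : Matrix (Fin 2) (Fin 2) F) :=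
      ⟨⟨_, hdet'⟩, rfl⟩
    refine ⟨s, ?_⟩
    show Matrix.ProjGenLinGroup.mk (Matrix.SpecialLinearGroup.toGL s) = _
    rw [Matrix.ProjGenLinGroup.mk_eq_mk_iff]
    refine ⟨u, Units.ext ?_⟩
    ext i j
    simp [Matrix.GeneralLinearGroup.scalar, Matrix.mul_apply, Matrix.smul_apply, hs]
    have hu0 : (u : F) ≠ 0 := u.ne_zero
    fin_cases j
    · simp [Matrix.diagonal]; field_simp
    · simp [Matrix.diagonal]; field_simp

instance pglL_normal : (pglL F).Normal := by
  constructor
  intro n hn g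
  induction g using Matrix.ProjGenLinGroup.induction_on with
  | mk g =>
    induction n using Matrix.ProjGenLinGroup.induction_on with
    | mk n =>
      rw [mk_mem_pglL_iff] at hn
      rw [← map_inv, ← map_mul, ← map_mul, mk_mem_pglL_iff]
      rw [map_mul, map_mul, map_inv, mul_comm, ← mul_assoc, inv_mul_cancel, one_mul]
      exact hn

theorem sq_mem_pglL (x : Matrix.ProjGenLinGroup (Fin 2) F) : x * x ∈ pglL F := by
  induction x using Matrix.ProjGenLinGroup.induction_on with
  | mk g =>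
    rw [← map_mul, mk_mem_pglL_iff, map_mul]
    exact ⟨_, rfl⟩

instance finite_PGL2 [Finite F] : Finite (Matrix.ProjGenLinGroup (Fin 2) F) := by
  unfold Matrix.ProjGenLinGroup
  infer_instance

theorem card_pglL : Nat.card (pglL F) = Nat.card (Matrix.ProjectiveSpecialLinearGroup (Fin 2) F) :=
  (Nat.card_congr pglLEquiv.toEquiv).symm

theorem index_pglL_of_odd [Fintype F] (hodd : Odd (Fintype.card F)) : (pglL F).index = 2 := by
  have h1 := card_PGL2 (K := F)
  have h2 := card_PSL2_mul_gcd (K := F)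
  have hg : Nat.gcd 2 (Fintype.card F - 1) = 2 := by
    obtain ⟨k, hk⟩ := hodd
    rw [hk]
    simp
  rw [hg, ← card_pglL, ← h1] at h2
  have h3 := (pglL F).index_mul_card
  have hpos : 0 < Nat.card (pglL F) := Nat.card_pos
  have : (pglL F).index * Nat.card (pglL F) = 2 * Nat.card (pglL F) := by
    rw [h3, ← h2]; ring
  exact Nat.eq_of_mul_eq_mul_right hpos this

theorem pglL_eq_top_of_even [Fintype F] (heven : Even (Fintype.card F)) : pglL F = ⊤ := by
  rw [pglL_eq_range_toPGL, MonoidHom.range_eq_top]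
  apply Matrix.ProjectiveSpecialLinearGroup.toPGL_surj_of_roots
  intro r
  have h2 : ringChar F = 2 := by
    obtain ⟨p, hp⟩ := CharP.exists F
    have := hp
    have : Fact p.Prime := ⟨CharP.char_is_prime F p⟩
    obtain ⟨n, hn1, hn2⟩ := FiniteField.card F p
    have : p = 2 := by
      rw [hn2] at heven
      have h3 : Even p := (Nat.even_pow.mp heven).1
      exact ((Nat.Prime.even_iff hn1).mp h3)
    rw [ringChar.eq F p, this]
  obtain ⟨y, hy⟩ := FiniteField.isSquare_of_char_two h2 (r : F)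
  have hy0 : y ≠ 0 := by
    rintro rfl
    rw [mul_zero] at hy
    exact r.ne_zero hy
  refine ⟨Units.mk0 y hy0, Units.ext ?_⟩
  simp only [Fintype.card_fin, Units.val_pow_eq_pow_val, Units.val_mk0]
  rw [hy, pow_two]

end Cfsg.Agent.Lib.Helper41
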