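import Mathlib
import Cfsg.Agent.Lib.Helper41.PGLSpecial
import Cfsg.Agent.Lib.Helper41.MaxTorus

set_option autoImplicit false

/-!
# Maximal subgroups of `PGL₂(q)`: generic set-up (helper41)
-/

namespace Cfsg.Agent.Lib.Helper41

/-- `L = PSL₂(F)` inside `PGL₂(F)` is simple for `|F| ≥ 4` -/
theorem isSimpleGroup_pglL {F : Type*} [Field F] [Fintype F] (h4 : 4 ≤ Fintype.card F) :
    IsSimpleGroup (pglL F) := by
  have : IsSimpleGroup (Matrix.ProjectiveSpecialLinearGroup (Fin 2) F) :=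
    Matrix.ProjectiveSpecialLinearGroup.rank_two_simple (by
      rw [Nat.card_eq_fintype_card]; exact h4)
  exact (pglLEquiv (F := F)).symm.isSimpleGroup

/-- a nontrivial proper subgroup of a simple subgroup `L` is not normal in the whole group -/
theorem not_normal_of_le_simple {G : Type*} [Group G] (L : Subgroup G) (hL : IsSimpleGroup L)
    (X : Subgroup G) (hXL : X ≤ L) (hX1 : X ≠ ⊥) (hXne : X ≠ L) : ¬ X.Normal := by
  intro hn
  have h1 : (X.subgroupOf L).Normal := hn.subgroupOf L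
  rcases h1.eq_bot_or_eq_top with h | h
  · apply hX1
    rw [Subgroup.subgroupOf_eq_bot] at h
    rw [eq_bot_iff]
    intro x hx
    have : x ∈ X ⊓ L := ⟨hx, hXL hx⟩
    rw [h.eq_bot] at this
    exact this
  · apply hXne
    rw [Subgroup.subgroupOf_eq_top] at h
    exact le_antisymm hXL h

/-- a maximal subgroup normalising a nontrivial proper subgroup `X` of the simple subgroup `L`
is the full normaliser of `X` -/
theorem normalizer_eq_of_coatom_of_le {G : Type*} [Group G] (L : Subgroup G)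
    (hL : IsSimpleGroup L) (M X : Subgroup G) (hM : IsCoatom M) (hXL : X ≤ L) (hX1 : X ≠ ⊥)
    (hXne : X ≠ L) (hMN : M ≤ Subgroup.normalizer (X : Set G)) :
    Subgroup.normalizer (X : Set G) = M := by
  rcases hM.le_iff.mp hMN with h | h
  · exfalso
    exact not_normal_of_le_simple L hL X hXL hX1 hXne (Subgroup.normalizer_eq_top_iff.mp h)
  · exact h

/-- **Sylow trick.** a maximal subgroup `M` normalising `⟨x⟩`, `x` of prime order `r`, `⟨x⟩` not
normal, contains a conjugate of every group `D` acting by `±1` on a subgroup `T` of index prime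
to `r` -/
theorem exists_conj_le_of_prime_elem {G : Type*} [Group G] [Finite G]
    (M : Subgroup G) (hM : IsCoatom M) (T D : Subgroup G)
    (hD : ∀ d ∈ D, ∀ y ∈ T, d * y * d⁻¹ = y ∨ d * y * d⁻¹ = y⁻¹)
    (r : ℕ) [Fact r.Prime] (hr : ¬ r ∣ T.index) (x : G)
    (hxr : x ^ r = 1) (hnorm : ∀ m ∈ M, m * x * m⁻¹ ∈ Subgroup.zpowers x)
    (hnn : ¬ (Subgroup.zpowers x).Normal) :
    ∃ g : G, D.map (MulAut.conj g).toMonoidHom ≤ M := by
  obtain ⟨g, hg⟩ := exists_conj_mem_of_not_dvd_index T r hr x 1 (by rw [pow_one]; exact hxr)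
  set N : Subgroup G := Subgroup.normalizer ((Subgroup.zpowers x : Subgroup G) : Set G) with hN
  have hmemN : ∀ m : G, m * x * m⁻¹ ∈ Subgroup.zpowers x → m⁻¹ * x * m ∈ Subgroup.zpowers x →
      m ∈ N := by
    intro m h1 h2
    rw [hN, Subgroup.mem_normalizer_iff]
    intro y
    constructor
    · intro hy
      obtain ⟨i, rfl⟩ := Subgroup.mem_zpowers_iff.mp hy
      have : m * x ^ i * m⁻¹ = (m * x * m⁻¹) ^ i := by
        rw [← MulAut.conj_apply, map_zpow, MulAut.conj_apply]
      rw [this]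
      exact Subgroup.zpow_mem _ h1 i
    · intro hy
      obtain ⟨i, hi⟩ := Subgroup.mem_zpowers_iff.mp hy
      have e : y = m⁻¹ * (m * y * m⁻¹) * m := by group
      rw [e, ← hi]
      have : m⁻¹ * x ^ i * m = (m⁻¹ * x * m) ^ i := by
        have h3 := map_zpow (MulAut.conj m⁻¹) x i
        rw [MulAut.conj_apply, MulAut.conj_apply, inv_inv] at h3
        exact h3
      rw [this]
      exact Subgroup.zpow_mem _ h2 i
  have hMN : M ≤ N := by
    intro m hm
    apply hmemN m (hnorm m hm)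
    have := hnorm m⁻¹ (M.inv_mem hm)
    rwa [inv_inv] at this
  refine ⟨g⁻¹, ?_⟩
  have hD'N : D.map (MulAut.conj g⁻¹).toMonoidHom ≤ N := by
    rintro _ ⟨d, hd, rfl⟩
    have hconj : ∀ d ∈ D, (g⁻¹ * d * g) * x * (g⁻¹ * d * g)⁻¹ ∈ Subgroup.zpowers x := by
      intro d hd
      have e : (g⁻¹ * d * g) * x * (g⁻¹ * d * g)⁻¹ = g⁻¹ * (d * (g * x * g⁻¹) * d⁻¹) * g := by group
      rw [e]
      rcases hD d hd _ hg with h | h
      · rw [h]
        have : g⁻¹ * (g * x * g⁻¹) * g = x := by group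
        rw [this]; exact Subgroup.mem_zpowers x
      · rw [h]
        have : g⁻¹ * (g * x * g⁻¹)⁻¹ * g = x⁻¹ := by group
        rw [this]; exact Subgroup.inv_mem _ (Subgroup.mem_zpowers x)
    have e1 : (MulAut.conj g⁻¹).toMonoidHom d = g⁻¹ * d * g := by
      show g⁻¹ * d * g⁻¹⁻¹ = _
      rw [inv_inv]
    rw [e1]
    apply hmemN _ (hconj d hd)
    have := hconj d⁻¹ (D.inv_mem hd)
    have e2 : (g⁻¹ * d⁻¹ * g) = (g⁻¹ * d * g)⁻¹ := by group
    rw [e2, inv_inv] at this
    exact this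
  have hNtop : N ≠ ⊤ := by
    intro htop
    exact hnn (Subgroup.normalizer_eq_top_iff.mp htop)
  have hNM : N = M := by
    rcases hM.le_iff.mp hMN with h | h
    · exact absurd h hNtop
    · exact h
  exact hNM ▸ hD'N

end Cfsg.Agent.Lib.Helper41
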