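import Mathlib
import Cfsg.Agent.Lib.Helper14.PGL2Order

set_option autoImplicit false

/-!
# Element orders in `PGL₂(q)` (helper41)
-/

namespace Cfsg.Agent.Lib.Helper41

open Cfsg.Agent.Lib.Helper14

variable {K : Type*} [Field K] [Fintype K]

theorem mat2_pow_scalar_cases (p : ℕ) [Fact p.Prime] [CharP K p]
    (A : Matrix (Fin 2) (Fin 2) K) (hdet : A.det ≠ 0) :
    (∃ s : K, A ^ p = s • (1 : Matrix (Fin 2) (Fin 2) K)) ∨
    (∃ s : K, A ^ (Fintype.card K - 1) = s • (1 : Matrix (Fin 2) (Fin 2) K)) ∨
    (∃ s : K, A ^ (Fintype.card K + 1) = s • (1 : Matrix (Fin 2) (Fin 2) K)) := by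
  by_cases hroot : ∃ l : K, l ^ 2 = -A.det + A.trace * l
  · obtain ⟨l, hl⟩ := hroot
    set m : K := A.trace - l with hm
    have hsum : l + m = A.trace := by rw [hm]; ring
    have hprod : l * m = A.det := by rw [hm]; linear_combination -hl
    by_cases hlm : l = m
    · left
      rw [← hlm] at hsum hprod
      exact ⟨l ^ p, mat2_pow_of_double_root p A l hsum hprod⟩
    · right; left
      refine ⟨1, ?_⟩
      rw [one_smul]
      exact mat2_pow_of_two_roots A hdet l m hlm hsum hprod
  · right; right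
    push Not at hroot
    have : Fact (∀ r : K, r ^ 2 ≠ -A.det + A.trace * r) := ⟨hroot⟩
    have h1 : (QuadraticAlgebra.omega : QuadraticAlgebra K (-A.det) A.trace) ^ (Fintype.card K + 1)
        = algebraMap K _ (QuadraticAlgebra.norm
          (QuadraticAlgebra.omega : QuadraticAlgebra K (-A.det) A.trace)) := by
      rw [← Cfsg.Agent.Lib.Helper41.algebra_norm_eq, FiniteField.algebraMap_norm_eq_pow,
        Cfsg.Agent.Lib.Helper41.card_sub_one_div]
    let φ : QuadraticAlgebra K (-A.det) A.trace →ₐ[K] Matrix (Fin 2) (Fin 2) K :=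
      QuadraticAlgebra.lift ⟨A, mat2_mul_self A⟩
    have hφ : φ QuadraticAlgebra.omega = A := by
      show (QuadraticAlgebra.omega : QuadraticAlgebra K (-A.det) A.trace).re •
          (1 : Matrix (Fin 2) (Fin 2) K) +
        (QuadraticAlgebra.omega : QuadraticAlgebra K (-A.det) A.trace).im • A = A
      simp
    refine ⟨QuadraticAlgebra.norm
          (QuadraticAlgebra.omega : QuadraticAlgebra K (-A.det) A.trace), ?_⟩
    have h2 := congrArg φ h1
    rw [map_pow, hφ, AlgHom.commutes, Algebra.algebraMap_eq_smul_one] at h2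
    exact h2

/-- an element of `PGL₂(q)` satisfies `x ^ p = 1`, `x ^ (q - 1) = 1` or `x ^ (q + 1) = 1` -/
theorem pgl2_pow_cases (p : ℕ) [Fact p.Prime] [CharP K p]
    (x : Matrix.ProjGenLinGroup (Fin 2) K) :
    x ^ p = 1 ∨ x ^ (Fintype.card K - 1) = 1 ∨ x ^ (Fintype.card K + 1) = 1 := by
  induction x using Matrix.ProjGenLinGroup.induction_on with | mk g =>
  have hdet : (g : Matrix (Fin 2) (Fin 2) K).det ≠ 0 := by
    have := (Matrix.GeneralLinearGroup.det g).ne_zero
    simpa using this
  have key : ∀ k : ℕ, (∃ s : K, (g : Matrix (Fin 2) (Fin 2) K) ^ k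
      = s • (1 : Matrix (Fin 2) (Fin 2) K)) → (Matrix.ProjGenLinGroup.mk g) ^ k = 1 := by
    rintro k ⟨s, hks⟩
    have hs : s ≠ 0 := by
      rintro rfl
      rw [zero_smul] at hks
      have := congrArg Matrix.det hks
      rw [Matrix.det_pow, Matrix.det_zero] at this
      exact pow_ne_zero k hdet this
    have hg : g ^ k = Matrix.GeneralLinearGroup.scalar (Fin 2) (Units.mk0 s hs) := by
      apply Units.ext
      rw [Units.val_pow_eq_pow_val, hks, Matrix.GeneralLinearGroup.coe_scalar]
      ext i j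
      simp [Matrix.smul_apply, Matrix.one_apply, Matrix.scalar_apply, Matrix.diagonal_apply]
    rw [← map_pow, hg, Matrix.ProjGenLinGroup.mk_scalar]
  rcases mat2_pow_scalar_cases p (g : Matrix (Fin 2) (Fin 2) K) hdet with h | h | h
  · left; exact key _ h
  · right; left; exact key _ h
  · right; right; exact key _ h

end Cfsg.Agent.Lib.Helper41
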