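import Mathlib
import Cfsg.Agent.Lib.Helper41.PGLMaxSetup
import Cfsg.Agent.Lib.Helper41.PGLOrders

set_option autoImplicit false

/-!
# Maximal subgroups of `PGL₂(q)`: the cyclic / dihedral case (helper41)
-/

namespace Cfsg.Agent.Lib.Helper41

open Cfsg.Agent.Lib.Helper14

/-- a maximal subgroup not containing a normal subgroup `L` of index two meets `L` in a subgroup
of index two -/
theorem card_eq_two_mul_card_inf {G : Type*} [Group G] [Finite G] (L : Subgroup G) [L.Normal]
    (hL : L.index = 2) (M : Subgroup G) (hM : IsCoatom M) (hML : ¬ L ≤ M) :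
    Nat.card M = 2 * Nat.card (M ⊓ L : Subgroup G) := by
  have hsup : M ⊔ L = ⊤ := by
    apply hM.2 (M ⊔ L)
    apply lt_of_le_of_ne le_sup_left
    intro h
    apply hML
    rw [h]; exact le_sup_right
  have hrel : (M ⊓ L).relIndex M = 2 := by
    rw [Subgroup.inf_relIndex_left, ← Subgroup.relIndex_sup_right M L, hsup,
      Subgroup.relIndex_top_right, hL]
  have h1 := Subgroup.card_mul_index ((M ⊓ L).subgroupOf M)
  have h2 : ((M ⊓ L).subgroupOf M).index = 2 := hrel
  have h3 : Nat.card ((M ⊓ L).subgroupOf M) = Nat.card (M ⊓ L : Subgroup G) :=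
    Nat.card_congr (Subgroup.subgroupOfEquivOfLe inf_le_left).toEquiv
  rw [h2, h3] at h1
  omega

theorem map_conj_pm {G H : Type*} [Group G] [Group H] (f : G →* H) (T D : Subgroup G)
    (hD : ∀ d ∈ D, ∀ y ∈ T, d * y * d⁻¹ = y ∨ d * y * d⁻¹ = y⁻¹) :
    ∀ d ∈ D.map f, ∀ y ∈ T.map f, d * y * d⁻¹ = y ∨ d * y * d⁻¹ = y⁻¹ := by
  rintro _ ⟨d, hd, rfl⟩ _ ⟨y, hy, rfl⟩
  rcases hD d hd y hy with h | h
  · left; rw [← map_inv, ← map_mul, ← map_mul, h]
  · right; rw [← map_inv, ← map_mul, ← map_mul, h, map_inv]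

/-- the cyclic / dihedral case, generic core -/
theorem pgl_dihedral_core {G : Type*} [Group G] [Finite G] (L : Subgroup G) [L.Normal]
    (hLs : IsSimpleGroup L) (M : Subgroup G) (hM : IsCoatom M) (hML : ¬ L ≤ M)
    (hcard : Nat.card M = 2 * Nat.card (M ⊓ L : Subgroup G))
    (hsq : ∀ x : G, x * x ∈ L)
    (T D : Subgroup G) (hD : ∀ d ∈ D, ∀ y ∈ T, d * y * d⁻¹ = y ∨ d * y * d⁻¹ = y⁻¹)
    (hDL : D ≤ L) (c : ℕ) (hDc : Nat.card D = c)
    (r : ℕ) (hr : r.Prime) (hr2 : r ≠ 2) (hrT : ¬ r ∣ T.index)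
    (n : ℕ) (hnc : n ∣ c) (hc0 : 0 < c)
    (h : (IsCyclic M ∧ Nat.card M = n) ∨ Nonempty (M ≃* DihedralGroup n)) (hrn : r ∣ n) :
    n = c ∧ Nonempty (M ≃* DihedralGroup n) := by
  classical
  have : Fact r.Prime := ⟨hr⟩
  have hn0 : n ≠ 0 := by
    rintro rfl
    rw [zero_dvd_iff] at hnc
    omega
  have hnle : n ≤ c := Nat.le_of_dvd hc0 hnc
  obtain ⟨x, hx1, hxr, hxn⟩ : ∃ x : M, x ≠ 1 ∧ x ^ r = 1 ∧
      ∀ m : M, m * x * m⁻¹ = x ∨ m * x * m⁻¹ = x⁻¹ := by
    rcases h with ⟨hcyc, hcard⟩ | ⟨⟨e⟩⟩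
    · have hrM : r ∣ Nat.card M := by rw [hcard]; exact hrn
      obtain ⟨x, hx⟩ := exists_prime_orderOf_dvd_card' r hrM
      refine ⟨x, ?_, ?_, ?_⟩
      · rintro rfl
        rw [orderOf_one] at hx
        exact hr.one_lt.ne hx
      · rw [← hx]; exact pow_orderOf_eq_one x
      · intro m
        left
        obtain ⟨g, hg⟩ := IsCyclic.exists_generator (α := M)
        obtain ⟨i, rfl⟩ := Subgroup.mem_zpowers_iff.mp (hg m)
        obtain ⟨j, rfl⟩ := Subgroup.mem_zpowers_iff.mp (hg x)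
        rw [(Commute.zpow_zpow_self g i j).eq, mul_inv_cancel_right]
    · obtain ⟨y, hy1, hyr, hyn⟩ := dihedral_exists_normal_prime hr hrn hn0
      refine ⟨e.symm y, ?_, ?_, ?_⟩
      · intro h1
        apply hy1
        have := congrArg e h1
        rwa [e.apply_symm_apply, map_one] at this
      · rw [← map_pow, hyr, map_one]
      · intro m
        rcases hyn (e m) with h1 | h1
        · left
          apply e.injective
          rw [map_mul, map_mul, map_inv, e.apply_symm_apply, h1]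
        · right
          apply e.injective
          rw [map_mul, map_mul, map_inv, map_inv, e.apply_symm_apply, h1]
  have hxr' : (x : G) ^ r = 1 := by
    have := congrArg Subtype.val hxr
    simpa using this
  have hx1' : (x : G) ≠ 1 := fun h1 => hx1 (Subtype.ext h1)
  -- `x` lies in `L`
  have hxL : (x : G) ∈ L := by
    obtain ⟨k, hk⟩ := hr.eq_two_or_odd'.resolve_left hr2
    have e : (x : G) = (x : G) ^ (k + 1) * (x : G) ^ (k + 1) := by
      rw [← pow_add]
      have : k + 1 + (k + 1) = r + 1 := by omega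
      rw [this, pow_succ, hxr', one_mul]
    rw [e]; exact hsq _
  have hnorm : ∀ m ∈ M, m * (x : G) * m⁻¹ ∈ Subgroup.zpowers (x : G) := by
    intro m hm
    rcases hxn ⟨m, hm⟩ with h1 | h1
    · have h2 := congrArg Subtype.val h1
      simp only [Subgroup.coe_mul, Subgroup.coe_inv] at h2
      rw [h2]; exact Subgroup.mem_zpowers _
    · have h2 := congrArg Subtype.val h1
      simp only [Subgroup.coe_mul, Subgroup.coe_inv] at h2
      rw [h2]; exact Subgroup.inv_mem _ (Subgroup.mem_zpowers _)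
  have hnn : ¬ (Subgroup.zpowers (x : G)).Normal := by
    apply not_normal_of_le_simple L hLs _ (Subgroup.zpowers_le.mpr hxL)
    · intro h1
      apply hx1'
      have := Subgroup.mem_zpowers (x : G)
      rw [h1, Subgroup.mem_bot] at this
      exact this
    · intro h1
      apply hML
      rw [← h1, Subgroup.zpowers_le]
      exact x.2
  obtain ⟨g, hg⟩ := exists_conj_le_of_prime_elem M hM T D hD r hrT (x : G) hxr' hnorm hnn
  have hgL : D.map (MulAut.conj g).toMonoidHom ≤ L := by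
    rintro _ ⟨d, hd, rfl⟩
    exact ‹L.Normal›.conj_mem d (hDL hd) g
  have hle : D.map (MulAut.conj g).toMonoidHom ≤ M ⊓ L := le_inf hg hgL
  have hcle : c ≤ Nat.card (M ⊓ L : Subgroup G) := by
    rw [← hDc, Nat.card_congr (D.equivMapOfInjective (MulAut.conj g).toMonoidHom
      (MulAut.conj g).injective).toEquiv]
    exact Subgroup.card_le_of_le hle
  rcases h with ⟨-, hc⟩ | ⟨⟨e⟩⟩
  · exfalso
    omega
  · have : Nat.card M = 2 * n := by rw [Nat.card_congr e.toEquiv, DihedralGroup.nat_card]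
    exact ⟨by omega, ⟨e⟩⟩

variable {F : Type*} [Field F]

local notation "PGL2" => Matrix.ProjGenLinGroup (Fin 2) F
local notation "PSL2" => Matrix.ProjectiveSpecialLinearGroup (Fin 2) F
local notation "toP" => (Matrix.ProjectiveSpecialLinearGroup.toPGL (n := Fin 2) (R := F))

theorem map_toPGL_le_pglL (X : Subgroup PSL2) : X.map toP ≤ pglL F := by
  rw [pglL_eq_range_toPGL]
  rintro _ ⟨x, -, rfl⟩
  exact ⟨x, rfl⟩

theorem card_map_toPGL (X : Subgroup PSL2) : Nat.card (X.map toP) = Nat.card X :=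
  (Nat.card_congr (X.equivMapOfInjective _
    Matrix.ProjectiveSpecialLinearGroup.toPGL_injective).toEquiv).symm

theorem sq_sub_one_eq (q : ℕ) (hq : 1 ≤ q) : q ^ 2 - 1 = (q - 1) * (q + 1) := by
  obtain ⟨a, ha⟩ : ∃ a, q = a + 1 := ⟨q - 1, by omega⟩
  rw [ha]
  simp only [Nat.add_sub_cancel]
  have : (a + 1) ^ 2 = a * (a + 1 + 1) + 1 := by ring
  rw [this, Nat.add_sub_cancel]

/-- index in `PGL₂(q)` of the image of a subgroup of `PSL₂(q)` of order `c / 2` -/
theorem index_map_toPGL [Fintype F] (X : Subgroup PSL2) (c : ℕ) (hc : 2 * Nat.card X = c) :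
    (X.map toP).index * c = 2 * (Fintype.card F * (Fintype.card F ^ 2 - 1)) := by
  have h1 := Subgroup.index_mul_card (X.map toP)
  rw [card_map_toPGL, card_PGL2] at h1
  rw [← h1, ← hc]; ring

/-- **The cyclic / dihedral case** when the order is divisible by an odd prime. -/
theorem pgl_dihedral_of_odd_prime [Fintype F] (p : ℕ) [Fact p.Prime] [CharP F p]
    (hodd : Odd (Fintype.card F)) (h5 : 5 ≤ Fintype.card F)
    (M : Subgroup PGL2) (hM : IsCoatom M) (hML : ¬ pglL F ≤ M) (hp : ¬ p ∣ Nat.card M)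
    (n : ℕ) (h : (IsCyclic M ∧ Nat.card M = n) ∨ Nonempty (M ≃* DihedralGroup n))
    (r : ℕ) (hr : r.Prime) (hr2 : r ≠ 2) (hrn : r ∣ n) :
    ((n = Fintype.card F - 1 ∧ Fintype.card F ≠ 5) ∨ n = Fintype.card F + 1) ∧
      Nonempty (M ≃* DihedralGroup n) := by
  classical
  have hpp := (Fact.out : p.Prime)
  set q := Fintype.card F with hq
  have hLs : IsSimpleGroup (pglL F) := isSimpleGroup_pglL (by omega)
  have hcard := card_eq_two_mul_card_inf (pglL F) (index_pglL_of_odd hodd) M hM hML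
  have hG : Nat.card PGL2 = q * (q ^ 2 - 1) := card_PGL2
  have hq21 := sq_sub_one_eq q (by omega)
  have hMpos : 0 < Nat.card M := Nat.card_pos
  have hrM : r ∣ Nat.card M := by
    rcases h with ⟨-, hc⟩ | ⟨⟨e⟩⟩
    · rw [hc]; exact hrn
    · rw [Nat.card_congr e.toEquiv, DihedralGroup.nat_card]; exact Dvd.dvd.mul_left hrn 2
  have hrp : r ≠ p := by
    rintro rfl
    exact hp hrM
  have hrodd : ¬ r ∣ 2 := by
    intro h2
    exact hr2 ((Nat.prime_dvd_prime_iff_eq hr Nat.prime_two).mp h2)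
  have hrq : ¬ r ∣ q := by
    intro hd
    obtain ⟨k, -, hk⟩ := FiniteField.card F p
    rw [hq, hk] at hd
    exact hrp ((Nat.prime_dvd_prime_iff_eq hr hpp).mp (hr.dvd_of_dvd_pow hd))
  have hrG : r ∣ q * ((q - 1) * (q + 1)) := by
    rw [← hq21, ← hG]
    exact hrM.trans (Subgroup.card_subgroup_dvd_card M)
  -- an element of order `n`
  obtain ⟨y, hy⟩ : ∃ y : PGL2, orderOf y = n := by
    rcases h with ⟨hcyc, hc⟩ | ⟨⟨e⟩⟩
    · obtain ⟨g, hg⟩ := IsCyclic.exists_generator (α := M)
      refine ⟨(g : PGL2), ?_⟩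
      rw [Subgroup.orderOf_coe, orderOf_eq_card_of_forall_mem_zpowers hg, hc]
    · refine ⟨((e.symm (DihedralGroup.r 1) : M) : PGL2), ?_⟩
      rw [Subgroup.orderOf_coe, MulEquiv.orderOf_eq, DihedralGroup.orderOf_r_one]
  have hycases : n ∣ p ∨ n ∣ q - 1 ∨ n ∣ q + 1 := by
    rcases pgl2_pow_cases p y with h1 | h1 | h1
    · left; rw [← hy]; exact orderOf_dvd_of_pow_eq_one h1
    · right; left; rw [← hy]; exact orderOf_dvd_of_pow_eq_one h1
    · right; right; rw [← hy]; exact orderOf_dvd_of_pow_eq_one h1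
  have hnp : ¬ n ∣ p := by
    intro hd
    exact hrp ((Nat.prime_dvd_prime_iff_eq hr hpp).mp (hrn.trans hd))
  have hnot_both : r ∣ q - 1 → r ∣ q + 1 → False := by
    intro h1 h2
    apply hrodd
    have e : q + 1 = (q - 1) + 2 := by omega
    rw [e] at h2
    exact (Nat.dvd_add_right h1).mp h2
  have hz : Nat.gcd 2 (q - 1) = 2 := gcd_two_pred_of_odd hodd
  have hzc : Nat.card (Subgroup.center (Matrix.SpecialLinearGroup (Fin 2) F)) = 2 := by
    rw [Cfsg.Agent.Lib.Helper42.card_center_eq_gcd, ← hq, hz]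
  rcases (Nat.Prime.dvd_mul hr).mp hrG with h1 | h1
  · exact absurd h1 hrq
  rcases (Nat.Prime.dvd_mul hr).mp h1 with hrq1 | hrq1
  · -- split torus
    have hnc : n ∣ q - 1 := by
      rcases hycases with h2 | h2 | h2
      · exact absurd h2 hnp
      · exact h2
      · exact absurd (hrn.trans h2) (fun h3 => hnot_both hrq1 h3)
    have hT : 2 * Nat.card (splitTorusBar F) = q - 1 := by
      have := card_splitTorusBar_mul (F := F)
      rw [hzc] at this
      rw [← this]; ring
    obtain ⟨eD⟩ := splitDih_dihedral (F := F)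
    have hDc : Nat.card ((splitDih F).map toP) = q - 1 := by
      rw [card_map_toPGL, Nat.card_congr eD.toEquiv, DihedralGroup.nat_card, hT]
    have hidx := index_map_toPGL (splitTorusBar F) (q - 1) hT
    have hrT : ¬ r ∣ ((splitTorusBar F).map toP).index := by
      intro hd
      have h2 : r ∣ 2 * (q * (q ^ 2 - 1)) := by rw [← hidx]; exact Dvd.dvd.mul_right hd _
      have h3 : ((splitTorusBar F).map toP).index * (q - 1) = (2 * (q * (q + 1))) * (q - 1) := by
        rw [hidx, hq21]; ring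
      have h4 : ((splitTorusBar F).map toP).index = 2 * (q * (q + 1)) :=
        Nat.eq_of_mul_eq_mul_right (by omega) h3
      rw [h4] at hd
      rcases (Nat.Prime.dvd_mul hr).mp hd with h5' | h5'
      · exact hrodd h5'
      rcases (Nat.Prime.dvd_mul hr).mp h5' with h6 | h6
      · exact hrq h6
      · exact hnot_both hrq1 h6
    obtain ⟨hn, hiso⟩ := pgl_dihedral_core (pglL F) hLs M hM hML hcard sq_mem_pglL
      ((splitTorusBar F).map toP) ((splitDih F).map toP)
      (map_conj_pm _ _ _ splitDih_conj) (map_toPGL_le_pglL _) (q - 1) hDc r hr hr2 hrT n hnc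
      (by omega) h hrn
    refine ⟨Or.inl ⟨hn, ?_⟩, hiso⟩
    intro h5'
    rw [h5'] at hrq1
    have : r ∣ 2 ^ 2 := by norm_num at hrq1 ⊢; exact hrq1
    exact hrodd (hr.dvd_of_dvd_pow this)
  · -- non-split torus
    have hnc : n ∣ q + 1 := by
      rcases hycases with h2 | h2 | h2
      · exact absurd h2 hnp
      · exact absurd (hrn.trans h2) (fun h3 => hnot_both h3 hrq1)
      · exact h2
    obtain ⟨t, ht⟩ := exists_nonsplit_trace (F := F)
    have hT : 2 * Nat.card (nsTorusBar t) = q + 1 := by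
      have := card_nsTorusBar_mul ht
      rw [hzc] at this
      rw [← this]; ring
    obtain ⟨eD⟩ := nsDih_dihedral ht
    have hDc : Nat.card ((nsDih t).map toP) = q + 1 := by
      rw [card_map_toPGL, Nat.card_congr eD.toEquiv, DihedralGroup.nat_card, hT]
    have hidx := index_map_toPGL (nsTorusBar t) (q + 1) hT
    have hrT : ¬ r ∣ ((nsTorusBar t).map toP).index := by
      intro hd
      have h3 : ((nsTorusBar t).map toP).index * (q + 1) = (2 * (q * (q - 1))) * (q + 1) := by
        rw [hidx, hq21]; ring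
      have h4 : ((nsTorusBar t).map toP).index = 2 * (q * (q - 1)) :=
        Nat.eq_of_mul_eq_mul_right (by omega) h3
      rw [h4] at hd
      rcases (Nat.Prime.dvd_mul hr).mp hd with h5' | h5'
      · exact hrodd h5'
      rcases (Nat.Prime.dvd_mul hr).mp h5' with h6 | h6
      · exact hrq h6
      · exact hnot_both h6 hrq1
    obtain ⟨hn, hiso⟩ := pgl_dihedral_core (pglL F) hLs M hM hML hcard sq_mem_pglL
      ((nsTorusBar t).map toP) ((nsDih t).map toP)
      (map_conj_pm _ _ _ (nsDih_conj t)) (map_toPGL_le_pglL _) (q + 1) hDc r hr hr2 hrT n hnc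
      (by omega) h hrn
    exact ⟨Or.inr hn, hiso⟩

end Cfsg.Agent.Lib.Helper41
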