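import Mathlib
import Cfsg.Agent.Lib.Helper41.PGLOrders

set_option autoImplicit false

/-!
# Traces of elements of small order of `PGL₂(F)` (helper41)
-/

namespace Cfsg.Agent.Lib.Helper41

open Cfsg.Agent.Lib.Helper14

variable {K : Type*} [Field K]

theorem mat2_pow_formulas (A : Matrix (Fin 2) (Fin 2) K) :
    A ^ 2 = A.trace • A + (-A.det) • (1 : Matrix (Fin 2) (Fin 2) K) ∧
    A ^ 3 = (A.trace ^ 2 - A.det) • A + (-(A.trace * A.det)) • (1 : Matrix (Fin 2) (Fin 2) K) ∧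
    A ^ 4 = (A.trace ^ 3 - 2 * A.trace * A.det) • A +
      (-((A.trace ^ 2 - A.det) * A.det)) • (1 : Matrix (Fin 2) (Fin 2) K) := by
  have h2 : A ^ 2 = A.trace • A + (-A.det) • (1 : Matrix (Fin 2) (Fin 2) K) := by
    rw [pow_two, mat2_mul_self, add_comm]
  have h3 : A ^ 3 = (A.trace ^ 2 - A.det) • A +
      (-(A.trace * A.det)) • (1 : Matrix (Fin 2) (Fin 2) K) := by
    rw [pow_succ, h2, add_mul, Matrix.smul_mul, Matrix.smul_mul, one_mul, mat2_mul_self]
    module
  refine ⟨h2, h3, ?_⟩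
  rw [pow_succ, h3, add_mul, Matrix.smul_mul, Matrix.smul_mul, one_mul, mat2_mul_self]
  module

theorem mat2_trace_det_of_scalar (A : Matrix (Fin 2) (Fin 2) K) (s : K)
    (h : A = s • (1 : Matrix (Fin 2) (Fin 2) K)) : A.trace ^ 2 = 4 * A.det := by
  subst h
  simp [Matrix.trace_fin_two, Matrix.det_fin_two]
  ring

/-- `a • A = b • 1` with `a ≠ 0` makes `A` scalar -/
theorem mat2_scalar_of_smul_eq {A : Matrix (Fin 2) (Fin 2) K} {a b : K}
    (h : a • A = b • (1 : Matrix (Fin 2) (Fin 2) K)) (ha : a ≠ 0) :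
    A = (a⁻¹ * b) • (1 : Matrix (Fin 2) (Fin 2) K) := by
  have : A = a⁻¹ • (a • A) := by rw [smul_smul, inv_mul_cancel₀ ha, one_smul]
  rw [this, h, smul_smul]

theorem mk_pow_eq_one_iff' (g : GL (Fin 2) K) (k : ℕ) :
    (Matrix.ProjGenLinGroup.mk g) ^ k = 1 ↔
      ∃ s : K, (g : Matrix (Fin 2) (Fin 2) K) ^ k = s • (1 : Matrix (Fin 2) (Fin 2) K) := by
  rw [← map_pow, Matrix.ProjGenLinGroup.mk_eq_one,
    Matrix.GeneralLinearGroup.center_eq_range_scalar]
  constructor
  · rintro ⟨u, hu⟩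
    refine ⟨(u : K), ?_⟩
    have := congrArg (fun x : GL (Fin 2) K => (x : Matrix (Fin 2) (Fin 2) K)) hu
    simp only [Matrix.GeneralLinearGroup.coe_scalar, Units.val_pow_eq_pow_val] at this
    rw [← this]
    ext i j
    simp [Matrix.smul_apply, Matrix.one_apply, Matrix.scalar_apply, Matrix.diagonal_apply]
  · rintro ⟨s, hks⟩
    have hdet : (g : Matrix (Fin 2) (Fin 2) K).det ≠ 0 := by
      have := (Matrix.GeneralLinearGroup.det g).ne_zero
      simpa using this
    have hs : s ≠ 0 := by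
      rintro rfl
      rw [zero_smul] at hks
      have := congrArg Matrix.det hks
      rw [Matrix.det_pow, Matrix.det_zero] at this
      exact pow_ne_zero k hdet this
    refine ⟨Units.mk0 s hs, ?_⟩
    apply Units.ext
    rw [Units.val_pow_eq_pow_val, hks, Matrix.GeneralLinearGroup.coe_scalar]
    ext i j
    simp [Matrix.smul_apply, Matrix.one_apply, Matrix.scalar_apply, Matrix.diagonal_apply]

theorem mk_eq_one_iff_scalar (g : GL (Fin 2) K) :
    Matrix.ProjGenLinGroup.mk g = 1 ↔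
      ∃ s : K, (g : Matrix (Fin 2) (Fin 2) K) = s • (1 : Matrix (Fin 2) (Fin 2) K) := by
  have := mk_pow_eq_one_iff' g 1
  simpa using this

theorem tr_of_mk_sq (g : GL (Fin 2) K) (h : (Matrix.ProjGenLinGroup.mk g) ^ 2 = 1) :
    (g : Matrix (Fin 2) (Fin 2) K).trace = 0 ∨
      (g : Matrix (Fin 2) (Fin 2) K).trace ^ 2 = 4 * (g : Matrix (Fin 2) (Fin 2) K).det := by
  obtain ⟨s, hs⟩ := (mk_pow_eq_one_iff' g 2).mp h
  rw [(mat2_pow_formulas _).1] at hs
  by_cases ht : (g : Matrix (Fin 2) (Fin 2) K).trace = 0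
  · left; exact ht
  · right
    apply mat2_trace_det_of_scalar _ _ (mat2_scalar_of_smul_eq (b := s +
      (g : Matrix (Fin 2) (Fin 2) K).det) ?_ ht)
    linear_combination (norm := module) hs

theorem tr_of_mk_cube (g : GL (Fin 2) K) (h : (Matrix.ProjGenLinGroup.mk g) ^ 3 = 1) :
    (g : Matrix (Fin 2) (Fin 2) K).trace ^ 2 = (g : Matrix (Fin 2) (Fin 2) K).det ∨
      (g : Matrix (Fin 2) (Fin 2) K).trace ^ 2 = 4 * (g : Matrix (Fin 2) (Fin 2) K).det := by
  obtain ⟨s, hs⟩ := (mk_pow_eq_one_iff' g 3).mp h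
  rw [(mat2_pow_formulas _).2.1] at hs
  by_cases ht : (g : Matrix (Fin 2) (Fin 2) K).trace ^ 2 - (g : Matrix (Fin 2) (Fin 2) K).det = 0
  · left; linear_combination ht
  · right
    apply mat2_trace_det_of_scalar _ _ (mat2_scalar_of_smul_eq (b := s +
      (g : Matrix (Fin 2) (Fin 2) K).trace * (g : Matrix (Fin 2) (Fin 2) K).det) ?_ ht)
    linear_combination (norm := module) hs

theorem tr_of_mk_pow_four (g : GL (Fin 2) K) (h : (Matrix.ProjGenLinGroup.mk g) ^ 4 = 1)
    (h1 : Matrix.ProjGenLinGroup.mk g ≠ 1) :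
    (g : Matrix (Fin 2) (Fin 2) K).trace = 0 ∨
      (g : Matrix (Fin 2) (Fin 2) K).trace ^ 2 = 2 * (g : Matrix (Fin 2) (Fin 2) K).det := by
  obtain ⟨s, hs⟩ := (mk_pow_eq_one_iff' g 4).mp h
  rw [(mat2_pow_formulas _).2.2] at hs
  set t := (g : Matrix (Fin 2) (Fin 2) K).trace with ht
  set d := (g : Matrix (Fin 2) (Fin 2) K).det with hd
  by_cases hc : t ^ 3 - 2 * t * d = 0
  · have : t * (t ^ 2 - 2 * d) = 0 := by linear_combination hc
    rcases mul_eq_zero.mp this with h2 | h2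
    · left; exact h2
    · right; linear_combination h2
  · exfalso
    apply h1
    rw [mk_eq_one_iff_scalar]
    exact ⟨_, mat2_scalar_of_smul_eq (b := s + (t ^ 2 - d) * d) (by
      linear_combination (norm := module) hs) hc⟩

end Cfsg.Agent.Lib.Helper41
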