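import Mathlib
import Cfsg.Agent.Lib.Helper41.PGLTrace
import Cfsg.Agent.Lib.Helper41.PGLMaxDih
import Cfsg.Agent.Lib.Helper41.MaxExcMain
import Cfsg.Agent.Lib.Helper14.PSL2Arith

set_option autoImplicit false

/-!
# Maximal subgroups of `PGL₂(q)` isomorphic to `S₄`: `q ≡ ±3 (mod 8)` (helper41)
-/

namespace Cfsg.Agent.Lib.Helper41

open Cfsg.Agent.Lib.Helper14

/-- the squares of `S₄` together with a `4`-cycle: `13` elements -/
def s4SqSet : Finset (Equiv.Perm (Fin 4)) :=
  Finset.univ.image (fun s : Equiv.Perm (Fin 4) => s * s) ∪ {c[0, 1, 2, 3]}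

set_option maxRecDepth 100000 in
theorem card_s4SqSet : s4SqSet.card = 13 := by decide

variable {F : Type*} [Field F]

local notation "PGL2" => Matrix.ProjGenLinGroup (Fin 2) F

/-- in a maximal subgroup `M ≅ S₄` of `PGL₂(q)` not containing `L`, the elements of order four
lie outside `L` -/
theorem four_cycle_not_mem_pglL [Fintype F] (hodd : Odd (Fintype.card F))
    (M : Subgroup PGL2) (hM : IsCoatom M) (hML : ¬ pglL F ≤ M)
    (e : M ≃* Equiv.Perm (Fin 4)) :
    ((e.symm c[0, 1, 2, 3] : M) : PGL2) ∉ pglL F := by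
  intro hmem
  have hcard := card_eq_two_mul_card_inf (pglL F) (index_pglL_of_odd hodd) M hM hML
  have hM24 : Nat.card M = 24 := by rw [Nat.card_congr e.toEquiv, card_perm4]
  have hin : ∀ s ∈ s4SqSet, ((e.symm s : M) : PGL2) ∈ M ⊓ pglL F := by
    intro s hs
    refine ⟨(e.symm s).2, ?_⟩
    rcases Finset.mem_union.mp hs with h | h
    · obtain ⟨t, -, rfl⟩ := Finset.mem_image.mp h
      rw [map_mul, Subgroup.coe_mul]
      exact sq_mem_pglL _
    · rw [Finset.mem_singleton] at h
      rw [h]; exact hmem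
  let f : s4SqSet → (M ⊓ pglL F : Subgroup PGL2) := fun s => ⟨((e.symm s.1 : M) : PGL2), hin s.1 s.2⟩
  have hf : Function.Injective f := by
    intro s t hst
    have h1 := congrArg Subtype.val hst
    exact Subtype.ext (e.symm.injective (Subtype.ext h1))
  have := Nat.card_le_card_of_injective f hf
  rw [Nat.card_eq_fintype_card, Fintype.card_coe, card_s4SqSet] at this
  omega

/-- **`S₄` maximal forces `q ≡ ±3 (mod 8)`.** -/
theorem mod_eight_of_S4 [Fintype F] (hodd : Odd (Fintype.card F))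
    (M : Subgroup PGL2) (hM : IsCoatom M) (hML : ¬ pglL F ≤ M)
    (e : M ≃* Equiv.Perm (Fin 4)) :
    Fintype.card F % 8 = 3 ∨ Fintype.card F % 8 = 5 := by
  have hnot := four_cycle_not_mem_pglL hodd M hM hML e
  set y : PGL2 := ((e.symm c[0, 1, 2, 3] : M) : PGL2) with hy
  have hy4 : y ^ 4 = 1 := by
    rw [hy, ← Subgroup.coe_pow, ← map_pow]
    have : (c[0, 1, 2, 3] : Equiv.Perm (Fin 4)) ^ 4 = 1 := by decide
    rw [this, map_one]; rfl
  have hy2 : y ^ 2 ≠ 1 := by
    rw [hy, ← Subgroup.coe_pow, ← map_pow]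
    intro h
    have h1 : e.symm ((c[0, 1, 2, 3] : Equiv.Perm (Fin 4)) ^ 2) = 1 := Subtype.ext h
    have h2 := congrArg e h1
    rw [e.apply_symm_apply, map_one] at h2
    revert h2
    decide
  have hy1 : y ≠ 1 := by
    intro h
    apply hy2
    rw [h, one_pow]
  obtain ⟨g, hg⟩ := Matrix.ProjGenLinGroup.mk_surjective y
  rw [← hg] at hy4 hy2 hy1 hnot
  have h2sq : ¬ IsSquare (2 : F) := by
    rintro ⟨s, hs⟩
    apply hnot
    rw [mk_mem_pglL_iff]
    have hs0 : s ≠ 0 := by
      rintro rfl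
      have h2 : (2 : F) ≠ 0 := two_ne_zero_of_odd_card hodd
      apply h2
      rw [hs]; ring
    rcases tr_of_mk_pow_four g hy4 hy1 with ht | ht
    · exfalso
      apply hy2
      rw [mk_pow_eq_one_iff']
      refine ⟨-(g : Matrix (Fin 2) (Fin 2) F).det, ?_⟩
      rw [(mat2_pow_formulas _).1, ht, zero_smul, zero_add]
    · have hdet : (g : Matrix (Fin 2) (Fin 2) F).det
          = ((g : Matrix (Fin 2) (Fin 2) F).trace / s) * ((g : Matrix (Fin 2) (Fin 2) F).trace / s) := by
        field_simp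
        linear_combination (-(g : Matrix (Fin 2) (Fin 2) F).det) * hs - ht
      have hdet0 : (g : Matrix (Fin 2) (Fin 2) F).det ≠ 0 := by
        have := (Matrix.GeneralLinearGroup.det g).ne_zero
        simpa using this
      have hu0 : (g : Matrix (Fin 2) (Fin 2) F).trace / s ≠ 0 := by
        intro h
        rw [h, mul_zero] at hdet
        exact hdet0 hdet
      refine ⟨Units.mk0 _ hu0, Units.ext ?_⟩
      simpa using hdet
  rw [FiniteField.isSquare_two_iff] at h2sq
  omega

end Cfsg.Agent.Lib.Helper41
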