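import Mathlib
import Cfsg.Agent.Lib.Helper41.PGLTrace
import Cfsg.Agent.Lib.Helper41.MaxExcMain

set_option autoImplicit false

/-!
# Subfield subgroups of `PGL₂(F)` and standard quaternion frames (helper41)
-/

namespace Cfsg.Agent.Lib.Helper41

open Cfsg.Agent.Lib.Helper11 Cfsg.Agent.Lib.Helper14

variable {F : Type*} [Field F]

local notation "SL2" => Matrix.SpecialLinearGroup (Fin 2) F
local notation "PGL2" => Matrix.ProjGenLinGroup (Fin 2) F

/-- the image of `PGL₂(K)` in `PGL₂(F)`, `K` a subfield -/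
def pglSub (K : Subfield F) : Subgroup PGL2 :=
  (Matrix.ProjGenLinGroup.map (n := Fin 2) K.subtype).range

/-- a matrix which is a scalar multiple of a `K`-matrix lies in `pglSub K` -/
theorem mk_mem_pglSub (K : Subfield F) (g : GL (Fin 2) F) (c : F) (hc : c ≠ 0)
    (h : ∀ i j, c * (g : Matrix (Fin 2) (Fin 2) F) i j ∈ K) :
    Matrix.ProjGenLinGroup.mk g ∈ pglSub K := by
  let B₀ : Matrix (Fin 2) (Fin 2) K := fun i j => ⟨c * (g : Matrix (Fin 2) (Fin 2) F) i j, h i j⟩
  have hdetg : (g : Matrix (Fin 2) (Fin 2) F).det ≠ 0 := by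
    have := (Matrix.GeneralLinearGroup.det g).ne_zero
    simpa using this
  have hmap : B₀.map K.subtype = c • (g : Matrix (Fin 2) (Fin 2) F) := by
    ext i j
    rfl
  have hdet : B₀.det ≠ 0 := by
    intro h0
    have h1 : (B₀.map K.subtype).det = 0 := by
      rw [← RingHom.mapMatrix_apply, ← RingHom.map_det, h0, map_zero]
    rw [hmap, Matrix.det_smul] at h1
    simp only [Fintype.card_fin] at h1
    rcases mul_eq_zero.mp h1 with h2 | h2
    · exact hc (pow_eq_zero_iff (by norm_num) |>.mp h2)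
    · exact hdetg h2
  refine ⟨Matrix.ProjGenLinGroup.mk (Matrix.GeneralLinearGroup.mkOfDetNeZero B₀ hdet), ?_⟩
  rw [Matrix.ProjGenLinGroup.map_mk, Matrix.ProjGenLinGroup.mk_eq_mk_iff]
  refine ⟨Units.mk0 c⁻¹ (inv_ne_zero hc), Units.ext ?_⟩
  ext i j
  have e1 : ((Matrix.GeneralLinearGroup.map K.subtype
      (Matrix.GeneralLinearGroup.mkOfDetNeZero B₀ hdet) : GL (Fin 2) F) :
      Matrix (Fin 2) (Fin 2) F) = c • (g : Matrix (Fin 2) (Fin 2) F) := by
    rw [← hmap]; rfl
  rw [Units.val_mul, e1]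
  simp [Matrix.GeneralLinearGroup.scalar, Matrix.mul_apply, Matrix.smul_apply, Matrix.diagonal]
  fin_cases j <;> simp <;> field_simp

/-- elements of `pglSub K` are represented by scalar multiples of `K`-matrices -/
theorem exists_smul_of_mem_pglSub (K : Subfield F) (g : GL (Fin 2) F)
    (h : Matrix.ProjGenLinGroup.mk g ∈ pglSub K) :
    ∃ c : F, c ≠ 0 ∧ ∀ i j, c * (g : Matrix (Fin 2) (Fin 2) F) i j ∈ K := by
  obtain ⟨x, hx⟩ := h
  induction x using Matrix.ProjGenLinGroup.induction_on with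
  | mk B =>
    rw [Matrix.ProjGenLinGroup.map_mk, Matrix.ProjGenLinGroup.mk_eq_mk_iff] at hx
    obtain ⟨u, hu⟩ := hx
    refine ⟨((u⁻¹ : Fˣ) : F), Units.ne_zero _, ?_⟩
    intro i j
    have h1 : (g : Matrix (Fin 2) (Fin 2) F) i j
        = (u : F) * ((B : Matrix (Fin 2) (Fin 2) K) i j : F) := by
      rw [← hu]
      simp [Matrix.GeneralLinearGroup.scalar, Matrix.mul_apply, Matrix.diagonal]
      fin_cases j <;> simp <;> ring
    rw [h1, ← mul_assoc, ← Units.val_mul, inv_mul_cancel, Units.val_one, one_mul]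
    exact ((B : Matrix (Fin 2) (Fin 2) K) i j).2

theorem coe_toGL_apply (s : SL2) (i j : Fin 2) :
    ((Matrix.SpecialLinearGroup.toGL s : GL (Fin 2) F) : Matrix (Fin 2) (Fin 2) F) i j
      = (s : Matrix (Fin 2) (Fin 2) F) i j := rfl

/-- `pglSub K` is proper if `K` is -/
theorem pglSub_ne_top (K : Subfield F) (hK : K ≠ ⊤) : pglSub K ≠ ⊤ := by
  intro htop
  apply hK
  rw [eq_top_iff]
  intro x _
  have h1 : Matrix.ProjGenLinGroup.mk (Matrix.SpecialLinearGroup.toGL (upperU x)) ∈ pglSub K := by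
    rw [htop]; trivial
  obtain ⟨c, hc, h⟩ := exists_smul_of_mem_pglSub K _ h1
  have h00 := h 0 0
  have h01 := h 0 1
  rw [coe_toGL_apply, coe_upperU] at h00 h01
  simp only [Matrix.of_apply, Matrix.cons_val', Matrix.cons_val_zero, Matrix.cons_val_one,
    Matrix.cons_val_fin_one, mul_one] at h00 h01
  have : x = c⁻¹ * (c * x) := by rw [← mul_assoc, inv_mul_cancel₀ hc, one_mul]
  rw [this]
  exact K.mul_mem (K.inv_mem h00) h01

/-- `pglSub K` contains an element of order `p` -/
theorem exists_orderOf_eq_char_mem_pglSub (p : ℕ) [Fact p.Prime] [CharP F p] (K : Subfield F) :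
    ∃ u ∈ pglSub K, orderOf u = p := by
  refine ⟨Matrix.ProjGenLinGroup.mk (Matrix.SpecialLinearGroup.toGL (upperU (1 : F))), ?_, ?_⟩
  · apply mk_mem_pglSub K _ 1 one_ne_zero
    intro i j
    rw [coe_toGL_apply, coe_upperU, one_mul]
    fin_cases i <;> fin_cases j <;> simp [K.one_mem, K.zero_mem]
  · apply orderOf_eq_prime
    · rw [← map_pow, ← map_pow, upperU_pow_char, map_one, map_one]
    · intro h1
      rw [mk_eq_one_iff_scalar] at h1
      obtain ⟨s, hs⟩ := h1
      have h01 := congrFun (congrFun hs 0) 1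
      rw [coe_toGL_apply, coe_upperU] at h01
      simp at h01

theorem toGL_glConj (W : GL (Fin 2) F) (g : SL2) :
    Matrix.SpecialLinearGroup.toGL (glConj W g) = W * Matrix.SpecialLinearGroup.toGL g * W⁻¹ := by
  apply Units.ext
  rfl

/-- **Standard frame**, with the conjugating element in `GL₂(F)`. -/
theorem exists_frame_gl [Fintype F] (h2 : (2 : F) ≠ 0) (K : Subfield F) (i j : SL2)
    (hi : tr2 i = 0) (hj : tr2 j = 0) (hij : tr2 (i * j) = 0) (a b : F) (ha : a ∈ K) (hb : b ∈ K)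
    (hab : a ^ 2 + b ^ 2 = -1) :
    ∃ (W : GL (Fin 2) F) (a' b' : F) (hab' : a' ^ 2 + b' ^ 2 = -1), a' ∈ K ∧ b' ∈ K ∧
      W * Matrix.SpecialLinearGroup.toGL i * W⁻¹ = Matrix.SpecialLinearGroup.toGL frameI ∧
      W * Matrix.SpecialLinearGroup.toGL j * W⁻¹
        = Matrix.SpecialLinearGroup.toGL (frameJ a' b' hab') := by
  have h4 : (tr2 i) ^ 2 ≠ 4 := by
    rw [hi]
    intro h
    apply h2
    have : (2 : F) * 2 = 0 := by linear_combination -h
    rcases mul_eq_zero.mp this with h' | h' <;> exact h'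
  obtain ⟨P, hP⟩ := exists_conj_companion i h4
  rw [hi, companion_zero] at hP
  have hPi : P⁻¹ * i * P = frameI := by
    rw [mul_assoc, hP, ← mul_assoc, inv_mul_cancel, one_mul]
  set j' : SL2 := P⁻¹ * j * P with hj'def
  have htj' : tr2 j' = 0 := by
    have := tr2_conj P⁻¹ j
    rw [inv_inv] at this
    rw [hj'def, this, hj]
  have htij' : tr2 (frameI * j') = 0 := by
    have e : frameI * j' = P⁻¹ * (i * j) * P⁻¹⁻¹ := by
      rw [← hPi, hj'def, inv_inv]; group
    rw [e, tr2_conj, hij]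
  set x := (j' : Matrix (Fin 2) (Fin 2) F) 0 0 with hx
  set y := (j' : Matrix (Fin 2) (Fin 2) F) 0 1 with hy
  have h11 : (j' : Matrix (Fin 2) (Fin 2) F) 1 1 = -x := by
    have : x + (j' : Matrix (Fin 2) (Fin 2) F) 1 1 = 0 := htj'
    linear_combination this
  have h10 : (j' : Matrix (Fin 2) (Fin 2) F) 1 0 = y := by
    rw [tr2_mul, coe_frameI] at htij'
    simp only [Matrix.of_apply, Matrix.cons_val', Matrix.cons_val_zero, Matrix.cons_val_one,
      Matrix.cons_val_fin_one] at htij'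
    linear_combination -htij'
  have hjmat : (j' : Matrix (Fin 2) (Fin 2) F) = !![x, y; y, -x] := by
    ext r c
    fin_cases r <;> fin_cases c <;> simp [hx, hy, h10, h11]
  have key : ∀ (W : GL (Fin 2) F) (g g' : SL2), glConj W (P⁻¹ * g * P) = g' →
      (W * Matrix.SpecialLinearGroup.toGL P⁻¹) * Matrix.SpecialLinearGroup.toGL g *
        (W * Matrix.SpecialLinearGroup.toGL P⁻¹)⁻¹ = Matrix.SpecialLinearGroup.toGL g' := by
    intro W g g' hg
    rw [← hg, toGL_glConj, map_mul, map_mul, map_inv]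
    group
  by_cases hne : a * x + b * y ≠ 1
  · obtain ⟨W, hW1, hW2⟩ := exists_rotate h2 j' x y hjmat a b hab hne
    refine ⟨W * Matrix.SpecialLinearGroup.toGL P⁻¹, a, b, hab, ha, hb, ?_, ?_⟩
    · exact key W i frameI (by rw [hPi, hW1])
    · exact key W j _ hW2
  · have hne' : a * x + b * y = 1 := not_not.mp hne
    have hab' : (-a) ^ 2 + (-b) ^ 2 = -1 := by linear_combination hab
    have hne'' : (-a) * x + (-b) * y ≠ 1 := by
      intro h
      apply h2
      linear_combination -hne' - h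
    obtain ⟨W, hW1, hW2⟩ := exists_rotate h2 j' x y hjmat (-a) (-b) hab' hne''
    refine ⟨W * Matrix.SpecialLinearGroup.toGL P⁻¹, -a, -b, hab', K.neg_mem ha, K.neg_mem hb,
      ?_, ?_⟩
    · exact key W i frameI (by rw [hPi, hW1])
    · exact key W j _ hW2

end Cfsg.Agent.Lib.Helper41
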