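import Mathlib
import Cfsg.Agent.Lib.Helper41.PGLSubfield
import Cfsg.Agent.Lib.Helper41.PGLMaxS4a

set_option autoImplicit false

/-!
# Maximal subgroups of `PGL₂(q)` isomorphic to `S₄`: `q` is prime (helper41)
-/

namespace Cfsg.Agent.Lib.Helper41

open Cfsg.Agent.Lib.Helper11 Cfsg.Agent.Lib.Helper14

variable {F : Type*} [Field F]

local notation "SL2" => Matrix.SpecialLinearGroup (Fin 2) F
local notation "PGL2" => Matrix.ProjGenLinGroup (Fin 2) F

/-- expansion of a matrix in a quaternion frame -/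
theorem frame_expansion (A : Matrix (Fin 2) (Fin 2) F) (a b : F) (hab : a ^ 2 + b ^ 2 = -1) :
    (2 : F) • A = A.trace • (1 : Matrix (Fin 2) (Fin 2) F)
      - (A * !![0, -1; 1, 0]).trace • (!![0, -1; 1, 0] : Matrix (Fin 2) (Fin 2) F)
      - (A * !![a, b; b, -a]).trace • (!![a, b; b, -a] : Matrix (Fin 2) (Fin 2) F)
      - (A * (!![0, -1; 1, 0] * !![a, b; b, -a])).trace •
        ((!![0, -1; 1, 0] * !![a, b; b, -a] : Matrix (Fin 2) (Fin 2) F)) := by
  generalize hp : A 0 0 = p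
  generalize hq : A 0 1 = q
  generalize hr : A 1 0 = r
  generalize hs : A 1 1 = s
  have hA : A = !![p, q; r, s] := by
    ext i j
    fin_cases i <;> fin_cases j <;> simp [hp, hq, hr, hs]
  subst hA
  ext i j
  fin_cases i <;> fin_cases j
  · simp [Matrix.trace_fin_two, Matrix.mul_apply, Fin.sum_univ_two]
    linear_combination (p - s) * hab
  · simp [Matrix.trace_fin_two, Matrix.mul_apply, Fin.sum_univ_two]
    linear_combination (q + r) * hab
  · simp [Matrix.trace_fin_two, Matrix.mul_apply, Fin.sum_univ_two]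
    linear_combination (q + r) * hab
  · simp [Matrix.trace_fin_two, Matrix.mul_apply, Fin.sum_univ_two]
    linear_combination (s - p) * hab

theorem mem_of_sq_eq_sq (K : Subfield F) {k u : F} (hk : k ∈ K) (h : u ^ 2 = k ^ 2) : u ∈ K := by
  have : (u - k) * (u + k) = 0 := by linear_combination h
  rcases mul_eq_zero.mp this with h1 | h1
  · have : u = k := by linear_combination h1
    rw [this]; exact hk
  · have : u = -k := by linear_combination h1
    rw [this]; exact K.neg_mem hk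

theorem two_mem_subfield (K : Subfield F) : (2 : F) ∈ K := by
  have : (2 : F) = 1 + 1 := by norm_num
  rw [this]; exact K.add_mem K.one_mem K.one_mem

theorem ratio_mem_of_Q1 (K : Subfield F) (h2 : (2 : F) ≠ 0) (d t₀ t : F) (hd : d ≠ 0)
    (ht₀ : t₀ ≠ 0) (h0 : t₀ = 0 ∨ t₀ ^ 2 = d ∨ t₀ ^ 2 = 4 * d)
    (h : t = 0 ∨ t ^ 2 = d ∨ t ^ 2 = 4 * d) : t₀⁻¹ * t ∈ K := by
  have h2K := two_mem_subfield K
  rcases h with rfl | h | h
  · rw [mul_zero]; exact K.zero_mem
  · rcases h0 with h0 | h0 | h0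
    · exact absurd h0 ht₀
    · apply mem_of_sq_eq_sq K K.one_mem
      field_simp
      rw [h, h0]
    · apply mem_of_sq_eq_sq K (K.inv_mem h2K)
      field_simp
      rw [h, h0]; ring
  · rcases h0 with h0 | h0 | h0
    · exact absurd h0 ht₀
    · apply mem_of_sq_eq_sq K h2K
      field_simp
      rw [h, h0]; ring
    · apply mem_of_sq_eq_sq K K.one_mem
      field_simp
      rw [h, h0]

theorem ratio_mem_of_Q2 (K : Subfield F) (d t₀ t : F)
    (ht₀ : t₀ ≠ 0) (h0 : t₀ = 0 ∨ t₀ ^ 2 = 2 * d)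
    (h : t = 0 ∨ t ^ 2 = 2 * d) : t₀⁻¹ * t ∈ K := by
  rcases h with rfl | h
  · rw [mul_zero]; exact K.zero_mem
  · rcases h0 with h0 | h0
    · exact absurd h0 ht₀
    · apply mem_of_sq_eq_sq K K.one_mem
      field_simp
      rw [h, h0]

theorem pow_eq_one_of_equiv' {G X : Type*} [Group G] [Group X] {M : Subgroup G} (e : M ≃* X)
    {y : G} (hy : y ∈ M) {n : ℕ} (h : (e ⟨y, hy⟩) ^ n = 1) : y ^ n = 1 := by
  have h1 : (⟨y, hy⟩ : M) ^ n = 1 := by
    apply e.injective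
    rw [map_pow, h, map_one]
  have h2 := congrArg Subtype.val h1
  simpa using h2

theorem ne_one_of_equiv' {G X : Type*} [Group G] [Group X] {M : Subgroup G} (e : M ≃* X)
    {y : G} (hy : y ∈ M) (h : e ⟨y, hy⟩ ≠ 1) : y ≠ 1 := by
  rintro rfl
  apply h
  have : (⟨1, hy⟩ : M) = 1 := rfl
  rw [this, map_one]

/-- if the four frame traces of `A` have pairwise ratios in `K`, a scalar multiple of `A` has
entries in `K` -/
theorem exists_scale_entries (K : Subfield F) (h2 : (2 : F) ≠ 0) (A : Matrix (Fin 2) (Fin 2) F)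
    (a b : F) (ha : a ∈ K) (hb : b ∈ K) (hab : a ^ 2 + b ^ 2 = -1) (hA : A ≠ 0)
    (P : F → Prop) (hP : ∀ s t, P s → P t → s ≠ 0 → s⁻¹ * t ∈ K)
    (h0 : P A.trace) (h1 : P (A * !![0, -1; 1, 0]).trace) (h2' : P (A * !![a, b; b, -a]).trace)
    (h3 : P (A * (!![0, -1; 1, 0] * !![a, b; b, -a])).trace) :
    ∃ c : F, c ≠ 0 ∧ ∀ i j, c * A i j ∈ K := by
  have hexp := frame_expansion A a b hab
  generalize A.trace = t0 at hexp h0
  generalize (A * !![0, -1; 1, 0]).trace = t1 at hexp h1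
  generalize (A * !![a, b; b, -a]).trace = t2 at hexp h2'
  generalize (A * (!![0, -1; 1, 0] * !![a, b; b, -a])).trace = t3 at hexp h3
  have h2K := two_mem_subfield K
  have hIJ : (!![0, -1; 1, 0] * !![a, b; b, -a] : Matrix (Fin 2) (Fin 2) F) = !![-b, a; a, b] := by
    ext i j
    fin_cases i <;> fin_cases j <;> simp [Matrix.mul_apply, Fin.sum_univ_two]
  rw [hIJ] at hexp
  have main : ∀ c : F, c * t0 ∈ K → c * t1 ∈ K → c * t2 ∈ K → c * t3 ∈ K →
      ∀ i j, c * A i j ∈ K := by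
    intro c k0 k1 k2 k3 i j
    have e : c * A i j = 2⁻¹ * ((c * t0) * (1 : Matrix (Fin 2) (Fin 2) F) i j
        - (c * t1) * (!![0, -1; 1, 0] : Matrix (Fin 2) (Fin 2) F) i j
        - (c * t2) * (!![a, b; b, -a] : Matrix (Fin 2) (Fin 2) F) i j
        - (c * t3) * (!![-b, a; a, b] : Matrix (Fin 2) (Fin 2) F) i j) := by
      have := congrFun (congrFun hexp i) j
      simp only [Matrix.smul_apply, Matrix.sub_apply, smul_eq_mul] at this
      field_simp
      linear_combination c * this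
    rw [e]
    apply K.mul_mem (K.inv_mem h2K)
    refine K.sub_mem (K.sub_mem (K.sub_mem (K.mul_mem k0 ?_) (K.mul_mem k1 ?_))
      (K.mul_mem k2 ?_)) (K.mul_mem k3 ?_)
    all_goals (fin_cases i <;> fin_cases j <;> simp [K.one_mem, K.zero_mem, ha, hb, K.neg_mem])
  have pick : ∀ s : F, P s → s ≠ 0 → ∃ c : F, c ≠ 0 ∧ ∀ i j, c * A i j ∈ K := by
    intro s hs hs0
    exact ⟨s⁻¹, inv_ne_zero hs0, main _ (hP s t0 hs h0 hs0) (hP s t1 hs h1 hs0)
      (hP s t2 hs h2' hs0) (hP s t3 hs h3 hs0)⟩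
  by_cases e0 : t0 = 0
  · by_cases e1 : t1 = 0
    · by_cases e2 : t2 = 0
      · by_cases e3 : t3 = 0
        · exfalso
          apply hA
          rw [e0, e1, e2, e3] at hexp
          simp only [zero_smul, sub_zero] at hexp
          have : A = (2 : F)⁻¹ • ((2 : F) • A) := by
            rw [smul_smul, inv_mul_cancel₀ h2, one_smul]
          rw [this, hexp, smul_zero]
        · exact pick t3 h3 e3
      · exact pick t2 h2' e2
    · exact pick t1 h1 e1
  · exact pick t0 h0 e0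

/-- **Descent for `S₄`.**  A subgroup `M ≅ S₄` of `PGL₂(F)` whose four-group is the image of a
standard frame over `K` lies in `PGL₂(K)`. -/
theorem le_pglSub_of_frame (h2 : (2 : F) ≠ 0) (K : Subfield F) (M : Subgroup PGL2)
    (e : M ≃* Equiv.Perm (Fin 4)) (a b : F) (ha : a ∈ K) (hb : b ∈ K) (hab : a ^ 2 + b ^ 2 = -1)
    (hI : Matrix.ProjGenLinGroup.mk (Matrix.SpecialLinearGroup.toGL (frameI : SL2)) ∈ M)
    (hJ : Matrix.ProjGenLinGroup.mk (Matrix.SpecialLinearGroup.toGL (frameJ a b hab)) ∈ M)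
    (hI' : e ⟨_, hI⟩ = s4s1) (hJ' : e ⟨_, hJ⟩ = s4s2) : M ≤ pglSub K := by
  intro m hm
  induction m using Matrix.ProjGenLinGroup.induction_on with
  | mk A =>
  generalize hI₀ : (Matrix.SpecialLinearGroup.toGL (frameI : SL2) : GL (Fin 2) F) = I₀ at hI hI'
  generalize hJ₀ : (Matrix.SpecialLinearGroup.toGL (frameJ a b hab) : GL (Fin 2) F) = J₀ at hJ hJ'
  have hcI : (I₀ : Matrix (Fin 2) (Fin 2) F) = !![0, -1; 1, 0] := by rw [← hI₀]; rfl
  have hcJ : (J₀ : Matrix (Fin 2) (Fin 2) F) = !![a, b; b, -a] := by rw [← hJ₀]; rfl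
  have hAI : Matrix.ProjGenLinGroup.mk (A * I₀) ∈ M := by rw [map_mul]; exact M.mul_mem hm hI
  have hAJ : Matrix.ProjGenLinGroup.mk (A * J₀) ∈ M := by rw [map_mul]; exact M.mul_mem hm hJ
  have hAIJ : Matrix.ProjGenLinGroup.mk (A * (I₀ * J₀)) ∈ M := by
    rw [map_mul, map_mul]; exact M.mul_mem hm (M.mul_mem hI hJ)
  have e1 : e ⟨Matrix.ProjGenLinGroup.mk (A * I₀), hAI⟩
      = e ⟨Matrix.ProjGenLinGroup.mk A, hm⟩ * s4s1 := by
    rw [← hI', ← map_mul]; congr 1
  have e2 : e ⟨Matrix.ProjGenLinGroup.mk (A * J₀), hAJ⟩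
      = e ⟨Matrix.ProjGenLinGroup.mk A, hm⟩ * s4s2 := by
    rw [← hJ', ← map_mul]; congr 1
  have e3 : e ⟨Matrix.ProjGenLinGroup.mk (A * (I₀ * J₀)), hAIJ⟩
      = e ⟨Matrix.ProjGenLinGroup.mk A, hm⟩ * (s4s1 * s4s2) := by
    rw [← hI', ← hJ', ← map_mul, ← map_mul]; congr 1
  have hdetA : (A : Matrix (Fin 2) (Fin 2) F).det ≠ 0 := by
    have := (Matrix.GeneralLinearGroup.det A).ne_zero
    simpa using this
  have hA0 : (A : Matrix (Fin 2) (Fin 2) F) ≠ 0 := by
    intro h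
    apply hdetA
    rw [h]; simp
  have cI : ((A * I₀ : GL (Fin 2) F) : Matrix (Fin 2) (Fin 2) F)
      = (A : Matrix (Fin 2) (Fin 2) F) * !![0, -1; 1, 0] := by rw [Units.val_mul, hcI]
  have cJ : ((A * J₀ : GL (Fin 2) F) : Matrix (Fin 2) (Fin 2) F)
      = (A : Matrix (Fin 2) (Fin 2) F) * !![a, b; b, -a] := by rw [Units.val_mul, hcJ]
  have cIJ : ((A * (I₀ * J₀) : GL (Fin 2) F) : Matrix (Fin 2) (Fin 2) F)
      = (A : Matrix (Fin 2) (Fin 2) F) * (!![0, -1; 1, 0] * !![a, b; b, -a]) := by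
    rw [Units.val_mul, Units.val_mul, hcI, hcJ]
  have dI : ((A * I₀ : GL (Fin 2) F) : Matrix (Fin 2) (Fin 2) F).det
      = (A : Matrix (Fin 2) (Fin 2) F).det := by
    rw [cI, Matrix.det_mul]; simp [Matrix.det_fin_two]
  have dJ : ((A * J₀ : GL (Fin 2) F) : Matrix (Fin 2) (Fin 2) F).det
      = (A : Matrix (Fin 2) (Fin 2) F).det := by
    rw [cJ, Matrix.det_mul]
    have : (!![a, b; b, -a] : Matrix (Fin 2) (Fin 2) F).det = 1 := by
      rw [Matrix.det_fin_two_of]; linear_combination -hab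
    rw [this, mul_one]
  have dIJ : ((A * (I₀ * J₀) : GL (Fin 2) F) : Matrix (Fin 2) (Fin 2) F).det
      = (A : Matrix (Fin 2) (Fin 2) F).det := by
    rw [cIJ, Matrix.det_mul, Matrix.det_mul]
    have : (!![a, b; b, -a] : Matrix (Fin 2) (Fin 2) F).det = 1 := by
      rw [Matrix.det_fin_two_of]; linear_combination -hab
    rw [this, mul_one]; simp [Matrix.det_fin_two]
  obtain ⟨c, hc, hmem⟩ : ∃ c : F, c ≠ 0 ∧ ∀ i j, c * (A : Matrix (Fin 2) (Fin 2) F) i j ∈ K := by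
    rcases s4_coset_orders (e ⟨Matrix.ProjGenLinGroup.mk A, hm⟩) with
      ⟨k0, k1, k2, k3⟩ | ⟨k0, k1, k2, k3⟩
    · rw [← e1] at k1
      rw [← e2] at k2
      rw [← e3] at k3
      have m1 : ∀ {B : GL (Fin 2) F} (hB : Matrix.ProjGenLinGroup.mk B ∈ M),
          (B : Matrix (Fin 2) (Fin 2) F).det = (A : Matrix (Fin 2) (Fin 2) F).det →
          ((e ⟨Matrix.ProjGenLinGroup.mk B, hB⟩) ^ 2 = 1 ∨
            (e ⟨Matrix.ProjGenLinGroup.mk B, hB⟩) ^ 3 = 1) →
          ((B : Matrix (Fin 2) (Fin 2) F).trace = 0 ∨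
            (B : Matrix (Fin 2) (Fin 2) F).trace ^ 2 = (A : Matrix (Fin 2) (Fin 2) F).det ∨
            (B : Matrix (Fin 2) (Fin 2) F).trace ^ 2
              = 4 * (A : Matrix (Fin 2) (Fin 2) F).det) := by
        intro B hB hdB h
        rw [← hdB]
        rcases h with h | h
        · rcases tr_of_mk_sq B (pow_eq_one_of_equiv' e hB h) with h' | h'
          · exact Or.inl h'
          · exact Or.inr (Or.inr h')
        · rcases tr_of_mk_cube B (pow_eq_one_of_equiv' e hB h) with h' | h'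
          · exact Or.inr (Or.inl h')
          · exact Or.inr (Or.inr h')
      have t1 := m1 hAI dI k1
      have t2 := m1 hAJ dJ k2
      have t3 := m1 hAIJ dIJ k3
      rw [cI] at t1
      rw [cJ] at t2
      rw [cIJ] at t3
      exact exists_scale_entries K h2 (A : Matrix (Fin 2) (Fin 2) F) a b ha hb hab hA0
        (fun t => t = 0 ∨ t ^ 2 = (A : Matrix (Fin 2) (Fin 2) F).det ∨
          t ^ 2 = 4 * (A : Matrix (Fin 2) (Fin 2) F).det)
        (fun s t hs ht hs0 => ratio_mem_of_Q1 K h2 _ s t hdetA hs0 hs ht)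
        (m1 hm rfl k0) t1 t2 t3
    · rw [← e1] at k1
      rw [← e2] at k2
      rw [← e3] at k3
      have m1 : ∀ {B : GL (Fin 2) F} (hB : Matrix.ProjGenLinGroup.mk B ∈ M),
          (B : Matrix (Fin 2) (Fin 2) F).det = (A : Matrix (Fin 2) (Fin 2) F).det →
          ((e ⟨Matrix.ProjGenLinGroup.mk B, hB⟩) ^ 4 = 1 ∧
            (e ⟨Matrix.ProjGenLinGroup.mk B, hB⟩) ≠ 1) →
          ((B : Matrix (Fin 2) (Fin 2) F).trace = 0 ∨
            (B : Matrix (Fin 2) (Fin 2) F).trace ^ 2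
              = 2 * (A : Matrix (Fin 2) (Fin 2) F).det) := by
        intro B hB hdB h
        rw [← hdB]
        exact tr_of_mk_pow_four B (pow_eq_one_of_equiv' e hB h.1) (ne_one_of_equiv' e hB h.2)
      have t1 := m1 hAI dI k1
      have t2 := m1 hAJ dJ k2
      have t3 := m1 hAIJ dIJ k3
      rw [cI] at t1
      rw [cJ] at t2
      rw [cIJ] at t3
      exact exists_scale_entries K h2 (A : Matrix (Fin 2) (Fin 2) F) a b ha hb hab hA0
        (fun t => t = 0 ∨ t ^ 2 = 2 * (A : Matrix (Fin 2) (Fin 2) F).det)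
        (fun s t hs ht hs0 => ratio_mem_of_Q2 K _ s t hs0 hs ht)
        (m1 hm rfl k0) t1 t2 t3
  exact mk_mem_pglSub K A c hc hmem

theorem tr_eq_zero_of_mk_sq (g : GL (Fin 2) F) (h : (Matrix.ProjGenLinGroup.mk g) ^ 2 = 1)
    (h1 : Matrix.ProjGenLinGroup.mk g ≠ 1) : (g : Matrix (Fin 2) (Fin 2) F).trace = 0 := by
  by_contra ht
  apply h1
  obtain ⟨s, hs⟩ := (mk_pow_eq_one_iff' g 2).mp h
  rw [(mat2_pow_formulas _).1] at hs
  rw [mk_eq_one_iff_scalar]
  exact ⟨_, mat2_scalar_of_smul_eq (b := s + (g : Matrix (Fin 2) (Fin 2) F).det) (by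
    linear_combination (norm := module) hs) ht⟩

/-- **A maximal `S₄` of order prime to `p` lives over the prime field.** -/
theorem card_eq_char_of_S4 [Fintype F] (p : ℕ) [Fact p.Prime] [CharP F p]
    (hodd : Odd (Fintype.card F)) (M : Subgroup PGL2) (hM : IsCoatom M)
    (hp : ¬ p ∣ Nat.card M) (e : M ≃* Equiv.Perm (Fin 4)) : Fintype.card F = p := by
  classical
  have h2 : (2 : F) ≠ 0 := two_ne_zero_of_odd_card hodd
  have hsq1 : s4s1 = c[0, 2, 1, 3] * c[0, 2, 1, 3] := by decide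
  have hsq2 : s4s2 = c[0, 1, 2, 3] * c[0, 1, 2, 3] := by decide
  have hne1 : ∀ σ : Equiv.Perm (Fin 4), σ ≠ 1 → ((e.symm σ : M) : PGL2) ≠ 1 := by
    intro σ hσ h
    apply hσ
    have : e.symm σ = 1 := Subtype.ext h
    have h' := congrArg e this
    rwa [e.apply_symm_apply, map_one] at h'
  have hpow : ∀ σ : Equiv.Perm (Fin 4), σ ^ 2 = 1 → ((e.symm σ : M) : PGL2) ^ 2 = 1 := by
    intro σ hσ
    rw [← Subgroup.coe_pow, ← map_pow, hσ, map_one, Subgroup.coe_one]
  have haL : ((e.symm s4s1 : M) : PGL2) ∈ pglL F := by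
    rw [hsq1, map_mul, Subgroup.coe_mul]; exact sq_mem_pglL _
  have hbL : ((e.symm s4s2 : M) : PGL2) ∈ pglL F := by
    rw [hsq2, map_mul, Subgroup.coe_mul]; exact sq_mem_pglL _
  obtain ⟨i, hi⟩ := haL
  obtain ⟨j, hj⟩ := hbL
  have hi' : Matrix.ProjGenLinGroup.mk (Matrix.SpecialLinearGroup.toGL i)
      = ((e.symm s4s1 : M) : PGL2) := hi
  have hj' : Matrix.ProjGenLinGroup.mk (Matrix.SpecialLinearGroup.toGL j)
      = ((e.symm s4s2 : M) : PGL2) := hj
  have hij' : Matrix.ProjGenLinGroup.mk (Matrix.SpecialLinearGroup.toGL (i * j))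
      = ((e.symm (s4s1 * s4s2) : M) : PGL2) := by
    rw [map_mul, map_mul, hi', hj', map_mul, Subgroup.coe_mul]
  have ti : tr2 i = 0 := by
    rw [tr2_eq_trace]
    exact tr_eq_zero_of_mk_sq (Matrix.SpecialLinearGroup.toGL i)
      (by rw [hi']; exact hpow _ (by decide)) (by rw [hi']; exact hne1 _ (by decide))
  have tj : tr2 j = 0 := by
    rw [tr2_eq_trace]
    exact tr_eq_zero_of_mk_sq (Matrix.SpecialLinearGroup.toGL j)
      (by rw [hj']; exact hpow _ (by decide)) (by rw [hj']; exact hne1 _ (by decide))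
  have tij : tr2 (i * j) = 0 := by
    rw [tr2_eq_trace]
    exact tr_eq_zero_of_mk_sq (Matrix.SpecialLinearGroup.toGL (i * j))
      (by rw [hij']; exact hpow _ (by decide)) (by rw [hij']; exact hne1 _ (by decide))
  obtain ⟨a, b, ha, hb, hab⟩ := exists_sq_add_sq_mem p (fix1 (F := F) p)
  obtain ⟨W, a', b', hab', ha', hb', hWi, hWj⟩ :=
    exists_frame_gl h2 (fix1 (F := F) p) i j ti tj tij a b ha hb hab
  set w : PGL2 := Matrix.ProjGenLinGroup.mk W with hw
  have hM' := isCoatom_map_conj hM w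
  set M' := M.map (MulAut.conj w).toMonoidHom with hM'def
  let φ : M ≃* M' := M.equivMapOfInjective _ (MulAut.conj w).injective
  let e' : M' ≃* Equiv.Perm (Fin 4) := φ.symm.trans e
  have hcI : w * ((e.symm s4s1 : M) : PGL2) * w⁻¹
      = Matrix.ProjGenLinGroup.mk (Matrix.SpecialLinearGroup.toGL (frameI : SL2)) := by
    rw [← hi', ← hWi, hw, map_mul, map_mul, map_inv]
  have hcJ : w * ((e.symm s4s2 : M) : PGL2) * w⁻¹
      = Matrix.ProjGenLinGroup.mk (Matrix.SpecialLinearGroup.toGL (frameJ a' b' hab')) := by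
    rw [← hj', ← hWj, hw, map_mul, map_mul, map_inv]
  have hI : Matrix.ProjGenLinGroup.mk (Matrix.SpecialLinearGroup.toGL (frameI : SL2)) ∈ M' :=
    ⟨((e.symm s4s1 : M) : PGL2), (e.symm s4s1).2, hcI⟩
  have hJ : Matrix.ProjGenLinGroup.mk (Matrix.SpecialLinearGroup.toGL (frameJ a' b' hab')) ∈ M' :=
    ⟨((e.symm s4s2 : M) : PGL2), (e.symm s4s2).2, hcJ⟩
  have hI' : e' ⟨_, hI⟩ = s4s1 := by
    have h1 : φ (e.symm s4s1) = ⟨_, hI⟩ :=
      Subtype.ext ((Subgroup.coe_equivMapOfInjective_apply _ _ _ _).trans hcI)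
    show e (φ.symm ⟨_, hI⟩) = s4s1
    rw [← h1, φ.symm_apply_apply, e.apply_symm_apply]
  have hJ' : e' ⟨_, hJ⟩ = s4s2 := by
    have h1 : φ (e.symm s4s2) = ⟨_, hJ⟩ :=
      Subtype.ext ((Subgroup.coe_equivMapOfInjective_apply _ _ _ _).trans hcJ)
    show e (φ.symm ⟨_, hJ⟩) = s4s2
    rw [← h1, φ.symm_apply_apply, e.apply_symm_apply]
  have hle := le_pglSub_of_frame h2 (fix1 (F := F) p) M' e' a' b' ha' hb' hab' hI hJ hI' hJ'
  rcases hM'.le_iff.mp hle with h | h
  · by_contra hq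
    apply pglSub_ne_top (fix1 (F := F) p) _ h
    intro hK
    exact hq (card_of_fix1_eq_top p hK)
  · exfalso
    obtain ⟨u, hu, hord⟩ := exists_orderOf_eq_char_mem_pglSub p (fix1 (F := F) p)
    rw [h] at hu
    apply hp
    rw [← card_map_conj M w, ← hord]
    exact Subgroup.orderOf_dvd_natCard _ hu

end Cfsg.Agent.Lib.Helper41
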