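import Mathlib
import Cfsg.Agent.Lib.Helper41.PGLMaxDih

set_option autoImplicit false

/-!
# Maximal subgroups of `PGL₂(q)`: the case of `2`-groups (helper41)
-/

namespace Cfsg.Agent.Lib.Helper41

open Cfsg.Agent.Lib.Helper14

/-- **Burnside.** in a finite simple group of order not divisible by `8`, a subgroup of order `4`
is not self-normalising -/
theorem normalizer_ne_of_card_four {S : Type*} [Group S] [Finite S] [IsSimpleGroup S]
    (Q : Subgroup S) (hQ : Nat.card Q = 4) (h8 : ¬ 8 ∣ Nat.card S) (hS : Nat.card S ≠ 4) :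
    Subgroup.normalizer (Q : Set S) ≠ Q := by
  intro hN
  have : Fact (Nat.Prime 2) := ⟨Nat.prime_two⟩
  have hSpos : Nat.card S ≠ 0 := Nat.card_pos.ne'
  have h4 : 2 ^ 2 ∣ Nat.card S := by
    have := Subgroup.card_subgroup_dvd_card Q
    rw [hQ] at this
    exact this
  have hfac : (Nat.card S).factorization 2 = 2 := by
    have h1 := (Nat.Prime.pow_dvd_iff_le_factorization Nat.prime_two hSpos).mp h4
    have h2 : ¬ 3 ≤ (Nat.card S).factorization 2 := by
      intro h3
      apply h8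
      have := (Nat.Prime.pow_dvd_iff_le_factorization Nat.prime_two hSpos).mpr h3
      exact this
    omega
  let P : Sylow 2 S := Sylow.ofCard Q (by rw [hQ, hfac]; norm_num)
  have hPQ : (P : Subgroup S) = Q := Sylow.coe_ofCard Q _
  have hcomm : ∀ a b : Q, a * b = b * a := by
    have := IsPGroup.isMulCommutative_of_card_eq_prime_sq (p := 2) (G := Q) (by rw [hQ]; norm_num)
    intro a b
    exact mul_comm' a b
  have hP : Subgroup.normalizer (P : Set S) ≤ Subgroup.centralizer (P : Set S) := by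
    change Subgroup.normalizer (Q : Set S) ≤ Subgroup.centralizer (Q : Set S)
    intro x hx
    have hx' : x ∈ Q := by
      rw [hN] at hx
      exact hx
    rw [Subgroup.mem_centralizer_iff]
    intro y hy
    have := hcomm ⟨y, hy⟩ ⟨x, hx'⟩
    exact congrArg Subtype.val this
  have hc := MonoidHom.ker_transferSylow_isComplement' P hP
  have hcard := hc.card_mul_card
  have hPc : Nat.card (P : Subgroup S) = 4 := hQ
  rw [hPc] at hcard
  rcases (MonoidHom.normal_ker (MonoidHom.transferSylow P hP)).eq_bot_or_eq_top with h | h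
  · rw [h, Subgroup.card_bot] at hcard
    omega
  · rw [h, Subgroup.card_top] at hcard
    have : 0 < Nat.card S := Nat.card_pos
    omega

/-- a maximal subgroup `M` normalising `⟨x⟩` (not normal) contains `D ^ (g⁻¹)` if `D` normalises
`⟨g x g⁻¹⟩` -/
theorem conj_le_of_normalizes {G : Type*} [Group G] (M : Subgroup G) (hM : IsCoatom M)
    (D : Subgroup G) (x g : G)
    (hD : ∀ d ∈ D, d * (g * x * g⁻¹) * d⁻¹ = g * x * g⁻¹ ∨
      d * (g * x * g⁻¹) * d⁻¹ = (g * x * g⁻¹)⁻¹)
    (hnorm : ∀ m ∈ M, m * x * m⁻¹ ∈ Subgroup.zpowers x)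
    (hnn : ¬ (Subgroup.zpowers x).Normal) :
    D.map (MulAut.conj g⁻¹).toMonoidHom ≤ M := by
  set N : Subgroup G := Subgroup.normalizer ((Subgroup.zpowers x : Subgroup G) : Set G) with hN
  have hmemN : ∀ m : G, m * x * m⁻¹ ∈ Subgroup.zpowers x → m⁻¹ * x * m ∈ Subgroup.zpowers x →
      m ∈ N := by
    intro m h1 h2
    rw [hN, Subgroup.mem_normalizer_iff]
    intro y
    constructor
    · intro hy
      obtain ⟨i, rfl⟩ := Subgroup.mem_zpowers_iff.mp hy
      have : m * x ^ i * m⁻¹ = (m * x * m⁻¹) ^ i := by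
        rw [← MulAut.conj_apply, map_zpow, MulAut.conj_apply]
      rw [this]
      exact Subgroup.zpow_mem _ h1 i
    · intro hy
      obtain ⟨i, hi⟩ := Subgroup.mem_zpowers_iff.mp hy
      have e : y = m⁻¹ * (m * y * m⁻¹) * m := by group
      rw [e, ← hi]
      have : m⁻¹ * x ^ i * m = (m⁻¹ * x * m) ^ i := by
        have h3 := map_zpow (MulAut.conj m⁻¹) x i
        rw [MulAut.conj_apply, MulAut.conj_apply, inv_inv] at h3
        exact h3
      rw [this]
      exact Subgroup.zpow_mem _ h2 i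
  have hMN : M ≤ N := by
    intro m hm
    apply hmemN m (hnorm m hm)
    have := hnorm m⁻¹ (M.inv_mem hm)
    rwa [inv_inv] at this
  have hD'N : D.map (MulAut.conj g⁻¹).toMonoidHom ≤ N := by
    rintro _ ⟨d, hd, rfl⟩
    have hconj : ∀ d ∈ D, (g⁻¹ * d * g) * x * (g⁻¹ * d * g)⁻¹ ∈ Subgroup.zpowers x := by
      intro d hd
      have e : (g⁻¹ * d * g) * x * (g⁻¹ * d * g)⁻¹ = g⁻¹ * (d * (g * x * g⁻¹) * d⁻¹) * g := by group
      rw [e]
      rcases hD d hd with h | h
      · rw [h]
        have : g⁻¹ * (g * x * g⁻¹) * g = x := by group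
        rw [this]; exact Subgroup.mem_zpowers x
      · rw [h]
        have : g⁻¹ * (g * x * g⁻¹)⁻¹ * g = x⁻¹ := by group
        rw [this]; exact Subgroup.inv_mem _ (Subgroup.mem_zpowers x)
    have e1 : (MulAut.conj g⁻¹).toMonoidHom d = g⁻¹ * d * g := by
      show g⁻¹ * d * g⁻¹⁻¹ = _
      rw [inv_inv]
    rw [e1]
    apply hmemN _ (hconj d hd)
    have := hconj d⁻¹ (D.inv_mem hd)
    have e2 : (g⁻¹ * d⁻¹ * g) = (g⁻¹ * d * g)⁻¹ := by group
    rw [e2, inv_inv] at this
    exact this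
  have hNtop : N ≠ ⊤ := by
    intro htop
    exact hnn (Subgroup.normalizer_eq_top_iff.mp htop)
  have hNM : N = M := by
    rcases hM.le_iff.mp hMN with h | h
    · exact absurd h hNtop
    · exact h
  exact hNM ▸ hD'N

/-- in a dihedral group, every element normalises (by `±1`) an element of order `> 2` -/
theorem dihedral_conj_pm (m : ℕ) (w d : DihedralGroup m) (hw : w ^ 2 ≠ 1) :
    d * w * d⁻¹ = w ∨ d * w * d⁻¹ = w⁻¹ := by
  cases w with
  | r i =>
    cases d with
    | r j => left; simp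
    | sr j => right; simp
  | sr i =>
    exfalso
    apply hw
    rw [pow_two, DihedralGroup.sr_mul_self]

/-- the `2`-analogue of the Sylow trick: `z ∈ M ∩ L` a `2`-element with `z² ≠ 1` and `⟨z⟩`
normalised by `M`; then `M ∩ L` contains a conjugate of every dihedral subgroup `D` of `L` of odd
index in `L` -/
theorem pgl_two_core {G : Type*} [Group G] [Finite G] (L : Subgroup G) [L.Normal]
    (hLs : IsSimpleGroup L) (M : Subgroup G) (hM : IsCoatom M) (hML : ¬ L ≤ M)
    (D : Subgroup G) (hDL : D ≤ L) (m : ℕ) (eD : D ≃* DihedralGroup m)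
    (hidx : ¬ 2 ∣ (D.subgroupOf L).index)
    (z : G) (hzM : z ∈ M) (hzL : z ∈ L) (hz4 : z ^ 2 ≠ 1) (k : ℕ) (hz2 : z ^ (2 ^ k) = 1)
    (hnorm : ∀ m ∈ M, m * z * m⁻¹ ∈ Subgroup.zpowers z) :
    Nat.card D ≤ Nat.card (M ⊓ L : Subgroup G) := by
  have : Fact (Nat.Prime 2) := ⟨Nat.prime_two⟩
  obtain ⟨g, hg⟩ := exists_conj_mem_of_not_dvd_index (D.subgroupOf L) 2 hidx (⟨z, hzL⟩ : L) k
    (by apply Subtype.ext; simpa using hz2)
  rw [Subgroup.mem_subgroupOf] at hg
  have hgD : (g : G) * z * (g : G)⁻¹ ∈ D := by simpa using hg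
  have hw2 : ((g : G) * z * (g : G)⁻¹) ^ 2 ≠ 1 := by
    intro h1
    apply hz4
    have e : ((g : G) * z * (g : G)⁻¹) ^ 2 = (g : G) * z ^ 2 * (g : G)⁻¹ := by
      rw [pow_two, pow_two]; group
    rw [e] at h1
    have : z ^ 2 = (g : G)⁻¹ * ((g : G) * z ^ 2 * (g : G)⁻¹) * (g : G) := by group
    rw [this, h1]; group
  have hD : ∀ d ∈ D, d * ((g : G) * z * (g : G)⁻¹) * d⁻¹ = (g : G) * z * (g : G)⁻¹ ∨
      d * ((g : G) * z * (g : G)⁻¹) * d⁻¹ = ((g : G) * z * (g : G)⁻¹)⁻¹ := by
    intro d hd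
    have hw2' : (eD ⟨(g : G) * z * (g : G)⁻¹, hgD⟩) ^ 2 ≠ 1 := by
      intro h1
      apply hw2
      rw [← map_pow] at h1
      have h2 : (⟨(g : G) * z * (g : G)⁻¹, hgD⟩ : D) ^ 2 = 1 := by
        apply eD.injective; rw [h1, map_one]
      have := congrArg Subtype.val h2
      simpa using this
    rcases dihedral_conj_pm m (eD ⟨(g : G) * z * (g : G)⁻¹, hgD⟩) (eD ⟨d, hd⟩) hw2' with h1 | h1
    · left
      rw [← map_inv, ← map_mul, ← map_mul] at h1
      have := congrArg Subtype.val (eD.injective h1)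
      simpa using this
    · right
      rw [← map_inv, ← map_mul, ← map_mul, ← map_inv] at h1
      have := congrArg Subtype.val (eD.injective h1)
      simpa using this
  have hz1 : z ≠ 1 := by
    rintro rfl
    exact hz4 (one_pow 2)
  have hnn : ¬ (Subgroup.zpowers z).Normal := by
    apply not_normal_of_le_simple L hLs _ (Subgroup.zpowers_le.mpr hzL)
    · intro h1
      apply hz1
      have := Subgroup.mem_zpowers z
      rw [h1, Subgroup.mem_bot] at this
      exact this
    · intro h1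
      apply hML
      rw [← h1, Subgroup.zpowers_le]
      exact hzM
  have hle := conj_le_of_normalizes M hM D z (g : G) hD hnorm hnn
  have hgL : D.map (MulAut.conj (g : G)⁻¹).toMonoidHom ≤ L := by
    rintro _ ⟨d, hd, rfl⟩
    exact ‹L.Normal›.conj_mem d (hDL hd) _
  rw [Nat.card_congr (D.equivMapOfInjective (MulAut.conj (g : G)⁻¹).toMonoidHom
      (MulAut.conj (g : G)⁻¹).injective).toEquiv]
  exact Subgroup.card_le_of_le (le_inf hle hgL)

variable {F : Type*} [Field F]

local notation "PGL2" => Matrix.ProjGenLinGroup (Fin 2) F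
local notation "PSL2" => Matrix.ProjectiveSpecialLinearGroup (Fin 2) F
local notation "toP" => (Matrix.ProjectiveSpecialLinearGroup.toPGL (n := Fin 2) (R := F))

theorem index_subgroupOf_pglL [Finite F] (X : Subgroup PSL2) :
    ((X.map toP).subgroupOf (pglL F)).index * Nat.card X = Nat.card PSL2 := by
  have h1 := Subgroup.index_mul_card ((X.map toP).subgroupOf (pglL F))
  rw [Nat.card_congr (Subgroup.subgroupOfEquivOfLe (map_toPGL_le_pglL X)).toEquiv,
    card_map_toPGL, card_pglL] at h1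
  exact h1

/-- `8 ∣ q² - 1` for odd `q` -/
theorem eight_dvd_sq_sub_one (q : ℕ) (hq : q % 2 = 1) : 8 ∣ q ^ 2 - 1 := by
  have h1 : q ^ 2 % 8 = 1 := by
    rw [Nat.pow_mod]
    have h8 := Nat.mod_lt q (by norm_num : 8 > 0)
    have h2 : (q % 8) % 2 = 1 := by rw [Nat.mod_mod_of_dvd q (by norm_num : 2 ∣ 8)]; exact hq
    generalize q % 8 = r at *
    interval_cases r <;> simp_all
  omega

end Cfsg.Agent.Lib.Helper41
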