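import Mathlib
import Cfsg.Agent.Lib.Helper41.PGLMaxTwo

set_option autoImplicit false

/-!
# Maximal subgroups of `PGL₂(q)`: cyclic / dihedral `2`-groups (helper41)
-/

namespace Cfsg.Agent.Lib.Helper41

open Cfsg.Agent.Lib.Helper14

variable {F : Type*} [Field F]

local notation "PGL2" => Matrix.ProjGenLinGroup (Fin 2) F
local notation "PSL2" => Matrix.ProjectiveSpecialLinearGroup (Fin 2) F
local notation "toP" => (Matrix.ProjectiveSpecialLinearGroup.toPGL (n := Fin 2) (R := F))

/-- a maximal subgroup of `PGL₂(q)`, `q ≥ 5` odd, which is a `2`-group is a Sylow `2`-subgroup,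
of order divisible by `8` -/
theorem coatom_two_group_sylow [Fintype F] (hodd : Odd (Fintype.card F))
    (h5 : 5 ≤ Fintype.card F) (M : Subgroup PGL2) (hM : IsCoatom M) (hM2 : IsPGroup 2 M) :
    ∃ P : Sylow 2 PGL2, (P : Subgroup PGL2) = M := by
  have : Fact (Nat.Prime 2) := ⟨Nat.prime_two⟩
  obtain ⟨P, hMP⟩ := hM2.exists_le_sylow
  refine ⟨P, ?_⟩
  rcases hM.le_iff.mp hMP with htop | h
  · exfalso
    obtain ⟨k, hk⟩ := IsPGroup.iff_card.mp P.isPGroup'
    rw [htop, Subgroup.card_top, card_PGL2] at hk
    have h1 : Fintype.card F ∣ 2 ^ k := by rw [← hk]; exact dvd_mul_right _ _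
    obtain ⟨j, -, hj⟩ := (Nat.dvd_prime_pow Nat.prime_two).mp h1
    have hq2 := Nat.odd_iff.mp hodd
    rcases Nat.eq_zero_or_pos j with rfl | hjpos
    · rw [pow_zero] at hj; omega
    · have : 2 ∣ Fintype.card F := by rw [hj]; exact dvd_pow_self 2 (by omega)
      omega
  · exact h

theorem eight_dvd_card_PGL2 [Fintype F] (hodd : Odd (Fintype.card F)) :
    8 ∣ Nat.card PGL2 := by
  rw [card_PGL2]
  exact Dvd.dvd.mul_left (eight_dvd_sq_sub_one _ (Nat.odd_iff.mp hodd)) _

/-- a Sylow `2`-subgroup of order `8` of `PGL₂(q)` is not maximal -/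
theorem not_coatom_card_eight [Fintype F] (hodd : Odd (Fintype.card F))
    (h5 : 5 ≤ Fintype.card F) (M : Subgroup PGL2) (hM : IsCoatom M) (hML : ¬ pglL F ≤ M)
    (P : Sylow 2 PGL2) (hPM : (P : Subgroup PGL2) = M) (h8 : Nat.card M = 8) : False := by
  have : Fact (Nat.Prime 2) := ⟨Nat.prime_two⟩
  have hLs := isSimpleGroup_pglL (F := F) (by omega)
  have hidx := index_pglL_of_odd (F := F) hodd
  have hcard := card_eq_two_mul_card_inf (pglL F) hidx M hM hML
  have hLG := Subgroup.card_mul_index (pglL F)
  rw [hidx] at hLG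
  have h8L : ¬ 8 ∣ Nat.card (pglL F) := by
    intro hd
    have h16 : 2 ^ 4 ∣ Nat.card PGL2 := by
      rw [← hLG]
      obtain ⟨c, hc⟩ := hd
      exact ⟨c, by rw [hc]; ring⟩
    have := P.pow_dvd_card_of_pow_dvd_card h16
    rw [hPM, h8] at this
    omega
  have hL4 : Nat.card (pglL F) ≠ 4 := by
    intro h4
    rw [h4, card_PGL2] at hLG
    have h1 : 5 * 24 ≤ Fintype.card F * (Fintype.card F ^ 2 - 1) := by
      apply Nat.mul_le_mul h5
      have : 5 ^ 2 ≤ Fintype.card F ^ 2 := Nat.pow_le_pow_left h5 2
      omega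
    omega
  have hQ : Nat.card ((M ⊓ pglL F).subgroupOf (pglL F)) = 4 := by
    rw [Nat.card_congr (Subgroup.subgroupOfEquivOfLe inf_le_right).toEquiv]
    omega
  have hne := normalizer_ne_of_card_four (S := pglL F) _ hQ h8L hL4
  apply hne
  have hN : Subgroup.normalizer ((M ⊓ pglL F : Subgroup PGL2) : Set PGL2) = M := by
    apply normalizer_eq_of_coatom_of_le (pglL F) hLs M _ hM inf_le_right
    · intro hbot
      rw [hbot, Subgroup.card_bot] at hcard
      omega
    · intro h
      apply hML
      rw [← h]; exact inf_le_left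
    · intro m hm
      rw [Subgroup.mem_normalizer_iff]
      intro x
      constructor
      · rintro ⟨h1, h2⟩
        exact ⟨M.mul_mem (M.mul_mem hm h1) (M.inv_mem hm), pglL_normal.conj_mem x h2 m⟩
      · rintro ⟨h1, h2⟩
        constructor
        · have : x = m⁻¹ * (m * x * m⁻¹) * m := by group
          rw [this]
          exact M.mul_mem (M.mul_mem (M.inv_mem hm) h1) hm
        · have : x = m⁻¹ * (m * x * m⁻¹) * m⁻¹⁻¹ := by group
          rw [this]
          exact pglL_normal.conj_mem _ h2 m⁻¹
  rw [← Subgroup.subgroupOf_normalizer_eq inf_le_right, hN, Subgroup.inf_subgroupOf_right]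

/-- **The cyclic / dihedral case** when the order is a power of two. -/
theorem pgl_two_group_case [Fintype F] (p : ℕ) [Fact p.Prime] [CharP F p]
    (hodd : Odd (Fintype.card F)) (h5 : 5 ≤ Fintype.card F)
    (M : Subgroup PGL2) (hM : IsCoatom M) (hML : ¬ pglL F ≤ M)
    (n : ℕ) (h : (IsCyclic M ∧ Nat.card M = n) ∨ Nonempty (M ≃* DihedralGroup n))
    (hn2 : ∀ r : ℕ, r.Prime → r ∣ n → r = 2) :
    ((n = Fintype.card F - 1 ∧ Fintype.card F ≠ 5) ∨ n = Fintype.card F + 1) ∧
      Nonempty (M ≃* DihedralGroup n) := by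
  classical
  have : Fact (Nat.Prime 2) := ⟨Nat.prime_two⟩
  have hpp := (Fact.out : p.Prime)
  set q := Fintype.card F with hq
  have hq2 : q % 2 = 1 := Nat.odd_iff.mp hodd
  have hLs := isSimpleGroup_pglL (F := F) (by omega)
  have hcard := card_eq_two_mul_card_inf (pglL F) (index_pglL_of_odd hodd) M hM hML
  have hMpos : 0 < Nat.card M := Nat.card_pos
  have hn0 : n ≠ 0 := by
    rintro rfl
    rcases h with ⟨-, hc⟩ | ⟨⟨e⟩⟩
    · omega
    · rw [Nat.card_congr e.toEquiv, DihedralGroup.nat_card] at hMpos; omega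
  obtain ⟨a, ha⟩ : ∃ a, n = 2 ^ a :=
    ⟨_, Nat.eq_prime_pow_of_unique_prime_dvd hn0 (fun hd hdn => hn2 _ hd hdn)⟩
  have hM2 : IsPGroup 2 M := by
    rcases h with ⟨-, hc⟩ | ⟨⟨e⟩⟩
    · exact IsPGroup.of_card (n := a) (by rw [hc, ha])
    · exact IsPGroup.of_card (n := a + 1) (by
        rw [Nat.card_congr e.toEquiv, DihedralGroup.nat_card, ha, pow_succ]; ring)
  obtain ⟨P, hPM⟩ := coatom_two_group_sylow hodd h5 M hM hM2
  have h8M : 8 ∣ Nat.card M := by
    have := P.pow_dvd_card_of_pow_dvd_card (n := 3) (eight_dvd_card_PGL2 hodd)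
    rw [hPM] at this
    exact this
  by_cases hn8 : 8 ≤ n
  · -- the main case
    have ha3 : 3 ≤ a := by
      by_contra hcon
      have : a ≤ 2 := by omega
      have : 2 ^ a ≤ 2 ^ 2 := Nat.pow_le_pow_right (by norm_num) this
      omega
    obtain ⟨y, hyM, hyn, hynorm⟩ : ∃ y : PGL2, y ∈ M ∧ orderOf y = n ∧
        ∀ m ∈ M, m * (y * y) * m⁻¹ ∈ Subgroup.zpowers (y * y) := by
      rcases h with ⟨hcyc, hc⟩ | ⟨⟨e⟩⟩
      · obtain ⟨g, hg⟩ := IsCyclic.exists_generator (α := M)
        refine ⟨(g : PGL2), g.2, ?_, ?_⟩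
        · rw [Subgroup.orderOf_coe, orderOf_eq_card_of_forall_mem_zpowers hg, hc]
        · intro m hm
          obtain ⟨i, hi⟩ := Subgroup.mem_zpowers_iff.mp (hg ⟨m, hm⟩)
          have hm' : m = (g : PGL2) ^ i := by
            have := congrArg Subtype.val hi
            simpa using this.symm
          have hcomm : m * ((g : PGL2) * g) * m⁻¹ = (g : PGL2) * g := by
            rw [hm', ← pow_two, ← zpow_natCast, ← zpow_add, ← zpow_neg, ← zpow_add]
            congr 1
            ring
          rw [hcomm]; exact Subgroup.mem_zpowers _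
      · refine ⟨((e.symm (DihedralGroup.r 1) : M) : PGL2), (e.symm (DihedralGroup.r 1)).2, ?_, ?_⟩
        · rw [Subgroup.orderOf_coe, MulEquiv.orderOf_eq, DihedralGroup.orderOf_r_one]
        · intro m hm
          have hw : ((DihedralGroup.r 1 * DihedralGroup.r 1 : DihedralGroup n)) ^ 2 ≠ 1 := by
            rw [DihedralGroup.r_mul_r, pow_two, DihedralGroup.r_mul_r]
            intro h1
            have h2 : ((1 : ZMod n) + 1 + (1 + 1)) = 0 := by
              have := DihedralGroup.r.inj (h1.trans DihedralGroup.one_def)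
              exact this
            have h3 : ((4 : ℕ) : ZMod n) = 0 := by
              rw [← h2]; push_cast; ring
            rw [ZMod.natCast_eq_zero_iff] at h3
            have := Nat.le_of_dvd (by norm_num) h3
            omega
          rcases dihedral_conj_pm n (DihedralGroup.r 1 * DihedralGroup.r 1) (e ⟨m, hm⟩) hw
            with h1 | h1
          · have h2 : (⟨m, hm⟩ : M) * (e.symm (DihedralGroup.r 1) * e.symm (DihedralGroup.r 1)) *
                (⟨m, hm⟩ : M)⁻¹ = e.symm (DihedralGroup.r 1) * e.symm (DihedralGroup.r 1) := by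
              apply e.injective
              simp only [map_mul, map_inv, MulEquiv.apply_symm_apply]
              exact h1
            have h3 := congrArg Subtype.val h2
            simp only [Subgroup.coe_mul, Subgroup.coe_inv] at h3
            rw [h3]; exact Subgroup.mem_zpowers _
          · have h2 : (⟨m, hm⟩ : M) * (e.symm (DihedralGroup.r 1) * e.symm (DihedralGroup.r 1)) *
                (⟨m, hm⟩ : M)⁻¹
                = (e.symm (DihedralGroup.r 1) * e.symm (DihedralGroup.r 1))⁻¹ := by
              apply e.injective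
              simp only [map_mul, map_inv, MulEquiv.apply_symm_apply]
              exact h1
            have h3 := congrArg Subtype.val h2
            simp only [Subgroup.coe_mul, Subgroup.coe_inv] at h3
            rw [h3]; exact Subgroup.inv_mem _ (Subgroup.mem_zpowers _)
    have hzM : y * y ∈ M := M.mul_mem hyM hyM
    have hzL : y * y ∈ pglL F := sq_mem_pglL y
    have hz4 : (y * y) ^ 2 ≠ 1 := by
      intro h1
      have h2 : y ^ 4 = 1 := by rw [← h1, ← pow_two, ← pow_mul]
      have := orderOf_le_of_pow_eq_one (by norm_num) h2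
      omega
    have hz2 : (y * y) ^ (2 ^ a) = 1 := by
      rw [← pow_two, ← pow_mul, mul_comm, pow_mul, ← ha, ← hyn, pow_orderOf_eq_one, one_pow]
    have hncases : n ∣ q - 1 ∨ n ∣ q + 1 := by
      rcases pgl2_pow_cases p y with h1 | h1 | h1
      · exfalso
        have h2 : n ∣ p := by rw [← hyn]; exact orderOf_dvd_of_pow_eq_one h1
        have h3 : 2 ∣ p := (Dvd.intro_left (2 ^ (a - 1)) (by
          rw [ha, ← pow_succ]; congr 1; omega)).trans h2
        have h4 : p = 2 := ((Nat.prime_dvd_prime_iff_eq Nat.prime_two hpp).mp h3).symm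
        rw [h4] at h2
        have := Nat.le_of_dvd (by norm_num) h2
        omega
      · left; rw [← hyn]; exact orderOf_dvd_of_pow_eq_one h1
      · right; rw [← hyn]; exact orderOf_dvd_of_pow_eq_one h1
    have hz : Nat.gcd 2 (q - 1) = 2 := gcd_two_pred_of_odd hodd
    have hzc : Nat.card (Subgroup.center (Matrix.SpecialLinearGroup (Fin 2) F)) = 2 := by
      rw [Cfsg.Agent.Lib.Helper42.card_center_eq_gcd, ← hq, hz]
    have hS2 : Nat.card PSL2 * 2 = q * ((q - 1) * (q + 1)) := by
      have := card_PSL2_mul_gcd (K := F)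
      rw [← hq, hz, sq_sub_one_eq q (by omega)] at this
      exact this
    rcases hncases with hnc | hnc
    · -- split
      have h8q : 8 ∣ q - 1 := (Dvd.intro_left (2 ^ (a - 3)) (by
        rw [ha, show (8 : ℕ) = 2 ^ 3 by norm_num, ← pow_add]; congr 1; omega)).trans hnc
      have hT : 2 * Nat.card (splitTorusBar F) = q - 1 := by
        have := card_splitTorusBar_mul (F := F)
        rw [hzc] at this
        rw [← this]; ring
      obtain ⟨eD⟩ := splitDih_dihedral (F := F)
      have hDc : Nat.card (splitDih F) = q - 1 := by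
        rw [Nat.card_congr eD.toEquiv, DihedralGroup.nat_card, hT]
      have hidx : ¬ 2 ∣ (((splitDih F).map toP).subgroupOf (pglL F)).index := by
        rintro ⟨j, hj⟩
        have h1 := index_subgroupOf_pglL (splitDih F)
        rw [hj, hDc] at h1
        have h2 : (4 * j) * (q - 1) = (q * (q + 1)) * (q - 1) := by
          calc (4 * j) * (q - 1) = (2 * j * (q - 1)) * 2 := by ring
            _ = q * ((q - 1) * (q + 1)) := by rw [h1, hS2]
            _ = (q * (q + 1)) * (q - 1) := by ring
        have h3 : 4 * j = q * (q + 1) := Nat.eq_of_mul_eq_mul_right (by omega) h2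
        have h4 : (q * (q + 1)) % 4 = 2 := by
          rw [Nat.mul_mod]
          have e1 : q % 4 = 1 := by omega
          have e2 : (q + 1) % 4 = 2 := by omega
          rw [e1, e2]
        omega
      have hle := pgl_two_core (pglL F) hLs M hM hML ((splitDih F).map toP)
        (map_toPGL_le_pglL _) _
        (((splitDih F).equivMapOfInjective toP
          Matrix.ProjectiveSpecialLinearGroup.toPGL_injective).symm.trans eD)
        hidx (y * y) hzM hzL hz4 a hz2 hynorm
      rw [card_map_toPGL, hDc] at hle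
      have hnle : n ≤ q - 1 := Nat.le_of_dvd (by omega) hnc
      rcases h with ⟨-, hc⟩ | ⟨⟨e⟩⟩
      · exfalso; omega
      · have : Nat.card M = 2 * n := by rw [Nat.card_congr e.toEquiv, DihedralGroup.nat_card]
        refine ⟨Or.inl ⟨by omega, by omega⟩, ⟨e⟩⟩
    · -- non-split
      have h8q : 8 ∣ q + 1 := (Dvd.intro_left (2 ^ (a - 3)) (by
        rw [ha, show (8 : ℕ) = 2 ^ 3 by norm_num, ← pow_add]; congr 1; omega)).trans hnc
      obtain ⟨t, ht⟩ := exists_nonsplit_trace (F := F)
      have hT : 2 * Nat.card (nsTorusBar t) = q + 1 := by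
        have := card_nsTorusBar_mul ht
        rw [hzc] at this
        rw [← this]; ring
      obtain ⟨eD⟩ := nsDih_dihedral ht
      have hDc : Nat.card (nsDih t) = q + 1 := by
        rw [Nat.card_congr eD.toEquiv, DihedralGroup.nat_card, hT]
      have hidx : ¬ 2 ∣ (((nsDih t).map toP).subgroupOf (pglL F)).index := by
        rintro ⟨j, hj⟩
        have h1 := index_subgroupOf_pglL (nsDih t)
        rw [hj, hDc] at h1
        have h2 : (4 * j) * (q + 1) = (q * (q - 1)) * (q + 1) := by
          calc (4 * j) * (q + 1) = (2 * j * (q + 1)) * 2 := by ring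
            _ = q * ((q - 1) * (q + 1)) := by rw [h1, hS2]
            _ = (q * (q - 1)) * (q + 1) := by ring
        have h3 : 4 * j = q * (q - 1) := Nat.eq_of_mul_eq_mul_right (by omega) h2
        have h4 : (q * (q - 1)) % 4 = 2 := by
          rw [Nat.mul_mod]
          have e1 : q % 4 = 3 := by omega
          have e2 : (q - 1) % 4 = 2 := by omega
          rw [e1, e2]
        omega
      have hle := pgl_two_core (pglL F) hLs M hM hML ((nsDih t).map toP)
        (map_toPGL_le_pglL _) _
        (((nsDih t).equivMapOfInjective toP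
          Matrix.ProjectiveSpecialLinearGroup.toPGL_injective).symm.trans eD)
        hidx (y * y) hzM hzL hz4 a hz2 hynorm
      rw [card_map_toPGL, hDc] at hle
      have hnle : n ≤ q + 1 := Nat.le_of_dvd (by omega) hnc
      rcases h with ⟨-, hc⟩ | ⟨⟨e⟩⟩
      · exfalso; omega
      · have : Nat.card M = 2 * n := by rw [Nat.card_congr e.toEquiv, DihedralGroup.nat_card]
        refine ⟨Or.inr (by omega), ⟨e⟩⟩
  · -- small `n`
    exfalso
    rcases h with ⟨-, hc⟩ | ⟨⟨e⟩⟩
    · rw [hc] at h8M
      have := Nat.le_of_dvd (by omega) h8M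
      omega
    · have hc : Nat.card M = 2 * n := by rw [Nat.card_congr e.toEquiv, DihedralGroup.nat_card]
      have h4 : 4 ∣ n := by
        rw [hc] at h8M
        omega
      have hn4 : n = 4 := by
        have := Nat.le_of_dvd (by omega) h4
        have ha2 : a ≤ 2 := by
          by_contra hcon
          have : 2 ^ 3 ≤ 2 ^ a := Nat.pow_le_pow_right (by norm_num) (by omega)
          omega
        interval_cases a <;> omega
      exact not_coatom_card_eight hodd h5 M hM hML P hPM (by omega)

end Cfsg.Agent.Lib.Helper41
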