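import Mathlib

set_option autoImplicit false

/-!
# Group-theoretic lemmas behind "maximal subgroups of `PGL₂(q)` meet `PSL₂(q)` maximally" (helper41)
-/

namespace Cfsg.Agent.Lib.Helper41

/-- an alternating group has no subgroup of index two -/
theorem alternating_index_ne_two (n : ℕ) (N : Subgroup (alternatingGroup (Fin n))) :
    N.index ≠ 2 := by
  intro h2
  have hsq : ∀ x : alternatingGroup (Fin n), x * x ∈ N := Subgroup.mul_self_mem_of_index_two h2
  have h3 : ∀ c : Equiv.Perm (Fin n), ∀ hc : c.IsThreeCycle,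
      (⟨c, hc.mem_alternatingGroup⟩ : alternatingGroup (Fin n)) ∈ N := by
    intro c hc
    have h4 : c * c * (c * c) = c := by
      have h5 : c ^ 3 = 1 := by
        rw [← hc.orderOf]; exact pow_orderOf_eq_one c
      calc c * c * (c * c) = c ^ 3 * c := by rw [pow_succ, pow_two]; simp only [mul_assoc]
        _ = c := by rw [h5, one_mul]
    have h6 := hsq (⟨c, hc.mem_alternatingGroup⟩ * ⟨c, hc.mem_alternatingGroup⟩)
    have h7 : (⟨c, hc.mem_alternatingGroup⟩ : alternatingGroup (Fin n)) *
        ⟨c, hc.mem_alternatingGroup⟩ * (⟨c, hc.mem_alternatingGroup⟩ * ⟨c, hc.mem_alternatingGroup⟩)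
        = ⟨c, hc.mem_alternatingGroup⟩ := by
      apply Subtype.ext
      simpa using h4
    rw [h7] at h6
    exact h6
  have h8 : alternatingGroup (Fin n) ≤ N.map (alternatingGroup (Fin n)).subtype := by
    have h10 : Subgroup.closure {σ : Equiv.Perm (Fin n) | σ.IsThreeCycle}
        ≤ N.map (alternatingGroup (Fin n)).subtype := by
      rw [Subgroup.closure_le]
      intro c hc
      exact ⟨⟨c, hc.mem_alternatingGroup⟩, h3 c hc, rfl⟩
    rw [Equiv.Perm.closure_three_cycles_eq_alternating] at h10
    exact h10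
  have h9 : N = ⊤ := by
    rw [eq_top_iff]
    intro x _
    obtain ⟨y, hy, hyx⟩ := h8 x.2
    have : y = x := Subtype.ext hyx
    rw [← this]; exact hy
  rw [h9, Subgroup.index_top] at h2
  omega

/-- a group isomorphic to an alternating group has no subgroup of index two -/
theorem index_ne_two_of_equiv_alternating {K : Type*} [Group K] (n : ℕ)
    (f : K ≃* alternatingGroup (Fin n)) (N : Subgroup K) : N.index ≠ 2 := by
  have := alternating_index_ne_two n (N.map (f : K →* alternatingGroup (Fin n)))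
  rwa [Subgroup.index_map_equiv] at this

/-- elements of order three of a dihedral group commute -/
theorem dihedral_comm_of_orderOf_three (k : ℕ) (a b : DihedralGroup k) (ha : orderOf a = 3)
    (hb : orderOf b = 3) : a * b = b * a := by
  cases a with
  | r i =>
    cases b with
    | r j => simp [add_comm]
    | sr j => rw [DihedralGroup.orderOf_sr] at hb; omega
  | sr i => rw [DihedralGroup.orderOf_sr] at ha; omega

/-- the set-up: if the meet of a maximal subgroup `M` with a normal subgroup `L` of index two is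
not maximal in `L`, it lies properly in a maximal subgroup `H` of `L` -/
theorem meet_setup {G : Type*} [Group G] [Finite G] (L : Subgroup G) [L.Normal] (hL : L.index = 2)
    (M : Subgroup G) (hM : IsCoatom M) (hML : ¬ L ≤ M)
    (hnot : ¬ IsCoatom ((M ⊓ L).subgroupOf L)) :
    ∃ H : Subgroup L, IsCoatom H ∧ Nat.card M = 2 * Nat.card (M ⊓ L : Subgroup G) ∧
      Nat.card (M ⊓ L : Subgroup G) ∣ Nat.card H ∧ Nat.card (M ⊓ L : Subgroup G) < Nat.card H ∧
      (∀ x (hx : x ∈ L), x ∈ M → (⟨x, hx⟩ : L) ∈ H) ∧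
      (Nat.card H = 2 * Nat.card (M ⊓ L : Subgroup G) → ∃ N : Subgroup H, N.index = 2) := by
  have hsup : M ⊔ L = ⊤ := by
    apply hM.2 (M ⊔ L)
    apply lt_of_le_of_ne le_sup_left
    intro h
    apply hML
    rw [h]; exact le_sup_right
  have hrel : (M ⊓ L).relIndex M = 2 := by
    rw [Subgroup.inf_relIndex_left, ← Subgroup.relIndex_sup_right M L, hsup,
      Subgroup.relIndex_top_right, hL]
  have hcard : Nat.card M = 2 * Nat.card (M ⊓ L : Subgroup G) := by
    have h1 := Subgroup.card_mul_index ((M ⊓ L).subgroupOf M)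
    have h2 : ((M ⊓ L).subgroupOf M).index = 2 := hrel
    have h3 : Nat.card ((M ⊓ L).subgroupOf M) = Nat.card (M ⊓ L : Subgroup G) :=
      Nat.card_congr (Subgroup.subgroupOfEquivOfLe inf_le_left).toEquiv
    rw [h2, h3] at h1
    omega
  have hne : (M ⊓ L).subgroupOf L ≠ ⊤ := by
    intro h
    rw [Subgroup.subgroupOf_eq_top] at h
    exact hML (h.trans inf_le_left)
  rcases eq_top_or_exists_le_coatom ((M ⊓ L).subgroupOf L) with h | ⟨H, hH, hle⟩
  · exact absurd h hne
  have hcard0 : Nat.card ((M ⊓ L).subgroupOf L) = Nat.card (M ⊓ L : Subgroup G) :=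
    Nat.card_congr (Subgroup.subgroupOfEquivOfLe inf_le_right).toEquiv
  refine ⟨H, hH, hcard, ?_, ?_, ?_, ?_⟩
  · rw [← hcard0]
    exact Subgroup.card_dvd_of_le hle
  · rw [← hcard0]
    by_contra hcon
    have : (M ⊓ L).subgroupOf L = H := Subgroup.eq_of_le_of_card_ge hle (by omega)
    rw [this] at hnot
    exact hnot hH
  · intro x hx hxM
    apply hle
    rw [Subgroup.mem_subgroupOf]
    exact ⟨hxM, hx⟩
  · intro h2
    refine ⟨((M ⊓ L).subgroupOf L).subgroupOf H, ?_⟩
    have h1 := Subgroup.card_mul_index (((M ⊓ L).subgroupOf L).subgroupOf H)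
    have h3 : Nat.card (((M ⊓ L).subgroupOf L).subgroupOf H) = Nat.card ((M ⊓ L).subgroupOf L) :=
      Nat.card_congr (Subgroup.subgroupOfEquivOfLe hle).toEquiv
    rw [h3, hcard0, h2] at h1
    have hpos : 0 < Nat.card (M ⊓ L : Subgroup G) := Nat.card_pos
    have h4 : Nat.card (M ⊓ L : Subgroup G) * (((M ⊓ L).subgroupOf L).subgroupOf H).index
        = Nat.card (M ⊓ L : Subgroup G) * 2 := by rw [h1]; ring
    exact Nat.eq_of_mul_eq_mul_left hpos h4

end Cfsg.Agent.Lib.Helper41
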