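import Mathlib
import Cfsg.Agent.Lib.Helper41.PGLMaxS4b
import Cfsg.Agent.Lib.Helper41.PGLMaxTwoMain
import Cfsg.Agent.Lib.Helper41.PGLDickson
import Cfsg.Agent.Lib.Helper41.PGLMeetGroup

set_option autoImplicit false

/-!
# Maximal subgroups of `PGL₂(q)`, `q` odd, of order prime to `p` (helper41)
-/

namespace Cfsg.Agent.Lib.Helper41

open Cfsg.Agent.Lib.Helper14

/-- a maximal subgroup not containing a normal subgroup `L` of index two meets `L` in a subgroup
of index two -/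
theorem index_inf_subgroupOf_eq_two {G : Type*} [Group G] (L : Subgroup G) [L.Normal]
    (hL : L.index = 2) (M : Subgroup G) (hM : IsCoatom M) (hML : ¬ L ≤ M) :
    ((M ⊓ L).subgroupOf M).index = 2 := by
  have hsup : M ⊔ L = ⊤ := by
    apply hM.2 (M ⊔ L)
    apply lt_of_le_of_ne le_sup_left
    intro h
    apply hML
    rw [h]; exact le_sup_right
  have hrel : (M ⊓ L).relIndex M = 2 := by
    rw [Subgroup.inf_relIndex_left, ← Subgroup.relIndex_sup_right M L, hsup,
      Subgroup.relIndex_top_right, hL]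
  exact hrel

variable {F : Type*} [Field F]

local notation "PGL2" => Matrix.ProjGenLinGroup (Fin 2) F

/-- **Maximal subgroups of `PGL₂(q)` of order prime to `p`** not containing `L`: dihedral of order
`2(q ∓ 1)`, or `S₄` with `q = p ≡ ±3 (mod 8)`. -/
theorem pgl_max_pprime [Fintype F] (p : ℕ) [Fact p.Prime] [CharP F p]
    (hodd : Odd (Fintype.card F)) (h5 : 5 ≤ Fintype.card F)
    (M : Subgroup PGL2) (hM : IsCoatom M) (hML : ¬ pglL F ≤ M) (hp : ¬ p ∣ Nat.card M) :
    (Fintype.card F ≠ 5 ∧ Nonempty (M ≃* DihedralGroup (Fintype.card F - 1))) ∨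
    Nonempty (M ≃* DihedralGroup (Fintype.card F + 1)) ∨
    ((Fintype.card F).Prime ∧ (Fintype.card F % 8 = 3 ∨ Fintype.card F % 8 = 5) ∧
      Nonempty (M ≃* Equiv.Perm (Fin 4))) := by
  have hidx := index_inf_subgroupOf_eq_two (pglL F) (index_pglL_of_odd hodd) M hM hML
  rcases pgl_pprime_types p hodd M hp with ⟨n, h⟩ | ⟨⟨f⟩⟩ | ⟨⟨e⟩⟩ | ⟨⟨f⟩⟩
  · have key : ((n = Fintype.card F - 1 ∧ Fintype.card F ≠ 5) ∨ n = Fintype.card F + 1) ∧
        Nonempty (M ≃* DihedralGroup n) := by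
      by_cases hex : ∃ r : ℕ, r.Prime ∧ r ≠ 2 ∧ r ∣ n
      · obtain ⟨r, hr, hr2, hrn⟩ := hex
        exact pgl_dihedral_of_odd_prime p hodd h5 M hM hML hp n h r hr hr2 hrn
      · exact pgl_two_group_case p hodd h5 M hM hML n h (fun r hr hrn => by
          by_contra h2
          exact hex ⟨r, hr, h2, hrn⟩)
    obtain ⟨hn | hn, ⟨d⟩⟩ := key
    · obtain ⟨rfl, h5'⟩ := hn
      left; exact ⟨h5', ⟨d⟩⟩
    · subst hn
      right; left; exact ⟨d⟩
  · exact absurd hidx (index_ne_two_of_equiv_alternating 4 f _)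
  · right; right
    have hq := card_eq_char_of_S4 p hodd M hM hp e
    refine ⟨?_, mod_eight_of_S4 hodd M hM hML e, ⟨e⟩⟩
    rw [hq]; exact Fact.out
  · exact absurd hidx (index_ne_two_of_equiv_alternating 5 f _)

end Cfsg.Agent.Lib.Helper41
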