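import Mathlib
import Cfsg.Agent.Lib.Helper41.DicksonMax

set_option autoImplicit false

/-!
# Arithmetic behind "maximal subgroups of `PGL₂(q)` meet `PSL₂(q)` maximally" (helper41)
-/

namespace Cfsg.Agent.Lib.Helper41

/-- numeric shadow of the list of maximal subgroups of `PSL₂(q)`: `h` is the order,
`ord n` says that there is an element of order `n`, `nc3` that there are two non-commuting elements
of order 3; `m` is the order of a subgroup under consideration -/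
def HNum (q p m h : ℕ) (ord : ℕ → Prop) (nc3 : Prop) : Prop :=
  2 * h = q * (q - 1) ∨
  (13 ≤ q ∧ h = q - 1 ∧ ¬ nc3) ∨
  (q ≠ 7 ∧ q ≠ 9 ∧ h = q + 1 ∧ ¬ nc3) ∨
  (∃ q₁, 2 ≤ q₁ ∧ q = q₁ ^ 2 ∧ h = q₁ * (q₁ ^ 2 - 1) ∧ ∀ n, ord n → n ≤ q₁ + 1) ∨
  (∃ q₁ s, 2 ≤ q₁ ∧ s.Prime ∧ Odd s ∧ q = q₁ ^ s ∧ 2 * h = q₁ * (q₁ ^ 2 - 1)) ∨
  ((q % 10 = 1 ∨ q % 10 = 9) ∧ (q = p ∨ q = p ^ 2) ∧ h = 60 ∧ 2 * m ≠ h) ∨
  (q = p ∧ (p % 8 = 3 ∨ p % 8 = 5) ∧ ¬ (p % 10 = 1 ∨ p % 10 = 9) ∧ h = 12 ∧ 2 * m ≠ h) ∨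
  (q = p ∧ (p % 8 = 1 ∨ p % 8 = 7) ∧ h = 24)

/-- numeric shadow of the list of maximal subgroups of `PGL₂(q)` not containing `PSL₂(q)`;
`m` is half the order -/
def MNum (q m : ℕ) (ord : ℕ → Prop) (nc3 : Prop) : Prop :=
  2 * m = q * (q - 1) ∨
  (q ≠ 5 ∧ m = q - 1 ∧ ord ((q - 1) / 2)) ∨
  m = q + 1 ∨
  (q.Prime ∧ (q % 8 = 3 ∨ q % 8 = 5) ∧ m = 12 ∧ nc3) ∨
  (∃ q₀ r, 2 ≤ q₀ ∧ r.Prime ∧ Odd r ∧ q = q₀ ^ r ∧ 2 * m = q₀ * (q₀ ^ 2 - 1))

theorem cube_le_pow_of_odd_prime (a s : ℕ) (ha : 1 ≤ a) (hs : s.Prime) (hodd : Odd s) :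
    a ^ 3 ≤ a ^ s := by
  apply Nat.pow_le_pow_right ha
  have := hs.two_le
  rcases hodd with ⟨k, hk⟩
  omega

theorem mul_sq_sub_one_lt_cube (a : ℕ) (ha : 1 ≤ a) : a * (a ^ 2 - 1) < a ^ 3 := by
  have h1 : 1 ≤ a ^ 2 := Nat.one_le_pow _ _ ha
  have h2 : a ^ 3 = a * a ^ 2 := by ring
  rw [h2]
  exact Nat.mul_lt_mul_of_pos_left (by omega) (by omega)

theorem meet_num_M1 (q p m h : ℕ) (ord : ℕ → Prop) (nc3 : Prop) (hq5 : 5 ≤ q) (hodd : q % 2 = 1)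
    (h7 : q ≠ 7) (h9 : q ≠ 9) (h11 : q ≠ 11) (hdvd : m ∣ h) (hlt : m < h)
    (hm : 2 * m = q * (q - 1)) (hH : HNum q p m h ord nc3) : False := by
  have hq1 : 5 * (q - 1) ≤ q * (q - 1) := Nat.mul_le_mul_right _ hq5
  rcases hH with ha | ⟨_, hb, _⟩ | ⟨_, _, hc, _⟩ | ⟨q₁, hq₁, hqq, hd, _⟩ | ⟨q₁, s, hq₁, hs, hso, hqq, he⟩ |
    ⟨hf1, hf2, hf, _⟩ | ⟨hg1, hg2, hg3, hg, _⟩ | ⟨hh1, hh2, hh⟩
  · omega
  · omega
  · omega
  · -- (d)
    have h1 : 2 * m < 2 * h := by omega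
    rw [hm, hd, hqq] at h1
    have h2 : q₁ ^ 2 * (q₁ ^ 2 - 1) = q₁ * (q₁ * (q₁ ^ 2 - 1)) := by ring
    rw [h2] at h1
    have h3 : 2 * (q₁ * (q₁ ^ 2 - 1)) ≤ q₁ * (q₁ * (q₁ ^ 2 - 1)) := Nat.mul_le_mul_right _ hq₁
    omega
  · -- (e)
    have h1 := mul_sq_sub_one_lt_cube q₁ (by omega)
    have h2 := cube_le_pow_of_odd_prime q₁ s (by omega) hs hso
    rw [← hqq] at h2
    omega
  · -- (f)
    by_cases hq12 : 12 ≤ q
    · have h1 : 12 * 11 ≤ q * (q - 1) := Nat.mul_le_mul hq12 (by omega)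
      omega
    · omega
  · -- (g)
    by_cases hq6 : 6 ≤ q
    · have h1 : 6 * 5 ≤ q * (q - 1) := Nat.mul_le_mul hq6 (by omega)
      omega
    · have : q = 5 := by omega
      subst this
      have : m = 10 := by omega
      subst this
      omega
  · -- (h)
    by_cases hq8 : 8 ≤ q
    · have h1 : 8 * 7 ≤ q * (q - 1) := Nat.mul_le_mul hq8 (by omega)
      omega
    · omega

theorem meet_num_M2 (q p m h : ℕ) (ord : ℕ → Prop) (nc3 : Prop) (hp : p.Prime) (hq5 : 5 ≤ q)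
    (hodd : q % 2 = 1)
    (h7 : q ≠ 7) (h9 : q ≠ 9) (h11 : q ≠ 11) (hdvd : m ∣ h) (hlt : m < h)
    (hq : q ≠ 5) (hm : m = q - 1) (hord : ord ((q - 1) / 2)) (hH : HNum q p m h ord nc3) : False := by
  have hq13 : 13 ≤ q := by omega
  rcases hH with ha | ⟨_, hb, _⟩ | ⟨_, _, hc, _⟩ | ⟨q₁, hq₁, hqq, hd, hd2⟩ |
    ⟨q₁, s, hq₁, hs, hso, hqq, he⟩ |
    ⟨hf1, hf2, hf, hf3⟩ | ⟨hg1, hg2, hg3, hg, _⟩ | ⟨hh1, hh2, hh⟩
  · -- (a)
    obtain ⟨c, hc⟩ := hdvd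
    rw [hc, hm] at ha
    have h1 : (2 * c) * (q - 1) = q * (q - 1) := by rw [← ha]; ring
    have h2 : 2 * c = q := Nat.eq_of_mul_eq_mul_right (by omega) h1
    omega
  · omega
  · -- (c)
    rw [hm, hc] at hdvd
    have h1 : q - 1 ∣ (q + 1) - (q - 1) := Nat.dvd_sub hdvd dvd_rfl
    have h2 : (q + 1) - (q - 1) = 2 := by omega
    rw [h2] at h1
    have := Nat.le_of_dvd (by norm_num) h1
    omega
  · -- (d)
    have h1 := hd2 _ hord
    have hq4 : 4 ≤ q₁ := by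
      by_contra hcon
      have : q₁ ≤ 3 := by omega
      have : q₁ ^ 2 ≤ 3 ^ 2 := Nat.pow_le_pow_left this 2
      omega
    have h2 : 4 * q₁ ≤ q₁ ^ 2 := by rw [pow_two]; exact Nat.mul_le_mul_right _ hq4
    rw [hqq] at h1
    omega
  · -- (e)
    have h1 := mul_sq_sub_one_lt_cube q₁ (by omega)
    have h2 := cube_le_pow_of_odd_prime q₁ s (by omega) hs hso
    rw [← hqq] at h2
    omega
  · -- (f)
    obtain ⟨c, hc⟩ := hdvd
    rw [hf, hm] at hc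
    have hc2 : 2 ≤ c := by
      by_contra hcon
      have : c = 0 ∨ c = 1 := by omega
      rcases this with rfl | rfl <;> omega
    have hc5 : c ≤ 5 := by
      by_contra hcon
      have : 12 * 6 ≤ (q - 1) * c := Nat.mul_le_mul (by omega) (by omega)
      omega
    interval_cases c
    · omega
    · have hq21 : q = 21 := by omega
      rcases hf2 with h1 | h1
      · rw [← h1, hq21] at hp
        norm_num at hp
      · have hp4 : p ≤ 4 := by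
          by_contra hcon
          have : 5 ^ 2 ≤ p ^ 2 := Nat.pow_le_pow_left (by omega) 2
          omega
        interval_cases p <;> omega
    · omega
    · omega
  · omega
  · -- (h)
    obtain ⟨c, hc⟩ := hdvd
    rw [hh, hm] at hc
    have hc2 : 2 ≤ c := by
      by_contra hcon
      have : c = 0 ∨ c = 1 := by omega
      rcases this with rfl | rfl <;> omega
    have hc5 : c ≤ 2 := by
      by_contra hcon
      have : 12 * 3 ≤ (q - 1) * c := Nat.mul_le_mul (by omega) (by omega)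
      omega
    interval_cases c
    omega

theorem meet_num_M3 (q p m h : ℕ) (ord : ℕ → Prop) (nc3 : Prop) (hq5 : 5 ≤ q)
    (hodd : q % 2 = 1)
    (h7 : q ≠ 7) (h9 : q ≠ 9) (h11 : q ≠ 11)
    (h40 : q.Prime → ¬ (q % 40 = 11 ∨ q % 40 = 19 ∨ q % 40 = 21 ∨ q % 40 = 29))
    (hdvd : m ∣ h) (hlt : m < h)
    (hm : m = q + 1) (hH : HNum q p m h ord nc3) : False := by
  rcases hH with ha | ⟨_, hb, _⟩ | ⟨_, _, hc, _⟩ | ⟨q₁, hq₁, hqq, hd, hd2⟩ |
    ⟨q₁, s, hq₁, hs, hso, hqq, he⟩ |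
    ⟨hf1, hf2, hf, hf3⟩ | ⟨hg1, hg2, hg3, hg, hg4⟩ | ⟨hh1, hh2, hh⟩
  · -- (a)
    have h1 : q + 1 ∣ q * (q - 1) := by
      rw [← ha, ← hm]; exact Dvd.dvd.mul_left hdvd 2
    obtain ⟨t, rfl⟩ : ∃ t, q = t + 2 := ⟨q - 2, by omega⟩
    have h2 : (t + 2) * (t + 2 - 1) = (t + 2 + 1) * t + 2 := by
      have : t + 2 - 1 = t + 1 := by omega
      rw [this]; ring
    rw [h2] at h1
    have h3 : t + 2 + 1 ∣ 2 := (Nat.dvd_add_right (dvd_mul_right _ _)).mp h1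
    have := Nat.le_of_dvd (by norm_num) h3
    omega
  · omega
  · omega
  · -- (d)
    rw [hm, hd, hqq] at hdvd
    have hcop : Nat.Coprime (q₁ ^ 2 + 1) q₁ := by
      have : q₁ ^ 2 + 1 = 1 + q₁ * q₁ := by ring
      rw [this]
      simp
    have h1 : q₁ ^ 2 + 1 ∣ q₁ ^ 2 - 1 := hcop.dvd_of_dvd_mul_left hdvd
    have h2 : 4 ≤ q₁ ^ 2 := by
      have : 2 ^ 2 ≤ q₁ ^ 2 := Nat.pow_le_pow_left hq₁ 2
      omega
    have := Nat.le_of_dvd (by omega) h1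
    omega
  · -- (e)
    have h1 := mul_sq_sub_one_lt_cube q₁ (by omega)
    have h2 := cube_le_pow_of_odd_prime q₁ s (by omega) hs hso
    rw [← hqq] at h2
    omega
  · -- (f)
    obtain ⟨c, hc⟩ := hdvd
    rw [hf, hm] at hc
    have hc2 : 2 ≤ c := by
      by_contra hcon
      have : c = 0 ∨ c = 1 := by omega
      rcases this with rfl | rfl <;> omega
    have hc10 : c ≤ 10 := by
      by_contra hcon
      have : 6 * 11 ≤ (q + 1) * c := Nat.mul_le_mul (by omega) (by omega)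
      omega
    interval_cases c
    · have hq29 : q = 29 := by omega
      have hpr : q.Prime := by rw [hq29]; norm_num
      have := h40 hpr
      omega
    · have hq19 : q = 19 := by omega
      have hpr : q.Prime := by rw [hq19]; norm_num
      have := h40 hpr
      omega
    all_goals omega
  · -- (g)
    obtain ⟨c, hc⟩ := hdvd
    rw [hg, hm] at hc
    have hc2 : 2 ≤ c := by
      by_contra hcon
      have : c = 0 ∨ c = 1 := by omega
      rcases this with rfl | rfl <;> omega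
    have hc10 : c ≤ 2 := by
      by_contra hcon
      have : 6 * 3 ≤ (q + 1) * c := Nat.mul_le_mul (by omega) (by omega)
      omega
    interval_cases c
    omega
  · -- (h)
    obtain ⟨c, hc⟩ := hdvd
    rw [hh, hm] at hc
    have hc2 : 2 ≤ c := by
      by_contra hcon
      have : c = 0 ∨ c = 1 := by omega
      rcases this with rfl | rfl <;> omega
    have hc10 : c ≤ 4 := by
      by_contra hcon
      have : 6 * 5 ≤ (q + 1) * c := Nat.mul_le_mul (by omega) (by omega)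
      omega
    interval_cases c <;> omega

theorem meet_num_M4 (q p m h : ℕ) (ord : ℕ → Prop) (nc3 : Prop) (hq5 : 5 ≤ q)
    (hodd : q % 2 = 1)
    (h40 : q.Prime → ¬ (q % 40 = 11 ∨ q % 40 = 19 ∨ q % 40 = 21 ∨ q % 40 = 29))
    (hdvd : m ∣ h) (hlt : m < h)
    (hpr : q.Prime) (hq8 : q % 8 = 3 ∨ q % 8 = 5) (hm : m = 12) (hnc : nc3)
    (hH : HNum q p m h ord nc3) : False := by
  have h40' := h40 hpr
  rcases hH with ha | ⟨_, hb, hb2⟩ | ⟨_, _, hc, hc2⟩ | ⟨q₁, hq₁, hqq, hd, hd2⟩ |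
    ⟨q₁, s, hq₁, hs, hso, hqq, he⟩ |
    ⟨hf1, hf2, hf, hf3⟩ | ⟨hg1, hg2, hg3, hg, hg4⟩ | ⟨hh1, hh2, hh⟩
  · -- (a)
    obtain ⟨c, hc⟩ := hdvd
    rw [hc, hm] at ha
    have h1 : (q * (q - 1)) % 8 = 0 := by rw [← ha]; omega
    rw [Nat.mul_mod] at h1
    rcases hq8 with h8 | h8
    · have : (q - 1) % 8 = 2 := by omega
      rw [h8, this] at h1
      norm_num at h1
    · have : (q - 1) % 8 = 4 := by omega
      rw [h8, this] at h1
      norm_num at h1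
  · exact hb2 hnc
  · exact hc2 hnc
  · rw [hqq] at hpr
    exact Nat.Prime.not_prime_pow le_rfl hpr
  · rw [hqq] at hpr
    exact Nat.Prime.not_prime_pow hs.two_le hpr
  · omega
  · omega
  · omega

theorem coprime_sq_sub_one_self (a : ℕ) (ha : 1 ≤ a) : Nat.Coprime (a ^ 2 - 1) a := by
  have h1 : Nat.gcd (a ^ 2 - 1) a ∣ a ^ 2 :=
    Dvd.dvd.trans (Nat.gcd_dvd_right _ _) (dvd_pow_self _ two_ne_zero)
  have h2 : Nat.gcd (a ^ 2 - 1) a ∣ a ^ 2 - 1 := Nat.gcd_dvd_left _ _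
  have h3 := Nat.dvd_sub h1 h2
  have h4 : a ^ 2 - (a ^ 2 - 1) = 1 := by
    have : 1 ≤ a ^ 2 := Nat.one_le_pow _ _ ha
    omega
  rw [h4] at h3
  exact Nat.dvd_one.mp h3

theorem pow_ne_prime_or_sq (p q₀ r : ℕ) (hp : p.Prime) (hr : 3 ≤ r)
    (h : q₀ ^ r = p ∨ q₀ ^ r = p ^ 2) : False := by
  rcases h with h | h
  · have := ((Nat.Prime.pow_eq_iff hp).mp h).2
    omega
  · have h1 : q₀ ∣ p ^ 2 := by rw [← h]; exact dvd_pow_self _ (by omega)
    obtain ⟨a, ha, rfl⟩ := (Nat.dvd_prime_pow hp).mp h1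
    rw [← pow_mul] at h
    have h2 : a * r = 2 := Nat.pow_right_injective hp.two_le h
    have h3 : r ∣ 2 := ⟨a, by rw [← h2]; ring⟩
    have := Nat.le_of_dvd (by norm_num) h3
    omega

theorem meet_num_M5 (q p m h : ℕ) (ord : ℕ → Prop) (nc3 : Prop) (hp : p.Prime) (hq5 : 5 ≤ q)
    (hodd : q % 2 = 1) (hpq : ∃ n, q = p ^ n)
    (hdvd : m ∣ h) (hlt : m < h)
    (q₀ r : ℕ) (hq₀ : 2 ≤ q₀) (hr : r.Prime) (hro : Odd r) (hqr : q = q₀ ^ r)
    (hm : 2 * m = q₀ * (q₀ ^ 2 - 1))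
    (hH : HNum q p m h ord nc3) : False := by
  have hr3 : 3 ≤ r := by
    have := hr.two_le
    rcases hro with ⟨k, hk⟩
    omega
  have hrodd : ¬ 2 ∣ r := by
    rcases hro with ⟨k, hk⟩
    omega
  have hq₀q : q₀ ∣ q := by rw [hqr]; exact dvd_pow_self _ (by omega)
  have hq₀odd : ¬ 2 ∣ q₀ := by
    intro h2
    have := h2.trans hq₀q
    omega
  have hcop := coprime_sq_sub_one_self q₀ (by omega)
  have h2dvd : 2 * m ∣ 2 * h := Nat.mul_dvd_mul_left 2 hdvd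
  have hq₀m : q₀ ∣ m := by
    have h1 : q₀ ∣ 2 * m := by rw [hm]; exact dvd_mul_right _ _
    have h2 : Nat.Coprime q₀ 2 :=
      ((Nat.Prime.coprime_iff_not_dvd Nat.prime_two).mpr hq₀odd).symm
    exact h2.dvd_of_dvd_mul_left h1
  rcases hH with ha | ⟨_, hb, hb2⟩ | ⟨_, _, hc, hc2⟩ | ⟨q₁, hq₁, hqq, hd, hd2⟩ |
    ⟨q₁, s, hq₁, hs, hso, hqq, he⟩ |
    ⟨hf1, hf2, hf, hf3⟩ | ⟨hg1, hg2, hg3, hg, hg4⟩ | ⟨hh1, hh2, hh⟩
  · -- (a)
    rw [hm, ha] at h2dvd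
    have h1 : q₀ ^ 2 - 1 ∣ q * (q - 1) := (dvd_mul_left _ _).trans h2dvd
    rw [hqr] at h1
    have h2 : q₀ ^ 2 - 1 ∣ q₀ ^ r - 1 := (hcop.pow_right r).dvd_of_dvd_mul_left h1
    have h3 := dvd_of_pow_sub_one_dvd_mul q₀ 2 r 1 hq₀ (by norm_num) le_rfl (by omega)
      (by simpa using h2)
    exact hrodd h3
  · -- (b)
    have h1 : q₀ ∣ q - 1 := by rw [← hb]; exact hq₀m.trans hdvd
    have h2 := Nat.dvd_sub hq₀q h1
    have h3 : q - (q - 1) = 1 := by omega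
    rw [h3] at h2
    have := Nat.le_of_dvd (by norm_num) h2
    omega
  · -- (c)
    have h1 : q₀ ∣ q + 1 := by rw [← hc]; exact hq₀m.trans hdvd
    have h2 := Nat.dvd_sub h1 hq₀q
    have h3 : q + 1 - q = 1 := by omega
    rw [h3] at h2
    have := Nat.le_of_dvd (by norm_num) h2
    omega
  · -- (d)
    rw [hm, hd, ← hqq] at h2dvd
    have h1 : q₀ ^ 2 - 1 ∣ q₁ * (2 * (q - 1)) := by
      have : 2 * (q₁ * (q - 1)) = q₁ * (2 * (q - 1)) := by ring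
      rw [← this]
      exact (dvd_mul_left _ _).trans h2dvd
    have hq₁q : q₁ ∣ q₀ ^ r := by rw [← hqr, hqq]; exact dvd_pow_self _ two_ne_zero
    have hcop2 : Nat.Coprime (q₀ ^ 2 - 1) q₁ := Nat.Coprime.coprime_dvd_right hq₁q (hcop.pow_right r)
    have h2 : q₀ ^ 2 - 1 ∣ 2 * (q - 1) := hcop2.dvd_of_dvd_mul_left h1
    rw [hqr] at h2
    have h3 := dvd_of_pow_sub_one_dvd_mul q₀ 2 r 2 hq₀ (by norm_num) (by norm_num) hq₀ h2
    exact hrodd h3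
  · -- (e)
    obtain ⟨n, hn⟩ := hpq
    have hq₁q : q₁ ∣ q := by rw [hqq]; exact dvd_pow_self _ hs.ne_zero
    rw [hn] at hq₀q hq₁q
    obtain ⟨a, ha, rfl⟩ := (Nat.dvd_prime_pow hp).mp hq₀q
    obtain ⟨b, hb, rfl⟩ := (Nat.dvd_prime_pow hp).mp hq₁q
    have ha1 : 1 ≤ a := by
      by_contra hcon
      have : a = 0 := by omega
      subst this
      simp at hq₀
    have hb1 : 1 ≤ b := by
      by_contra hcon
      have : b = 0 := by omega
      subst this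
      simp at hq₁
    have hars : a * r = b * s := by
      have : p ^ (a * r) = p ^ (b * s) := by rw [pow_mul, pow_mul, ← hqr, ← hqq]
      exact Nat.pow_right_injective hp.two_le this
    rw [hm, he] at h2dvd
    have h1 : (p ^ a) ^ 2 - 1 ∣ p ^ b * ((p ^ b) ^ 2 - 1) := (dvd_mul_left _ _).trans h2dvd
    have hpa : p ∣ p ^ a := dvd_pow_self _ (by omega)
    have hcop2 : Nat.Coprime ((p ^ a) ^ 2 - 1) (p ^ b) :=
      (Nat.Coprime.coprime_dvd_right hpa hcop).pow_right b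
    have h2 : (p ^ a) ^ 2 - 1 ∣ (p ^ b) ^ 2 - 1 := hcop2.dvd_of_dvd_mul_left h1
    rw [← pow_mul, ← pow_mul] at h2
    have h3 : a * 2 ∣ b * 2 :=
      dvd_of_pow_sub_one_dvd_mul p (a * 2) (b * 2) 1 hp.two_le (by omega) le_rfl hp.pos
        (by simpa using h2)
    have h4 : a ∣ b := (Nat.mul_dvd_mul_iff_right (by norm_num)).mp h3
    obtain ⟨c, rfl⟩ := h4
    have h5 : r = c * s := by
      have : a * r = a * (c * s) := by rw [hars]; ring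
      exact Nat.eq_of_mul_eq_mul_left (by omega) this
    have h6 : s ∣ r := ⟨c, by rw [h5]; ring⟩
    have h7 : s = r := by
      rcases (Nat.dvd_prime hr).mp h6 with h | h
      · exact absurd h hs.ne_one
      · exact h
    have h8 : c = 1 := by
      rw [h7] at h5
      have : 1 * r = c * r := by rw [one_mul]; exact h5
      exact (Nat.eq_of_mul_eq_mul_right (by omega) this).symm
    subst h8
    rw [mul_one] at he
    omega
  · exact pow_ne_prime_or_sq p q₀ r hp hr3 (by rw [← hqr]; exact hf2)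
  · exact pow_ne_prime_or_sq p q₀ r hp hr3 (by rw [← hqr]; exact Or.inl hg1)
  · exact pow_ne_prime_or_sq p q₀ r hp hr3 (by rw [← hqr]; exact Or.inl hh1)

/-- the two numeric lists are incompatible with `m ∣ h`, `m < h` -/
theorem meet_num (q p m h : ℕ) (ord : ℕ → Prop) (nc3 : Prop) (hp : p.Prime) (hq5 : 5 ≤ q)
    (hodd : q % 2 = 1) (hpq : ∃ n, q = p ^ n)
    (h7 : q ≠ 7) (h9 : q ≠ 9) (h11 : q ≠ 11)
    (h40 : q.Prime → ¬ (q % 40 = 11 ∨ q % 40 = 19 ∨ q % 40 = 21 ∨ q % 40 = 29))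
    (hdvd : m ∣ h) (hlt : m < h)
    (hM : MNum q m ord nc3) (hH : HNum q p m h ord nc3) : False := by
  rcases hM with h1 | ⟨h1, h2, h3⟩ | h1 | ⟨h1, h2, h3, h4⟩ | ⟨q₀, r, h1, h2, h3, h4, h5⟩
  · exact meet_num_M1 q p m h ord nc3 hq5 hodd h7 h9 h11 hdvd hlt h1 hH
  · exact meet_num_M2 q p m h ord nc3 hp hq5 hodd h7 h9 h11 hdvd hlt h1 h2 h3 hH
  · exact meet_num_M3 q p m h ord nc3 hq5 hodd h7 h9 h11 h40 hdvd hlt h1 hH
  · exact meet_num_M4 q p m h ord nc3 hq5 hodd h40 hdvd hlt h1 h2 h3 h4 hH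
  · exact meet_num_M5 q p m h ord nc3 hp hq5 hodd hpq hdvd hlt q₀ r h1 h2 h3 h4 h5 hH

end Cfsg.Agent.Lib.Helper41
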