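import Mathlib
import Cfsg.Agent.Lib.Helper41.PGLSpecial
import Cfsg.Agent.Lib.Helper41.PGLMeetNum
import Cfsg.Agent.Lib.Helper41.PGLMeetGroup
import Cfsg.Agent.Lib.Helper41.MaxOddMain
import Cfsg.Agent.Lib.Helper14.PGL2Order
import Cfsg.Agent.Lib.Helper14.PSL2Arith

set_option autoImplicit false

/-!
# Maximal subgroups of `PGL₂(q)` meet `PSL₂(q)` maximally (helper41)

The proof compares the list of maximal subgroups of `PGL₂(q)` not containing `L = PSL₂(q)`
(taken as a hypothesis `PGLMaxList`) with the list of maximal subgroups of `PSL₂(q)`.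
-/

namespace Cfsg.Agent.Lib.Helper41

open Cfsg.Agent.Lib.Helper14

/-- the list of isomorphism types of maximal subgroups of `PGL₂(q)`, `q` odd, not containing
`PSL₂(q)` -/
def PGLMaxList (F : Type*) [Field F] [Fintype F] (M : Type*) [Group M] : Prop :=
  Nat.card M = Fintype.card F * (Fintype.card F - 1) ∨
  (Fintype.card F ≠ 5 ∧ Nonempty (M ≃* DihedralGroup (Fintype.card F - 1))) ∨
  Nonempty (M ≃* DihedralGroup (Fintype.card F + 1)) ∨
  ((Fintype.card F).Prime ∧ (Fintype.card F % 8 = 3 ∨ Fintype.card F % 8 = 5) ∧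
    Nonempty (M ≃* Equiv.Perm (Fin 4))) ∨
  (∃ (F₀ : Type) (_ : Field F₀) (_ : Fintype F₀) (r : ℕ), r.Prime ∧ Odd r ∧
      Fintype.card F = Fintype.card F₀ ^ r ∧
      Nonempty (M ≃* Matrix.ProjGenLinGroup (Fin 2) F₀))

/-- squares of elements of `M` give elements of `H` -/
theorem exists_sq_map {G : Type*} [Group G] (L M : Subgroup G) (H : Subgroup L)
    (hsq : ∀ x : G, x * x ∈ L)
    (hmem : ∀ x (hx : x ∈ L), x ∈ M → (⟨x, hx⟩ : L) ∈ H) :
    ∃ φ : M → H, (∀ y, orderOf (φ y) = orderOf (y * y)) ∧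
      ∀ y z, φ y * φ z = φ z * φ y → (y * y) * (z * z) = (z * z) * (y * y) := by
  refine ⟨fun y => ⟨⟨(y : G) * (y : G), hsq y⟩, hmem _ _ (M.mul_mem y.2 y.2)⟩, ?_, ?_⟩
  · intro y
    rw [Subgroup.orderOf_mk, Subgroup.orderOf_mk, ← Subgroup.orderOf_coe (y * y)]
    rfl
  · intro y z h
    have h1 := congrArg (fun t : H => ((t : L) : G)) h
    apply Subtype.ext
    simpa using h1

theorem hnum_of_oddMaxList {F : Type*} [Field F] [Fintype F] (p : ℕ)
    (hodd : Odd (Fintype.card F)) {H : Type*} [Group H] (m : ℕ)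
    (hidx : Nat.card H = 2 * m → ∃ N : Subgroup H, N.index = 2)
    (hH : OddMaxList F p H) :
    HNum (Fintype.card F) p m (Nat.card H) (fun n => ∃ x : H, orderOf x = n)
      (∃ a b : H, orderOf a = 3 ∧ orderOf b = 3 ∧ a * b ≠ b * a) := by
  rcases hH with h | ⟨h1, k, hk, ⟨f⟩⟩ | ⟨h1, h2, k, hk, ⟨f⟩⟩ | ⟨F₀, i1, i2, h1, ⟨f⟩⟩ |
    ⟨F₀, i1, i2, r, h1, h2, h3, ⟨f⟩⟩ | ⟨h1, h2, ⟨f⟩⟩ | ⟨h1, h2, h3, ⟨f⟩⟩ | ⟨h1, h2, ⟨f⟩⟩
  · left; exact h
  · right; left
    refine ⟨h1, ?_, ?_⟩
    · rw [Nat.card_congr f.toEquiv, DihedralGroup.nat_card, hk]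
    · rintro ⟨a, b, ha, hb, hab⟩
      apply hab
      apply f.injective
      rw [map_mul, map_mul]
      exact dihedral_comm_of_orderOf_three k (f a) (f b) (by rw [MulEquiv.orderOf_eq, ha])
        (by rw [MulEquiv.orderOf_eq, hb])
  · right; right; left
    refine ⟨h1, h2, ?_, ?_⟩
    · rw [Nat.card_congr f.toEquiv, DihedralGroup.nat_card, hk]
    · rintro ⟨a, b, ha, hb, hab⟩
      apply hab
      apply f.injective
      rw [map_mul, map_mul]
      exact dihedral_comm_of_orderOf_three k (f a) (f b) (by rw [MulEquiv.orderOf_eq, ha])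
        (by rw [MulEquiv.orderOf_eq, hb])
  · right; right; right; left
    refine ⟨Fintype.card F₀, Fintype.one_lt_card, h1, ?_, ?_⟩
    · rw [Nat.card_congr f.toEquiv, card_PGL2]
    · rintro n ⟨x, rfl⟩
      obtain ⟨k, hk0, hk, hx⟩ := pgl2_exists_pow_eq_one (f x)
      rw [← MulEquiv.orderOf_eq f x]
      exact (orderOf_le_of_pow_eq_one hk0 hx).trans hk
  · right; right; right; right; left
    refine ⟨Fintype.card F₀, r, Fintype.one_lt_card, h1, h2, h3, ?_⟩
    have hodd0 : Odd (Fintype.card F₀) := by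
      rw [h3] at hodd
      exact (Nat.odd_pow_iff h1.ne_zero).mp hodd
    have hg : Nat.gcd 2 (Fintype.card F₀ - 1) = 2 := by
      obtain ⟨k, hk⟩ := hodd0
      rw [hk]
      simp
    have := card_PSL2_mul_gcd (K := F₀)
    rw [hg, ← Nat.card_congr f.toEquiv] at this
    rw [← this]; ring
  · right; right; right; right; right; left
    have hc : Nat.card H = 60 := by rw [Nat.card_congr f.toEquiv, card_alt5]
    refine ⟨h1, ?_, hc, ?_⟩
    · rcases h2 with h | ⟨h, _⟩
      · exact Or.inl h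
      · exact Or.inr h
    · intro h
      obtain ⟨N, hN⟩ := hidx h.symm
      exact index_ne_two_of_equiv_alternating 5 f N hN
  · right; right; right; right; right; right; left
    have hc : Nat.card H = 12 := by rw [Nat.card_congr f.toEquiv, card_alt4]
    refine ⟨h1, h2, h3, hc, ?_⟩
    intro h
    obtain ⟨N, hN⟩ := hidx h.symm
    exact index_ne_two_of_equiv_alternating 4 f N hN
  · right; right; right; right; right; right; right
    exact ⟨h1, h2, by rw [Nat.card_congr f.toEquiv, card_perm4]⟩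

theorem orderOf_three_of_perm (c : Equiv.Perm (Fin 4)) (h1 : c ^ 3 = 1) (h2 : c ≠ 1) :
    orderOf c = 3 := by
  have : Fact (Nat.Prime 3) := ⟨by norm_num⟩
  exact orderOf_eq_prime h1 h2

theorem mnum_of_pglMaxList {F : Type*} [Field F] [Fintype F] (hodd : Odd (Fintype.card F))
    (h5 : 5 ≤ Fintype.card F)
    {M H : Type*} [Group M] [Group H] (m : ℕ) (hcard : Nat.card M = 2 * m)
    (φ : M → H) (hφ1 : ∀ y, orderOf (φ y) = orderOf (y * y))
    (hφ2 : ∀ y z, φ y * φ z = φ z * φ y → (y * y) * (z * z) = (z * z) * (y * y))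
    (hM : PGLMaxList F M) :
    MNum (Fintype.card F) m (fun n => ∃ x : H, orderOf x = n)
      (∃ a b : H, orderOf a = 3 ∧ orderOf b = 3 ∧ a * b ≠ b * a) := by
  rcases hM with h | ⟨h1, ⟨g⟩⟩ | ⟨⟨g⟩⟩ | ⟨h1, h2, ⟨g⟩⟩ | ⟨F₀, i1, i2, r, h1, h2, h3, ⟨g⟩⟩
  · left
    rw [← hcard]; exact h
  · right; left
    have hc : Nat.card M = 2 * (Fintype.card F - 1) := by
      rw [Nat.card_congr g.toEquiv, DihedralGroup.nat_card]
    refine ⟨h1, by omega, φ (g.symm (DihedralGroup.r 1)), ?_⟩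
    rw [hφ1, ← MulEquiv.orderOf_eq g, map_mul, MulEquiv.apply_symm_apply, ← pow_two,
      orderOf_pow' _ two_ne_zero, DihedralGroup.orderOf_r_one]
    have h2 : 2 ∣ Fintype.card F - 1 := by
      obtain ⟨k, hk⟩ := hodd
      omega
    rw [Nat.gcd_eq_right h2]
  · right; right; left
    have hc : Nat.card M = 2 * (Fintype.card F + 1) := by
      rw [Nat.card_congr g.toEquiv, DihedralGroup.nat_card]
    omega
  · right; right; right; left
    have hc : Nat.card M = 24 := by rw [Nat.card_congr g.toEquiv, card_perm4]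
    refine ⟨h1, h2, by omega, φ (g.symm c[0, 1, 2]), φ (g.symm c[0, 1, 3]), ?_, ?_, ?_⟩
    · rw [hφ1, ← MulEquiv.orderOf_eq g, map_mul, MulEquiv.apply_symm_apply]
      exact orderOf_three_of_perm _ (by decide) (by decide)
    · rw [hφ1, ← MulEquiv.orderOf_eq g, map_mul, MulEquiv.apply_symm_apply]
      exact orderOf_three_of_perm _ (by decide) (by decide)
    · intro hab
      have h3 := congrArg g (hφ2 _ _ hab)
      simp only [map_mul, MulEquiv.apply_symm_apply] at h3
      revert h3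
      decide
  · right; right; right; right
    refine ⟨Fintype.card F₀, r, Fintype.one_lt_card, h1, h2, h3, ?_⟩
    rw [← hcard, Nat.card_congr g.toEquiv, card_PGL2]

/-- `q` odd: a maximal subgroup of `PGL₂(q)` of one of the types of `PGLMaxList` meets
`L = PSL₂(q)` in a maximal subgroup of `L` -/
theorem meet_coatom_odd {F : Type*} [Field F] [Fintype F] (hodd : Odd (Fintype.card F))
    (h5 : 5 ≤ Fintype.card F)
    (h7 : Fintype.card F ≠ 7) (h9 : Fintype.card F ≠ 9) (h11 : Fintype.card F ≠ 11)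
    (h40 : (Fintype.card F).Prime → Fintype.card F % 40 ∉ ({11, 19, 21, 29} : Finset ℕ))
    (M : Subgroup (Matrix.ProjGenLinGroup (Fin 2) F)) (hM : IsCoatom M)
    (hML : ¬ pglL F ≤ M) (hlist : PGLMaxList F M) :
    IsCoatom ((M ⊓ pglL F).subgroupOf (pglL F)) := by
  by_contra hnot
  obtain ⟨H, hH, hcard, hdvd, hlt, hmem, hidx⟩ :=
    meet_setup (pglL F) (index_pglL_of_odd hodd) M hM hML hnot
  obtain ⟨p, hp⟩ := CharP.exists F
  have := hp
  have : Fact p.Prime := ⟨CharP.char_is_prime F p⟩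
  have hHlist : OddMaxList F p H := by
    let e : pglL F ≃* Matrix.ProjectiveSpecialLinearGroup (Fin 2) F := pglLEquiv.symm
    have hco : IsCoatom (H.map e.toMonoidHom) :=
      (OrderIso.isCoatom_iff (MulEquiv.mapSubgroup e) H).mpr hH
    exact OddMaxList.of_equiv (H.equivMapOfInjective _ e.injective)
      (coatom_cases_odd p hodd h5 _ hco)
  obtain ⟨φ, hφ1, hφ2⟩ := exists_sq_map (pglL F) M H sq_mem_pglL hmem
  have hHn := hnum_of_oddMaxList p hodd (Nat.card (M ⊓ pglL F : Subgroup _)) hidx hHlist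
  have hMn := mnum_of_pglMaxList hodd h5 (Nat.card (M ⊓ pglL F : Subgroup _)) hcard φ hφ1 hφ2
    hlist
  obtain ⟨n, _, hn⟩ := FiniteField.card F p
  refine meet_num _ p _ _ _ _ Fact.out h5 (Nat.odd_iff.mp hodd) ⟨n, hn⟩ h7 h9 h11 ?_ hdvd hlt
    hMn hHn
  intro hpr hcon
  apply h40 hpr
  simp only [Finset.mem_insert, Finset.mem_singleton]
  exact hcon

theorem isCoatom_inf_subgroupOf_of_eq_top {G : Type*} [Group G] (L M : Subgroup G) (hL : L = ⊤)
    (hM : IsCoatom M) : IsCoatom ((M ⊓ L).subgroupOf L) := by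
  subst hL
  rw [inf_top_eq]
  exact Subgroup.isCoatom_comap_of_surjective (φ := (⊤ : Subgroup G).subtype)
    (fun g => ⟨⟨g, trivial⟩, rfl⟩) hM

/-- a maximal subgroup of `PGL₂(q)` not containing `L = PSL₂(q)` meets `L` in a maximal subgroup
of `L`, given the list of maximal subgroups of `PGL₂(q)` for odd `q` -/
theorem meet_coatom_of_list {F : Type*} [Field F] [Fintype F] (h4 : 4 ≤ Fintype.card F)
    (h7 : Fintype.card F ≠ 7) (h9 : Fintype.card F ≠ 9) (h11 : Fintype.card F ≠ 11)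
    (h40 : (Fintype.card F).Prime → Fintype.card F % 40 ∉ ({11, 19, 21, 29} : Finset ℕ))
    (M : Subgroup (Matrix.ProjGenLinGroup (Fin 2) F)) (hM : IsCoatom M)
    (hML : ¬ pglL F ≤ M) (hlist : Odd (Fintype.card F) → PGLMaxList F M) :
    IsCoatom ((M ⊓ pglL F).subgroupOf (pglL F)) := by
  rcases Nat.even_or_odd (Fintype.card F) with heven | hodd
  · exact isCoatom_inf_subgroupOf_of_eq_top _ _ (pglL_eq_top_of_even heven) hM
  · have h5 : 5 ≤ Fintype.card F := by
      obtain ⟨k, hk⟩ := hodd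
      omega
    exact meet_coatom_odd hodd h5 h7 h9 h11 h40 M hM hML (hlist hodd)

end Cfsg.Agent.Lib.Helper41
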