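import Mathlib
import Cfsg.Agent.Lib.Helper41.PSL2AutMain
import Cfsg.Prelude.Def_KGroupFacts

set_option autoImplicit false

/-!
# The outer automorphism group of `PSL₂(F)` (helper41)

The field part `fieldPart : MulAut PSL₂(F) →* RingAut F`, trivial on inner automorphisms, surjective, whose
kernel modulo inner automorphisms is the image of `Fˣ` under `c ↦ diag(c,1)`, with kernel the squares.
-/

namespace Cfsg.Agent.Lib.Helper41

variable {F : Type*} [Field F]

/-- the standard automorphism `conj g ∘ diag c ∘ σ` of `SL₂(F)` -/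
def stdAut (g : Matrix.SpecialLinearGroup (Fin 2) F) (c : Fˣ) (σ : RingAut F) :
    MulAut (Matrix.SpecialLinearGroup (Fin 2) F) :=
  MulAut.conj g * diagAut c * fieldAut σ

theorem stdAut_mul (g g' : Matrix.SpecialLinearGroup (Fin 2) F) (c c' : Fˣ) (σ τ : RingAut F) :
    stdAut g c σ * stdAut g' c' τ
      = stdAut (g * diagAut c (fieldAut σ g')) (c * Units.map (σ : F →* F) c') (σ * τ) := by
  unfold stdAut
  calc MulAut.conj g * diagAut c * fieldAut σ * (MulAut.conj g' * diagAut c' * fieldAut τ)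
      = MulAut.conj g * diagAut c * (fieldAut σ * MulAut.conj g') * diagAut c' * fieldAut τ := by
        group
    _ = MulAut.conj g * (diagAut c * MulAut.conj (fieldAut σ g')) * (fieldAut σ * diagAut c')
          * fieldAut τ := by
        rw [mulAut_mul_conj]; group
    _ = MulAut.conj g * (MulAut.conj (diagAut c (fieldAut σ g')) * diagAut c)
          * (diagAut (Units.map (σ : F →* F) c') * fieldAut σ) * fieldAut τ := by
        rw [mulAut_mul_conj, fieldAut_mul_diagAut]
    _ = MulAut.conj (g * diagAut c (fieldAut σ g')) * diagAut (c * Units.map (σ : F →* F) c')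
          * fieldAut (σ * τ) := by
        rw [map_mul, diagAut_mul, fieldAut_mul]; group

theorem stdAut_upperU (g : Matrix.SpecialLinearGroup (Fin 2) F) (c : Fˣ) (σ : RingAut F) (x : F) :
    stdAut g c σ (upperU x) = g * upperU ((c : F) * σ x) * g⁻¹ := by
  unfold stdAut
  rw [MulAut.mul_apply, MulAut.mul_apply, fieldAut_upperU, diagAut_upperU, MulAut.conj_apply]

theorem descend_stdAut (g : Matrix.SpecialLinearGroup (Fin 2) F) (c : Fˣ) (σ : RingAut F) :
    descend (stdAut g c σ)
      = MulAut.conj (QuotientGroup.mk g : Matrix.ProjectiveSpecialLinearGroup (Fin 2) F)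
        * descend (diagAut c) * descend (fieldAut σ) := by
  unfold stdAut
  rw [descend_mul, descend_mul, descend_conj]

/-- `α` is standard with field part `σ` -/
def IsStd (α : MulAut (Matrix.ProjectiveSpecialLinearGroup (Fin 2) F)) (σ : RingAut F) : Prop :=
  ∃ (g : Matrix.SpecialLinearGroup (Fin 2) F) (c : Fˣ), α = descend (stdAut g c σ)

theorem IsStd.mul {α β : MulAut (Matrix.ProjectiveSpecialLinearGroup (Fin 2) F)} {σ τ : RingAut F}
    (h₁ : IsStd α σ) (h₂ : IsStd β τ) : IsStd (α * β) (σ * τ) := by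
  obtain ⟨g, c, rfl⟩ := h₁
  obtain ⟨g', c', rfl⟩ := h₂
  exact ⟨_, _, by rw [← descend_mul, stdAut_mul]⟩

/-- if a conjugate of `u(s)` (`s ≠ 0`) is `u(s')` in `PSL₂`, the conjugating element is upper triangular -/
theorem apply_10_eq_zero_of_conj {h : Matrix.SpecialLinearGroup (Fin 2) F} {s s' : F} (hs : s ≠ 0)
    (heq : (QuotientGroup.mk (h * upperU s * h⁻¹) : Matrix.ProjectiveSpecialLinearGroup (Fin 2) F)
      = QuotientGroup.mk (upperU s')) :
    (h : Matrix (Fin 2) (Fin 2) F) 1 0 = 0 := by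
  have h3 := mk_eq_mk_entries heq 1 0 1 0
  rw [coe_conj_upperU, coe_upperU] at h3
  simp only [Matrix.of_apply, Matrix.cons_val', Matrix.cons_val_zero, Matrix.cons_val_one,
    Matrix.cons_val_fin_one, mul_zero, neg_mul_neg] at h3
  have h4 : s * (h : Matrix (Fin 2) (Fin 2) F) 1 0 ^ 2 = 0 := mul_self_eq_zero.mp h3
  rcases mul_eq_zero.mp h4 with h6 | h6
  · exact absurd h6 hs
  · exact pow_eq_zero_iff (two_ne_zero) |>.mp h6

theorem eq_of_conj_upperU {h : Matrix.SpecialLinearGroup (Fin 2) F} {s s' : F}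
    (h10 : (h : Matrix (Fin 2) (Fin 2) F) 1 0 = 0)
    (heq : (QuotientGroup.mk (h * upperU s * h⁻¹) : Matrix.ProjectiveSpecialLinearGroup (Fin 2) F)
      = QuotientGroup.mk (upperU s')) :
    s * (h : Matrix (Fin 2) (Fin 2) F) 0 0 ^ 2 = s' := by
  rw [conj_upperU_of_apply_10_eq_zero h h10] at heq
  exact mk_upperU_injective heq

theorem IsStd.unique {α : MulAut (Matrix.ProjectiveSpecialLinearGroup (Fin 2) F)} {σ τ : RingAut F}
    (h₁ : IsStd α σ) (h₂ : IsStd α τ) : σ = τ := by
  obtain ⟨g, c, rfl⟩ := h₁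
  obtain ⟨g', c', h2⟩ := h₂
  have key : ∀ x : F, (QuotientGroup.mk ((g'⁻¹ * g) * upperU ((c : F) * σ x) * (g'⁻¹ * g)⁻¹) :
      Matrix.ProjectiveSpecialLinearGroup (Fin 2) F) = QuotientGroup.mk (upperU ((c' : F) * τ x)) := by
    intro x
    have h3 := DFunLike.congr_fun h2 (QuotientGroup.mk (upperU x))
    rw [descend_mk, descend_mk, stdAut_upperU, stdAut_upperU] at h3
    have e1 : (g'⁻¹ * g) * upperU ((c : F) * σ x) * (g'⁻¹ * g)⁻¹
        = g'⁻¹ * (g * upperU ((c : F) * σ x) * g⁻¹) * g' := by group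
    rw [e1, QuotientGroup.mk_mul, QuotientGroup.mk_mul, h3, ← QuotientGroup.mk_mul,
      ← QuotientGroup.mk_mul]
    congr 1
    group
  have hc1 : (c : F) * σ 1 ≠ 0 := by rw [map_one, mul_one]; exact c.ne_zero
  have h10 := apply_10_eq_zero_of_conj hc1 (key 1)
  have hx := fun x => eq_of_conj_upperU h10 (key x)
  have h1 := hx 1
  rw [map_one, map_one, mul_one, mul_one] at h1
  apply RingEquiv.ext
  intro x
  have h3 := hx x
  rw [← h1] at h3
  have hne : (c : F) * ((g'⁻¹ * g : Matrix.SpecialLinearGroup (Fin 2) F) :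
      Matrix (Fin 2) (Fin 2) F) 0 0 ^ 2 ≠ 0 := by
    rw [h1]; exact c'.ne_zero
  apply mul_left_cancel₀ hne
  linear_combination h3

section finite

variable [Fintype F]

theorem exists_isStd (p : ℕ) [Fact p.Prime] [CharP F p] (α : MulAut (Matrix.ProjectiveSpecialLinearGroup (Fin 2) F)) :
    ∃ σ : RingAut F, IsStd α σ := by
  obtain ⟨g, c, σ, h⟩ := exists_decomp p α
  exact ⟨σ, g, c, by rw [descend_stdAut, h]⟩

/-- the field part of an automorphism of `PSL₂(F)` -/
noncomputable def fieldPart (p : ℕ) [Fact p.Prime] [CharP F p] : MulAut (Matrix.ProjectiveSpecialLinearGroup (Fin 2) F) →* RingAut F :=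
  MonoidHom.mk' (fun α => Classical.choose (exists_isStd p α)) (by
    intro α β
    exact IsStd.unique (Classical.choose_spec (exists_isStd p (α * β)))
      ((Classical.choose_spec (exists_isStd p α)).mul (Classical.choose_spec (exists_isStd p β))))

theorem isStd_fieldPart (p : ℕ) [Fact p.Prime] [CharP F p] (α : MulAut (Matrix.ProjectiveSpecialLinearGroup (Fin 2) F)) :
    IsStd α (fieldPart p α) :=
  Classical.choose_spec (exists_isStd p α)

theorem fieldPart_eq (p : ℕ) [Fact p.Prime] [CharP F p] {α : MulAut (Matrix.ProjectiveSpecialLinearGroup (Fin 2) F)} {σ : RingAut F}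
    (h : IsStd α σ) : fieldPart p α = σ :=
  (isStd_fieldPart p α).unique h

theorem stdAut_one_one_one : stdAut (1 : Matrix.SpecialLinearGroup (Fin 2) F) 1 1 = 1 := by
  unfold stdAut
  rw [map_one, diagAut_one, fieldAut_one, one_mul, one_mul]

theorem fieldPart_descend_fieldAut (p : ℕ) [Fact p.Prime] [CharP F p] (σ : RingAut F) : fieldPart p (descend (fieldAut σ)) = σ := by
  apply fieldPart_eq
  refine ⟨1, 1, ?_⟩
  unfold stdAut
  rw [map_one, diagAut_one, one_mul, one_mul]

theorem fieldPart_surjective (p : ℕ) [Fact p.Prime] [CharP F p] : Function.Surjective (fieldPart (F := F) p) :=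
  fun σ => ⟨_, fieldPart_descend_fieldAut p σ⟩

theorem fieldPart_conj (p : ℕ) [Fact p.Prime] [CharP F p] (g : Matrix.ProjectiveSpecialLinearGroup (Fin 2) F) :
    fieldPart p (MulAut.conj g) = 1 := by
  obtain ⟨g, rfl⟩ := QuotientGroup.mk_surjective g
  apply fieldPart_eq
  refine ⟨g, 1, ?_⟩
  unfold stdAut
  rw [diagAut_one, fieldAut_one, mul_one, mul_one, descend_conj]

theorem inn_le_ker_fieldPart (p : ℕ) [Fact p.Prime] [CharP F p] :
    Cfsg.Inn (Matrix.ProjectiveSpecialLinearGroup (Fin 2) F) ≤ (fieldPart (F := F) p).ker := by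
  rintro _ ⟨g, rfl⟩
  rw [MonoidHom.mem_ker]
  exact fieldPart_conj p g

/-- the diagonal automorphisms of `PSL₂(F)` -/
noncomputable def diagBar : Fˣ →* MulAut (Matrix.ProjectiveSpecialLinearGroup (Fin 2) F) :=
  MonoidHom.mk' (fun c => descend (diagAut c)) (fun c d => by rw [diagAut_mul, descend_mul])

theorem diagBar_apply (c : Fˣ) : diagBar (F := F) c = descend (diagAut c) := rfl

theorem fieldPart_diagBar (p : ℕ) [Fact p.Prime] [CharP F p] (c : Fˣ) : fieldPart p (diagBar c) = 1 := by
  apply fieldPart_eq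
  refine ⟨1, c, ?_⟩
  unfold stdAut
  rw [map_one, fieldAut_one, one_mul, mul_one, diagBar_apply]

/-- the field part on the outer automorphism group -/
noncomputable def outFieldPart (p : ℕ) [Fact p.Prime] [CharP F p] :
    Cfsg.Out (Matrix.ProjectiveSpecialLinearGroup (Fin 2) F) →* RingAut F :=
  QuotientGroup.lift _ (fieldPart p) (inn_le_ker_fieldPart p)

theorem outFieldPart_mk (p : ℕ) [Fact p.Prime] [CharP F p] (α : MulAut (Matrix.ProjectiveSpecialLinearGroup (Fin 2) F)) :
    outFieldPart p (QuotientGroup.mk α) = fieldPart p α := rfl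

theorem outFieldPart_surjective (p : ℕ) [Fact p.Prime] [CharP F p] : Function.Surjective (outFieldPart (F := F) p) := by
  intro σ
  obtain ⟨α, hα⟩ := fieldPart_surjective p σ
  exact ⟨QuotientGroup.mk α, hα⟩

/-- the outer diagonal automorphisms -/
noncomputable def outDiag : Fˣ →* Cfsg.Out (Matrix.ProjectiveSpecialLinearGroup (Fin 2) F) :=
  (QuotientGroup.mk' _).comp diagBar

theorem ker_outFieldPart (p : ℕ) [Fact p.Prime] [CharP F p] : (outFieldPart (F := F) p).ker = (outDiag (F := F)).range := by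
  ext x
  rw [MonoidHom.mem_ker, MonoidHom.mem_range]
  constructor
  · intro hx
    obtain ⟨α, rfl⟩ := QuotientGroup.mk_surjective x
    rw [outFieldPart_mk] at hx
    obtain ⟨g, c, hα⟩ := isStd_fieldPart p α
    rw [hx, descend_stdAut, fieldAut_one, descend_one, mul_one] at hα
    refine ⟨c, ?_⟩
    show (QuotientGroup.mk (diagBar c) : Cfsg.Out (Matrix.ProjectiveSpecialLinearGroup (Fin 2) F))
      = QuotientGroup.mk α
    rw [hα, QuotientGroup.mk_mul, diagBar_apply]
    have : (QuotientGroup.mk (MulAut.conj (QuotientGroup.mk g :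
        Matrix.ProjectiveSpecialLinearGroup (Fin 2) F)) :
        Cfsg.Out (Matrix.ProjectiveSpecialLinearGroup (Fin 2) F)) = 1 := by
      rw [QuotientGroup.eq_one_iff]
      exact ⟨_, rfl⟩
    rw [this, one_mul]
  · rintro ⟨c, rfl⟩
    show fieldPart p (diagBar c) = 1
    exact fieldPart_diagBar p c

/-- a diagonal automorphism is inner iff the parameter is a square -/
theorem ker_outDiag : (outDiag (F := F)).ker = (powMonoidHom 2 : Fˣ →* Fˣ).range := by
  ext c
  rw [MonoidHom.mem_ker, MonoidHom.mem_range]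
  constructor
  · intro hc
    have h1 : diagBar c ∈ Cfsg.Inn (Matrix.ProjectiveSpecialLinearGroup (Fin 2) F) := by
      rw [← QuotientGroup.eq_one_iff]
      exact hc
    obtain ⟨gb, hg⟩ := h1
    obtain ⟨g, rfl⟩ := QuotientGroup.mk_surjective gb
    have h2 := DFunLike.congr_fun hg (QuotientGroup.mk (upperU 1))
    rw [MulAut.conj_apply, diagBar_apply, descend_mk, diagAut_upperU, mul_one,
      ← QuotientGroup.mk_inv, ← QuotientGroup.mk_mul, ← QuotientGroup.mk_mul] at h2
    have h10 := apply_10_eq_zero_of_conj one_ne_zero h2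
    have h3 := eq_of_conj_upperU h10 h2
    rw [one_mul] at h3
    have hne : (g : Matrix (Fin 2) (Fin 2) F) 0 0 ≠ 0 := by
      intro h0
      rw [h0] at h3
      exact c.ne_zero (by rw [← h3]; ring)
    refine ⟨Units.mk0 _ hne, ?_⟩
    apply Units.ext
    rw [powMonoidHom_apply, Units.val_pow_eq_pow_val, Units.val_mk0, h3]
  · rintro ⟨e, rfl⟩
    rw [powMonoidHom_apply]
    unfold outDiag
    rw [MonoidHom.comp_apply, QuotientGroup.mk'_apply, QuotientGroup.eq_one_iff, diagBar_apply,
      pow_two, diagAut_sq, descend_conj]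
    exact ⟨_, rfl⟩

theorem isCyclic_ker_outFieldPart (p : ℕ) [Fact p.Prime] [CharP F p] : IsCyclic (outFieldPart (F := F) p).ker := by
  rw [ker_outFieldPart]
  exact isCyclic_of_surjective (outDiag (F := F)).rangeRestrict
    (outDiag (F := F)).rangeRestrict_surjective

theorem card_ker_outFieldPart (p : ℕ) [Fact p.Prime] [CharP F p] :
    Nat.card (outFieldPart (F := F) p).ker = Nat.gcd 2 (Fintype.card F - 1) := by
  rw [ker_outFieldPart]
  have h1 : Nat.card (outDiag (F := F)).range = (outDiag (F := F)).ker.index := by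
    rw [Subgroup.index, Nat.card_congr (QuotientGroup.quotientKerEquivRange (outDiag (F := F))).toEquiv]
  rw [h1, ker_outDiag, IsCyclic.index_powMonoidHom_range, Nat.card_units, Nat.card_eq_fintype_card,
    Nat.gcd_comm]

end finite

end Cfsg.Agent.Lib.Helper41
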