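import Mathlib
import Cfsg.Agent.Lib.Helper35.QuaternionRecog

set_option autoImplicit false

/-!
# Non-cyclic subgroups of generalized quaternion groups are generalized quaternion (helper41)
-/

namespace Cfsg.Agent.Lib.Helper41

open QuaternionGroup

theorem a_mem_zpowers (n : ℕ) [NeZero n] (i : ZMod (2 * n)) :
    (a i : QuaternionGroup n) ∈ Subgroup.zpowers (a 1 : QuaternionGroup n) := by
  have h : (a 1 : QuaternionGroup n) ^ i.val = a i := by
    rw [a_one_pow, ZMod.natCast_zmod_val]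
  rw [← h]
  exact Subgroup.npow_mem_zpowers _ _

theorem xa_not_mem_zpowers (n : ℕ) [NeZero n] (i : ZMod (2 * n)) :
    (xa i : QuaternionGroup n) ∉ Subgroup.zpowers (a 1 : QuaternionGroup n) := by
  intro h
  rw [← mem_powers_iff_mem_zpowers, Submonoid.mem_powers_iff] at h
  obtain ⟨k, hk⟩ := h
  rw [a_one_pow] at hk
  exact absurd hk (by simp)

theorem a_n_ne_one (n : ℕ) [NeZero n] : (a (n : ZMod (2 * n)) : QuaternionGroup n) ≠ 1 := by
  rw [one_def]
  intro h
  have h1 : ((n : ℕ) : ZMod (2 * n)) = 0 := by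
    injection h
  rw [ZMod.natCast_eq_zero_iff] at h1
  have hn : 0 < n := Nat.pos_of_ne_zero (NeZero.ne n)
  have := Nat.le_of_dvd hn h1
  omega

theorem a_n_mul_self (n : ℕ) [NeZero n] :
    (a (n : ZMod (2 * n)) : QuaternionGroup n) * a (n : ZMod (2 * n)) = 1 := by
  rw [a_mul_a, one_def]
  congr 1
  have : ((n : ℕ) : ZMod (2 * n)) + (n : ℕ) = ((2 * n : ℕ) : ZMod (2 * n)) := by
    push_cast; ring
  rw [this, ZMod.natCast_self]

/-- a non-cyclic subgroup of `QuaternionGroup n` is a generalized quaternion group -/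
theorem exists_equiv_quaternionGroup_of_not_isCyclic (n : ℕ) [NeZero n]
    (R : Subgroup (QuaternionGroup n)) (hR : ¬ IsCyclic R) :
    ∃ m : ℕ, 2 ≤ m ∧ 2 * m ∣ 4 * n ∧ Nonempty (R ≃* QuaternionGroup m) := by
  set C : Subgroup (QuaternionGroup n) := Subgroup.zpowers (a 1 : QuaternionGroup n) with hC
  have hAcyc : IsCyclic ↥(R ⊓ C) := Subgroup.isCyclic_of_le (inf_le_right : R ⊓ C ≤ C)
  obtain ⟨α₀, hα₀⟩ := (Subgroup.isCyclic_iff_exists_zpowers_eq_top (R ⊓ C)).mp hAcyc
  set α' : QuaternionGroup n := α₀ with hα'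
  have hα'mem : α' ∈ R ⊓ C := by rw [← hα₀]; exact Subgroup.mem_zpowers α'
  have hα'R : α' ∈ R := hα'mem.1
  have hα'C : α' ∈ C := hα'mem.2
  have hA : ∀ y : QuaternionGroup n, y ∈ R → y ∈ C → y ∈ Subgroup.zpowers α' := by
    intro y hyR hyC
    rw [hα₀]
    exact ⟨hyR, hyC⟩
  obtain ⟨r, hrR, hrC⟩ : ∃ r ∈ R, r ∉ C := by
    by_contra hne
    push Not at hne
    exact hR (Subgroup.isCyclic_of_le (fun x hx => hne x hx))
  obtain ⟨j, rfl⟩ : ∃ j, r = xa j := by
    cases r with
    | a i => exact absurd (a_mem_zpowers n i) hrC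
    | xa j => exact ⟨j, rfl⟩
  have hβ2 : (xa j : QuaternionGroup n) * xa j = a (n : ZMod (2 * n)) := by
    rw [xa_mul_xa]; congr 1; ring
  have han : (a (n : ZMod (2 * n)) : QuaternionGroup n) ∈ Subgroup.zpowers α' := by
    apply hA
    · rw [← hβ2]; exact R.mul_mem hrR hrR
    · exact a_mem_zpowers n _
  rw [← mem_powers_iff_mem_zpowers, Submonoid.mem_powers_iff] at han
  obtain ⟨t, ht⟩ := han
  set o := orderOf α' with ho
  have ho_pos : 0 < o := orderOf_pos α'
  have h2t : o ∣ 2 * t := by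
    apply orderOf_dvd_of_pow_eq_one
    rw [mul_comm, pow_mul, ht, pow_two, a_n_mul_self]
  have hnt : ¬ o ∣ t := by
    intro h
    apply a_n_ne_one n
    rw [← ht]
    exact orderOf_dvd_iff_pow_eq_one.mp h
  have ho_even : 2 ∣ o := by
    by_contra hodd
    apply hnt
    have hcop : Nat.Coprime o 2 := ((Nat.Prime.coprime_iff_not_dvd Nat.prime_two).mpr hodd).symm
    rw [mul_comm] at h2t
    exact Nat.Coprime.dvd_of_dvd_mul_right hcop h2t
  obtain ⟨m, hm⟩ := ho_even
  have hm_pos : 0 < m := by omega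
  have hmt : m ∣ t := by
    rw [hm] at h2t
    exact (Nat.mul_dvd_mul_iff_left (by norm_num : 0 < 2)).mp h2t
  obtain ⟨s, hs⟩ := hmt
  have hs_odd : Odd s := by
    by_contra hs_even
    rw [Nat.not_odd_iff_even] at hs_even
    obtain ⟨q, hq⟩ := hs_even
    apply hnt
    rw [hm, hs, hq]
    exact ⟨q, by ring⟩
  obtain ⟨q, hq⟩ := hs_odd
  have hαm : α' ^ m = a (n : ZMod (2 * n)) := by
    rw [← ht, hs, hq]
    have : m * (2 * q + 1) = o * q + m := by rw [hm]; ring
    rw [this, pow_add, pow_mul, pow_orderOf_eq_one, one_pow, one_mul]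
  obtain ⟨i, hi⟩ : ∃ i, α' = a i := by
    cases hc : α' with
    | a i => exact ⟨i, rfl⟩
    | xa i => rw [hc] at hα'C; exact absurd hα'C (xa_not_mem_zpowers n i)
  have hconj : (xa j : QuaternionGroup n) * α' * (xa j)⁻¹ = α'⁻¹ := by
    rw [mul_inv_eq_iff_eq_mul, hi]
    have hinv : (a i : QuaternionGroup n)⁻¹ = a (-i) := by
      rw [inv_eq_iff_mul_eq_one, a_mul_a, add_neg_cancel, a_zero]
    rw [hinv, xa_mul_a, a_mul_xa]
    congr 1; ring
  have hzle : Subgroup.zpowers α' ≤ C := Subgroup.zpowers_le.mpr hα'C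
  -- membership in zpowers inside `R`
  have hlift : ∀ x : R, (x : QuaternionGroup n) ∈ Subgroup.zpowers α' →
      x ∈ Subgroup.zpowers (⟨α', hα'R⟩ : R) := by
    intro x hx
    obtain ⟨k, hk⟩ := Subgroup.mem_zpowers_iff.mp hx
    refine Subgroup.mem_zpowers_iff.mpr ⟨k, ?_⟩
    apply Subtype.ext
    rw [Subgroup.coe_zpow]
    exact hk
  have hm0 : NeZero m := ⟨hm_pos.ne'⟩
  have hiso : Nonempty (R ≃* QuaternionGroup m) := by
    apply Cfsg.Agent.Lib.Helper35.nonempty_mulEquiv_quaternionGroup m (⟨α', hα'R⟩ : R) ⟨xa j, hrR⟩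
    · rw [Subgroup.orderOf_mk, ← ho, hm]
    · apply Subtype.ext
      rw [Subgroup.coe_mul, Subgroup.coe_pow]
      exact hβ2.trans hαm.symm
    · apply Subtype.ext
      rw [Subgroup.coe_mul, Subgroup.coe_mul, Subgroup.coe_inv, Subgroup.coe_inv]
      exact hconj
    · intro hmem
      obtain ⟨k, hk⟩ := Subgroup.mem_zpowers_iff.mp hmem
      have hk' := congrArg Subtype.val hk
      rw [Subgroup.coe_zpow] at hk'
      have : (xa j : QuaternionGroup n) ∈ Subgroup.zpowers α' :=
        Subgroup.mem_zpowers_iff.mpr ⟨k, hk'⟩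
      exact hrC (hzle this)
    · intro y
      obtain ⟨y', hy'⟩ := y
      cases y' with
      | a i' =>
        left
        exact hlift _ (hA _ hy' (a_mem_zpowers n i'))
      | xa j' =>
        right
        apply hlift
        rw [Subgroup.coe_mul, Subgroup.coe_inv]
        apply hA
        · exact R.mul_mem (R.inv_mem hrR) hy'
        · cases hz : (xa j : QuaternionGroup n)⁻¹ * xa j' with
          | a i'' => exact a_mem_zpowers n i''
          | xa i'' =>
            exfalso
            have h1 : (xa j' : QuaternionGroup n) = xa j * ((xa j)⁻¹ * xa j') := by group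
            rw [hz, xa_mul_xa] at h1
            exact absurd h1 (by simp)
  refine ⟨m, ?_, ?_, hiso⟩
  · by_contra hlt
    have hm1 : m = 1 := by omega
    subst hm1
    obtain ⟨e⟩ := hiso
    have := quaternionGroup_one_isCyclic
    exact hR (isCyclic_of_surjective e.symm e.symm.surjective)
  · rw [← hm, ho]
    have h1 := orderOf_dvd_natCard α'
    rwa [Nat.card_eq_fintype_card, QuaternionGroup.card] at h1

end Cfsg.Agent.Lib.Helper41
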