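import Mathlib
import Cfsg.Agent.Lib.Helper41.RedundantSylow

set_option autoImplicit false

/-!
# Redundant Sylow subgroups and central quotients (helper41)
-/

namespace Cfsg.Agent.Lib.Helper41

open scoped Pointwise

variable {G : Type*} [Group G] {H : Type*} [Group H]

/-- a `p`-element: order dividing a power of `p` means order a power of `p` -/
theorem exists_orderOf_eq_pow_of_pow_eq_one {p : ℕ} [Fact p.Prime] {x : G} {k : ℕ}
    (hx : x ^ (p ^ k) = 1) : ∃ j : ℕ, orderOf x = p ^ j := by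
  obtain ⟨j, -, hj⟩ := (Nat.dvd_prime_pow (Fact.out : p.Prime)).mp (orderOf_dvd_of_pow_eq_one hx)
  exact ⟨j, hj⟩

/-- a normal `p`-subgroup lies in every Sylow `p`-subgroup -/
theorem le_sylow_of_normal_isPGroup [Finite G] {p : ℕ} [Fact p.Prime] (Z : Subgroup G) [Z.Normal]
    (hZ : IsPGroup p Z) (Q : Sylow p G) : Z ≤ (Q : Subgroup G) := by
  obtain ⟨Q', hQ'⟩ := hZ.exists_le_sylow
  obtain ⟨c, rfl⟩ := MulAction.exists_smul_eq G Q' Q
  intro ζ hζ
  show ζ ∈ c • Q'
  rw [mem_sylow_smul_iff]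
  apply hQ'
  have := (inferInstance : Z.Normal).conj_mem ζ hζ c⁻¹
  rwa [inv_inv] at this

/-- transfer of redundancy from a quotient -/
theorem IsRedundantSylow.of_surjective [Finite G] [Finite H] {p : ℕ} [Fact p.Prime] (f : G →* H)
    (hf : Function.Surjective f)
    (habs : ∀ Q : Sylow p G, ∀ y ∈ (Q : Subgroup G), ∀ ζ ∈ f.ker,
      (∃ k : ℕ, orderOf (y * ζ) = p ^ k) → y * ζ ∈ (Q : Subgroup G))
    {Qb : Sylow p H} (h : IsRedundantSylow Qb) (Q : Sylow p G) : IsRedundantSylow Q := by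
  have hQ' : IsRedundantSylow (Q.mapSurjective hf) := h.all _
  intro x hx
  have hfx : ∃ k : ℕ, orderOf (f x) = p ^ k := by
    obtain ⟨k, hk⟩ := hx
    have h1 : orderOf (f x) ∣ p ^ k := hk ▸ orderOf_map_dvd f x
    obtain ⟨j, -, hj⟩ := (Nat.dvd_prime_pow (Fact.out : p.Prime)).mp h1
    exact ⟨j, hj⟩
  obtain ⟨Pb, hPb, hxPb⟩ := hQ' (f x) hfx
  obtain ⟨gb, hgb⟩ := MulAction.exists_smul_eq H (Q.mapSurjective hf) Pb
  obtain ⟨g, rfl⟩ := hf gb
  have hmem : g⁻¹ * x * g ∈ (Q : Subgroup G) := by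
    rw [← hgb, mem_sylow_smul_iff] at hxPb
    have h1 : (f g)⁻¹ * f x * f g ∈ (Q : Subgroup G).map f := hxPb
    obtain ⟨y, hy, hyx⟩ := h1
    have hζ : y⁻¹ * (g⁻¹ * x * g) ∈ f.ker := by
      rw [MonoidHom.mem_ker, map_mul, map_inv, hyx, map_mul, map_mul, map_inv]
      group
    have h2 := habs Q y hy _ hζ (by
      rw [mul_inv_cancel_left]
      obtain ⟨k, hk⟩ := hx
      refine ⟨k, ?_⟩
      rw [← hk]
      have := orderOf_conj_eq g⁻¹ x
      rwa [inv_inv] at this)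
    rwa [mul_inv_cancel_left] at h2
  refine ⟨g • Q, ?_, ?_⟩
  · intro heq
    apply hPb
    rw [← hgb]
    apply Sylow.ext
    symm
    apply Subgroup.eq_of_le_of_card_ge
    · intro yb hyb
      obtain ⟨y, hy, rfl⟩ := hyb
      show f y ∈ f g • Q.mapSurjective hf
      rw [mem_sylow_smul_iff]
      refine ⟨g⁻¹ * y * g, ?_, by simp⟩
      have h1 : y ∈ g • Q := by rw [heq]; exact hy
      rwa [mem_sylow_smul_iff] at h1
    · rw [Sylow.card_eq_multiplicity, Sylow.card_eq_multiplicity]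
  · rw [mem_sylow_smul_iff]
    exact hmem

/-- absorbing a central element of order prime to `p` -/
theorem mul_mem_sylow_of_coprime [Finite G] {p : ℕ} [Fact p.Prime] (Z : Subgroup G)
    (hZ : Z ≤ Subgroup.center G) (hcop : (Nat.card Z).Coprime p) (Q : Sylow p G) (y : G)
    (hy : y ∈ (Q : Subgroup G)) (ζ : G) (hζ : ζ ∈ Z) (hyz : ∃ k : ℕ, orderOf (y * ζ) = p ^ k) :
    y * ζ ∈ (Q : Subgroup G) := by
  obtain ⟨a, ha⟩ := Q.isPGroup' ⟨y, hy⟩
  have ha' : y ^ (p ^ a) = 1 := by simpa using congrArg Subtype.val ha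
  obtain ⟨b, hb⟩ := hyz
  have hb' : (y * ζ) ^ (p ^ b) = 1 := by rw [← hb]; exact pow_orderOf_eq_one _
  have hcomm : Commute y ζ := by
    have := Subgroup.mem_center_iff.mp (hZ hζ) y
    exact this
  have h1 : ζ ^ (p ^ (a + b)) = 1 := by
    have h2 : (y * ζ) ^ (p ^ (a + b)) = 1 := by
      rw [pow_add, mul_comm, pow_mul, hb', one_pow]
    rw [hcomm.mul_pow, pow_add, pow_mul, ha', one_pow, one_mul, ← pow_add] at h2
    exact h2
  have h3 : orderOf ζ ∣ p ^ (a + b) := orderOf_dvd_of_pow_eq_one h1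
  have h4 : orderOf ζ ∣ Nat.card Z := Subgroup.orderOf_dvd_natCard Z hζ
  have h5 : orderOf ζ ∣ 1 := by
    have := Nat.dvd_gcd h4 h3
    rwa [Nat.Coprime.pow_right (a + b) hcop] at this
  have h6 : ζ = 1 := orderOf_eq_one_iff.mp (Nat.dvd_one.mp h5)
  rw [h6, mul_one]
  exact hy

/-- redundancy descends from a quotient by a central subgroup of order prime to `p` -/
theorem IsRedundantSylow.of_surjective_of_coprime [Finite G] [Finite H] {p : ℕ} [Fact p.Prime]
    (f : G →* H) (hf : Function.Surjective f) (hZ : f.ker ≤ Subgroup.center G)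
    (hcop : (Nat.card f.ker).Coprime p) {Qb : Sylow p H} (h : IsRedundantSylow Qb)
    (Q : Sylow p G) : IsRedundantSylow Q :=
  h.of_surjective f hf (fun Q y hy ζ hζ hyz => mul_mem_sylow_of_coprime f.ker hZ hcop Q y hy ζ hζ hyz) Q

/-- redundancy descends from a quotient by a normal `p`-subgroup -/
theorem IsRedundantSylow.of_surjective_of_isPGroup [Finite G] [Finite H] {p : ℕ} [Fact p.Prime]
    (f : G →* H) (hf : Function.Surjective f) (hker : IsPGroup p f.ker)
    {Qb : Sylow p H} (h : IsRedundantSylow Qb) (Q : Sylow p G) : IsRedundantSylow Q :=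
  h.of_surjective f hf (fun Q _ hy _ hζ _ =>
    Subgroup.mul_mem _ hy (le_sylow_of_normal_isPGroup f.ker hker Q hζ)) Q

/-- redundancy passes to a quotient by a normal `p`-subgroup -/
theorem IsRedundantSylow.map_of_isPGroup [Finite G] [Finite H] {p : ℕ} [Fact p.Prime]
    (f : G →* H) (hf : Function.Surjective f) (hker : IsPGroup p f.ker)
    {Q : Sylow p G} (h : IsRedundantSylow Q) (Qb : Sylow p H) : IsRedundantSylow Qb := by
  suffices hQ' : IsRedundantSylow (Q.mapSurjective hf) from hQ'.all _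
  intro xb hxb
  obtain ⟨x, rfl⟩ := hf xb
  have hx : ∃ k : ℕ, orderOf x = p ^ k := by
    obtain ⟨k, hk⟩ := hxb
    have h1 : f (x ^ (p ^ k)) = 1 := by rw [map_pow, ← hk]; exact pow_orderOf_eq_one _
    obtain ⟨j, hj⟩ := hker ⟨x ^ (p ^ k), h1⟩
    have hj' : (x ^ (p ^ k)) ^ (p ^ j) = 1 := by simpa using congrArg Subtype.val hj
    rw [← pow_mul, ← pow_add] at hj'
    exact exists_orderOf_eq_pow_of_pow_eq_one hj'
  obtain ⟨P, hPQ, hxP⟩ := h x hx
  refine ⟨P.mapSurjective hf, ?_, ⟨x, hxP, rfl⟩⟩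
  intro heq
  apply hPQ
  apply Sylow.ext
  apply Subgroup.eq_of_le_of_card_ge
  · intro y hy
    have h1 : f y ∈ (P.mapSurjective hf : Subgroup H) := ⟨y, hy, rfl⟩
    rw [heq] at h1
    obtain ⟨y', hy', hyy'⟩ := h1
    have h2 : y'⁻¹ * y ∈ f.ker := by
      rw [MonoidHom.mem_ker, map_mul, map_inv, hyy']
      group
    have h3 := le_sylow_of_normal_isPGroup f.ker hker Q h2
    have h4 := Subgroup.mul_mem _ hy' h3
    rwa [mul_inv_cancel_left] at h4
  · rw [Sylow.card_eq_multiplicity, Sylow.card_eq_multiplicity]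

end Cfsg.Agent.Lib.Helper41
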