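import Mathlib
import Cfsg.Agent.Lib.Helper74.SubgroupAvg
import Cfsg.Agent.Lib.Helper80.CharBasic

set_option autoImplicit false

/-!
Averaging a character over a coset `K v` of a subgroup `K` centralized by an involution `v`
(for S1022).
-/

namespace Cfsg.Agent.Lib.Helper41

open Cfsg Subgroup

/-- the sum of a character over the coset `K v`, where the involution `v` centralizes `K`, is a
multiple of `|K|`. -/
theorem s1022_exists_int_sum_mul {G : Type*} [Group G] [Finite G] {ζ : G → ℂ}
    (hζ : IsCharacter G ζ) (K : Subgroup G) [Fintype K] (v : G) (hv : orderOf v = 2)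
    (hc : ∀ x ∈ K, Commute x v) :
    ∃ k : ℤ, ∑ x : K, ζ ((x : G) * v) = (Nat.card K : ℂ) * k := by
  classical
  have : Fintype (zpowers v) := Fintype.ofFinite _
  -- the homomorphism `K × ⟨v⟩ → G`
  have hcomm : ∀ (m : K) (n : zpowers v), Commute (K.subtype m) ((zpowers v).subtype n) := by
    intro m n
    obtain ⟨j, hj⟩ := mem_zpowers_iff.mp n.2
    show Commute (m : G) (n : G)
    rw [← hj]
    exact (hc m m.2).zpow_right j
  set f : K × zpowers v →* G := MonoidHom.noncommCoprod K.subtype (zpowers v).subtype hcomm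
    with hf
  have hfapp : ∀ (m : K) (n : zpowers v), f (m, n) = (m : G) * (n : G) := by
    intro m n
    rw [hf, MonoidHom.noncommCoprod_apply]
    rfl
  have hψ : IsCharacter (K × zpowers v) (fun h => ζ (f h)) :=
    Cfsg.Agent.Lib.Helper80.isCharacter_comp f hζ
  obtain ⟨n, hn⟩ := Cfsg.Agent.Lib.Helper78.IsCharacter.exists_nat_classInner hψ
    ⟨fun _ => 1, Cfsg.Agent.Lib.Helper78.isIrrCharacter_one⟩
  obtain ⟨m, hm⟩ := Cfsg.Agent.Lib.Helper74.exists_nat_sum_subgroup hζ K
  unfold classInner at hn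
  simp only [map_one, mul_one] at hn
  have hcard : Nat.card (K × zpowers v) = Nat.card K * 2 := by
    rw [Nat.card_prod, Nat.card_zpowers, hv]
  have hK0 : (Nat.card K : ℂ) ≠ 0 := by exact_mod_cast (Nat.card_pos (α := K)).ne'
  have hsum : ∑ h : K × zpowers v, ζ (f h) = ∑ x : K, (ζ (x : G) + ζ ((x : G) * v)) := by
    rw [Fintype.sum_prod_type]
    apply Finset.sum_congr rfl
    intro x _
    have h1 := Cfsg.Agent.Lib.Helper74.sum_subgroup_of_const (zpowers v)
      (fun w => ζ ((x : G) * w)) (ζ ((x : G) * v))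
      (fun k hk hk1 => by
        rw [Cfsg.Agent.Lib.Helper74.eq_of_mem_zpowers_of_orderOf_two hv hk hk1])
    rw [Nat.card_zpowers, hv] at h1
    simp only [hfapp]
    rw [h1, mul_one]
    push_cast
    ring
  rw [hsum, Finset.sum_add_distrib, hm, hcard] at hn
  refine ⟨2 * (n : ℤ) - (m : ℤ), ?_⟩
  push_cast at hn ⊢
  field_simp at hn
  linear_combination hn

end Cfsg.Agent.Lib.Helper41
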