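import Mathlib
import Cfsg.Agent.Lib.Helper41.S1022Avg
import Cfsg.Agent.Lib.Helper78.ExcConcrete
import Cfsg.Agent.Lib.Helper78.InvolKernel
import Cfsg.Agent.Lib.Helper78.DihedralGroup
import Cfsg.Agent.Lib.Helper78.DefectOneData
import Cfsg.Agent.Lib.Helper3.PrincipalLin

set_option autoImplicit false

/-!
Values of the non-exceptional characters of the principal `p`-block (Sylow subgroup of order
`p`) at an involution centralizing the Sylow subgroup (for S1022).
-/

namespace Cfsg.Agent.Lib.Helper41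

open Cfsg Subgroup

/-- the degree of an irreducible character, for short. -/
noncomputable abbrev s1022Deg {M : Type*} [Group M] (χ : IrrCharacter M) : ℕ :=
  charDegree (χ : M → ℂ)

/-- value of a non-exceptional character of the principal `p`-block at an involution
centralizing the Sylow `p`-subgroup (of order `p`). -/
theorem s1022_value_at_involution {M : Type*} [Group M] [Finite M] [IsSimpleGroup M]
    {p : ℕ} [Fact p.Prime] (hp2 : p ≠ 2) {I : Ideal AlgInt} (hI : IsPModular p I)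
    (P : Sylow p M) (hP : Nat.card P = p) {e : ℕ} {ε : ℤ} {a : IrrCharacter M → ℤ}
    {X Y : Finset (IrrCharacter M)}
    (D : Cfsg.Agent.Lib.Helper78.DefectOneData p I P e ε a X Y) (v : M) (hv : orderOf v = 2)
    (hvC : v ∈ centralizer ((P : Subgroup M) : Set M)) (χ : IrrCharacter M) (hχ : χ ∈ X) :
    ∃ n : ℤ, (χ : M → ℂ) v = (n : ℂ) ∧ (2 : ℤ) ∣ (s1022Deg χ : ℤ) - n ∧ (p : ℤ) ∣ n - a χ ∧
      |n| ≤ (s1022Deg χ : ℤ) ∧
      (χ ≠ Cfsg.Agent.Lib.Helper3.PrincipalLin.triv M → n ≠ (s1022Deg χ : ℤ)) := by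
  classical
  have hp : p.Prime := Fact.out
  have hχc : IsCharacter M (χ : M → ℂ) := Cfsg.Agent.Lib.Helper78.IsIrrCharacter.isCharacter χ.2
  have hχB : χ ∈ principalBlock I M := (D.hmem χ).mpr (Or.inl hχ)
  have hP' : Nat.card (P : Subgroup M) = p := hP
  have hcyc : IsCyclic (P : Subgroup M) := isCyclic_of_prime_card hP'
  have hcommP : IsMulCommutative (P : Subgroup M) := IsCyclic.isMulCommutative
  have hfrob := Cfsg.Agent.Lib.Helper78.frob_of_card_eq_prime P hP'
  have : Fintype (zpowers v) := Fintype.ofFinite _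
  have : Fintype (P : Subgroup M) := Fintype.ofFinite _
  -- parity
  obtain ⟨m, hm⟩ := Cfsg.Agent.Lib.Helper74.exists_nat_sum_subgroup hχc (zpowers v)
  rw [Cfsg.Agent.Lib.Helper74.sum_subgroup_of_const (zpowers v) (χ : M → ℂ) ((χ : M → ℂ) v)
    (fun k hk hk1 => by
      rw [Cfsg.Agent.Lib.Helper74.eq_of_mem_zpowers_of_orderOf_two hv hk hk1]),
    Nat.card_zpowers, hv,
    Cfsg.Agent.Lib.Helper78.IsCharacter.apply_one_eq_charDegree hχc] at hm
  have hval : (χ : M → ℂ) v = ((2 * (m : ℤ) - (s1022Deg χ : ℤ) : ℤ) : ℂ) := by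
    push_cast at hm ⊢
    linear_combination hm
  refine ⟨2 * (m : ℤ) - (s1022Deg χ : ℤ), hval, ⟨(s1022Deg χ : ℤ) - m, by ring⟩, ?_, ?_, ?_⟩
  · -- the congruence modulo `p`
    have hcv : ∀ x ∈ (P : Subgroup M), Commute x v := fun x hx =>
      ((mem_centralizer_iff.mp hvC) x hx)
    obtain ⟨k, hk⟩ := s1022_exists_int_sum_mul hχc (P : Subgroup M) v hv hcv
    have hconst : ∀ x ∈ (P : Subgroup M), x ≠ 1 → (χ : M → ℂ) (x * v) = (a χ : ℂ) := by
      intro x hx hx1
      have hpp : IsPPart p (x * v) x := by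
        refine ⟨v, rfl, hcv x hx, Cfsg.Agent.Lib.Helper78.exists_orderOf_eq_of_mem_sylow P hx, ?_⟩
        rw [hv]
        intro h2
        exact hp2 ((Nat.prime_dvd_prime_iff_eq hp Nat.prime_two).mp h2)
      rw [Cfsg.Agent.Lib.Helper78.principalBlock_apply_eq_of_isPPart hI P hfrob hχB hpp hx hx1]
      exact D.hX χ hχ x hx hx1
    rw [Cfsg.Agent.Lib.Helper74.sum_subgroup_of_const (P : Subgroup M)
      (fun g => (χ : M → ℂ) (g * v)) (a χ : ℂ) hconst, hP', one_mul, hval] at hk
    refine ⟨k - a χ, ?_⟩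
    have h3 : (((2 * (m : ℤ) - (s1022Deg χ : ℤ)) - a χ : ℤ) : ℂ) =
        (((p : ℤ) * (k - a χ) : ℤ) : ℂ) := by
      push_cast at hk ⊢
      linear_combination hk
    exact_mod_cast h3
  · -- the bound
    have h1 := Cfsg.Agent.Lib.Helper80.norm_char_le hχc v
    rw [hval] at h1
    have h2 : ‖(((2 * (m : ℤ) - (s1022Deg χ : ℤ) : ℤ)) : ℂ)‖ =
        |((2 * (m : ℤ) - (s1022Deg χ : ℤ) : ℤ) : ℝ)| := by
      rw [← Complex.ofReal_intCast, Complex.norm_real, Real.norm_eq_abs]
    rw [h2] at h1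
    have h3 : ((|2 * (m : ℤ) - (s1022Deg χ : ℤ)| : ℤ) : ℝ) ≤ ((s1022Deg χ : ℤ) : ℝ) := by
      push_cast at h1 ⊢
      exact h1
    exact_mod_cast h3
  · -- not in the kernel
    intro hne heq
    have hne' : (χ : M → ℂ) ≠ fun _ => 1 := by
      intro h
      apply hne
      apply Subtype.ext
      exact h
    have hsimple : ∀ K : Subgroup M, K.Normal → v ∈ K → K = ⊤ := by
      intro K hK hvK
      rcases hK.eq_bot_or_eq_top with hb | ht
      · rw [hb, mem_bot] at hvK
        rw [hvK, orderOf_one] at hv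
        norm_num at hv
      · exact ht
    apply Cfsg.Agent.Lib.Helper78.irr_apply_ne_of_normal_closure χ.2 hne' hsimple
    rw [hval, heq, Cfsg.Agent.Lib.Helper78.IsCharacter.apply_one_eq_charDegree hχc]
    simp

end Cfsg.Agent.Lib.Helper41
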