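import Mathlib
import Cfsg.Agent.Lib.Helper41.J1Brauer
import Cfsg.Agent.Lib.Helper41.S1022Val

set_option autoImplicit false

/-!
The degree equation of the principal `19`-block of a simple group of order `459648`
(Brauer's theorem on blocks of defect one), for S1022.
-/

namespace Cfsg.Agent.Lib.Helper41

open Cfsg Subgroup

/-- sums over a family all of whose degrees are among `96, 18, 56, 189`. -/
theorem s1022_sum_fiber {ι A : Type*} [AddCommMonoid A] (s : Finset ι) (deg : ι → ℕ)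
    (hdeg : ∀ i ∈ s, deg i = 96 ∨ deg i = 18 ∨ deg i = 56 ∨ deg i = 189)
    (h : ℕ → A) :
    ∑ i ∈ s, h (deg i) =
      (s.filter (fun i => deg i = 96)).card • h 96 +
      ((s.filter (fun i => deg i = 18)).card • h 18 +
      ((s.filter (fun i => deg i = 56)).card • h 56 +
      (s.filter (fun i => deg i = 189)).card • h 189)) := by
  classical
  have hmaps : ∀ i ∈ s, deg i ∈ ({96, 18, 56, 189} : Finset ℕ) := by
    intro i hi
    simp only [Finset.mem_insert, Finset.mem_singleton]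
    exact hdeg i hi
  rw [← Finset.sum_fiberwise_of_maps_to hmaps]
  have hin : ∀ j : ℕ, ∑ i ∈ s with deg i = j, h (deg i) =
      (s.filter (fun i => deg i = j)).card • h j := by
    intro j
    rw [← Finset.sum_const]
    apply Finset.sum_congr rfl
    intro i hi
    rw [(Finset.mem_filter.mp hi).2]
  simp only [hin]
  rw [Finset.sum_insert (by decide), Finset.sum_insert (by decide),
    Finset.sum_insert (by decide), Finset.sum_singleton]

set_option maxRecDepth 100000 in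
/-- the possible degrees of the non-exceptional characters. -/
theorem s1022_degree_list : ∀ f ∈ Finset.range 678, 2 ≤ f → 24192 % f = 0 →
    (f % 19 = 1 ∨ f % 19 = 18) → (f = 96 ∨ f = 18 ∨ f = 56 ∨ f = 189) := by
  decide

/-- the sign attached to a degree. -/
def s1022Sign (f : ℕ) : ℤ := if f % 19 = 1 then (f : ℤ) else -(f : ℤ)

open scoped Classical in
set_option maxHeartbeats 1000000 in
/-- **The degree equation of the principal `19`-block for the order `459648`.** -/
theorem s1022_brauer_data {M : Type*} [Group M] [Finite M] [IsSimpleGroup M]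
    (hG : ¬ IsMulCommutative M) [Fact (Nat.Prime 19)] (P : Sylow 19 M) (hP : Nat.card P = 19)
    (e : ℕ)
    (he : (centralizer ((P : Subgroup M) : Set M)).relIndex
      (normalizer ((P : Subgroup M) : Set M)) = e)
    (he6 : e ∣ 6) (hcard : Nat.card M = 459648) :
    ∃ I : Ideal AlgInt, IsPModular 19 I ∧
    ∃ (ε : ℤ) (a : IrrCharacter M → ℤ) (X Y : Finset (IrrCharacter M)),
      Cfsg.Agent.Lib.Helper78.DefectOneData 19 I P e ε a X Y ∧
      Cfsg.Agent.Lib.Helper3.PrincipalLin.triv M ∈ X ∧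
      (∀ χ ∈ X, χ ≠ Cfsg.Agent.Lib.Helper3.PrincipalLin.triv M →
        (s1022Deg χ = 96 ∧ a χ = 1) ∨ (s1022Deg χ = 18 ∧ a χ = -1) ∨
        (s1022Deg χ = 56 ∧ a χ = -1) ∨ (s1022Deg χ = 189 ∧ a χ = -1)) ∧
      ∃ (n96 n18 n56 n189 f0 : ℕ),
        n96 = ((X.erase (Cfsg.Agent.Lib.Helper3.PrincipalLin.triv M)).filter
          (fun χ => s1022Deg χ = 96)).card ∧
        n18 = ((X.erase (Cfsg.Agent.Lib.Helper3.PrincipalLin.triv M)).filter
          (fun χ => s1022Deg χ = 18)).card ∧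
        n56 = ((X.erase (Cfsg.Agent.Lib.Helper3.PrincipalLin.triv M)).filter
          (fun χ => s1022Deg χ = 56)).card ∧
        n189 = ((X.erase (Cfsg.Agent.Lib.Helper3.PrincipalLin.triv M)).filter
          (fun χ => s1022Deg χ = 189)).card ∧
        n96 + n18 + n56 + n189 + 1 = e ∧ 2 ≤ f0 ∧ f0 ∣ 459648 ∧
        ε * (f0 : ℤ) = 1 + 96 * (n96 : ℤ) - 18 * (n18 : ℤ) - 56 * (n56 : ℤ) - 189 * (n189 : ℤ) ∧
        1 + 9216 * n96 + 324 * n18 + 3136 * n56 + 35721 * n189 + (18 / e) * f0 ^ 2 ≤ 459648 := by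
  have h19 : Nat.Prime 19 := Fact.out
  obtain ⟨I, hI⟩ := j1_exists_isPModular 19 h19
  have hk := Cfsg.Agent.Lib.Helper77.DefOne.card_principalBlock_ge 19 I hI P hP e he
  obtain ⟨ε, a, X, Y, D⟩ := Cfsg.Agent.Lib.Helper78.defect_one_data 19 I hI P hP e he hk
  refine ⟨I, hI, ε, a, X, Y, D, ?_⟩
  have hperf := j1_perfect hG
  set t := Cfsg.Agent.Lib.Helper3.PrincipalLin.triv M with ht
  have htB : t ∈ principalBlock I M := Cfsg.Agent.Lib.Helper3.PrincipalLin.triv_mem hI
  have hdegt : charDegree (t : M → ℂ) = 1 :=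
    Cfsg.Agent.Lib.Helper3.PrincipalLin.charDegree_triv
  have he0 : 0 < e := Nat.pos_of_dvd_of_pos he6 (by norm_num)
  have hecases : e = 1 ∨ e = 2 ∨ e = 3 ∨ e = 6 := by
    have hle : e ≤ 6 := Nat.le_of_dvd (by norm_num) he6
    interval_cases e <;> simp_all
  have hY3 : 3 ≤ Y.card := by
    rw [D.hYcard]
    rcases hecases with rfl | rfl | rfl | rfl <;> norm_num
  have hone : ¬ 19 ∣ orderOf (1 : M) := by rw [orderOf_one]; norm_num
  have hchar : ∀ χ : IrrCharacter M, (χ : M → ℂ) 1 = (charDegree (χ : M → ℂ) : ℂ) := fun χ =>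
    Cfsg.Agent.Lib.Helper78.IsCharacter.apply_one_eq_charDegree
      (Cfsg.Agent.Lib.Helper78.IsIrrCharacter.isCharacter χ.2)
  have hlin : ∀ χ : IrrCharacter M, charDegree (χ : M → ℂ) = 1 → χ = t :=
    fun χ h => j1_eq_triv_of_degree_one hperf χ h
  have hdeg2 : ∀ χ : IrrCharacter M, χ ≠ t → 2 ≤ charDegree (χ : M → ℂ) := by
    intro χ hχ
    have h1 := Cfsg.Agent.Lib.Helper79.irr_charDegree_pos χ
    have h2 : charDegree (χ : M → ℂ) ≠ 1 := fun h => hχ (hlin χ h)
    omega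
  have hYdeg : ∀ η ∈ Y, ∀ η' ∈ Y, charDegree (η : M → ℂ) = charDegree (η' : M → ℂ) := by
    intro η hη η' hη'
    have h1 := D.hregY 1 hone η hη η' hη'
    rw [hchar η, hchar η'] at h1
    exact_mod_cast h1
  have htY : t ∉ Y := by
    intro htY
    have hall : ∀ η ∈ Y, η = t := by
      intro η hη
      apply hlin
      rw [hYdeg η hη t htY, hdegt]
    have : Y.card ≤ 1 :=
      Finset.card_le_one.mpr (fun a ha b hb => by rw [hall a ha, hall b hb])
    omega
  have htX : t ∈ X := ((D.hmem t).mp htB).resolve_right htY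
  have hat : a t = 1 := by
    obtain ⟨y, hy⟩ := exists_prime_orderOf_dvd_card' 19 (G := P) (by rw [hP])
    have hy1 : (y : M) ≠ 1 := by
      intro h
      have h2 : y = 1 := Subtype.ext h
      rw [h2, orderOf_one] at hy
      norm_num at hy
    have h3 := D.hX t htX (y : M) y.2 hy1
    have h1 : (t : M → ℂ) (y : M) = 1 := rfl
    rw [h1] at h3
    exact_mod_cast h3.symm
  -- the exceptional degree
  obtain ⟨θ, hθ⟩ : Y.Nonempty := Finset.card_pos.mp (by omega)
  have hθt : θ ≠ t := fun h => htY (h ▸ hθ)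
  have hf0 : 2 ≤ charDegree (θ : M → ℂ) := hdeg2 θ hθt
  have hf0dvd : charDegree (θ : M → ℂ) ∣ 459648 := by
    rw [← hcard]; exact Cfsg.Agent.Lib.Helper79.irr_charDegree_dvd_card θ
  -- the degree equation
  have hrel : ε * (charDegree (θ : M → ℂ) : ℤ) =
      ∑ χ ∈ X, a χ * (charDegree (χ : M → ℂ) : ℤ) := by
    have h1 := D.hrel 1 hone θ hθ
    rw [hchar θ] at h1
    have h3 : ((ε * (charDegree (θ : M → ℂ) : ℤ) : ℤ) : ℂ) =
        ((∑ χ ∈ X, a χ * (charDegree (χ : M → ℂ) : ℤ) : ℤ) : ℂ) := by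
      push_cast
      rw [h1]
      apply Finset.sum_congr rfl
      intro χ _
      rw [hchar χ]
    exact_mod_cast h3
  -- the non-exceptional characters
  set X' := X.erase t with hX'
  have hX'card : X'.card + 1 = e := by
    rw [hX', Finset.card_erase_of_mem htX, D.hXcard]; omega
  have hsumsq : ∑ χ : IrrCharacter M, (charDegree (χ : M → ℂ)) ^ 2 = 459648 := by
    have := Fintype.ofFinite M
    rw [← hcard]
    convert Cfsg.Agent.Lib.Helper78.sum_irr_charDegree_sq (G := M)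
  have hXY : ∑ χ ∈ X, (charDegree (χ : M → ℂ)) ^ 2 + ∑ χ ∈ Y, (charDegree (χ : M → ℂ)) ^ 2
      ≤ 459648 := by
    rw [← hsumsq, ← Finset.sum_union D.hdisj]
    exact Finset.sum_le_sum_of_subset (Finset.subset_univ _)
  have hYsq : ∑ χ ∈ Y, (charDegree (χ : M → ℂ)) ^ 2 =
      (18 / e) * (charDegree (θ : M → ℂ)) ^ 2 := by
    rw [Finset.sum_congr rfl (fun χ hχ => by rw [hYdeg χ hχ θ hθ]), Finset.sum_const,
      D.hYcard, smul_eq_mul]
  have hXsq : ∑ χ ∈ X, (charDegree (χ : M → ℂ)) ^ 2 =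
      1 + ∑ χ ∈ X', (charDegree (χ : M → ℂ)) ^ 2 := by
    rw [hX', ← Finset.add_sum_erase X _ htX, hdegt]; norm_num
  have hXlin : ∑ χ ∈ X, a χ * (charDegree (χ : M → ℂ) : ℤ) =
      1 + ∑ χ ∈ X', a χ * (charDegree (χ : M → ℂ) : ℤ) := by
    rw [hX', ← Finset.add_sum_erase X _ htX, hdegt, hat]; norm_num
  -- the degrees of the members of `X'`
  have hX'mem : ∀ χ ∈ X', χ ∈ X ∧ χ ≠ t := fun χ hχ =>
    ⟨Finset.mem_of_mem_erase hχ, Finset.ne_of_mem_erase hχ⟩
  have hXdeg : ∀ χ ∈ X, χ ≠ t →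
      (charDegree (χ : M → ℂ) = 96 ∧ a χ = 1) ∨ (charDegree (χ : M → ℂ) = 18 ∧ a χ = -1) ∨
      (charDegree (χ : M → ℂ) = 56 ∧ a χ = -1) ∨ (charDegree (χ : M → ℂ) = 189 ∧ a χ = -1) := by
    intro χ hχX hχt
    have h2 := hdeg2 χ hχt
    have hdvdM : charDegree (χ : M → ℂ) ∣ 459648 := by
      rw [← hcard]; exact Cfsg.Agent.Lib.Helper79.irr_charDegree_dvd_card χ
    have hmod := D.degree_X hP hχX
    have ha := D.haX χ hχX
    have hsq : (charDegree (χ : M → ℂ)) ^ 2 ≤ 459648 := by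
      have h1 : (charDegree (χ : M → ℂ)) ^ 2 ≤ ∑ ψ ∈ X, (charDegree (ψ : M → ℂ)) ^ 2 :=
        Finset.single_le_sum (f := fun ψ : IrrCharacter M => (charDegree (ψ : M → ℂ)) ^ 2)
          (fun i _ => Nat.zero_le _) hχX
      omega
    generalize charDegree (χ : M → ℂ) = f at *
    have hmod19 : f % 19 = 1 ∨ f % 19 = 18 := by
      rcases ha with ha | ha <;> rw [ha] at hmod <;> omega
    have hcop : Nat.Coprime f 19 := by
      rw [Nat.coprime_comm, Nat.Prime.coprime_iff_not_dvd h19]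
      omega
    have hfd : f ∣ 24192 := by
      have : f ∣ 24192 * 19 := by norm_num; exact hdvdM
      exact hcop.dvd_of_dvd_mul_right this
    have hf677 : f < 678 := by
      by_contra hcon
      push Not at hcon
      have : 678 * 678 ≤ f * f := Nat.mul_le_mul hcon hcon
      nlinarith
    have hlist := s1022_degree_list f (Finset.mem_range.mpr hf677) h2
      (Nat.mod_eq_zero_of_dvd hfd) hmod19
    rcases hlist with rfl | rfl | rfl | rfl <;> rcases ha with ha | ha <;>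
      rw [ha] at hmod <;> (try (norm_num at hmod)) <;> simp [ha]
  refine ⟨htX, hXdeg, ?_⟩
  have hX'deg : ∀ χ ∈ X', (charDegree (χ : M → ℂ) = 96 ∨ charDegree (χ : M → ℂ) = 18 ∨
        charDegree (χ : M → ℂ) = 56 ∨ charDegree (χ : M → ℂ) = 189) ∧
      a χ * (charDegree (χ : M → ℂ) : ℤ) = s1022Sign (charDegree (χ : M → ℂ)) := by
    intro χ hχ
    obtain ⟨hχX, hχt⟩ := hX'mem χ hχ
    unfold s1022Sign
    rcases hXdeg χ hχX hχt with ⟨h1, h2⟩ | ⟨h1, h2⟩ | ⟨h1, h2⟩ | ⟨h1, h2⟩ <;>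
      rw [h1, h2] <;> simp
  have hdegs : ∀ χ ∈ X', charDegree (χ : M → ℂ) = 96 ∨ charDegree (χ : M → ℂ) = 18 ∨
      charDegree (χ : M → ℂ) = 56 ∨ charDegree (χ : M → ℂ) = 189 := fun χ hχ => (hX'deg χ hχ).1
  have hS1 := s1022_sum_fiber X' (fun χ : IrrCharacter M => charDegree (χ : M → ℂ)) hdegs
    (fun _ => (1 : ℕ))
  have hS2 := s1022_sum_fiber X' (fun χ : IrrCharacter M => charDegree (χ : M → ℂ)) hdegs
    (fun f => f ^ 2)
  have hS3 := s1022_sum_fiber X' (fun χ : IrrCharacter M => charDegree (χ : M → ℂ)) hdegs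
    s1022Sign
  have hS3' : ∑ χ ∈ X', a χ * (charDegree (χ : M → ℂ) : ℤ) =
      ∑ χ ∈ X', s1022Sign (charDegree (χ : M → ℂ)) :=
    Finset.sum_congr rfl (fun χ hχ => (hX'deg χ hχ).2)
  simp only [Finset.sum_const, smul_eq_mul, mul_one] at hS1
  refine ⟨_, _, _, _, charDegree (θ : M → ℂ), rfl, rfl, rfl, rfl, ?_, hf0, hf0dvd, ?_, ?_⟩
  · show (X'.filter (fun χ : IrrCharacter M => charDegree (χ : M → ℂ) = 96)).card +
      (X'.filter (fun χ : IrrCharacter M => charDegree (χ : M → ℂ) = 18)).card +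
      (X'.filter (fun χ : IrrCharacter M => charDegree (χ : M → ℂ) = 56)).card +
      (X'.filter (fun χ : IrrCharacter M => charDegree (χ : M → ℂ) = 189)).card + 1 = e
    omega
  · show ε * (charDegree (θ : M → ℂ) : ℤ) = 1 +
      96 * ((X'.filter (fun χ : IrrCharacter M => charDegree (χ : M → ℂ) = 96)).card : ℤ) -
      18 * ((X'.filter (fun χ : IrrCharacter M => charDegree (χ : M → ℂ) = 18)).card : ℤ) -
      56 * ((X'.filter (fun χ : IrrCharacter M => charDegree (χ : M → ℂ) = 56)).card : ℤ) -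
      189 * ((X'.filter (fun χ : IrrCharacter M => charDegree (χ : M → ℂ) = 189)).card : ℤ)
    rw [hrel, hXlin, hS3', hS3]
    simp only [s1022Sign, nsmul_eq_mul]
    norm_num
    ring
  · show 1 +
      9216 * (X'.filter (fun χ : IrrCharacter M => charDegree (χ : M → ℂ) = 96)).card +
      324 * (X'.filter (fun χ : IrrCharacter M => charDegree (χ : M → ℂ) = 18)).card +
      3136 * (X'.filter (fun χ : IrrCharacter M => charDegree (χ : M → ℂ) = 56)).card +
      35721 * (X'.filter (fun χ : IrrCharacter M => charDegree (χ : M → ℂ) = 189)).card +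
      (18 / e) * (charDegree (θ : M → ℂ)) ^ 2 ≤ 459648
    rw [hXsq, hYsq, hS2] at hXY
    simp only [smul_eq_mul] at hXY
    norm_num at hXY
    omega

end Cfsg.Agent.Lib.Helper41
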