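import Mathlib

set_option autoImplicit false

/-!
The arithmetic of the degree equation of the principal `19`-block for the order `459648`
(S1022): `e = 6` and four patterns survive.
-/

namespace Cfsg.Agent.Lib.Helper41

set_option maxRecDepth 1000000 in
theorem s1022_filter_aux : ∀ n96 ∈ Finset.range 6, ∀ n18 ∈ Finset.range (6 - n96),
    ∀ n56 ∈ Finset.range (6 - n96 - n18), ∀ n189 ∈ Finset.range (6 - n96 - n18 - n56),
    (n96 + n18 + n56 + n189 + 1) ∣ 6 → n96 + n18 + n56 + n189 + 1 ≠ 1 →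
    2 ≤ (1 + 96 * n96 - (18 * n18 + 56 * n56 + 189 * n189)) +
      ((18 * n18 + 56 * n56 + 189 * n189) - (1 + 96 * n96)) →
    459648 % ((1 + 96 * n96 - (18 * n18 + 56 * n56 + 189 * n189)) +
      ((18 * n18 + 56 * n56 + 189 * n189) - (1 + 96 * n96))) = 0 →
    1 + 9216 * n96 + 324 * n18 + 3136 * n56 + 35721 * n189 +
      (18 / (n96 + n18 + n56 + n189 + 1)) *
        ((1 + 96 * n96 - (18 * n18 + 56 * n56 + 189 * n189)) +
          ((18 * n18 + 56 * n56 + 189 * n189) - (1 + 96 * n96))) ^ 2 ≤ 459648 →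
    n96 + n18 + n56 + n189 + 1 = 6 ∧ (0 < n18 ∨ (n96 = 2 ∧ n56 = 2 ∧ n189 = 1)) := by
  decide

/-- the surviving patterns. -/
theorem s1022_filter {e n96 n18 n56 n189 f0 : ℕ} {ε : ℤ} (he6 : e ∣ 6) (he1 : e ≠ 1)
    (hsum : n96 + n18 + n56 + n189 + 1 = e) (hf0 : 2 ≤ f0) (hf0d : f0 ∣ 459648)
    (hε : ε = 1 ∨ ε = -1)
    (heq : ε * (f0 : ℤ) = 1 + 96 * (n96 : ℤ) - 18 * (n18 : ℤ) - 56 * (n56 : ℤ) - 189 * (n189 : ℤ))
    (hsq : 1 + 9216 * n96 + 324 * n18 + 3136 * n56 + 35721 * n189 + (18 / e) * f0 ^ 2 ≤ 459648) :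
    e = 6 ∧ (0 < n18 ∨ (n96 = 2 ∧ n56 = 2 ∧ n189 = 1)) := by
  have hele : e ≤ 6 := Nat.le_of_dvd (by norm_num) he6
  have hf0eq : f0 = (1 + 96 * n96 - (18 * n18 + 56 * n56 + 189 * n189)) +
      ((18 * n18 + 56 * n56 + 189 * n189) - (1 + 96 * n96)) := by
    rcases hε with h | h <;> rw [h] at heq <;> omega
  subst hsum
  rw [hf0eq] at hf0 hf0d hsq
  exact s1022_filter_aux n96 (Finset.mem_range.mpr (by omega)) n18 (Finset.mem_range.mpr (by omega))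
    n56 (Finset.mem_range.mpr (by omega)) n189 (Finset.mem_range.mpr (by omega)) he6 he1 hf0
    (Nat.mod_eq_zero_of_dvd hf0d) hsq

end Cfsg.Agent.Lib.Helper41
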