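import Mathlib
import Cfsg.Agent.Lib.Helper41.S1022Data
import Cfsg.Agent.Lib.Helper41.S1022Filter
import Cfsg.Agent.Lib.Helper78.CharOrtho

set_option autoImplicit false

/-!
The centralizer of an involution centralizing a Sylow `19`-subgroup of a simple group of order
`459648` has order at least `1297` (for S1022).
-/

namespace Cfsg.Agent.Lib.Helper41

open Cfsg Subgroup
open scoped ComplexConjugate

/-- the square of the absolute value of a character value that is a rational integer. -/
theorem s1022_normSq_of_int {z : ℂ} {n : ℤ} (h : z = (n : ℂ)) : Complex.normSq z = ((n ^ 2 : ℤ) : ℝ) := by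
  rw [h, ← Complex.ofReal_intCast, Complex.normSq_ofReal]
  push_cast
  ring

/-- second orthogonality at a single element, in terms of `Complex.normSq`. -/
theorem s1022_sum_normSq {M : Type*} [Group M] [Finite M] (v : M) :
    ∑ χ : IrrCharacter M, Complex.normSq ((χ : M → ℂ) v) =
      (Nat.card (centralizer ({v} : Set M)) : ℝ) := by
  have := Fintype.ofFinite M
  have horth := Cfsg.Agent.Lib.Helper78.second_orthogonality_of_isConj (IsConj.refl v)
  apply Complex.ofReal_injective
  push_cast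
  rw [← horth]
  apply Finset.sum_congr rfl
  intro χ _
  rw [Complex.mul_conj]

open scoped Classical in
set_option maxHeartbeats 1000000 in
/-- **The lower bound for the centralizer of the involution.** -/
theorem s1022_card_centralizer_ge {M : Type*} [Group M] [Finite M] [IsSimpleGroup M]
    (hG : ¬ IsMulCommutative M) [Fact (Nat.Prime 19)] (P : Sylow 19 M) (hP : Nat.card P = 19)
    (e : ℕ)
    (he : (centralizer ((P : Subgroup M) : Set M)).relIndex
      (normalizer ((P : Subgroup M) : Set M)) = e)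
    (he6 : e ∣ 6) (he1 : e ≠ 1) (hcard : Nat.card M = 459648) (v : M) (hv : orderOf v = 2)
    (hvC : v ∈ centralizer ((P : Subgroup M) : Set M)) :
    1297 ≤ Nat.card (centralizer ({v} : Set M)) := by
  obtain ⟨I, hI, ε, a, X, Y, D, htX, hXdeg, n96, n18, n56, n189, f0, h96, h18, h56, h189, hsum,
    hf0, hf0d, heq, hsq⟩ := s1022_brauer_data hG P hP e he he6 hcard
  obtain ⟨he6', hpat⟩ := s1022_filter he6 he1 hsum hf0 hf0d D.hε heq hsq
  set t := Cfsg.Agent.Lib.Helper3.PrincipalLin.triv M with ht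
  have hval := fun χ hχ => s1022_value_at_involution (by norm_num) hI P hP D v hv hvC χ hχ
  -- no character of degree `18`
  have hn18 : ¬ 0 < n18 := by
    intro hpos
    rw [h18] at hpos
    obtain ⟨χ, hχ⟩ := Finset.card_pos.mp hpos
    obtain ⟨hχX', hχ18⟩ := Finset.mem_filter.mp hχ
    have hχX : χ ∈ X := Finset.mem_of_mem_erase hχX'
    have hχt : χ ≠ t := Finset.ne_of_mem_erase hχX'
    obtain ⟨n, -, hn2, hn19, hnle, hnne⟩ := hval χ hχX
    have hnne := hnne hχt
    have ha : a χ = -1 := by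
      rcases hXdeg χ hχX hχt with ⟨h1, h2⟩ | ⟨h1, h2⟩ | ⟨h1, h2⟩ | ⟨h1, h2⟩
      · rw [hχ18] at h1; norm_num at h1
      · exact h2
      · exact h2
      · exact h2
    rw [hχ18] at hn2 hnle hnne
    rw [ha] at hn19
    rw [abs_le] at hnle
    omega
  obtain ⟨r96, r56, r189⟩ := hpat.resolve_left hn18
  -- the characters of degrees `96` and `56`
  set F96 := (X.erase t).filter (fun χ => s1022Deg χ = 96) with hF96
  set F56 := (X.erase t).filter (fun χ => s1022Deg χ = 56) with hF56
  have hb96 : ∀ χ ∈ F96, (324 : ℝ) ≤ Complex.normSq ((χ : M → ℂ) v) := by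
    intro χ hχ
    obtain ⟨hχX', hχd⟩ := Finset.mem_filter.mp hχ
    have hχX : χ ∈ X := Finset.mem_of_mem_erase hχX'
    have hχt : χ ≠ t := Finset.ne_of_mem_erase hχX'
    obtain ⟨n, hn, hn2, hn19, hnle, hnne⟩ := hval χ hχX
    have hnne := hnne hχt
    have ha : a χ = 1 := by
      rcases hXdeg χ hχX hχt with ⟨h1, h2⟩ | ⟨h1, h2⟩ | ⟨h1, h2⟩ | ⟨h1, h2⟩
      · exact h2
      · rw [hχd] at h1; norm_num at h1
      · rw [hχd] at h1; norm_num at h1
      · rw [hχd] at h1; norm_num at h1
    rw [hχd] at hn2 hnle hnne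
    rw [ha] at hn19
    rw [abs_le] at hnle
    rw [s1022_normSq_of_int hn]
    have h1 : n ≤ -18 ∨ 18 ≤ n := by omega
    have h2 : (324 : ℤ) ≤ n ^ 2 := by rcases h1 with h | h <;> nlinarith
    exact_mod_cast h2
  have hb56 : ∀ χ ∈ F56, (324 : ℝ) ≤ Complex.normSq ((χ : M → ℂ) v) := by
    intro χ hχ
    obtain ⟨hχX', hχd⟩ := Finset.mem_filter.mp hχ
    have hχX : χ ∈ X := Finset.mem_of_mem_erase hχX'
    have hχt : χ ≠ t := Finset.ne_of_mem_erase hχX'
    obtain ⟨n, hn, hn2, hn19, hnle, hnne⟩ := hval χ hχX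
    have hnne := hnne hχt
    have ha : a χ = -1 := by
      rcases hXdeg χ hχX hχt with ⟨h1, h2⟩ | ⟨h1, h2⟩ | ⟨h1, h2⟩ | ⟨h1, h2⟩
      · rw [hχd] at h1; norm_num at h1
      · exact h2
      · exact h2
      · exact h2
    rw [hχd] at hn2 hnle hnne
    rw [ha] at hn19
    rw [abs_le] at hnle
    rw [s1022_normSq_of_int hn]
    have h1 : n ≤ -18 ∨ 18 ≤ n := by omega
    have h2 : (324 : ℤ) ≤ n ^ 2 := by rcases h1 with h | h <;> nlinarith
    exact_mod_cast h2
  -- second orthogonality
  have horth' := s1022_sum_normSq v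
  -- the three disjoint families
  have hd1 : Disjoint F96 F56 := by
    rw [Finset.disjoint_left]
    intro χ h1 h2
    have e1 := (Finset.mem_filter.mp h1).2
    have e2 := (Finset.mem_filter.mp h2).2
    rw [e1] at e2
    norm_num at e2
  have htF : t ∉ F96 ∪ F56 := by
    intro h
    rcases Finset.mem_union.mp h with h | h
    · exact Finset.ne_of_mem_erase (Finset.mem_filter.mp h).1 rfl
    · exact Finset.ne_of_mem_erase (Finset.mem_filter.mp h).1 rfl
  have hsub : ∑ χ ∈ insert t (F96 ∪ F56), Complex.normSq ((χ : M → ℂ) v) ≤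
      ∑ χ : IrrCharacter M, Complex.normSq ((χ : M → ℂ) v) :=
    Finset.sum_le_sum_of_subset_of_nonneg (Finset.subset_univ _)
      (fun χ _ _ => Complex.normSq_nonneg _)
  rw [Finset.sum_insert htF, Finset.sum_union hd1] at hsub
  have ht1 : Complex.normSq ((t : M → ℂ) v) = 1 := by
    have : (t : M → ℂ) v = 1 := rfl
    rw [this, map_one]
  have hs96 : (324 : ℝ) * (F96.card : ℝ) ≤ ∑ χ ∈ F96, Complex.normSq ((χ : M → ℂ) v) := by
    have := Finset.card_nsmul_le_sum F96 (fun χ => Complex.normSq ((χ : M → ℂ) v)) 324 hb96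
    rw [nsmul_eq_mul] at this
    linarith
  have hs56 : (324 : ℝ) * (F56.card : ℝ) ≤ ∑ χ ∈ F56, Complex.normSq ((χ : M → ℂ) v) := by
    have := Finset.card_nsmul_le_sum F56 (fun χ => Complex.normSq ((χ : M → ℂ) v)) 324 hb56
    rw [nsmul_eq_mul] at this
    linarith
  have hc96 : (F96.card : ℝ) = 2 := by
    rw [hF96, ← h96, r96]; norm_num
  have hc56 : (F56.card : ℝ) = 2 := by
    rw [hF56, ← h56, r56]; norm_num
  have hfin : (1297 : ℝ) ≤ (Nat.card (centralizer ({v} : Set M)) : ℝ) := by
    rw [← horth']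
    rw [ht1] at hsub
    rw [hc96] at hs96
    rw [hc56] at hs56
    linarith
  exact_mod_cast hfin

end Cfsg.Agent.Lib.Helper41
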