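import Mathlib
import Cfsg.Agent.Lib.Helper41.S1022Char
import Cfsg.Agent.Lib.Helper41.S1022SylSub
import Cfsg.Agent.Lib.Helper7.S1022Invol
import Cfsg.Agent.Lib.Helper7.S1022Perm
import Cfsg.Agent.Lib.Helper86.S1022Idx21
import Cfsg.Agent.Lib.Helper41.J1Sylow

set_option autoImplicit false

/-!
There is no simple group of order `459648 = 2^7 * 3^3 * 7 * 19` (S1022): assembly.
-/

namespace Cfsg.Agent.Lib.Helper41

open Cfsg Subgroup
open Cfsg.Agent.Lib.Helper7.S1022 Cfsg.Agent.Lib.Helper86.S1022

set_option maxRecDepth 100000 in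
theorem s1022_local_arith1 : ∀ s ∈ Nat.divisors 456, 152 ≤ s → 19 ∣ s →
    s = 152 ∨ s = 228 ∨ s = 456 := by
  decide

set_option maxRecDepth 100000 in
theorem s1022_local_arith2 : ∀ n ∈ Nat.divisors 3024, n % 19 = 1 → n = 1 ∨ n = 1008 := by
  decide

set_option maxRecDepth 100000 in
theorem s1022_local_arith3 : ∀ n ∈ Nat.divisors 2016, n % 19 = 1 → n = 1 ∨ n = 96 ∨ n = 1008 := by
  decide

set_option maxRecDepth 100000 in
theorem s1022_local_arith4 : ∀ n ∈ Nat.divisors 1008, n % 19 = 1 → n = 1 ∨ n = 1008 := by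
  decide

theorem s1022_local_arith (h s n : ℕ) (hh : h ∣ 459648) (hbig : 1297 ≤ h) (hs : s ∣ 456)
    (hs152 : 152 ≤ s) (h19 : 19 ∣ s) (hn : n % 19 = 1) (hns : n * s = h) :
    (h = 21888 ∧ s = 228) ∨ 459648 / h ≤ 3 := by
  have h1 := s1022_local_arith1 s (Nat.mem_divisors.mpr ⟨hs, by norm_num⟩) hs152 h19
  rcases h1 with rfl | rfl | rfl
  · have hn' : n ∣ 3024 := by
      have : n * 152 ∣ 3024 * 152 := by rw [hns]; exact hh
      exact Nat.dvd_of_mul_dvd_mul_right (by norm_num) this
    rcases s1022_local_arith2 n (Nat.mem_divisors.mpr ⟨hn', by norm_num⟩) hn with rfl | rfl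
    · omega
    · right; rw [← hns]; try norm_num
  · have hn' : n ∣ 2016 := by
      have : n * 228 ∣ 2016 * 228 := by rw [hns]; exact hh
      exact Nat.dvd_of_mul_dvd_mul_right (by norm_num) this
    rcases s1022_local_arith3 n (Nat.mem_divisors.mpr ⟨hn', by norm_num⟩) hn with rfl | rfl | rfl
    · omega
    · left; exact ⟨by omega, rfl⟩
    · right; rw [← hns]; try norm_num
  · have hn' : n ∣ 1008 := by
      have : n * 456 ∣ 1008 * 456 := by rw [hns]; exact hh
      exact Nat.dvd_of_mul_dvd_mul_right (by norm_num) this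
    rcases s1022_local_arith4 n (Nat.mem_divisors.mpr ⟨hn', by norm_num⟩) hn with rfl | rfl
    · omega
    · right; rw [← hns]; try norm_num

/-- the local analysis: the centralizer of the involution cannot have order `≥ 1297`. -/
theorem s1022_local {G : Type*} [Group G] [Finite G] [IsSimpleGroup G]
    (hG : Nat.card G = 459648) [Fact (Nat.Prime 19)] (P : Sylow 19 G)
    (hP : Nat.card (P : Subgroup G) = 19)
    (hN : Nat.card (normalizer ((P : Subgroup G) : Set G)) = 456)
    (hC : Nat.card (centralizer ((P : Subgroup G) : Set G)) = 76)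
    (v : G) (hvC : v ∈ centralizer ((P : Subgroup G) : Set G)) (hv : orderOf v = 2)
    (hbig : 1297 ≤ Nat.card (centralizer ({v} : Set G))) : False := by
  have hnc : ¬ IsMulCommutative G := by
    apply Cfsg.Agent.Lib.Helper17.not_comm_of_simple_of_not_prime
    rw [hG]; norm_num
  set H : Subgroup G := centralizer ({v} : Set G) with hHdef
  have hcyc : IsCyclic (P : Subgroup G) := isCyclic_of_prime_card hP
  have hcomm : IsMulCommutative (P : Subgroup G) := IsCyclic.isMulCommutative
  have hPC : (P : Subgroup G) ≤ centralizer ((P : Subgroup G) : Set G) := le_centralizer _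
  have hPH : (P : Subgroup G) ≤ H := by
    intro x hx
    rw [hHdef, mem_centralizer_singleton_iff]
    exact ((mem_centralizer_iff.mp hvC) x hx)
  have h1 := s1022_card_normalizer_le (by norm_num) P hPC v hvC hv
  rw [hN, hC, hP] at h1
  obtain ⟨n, hn1, hn2⟩ := s1022_sylow_count_subgroup P H hPH
  set s := Nat.card ((normalizer ((P : Subgroup G) : Set G) ⊓ H : Subgroup G)) with hs
  have hs152 : 152 ≤ s := by omega
  have hsdvd : s ∣ 456 := by
    rw [← hN]; exact card_dvd_of_le inf_le_left
  have h19s : 19 ∣ s := by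
    rw [← hP]; exact card_dvd_of_le (le_inf (le_normalizer) hPH)
  have hHdvd : Nat.card H ∣ 459648 := by rw [← hG]; exact card_subgroup_dvd_card H
  have hA := s1022_local_arith (Nat.card H) s n hHdvd hbig hsdvd hs152 h19s hn1 hn2
  rcases hA with ⟨h21888, h228⟩ | hidx
  · exact s1022_index21 hG P hN H hPH h21888 h228
  · -- index at most 3
    have hidx' : H.index ≤ 3 := by
      have h2 := H.card_mul_index
      rw [hG] at h2
      have hHpos : 0 < Nat.card H := Nat.card_pos
      have : H.index = 459648 / Nat.card H := by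
        rw [← h2]; exact (Nat.mul_div_cancel_left _ hHpos).symm
      omega
    by_cases htop : H = ⊤
    · -- v is central
      have hvcen : v ∈ center G := by
        rw [mem_center_iff]
        intro g
        have : g ∈ H := by rw [htop]; exact mem_top g
        rw [hHdef, mem_centralizer_singleton_iff] at this
        exact this
      have hcn : (center G).Normal := inferInstance
      rcases hcn.eq_bot_or_eq_top with hb | ht
      · rw [hb, mem_bot] at hvcen
        rw [hvcen, orderOf_one] at hv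
        norm_num at hv
      · apply hnc
        constructor; constructor
        intro a b
        have : a ∈ center G := by rw [ht]; exact mem_top a
        exact ((mem_center_iff.mp this) b).symm
    · have h3 := Cfsg.Agent.Lib.Helper17.two_mul_card_dvd_factorial_index_of_simple hnc H htop
      have h4 : (H.index).factorial ∣ Nat.factorial 3 := Nat.factorial_dvd_factorial hidx'
      have h5 := Nat.le_of_dvd (by norm_num) (h3.trans h4)
      rw [hG] at h5
      norm_num [Nat.factorial] at h5

/-- the possible Sylow `19`-data. -/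
def s1022List : List (ℕ × ℕ × ℕ × ℕ) :=
  [(96, 4788, 2394, 2), (96, 4788, 1596, 3), (96, 4788, 798, 6), (96, 4788, 532, 9),
   (96, 4788, 266, 18), (1008, 456, 228, 2), (1008, 456, 152, 3), (1008, 456, 76, 6)]

set_option maxRecDepth 1000000 in
theorem s1022_loc_aux : ∀ k ∈ Finset.range 678, k ∣ 459648 →
    J1Q 19 s1022List k (459648 / k) ∧ J1Q 19 s1022List (459648 / k) k := by
  decide

theorem s1022_loc_list {n N C e : ℕ} (hloc : J1Loc 459648 19 n N C e) :
    (n, N, C, e) ∈ s1022List :=
  j1_loc_mem 459648 678 19 s1022List (by norm_num) (by norm_num) (by norm_num) s1022_loc_aux hloc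

/-- `|N : C| = 6` when it divides `6`. -/
theorem s1022_relIndex_eq_six {M : Type*} [Group M] [Finite M] [IsSimpleGroup M]
    (hG : ¬ IsMulCommutative M) [Fact (Nat.Prime 19)] (P : Sylow 19 M) (hP : Nat.card P = 19)
    (e : ℕ)
    (he : (centralizer ((P : Subgroup M) : Set M)).relIndex
      (normalizer ((P : Subgroup M) : Set M)) = e)
    (he6 : e ∣ 6) (he1 : e ≠ 1) (hcard : Nat.card M = 459648) : e = 6 := by
  classical
  obtain ⟨I, hI, ε, a, X, Y, D, htX, hXdeg, n96, n18, n56, n189, f0, h96, h18, h56, h189, hsum,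
    hf0, hf0d, heq, hsq⟩ := s1022_brauer_data hG P hP e he he6 hcard
  exact (s1022_filter he6 he1 hsum hf0 hf0d D.hε heq hsq).1

/-- the case of `96` Sylow `19`-subgroups. -/
theorem s1022_case96 {G : Type*} [Group G] [Finite G] [IsSimpleGroup G] [Fact (Nat.Prime 19)]
    (P : Sylow 19 G) (h96 : Nat.card (Sylow 19 G) = 96) (K : Subgroup G)
    (hKC : K ≤ centralizer ((P : Subgroup G) : Set G)) (h7 : 7 ∣ Nat.card K) : False := by
  have : Fact (Nat.Prime 7) := ⟨by norm_num⟩
  obtain ⟨k, hk⟩ := exists_prime_orderOf_dvd_card' 7 (G := K) h7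
  have hk' : orderOf (k : G) = 7 := by rw [Subgroup.orderOf_coe]; exact hk
  have hfix := s1022_smul_eq_of_centralizes (q := 7) P (k : G) hk' (hKC k.2) (by
    intro f hf h1 h2
    rw [h96] at hf h2 ⊢
    omega)
  have h1 := s1022_eq_one_of_smul_eq (p := 19) (by rw [h96]; norm_num) (k : G) hfix
  rw [h1, orderOf_one] at hk'
  norm_num at hk'

/-- **There is no simple group of order `459648`.** -/
theorem s1022_main {G : Type*} [Group G] [Finite G] [IsSimpleGroup G]
    (hcard : Nat.card G = 459648) : False := by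
  have : Fact (Nat.Prime 19) := ⟨by norm_num⟩
  have : Fact (Nat.Prime 2) := ⟨by norm_num⟩
  have hG : ¬ IsMulCommutative G := by
    apply Cfsg.Agent.Lib.Helper17.not_comm_of_simple_of_not_prime
    rw [hcard]; norm_num
  have h19 : 19 ∣ Nat.card G := by rw [hcard]; norm_num
  have h361 : ¬ 19 * 19 ∣ Nat.card G := by rw [hcard]; norm_num
  obtain ⟨n, N, C, e, D⟩ := j1_data_exists hG 19 h19 h361 h19
  have hmem : (n, N, C, e) ∈ s1022List := s1022_loc_list (by rw [← hcard]; exact D.hloc)
  obtain ⟨P⟩ : Nonempty (Sylow 19 G) := inferInstance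
  obtain ⟨K, hKC, hKcard⟩ := j1_exists_complement D P
  have hcaseB : n = 1008 → N = 456 → e ∣ 6 → e ≠ 1 → 2 ∣ C / 19 → False := by
    intro hn hN he6 he1 h2
    have he : e = 6 := s1022_relIndex_eq_six hG P (D.hP P) e (D.hrel P) he6 he1 hcard
    have hC : C = 76 := by
      have := D.hloc.2.2.1
      rw [hN, he] at this
      omega
    obtain ⟨v, hv⟩ := exists_prime_orderOf_dvd_card' 2 (G := K) (by rw [hKcard]; exact h2)
    have hv' : orderOf (v : G) = 2 := by rw [Subgroup.orderOf_coe]; exact hv
    have hbig := s1022_card_centralizer_ge hG P (D.hP P) e (D.hrel P) he6 he1 hcard (v : G) hv'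
      (hKC v.2)
    exact s1022_local hcard P (D.hP P) (by rw [D.hN P, hN]) (by rw [D.hC P, hC]) (v : G)
      (hKC v.2) hv' hbig
  unfold s1022List at hmem
  simp only [List.mem_cons, Prod.mk.injEq, List.not_mem_nil, or_false] at hmem
  rcases hmem with ⟨rfl, rfl, rfl, rfl⟩ | ⟨rfl, rfl, rfl, rfl⟩ | ⟨rfl, rfl, rfl, rfl⟩ |
    ⟨rfl, rfl, rfl, rfl⟩ | ⟨rfl, rfl, rfl, rfl⟩ | ⟨rfl, rfl, rfl, rfl⟩ | ⟨rfl, rfl, rfl, rfl⟩ |
    ⟨rfl, rfl, rfl, rfl⟩
  · exact s1022_case96 P D.hn K hKC (by rw [hKcard]; norm_num)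
  · exact s1022_case96 P D.hn K hKC (by rw [hKcard]; norm_num)
  · exact s1022_case96 P D.hn K hKC (by rw [hKcard]; norm_num)
  · exact s1022_case96 P D.hn K hKC (by rw [hKcard]; norm_num)
  · exact s1022_case96 P D.hn K hKC (by rw [hKcard]; norm_num)
  · exact hcaseB rfl rfl (by norm_num) (by norm_num) (by norm_num)
  · exact hcaseB rfl rfl (by norm_num) (by norm_num) (by norm_num)
  · exact hcaseB rfl rfl (by norm_num) (by norm_num) (by norm_num)

end Cfsg.Agent.Lib.Helper41
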