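import Mathlib
import Cfsg.Agent.Lib.Helper41.SL2Basic
import Cfsg.Agent.Lib.Helper41.SL2Conj

set_option autoImplicit false

/-!
# Factoring an element of `SL₂(F)` as a product of two elements of prescribed traces (helper41)
-/

namespace Cfsg.Agent.Lib.Helper41

variable {F : Type*} [Field F]

/-- normal form step: if `G 1 0 ≠ 0` then a conjugate of `G` has `(0,0)`-entry zero and the same
`(1,0)`-entry -/
theorem exists_conj_normal_form (G : Matrix.SpecialLinearGroup (Fin 2) F)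
    (hg : (G : Matrix (Fin 2) (Fin 2) F) 1 0 ≠ 0) :
    ∃ U : Matrix.SpecialLinearGroup (Fin 2) F,
      ((U * G * U⁻¹ : Matrix.SpecialLinearGroup (Fin 2) F) : Matrix (Fin 2) (Fin 2) F) 0 0 = 0 ∧
      ((U * G * U⁻¹ : Matrix.SpecialLinearGroup (Fin 2) F) : Matrix (Fin 2) (Fin 2) F) 1 0
        = (G : Matrix (Fin 2) (Fin 2) F) 1 0 := by
  refine ⟨upperU (-(G : Matrix (Fin 2) (Fin 2) F) 0 0 / (G : Matrix (Fin 2) (Fin 2) F) 1 0), ?_, ?_⟩
  · simp only [Matrix.SpecialLinearGroup.coe_mul, coe_inv_eq, coe_upperU, Matrix.mul_apply,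
      Fin.sum_univ_two]
    simp
    field_simp
    ring
  · simp only [Matrix.SpecialLinearGroup.coe_mul, coe_inv_eq, coe_upperU, Matrix.mul_apply,
      Fin.sum_univ_two]
    simp

/-- factorisation for the normal form -/
theorem exists_factor_normal_form (G : Matrix.SpecialLinearGroup (Fin 2) F)
    (h00 : (G : Matrix (Fin 2) (Fin 2) F) 0 0 = 0)
    (hg : (G : Matrix (Fin 2) (Fin 2) F) 1 0 ≠ 0) (t ε a B : F)
    (hconic : a ^ 2 + B ^ 2 - tr2 G * a * B - t * a + ε * t * B + 1 = 0) :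
    ∃ Y₁ Y₂ : Matrix.SpecialLinearGroup (Fin 2) F, tr2 Y₁ = t ∧ tr2 Y₂ = ε * t ∧ Y₁ * Y₂ = G := by
  set g := (G : Matrix (Fin 2) (Fin 2) F) 1 0 with hgdef
  set s := (G : Matrix (Fin 2) (Fin 2) F) 1 1 with hsdef
  have hs : tr2 G = s := by unfold tr2; rw [h00, zero_add]
  have hdet := sl2_det G
  rw [h00, zero_mul, zero_sub] at hdet
  have h01 : (G : Matrix (Fin 2) (Fin 2) F) 0 1 = -1 / g := by
    field_simp
    linear_combination -hdet
  rw [hs] at hconic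
  have hYdet : (!![a, B / g; g * (ε * t - a * s + B), t - a] : Matrix (Fin 2) (Fin 2) F).det = 1 := by
    rw [Matrix.det_fin_two]
    simp only [Matrix.of_apply, Matrix.cons_val', Matrix.cons_val_zero, Matrix.cons_val_one,
      Matrix.cons_val_fin_one]
    field_simp
    linear_combination -hconic
  let Y₁ : Matrix.SpecialLinearGroup (Fin 2) F :=
    ⟨!![a, B / g; g * (ε * t - a * s + B), t - a], hYdet⟩
  have hY₁ : (Y₁ : Matrix (Fin 2) (Fin 2) F) = !![a, B / g; g * (ε * t - a * s + B), t - a] := rfl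
  refine ⟨Y₁, Y₁⁻¹ * G, ?_, ?_, by group⟩
  · simp [tr2, hY₁]
  · simp only [tr2, Matrix.SpecialLinearGroup.coe_mul, coe_inv_eq, hY₁, Matrix.mul_apply,
      Fin.sum_univ_two]
    simp only [Matrix.of_apply, Matrix.cons_val', Matrix.cons_val_zero, Matrix.cons_val_one,
      Matrix.cons_val_fin_one]
    rw [h00, h01, ← hgdef, ← hsdef]
    field_simp
    ring

/-- factorisation: if `G 1 0 ≠ 0` and the conic
`a² + B² - s a B - t a + ε t B + 1 = 0` (with `s = tr G`) has a point, then `G = Y₁ Y₂` with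
`tr Y₁ = t`, `tr Y₂ = ε t`. -/
theorem exists_factor_of_conic (G : Matrix.SpecialLinearGroup (Fin 2) F)
    (hg : (G : Matrix (Fin 2) (Fin 2) F) 1 0 ≠ 0) (t ε a B : F)
    (hconic : a ^ 2 + B ^ 2 - tr2 G * a * B - t * a + ε * t * B + 1 = 0) :
    ∃ Y₁ Y₂ : Matrix.SpecialLinearGroup (Fin 2) F, tr2 Y₁ = t ∧ tr2 Y₂ = ε * t ∧ Y₁ * Y₂ = G := by
  obtain ⟨U, hU0, hU1⟩ := exists_conj_normal_form G hg
  obtain ⟨Y₁, Y₂, h1, h2, h3⟩ := exists_factor_normal_form (U * G * U⁻¹) hU0 (by rw [hU1]; exact hg)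
    t ε a B (by rw [tr2_conj]; exact hconic)
  refine ⟨U⁻¹ * Y₁ * U, U⁻¹ * Y₂ * U, ?_, ?_, ?_⟩
  · have := tr2_conj U⁻¹ Y₁
    rw [inv_inv] at this
    rw [this, h1]
  · have := tr2_conj U⁻¹ Y₂
    rw [inv_inv] at this
    rw [this, h2]
  · calc U⁻¹ * Y₁ * U * (U⁻¹ * Y₂ * U) = U⁻¹ * (Y₁ * Y₂) * U := by group
      _ = G := by rw [h3]; group

/-- general version: any non-central `G` -/
theorem exists_factor_of_conic' (G : Matrix.SpecialLinearGroup (Fin 2) F)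
    (hG : G ∉ Subgroup.center (Matrix.SpecialLinearGroup (Fin 2) F)) (t ε a B : F)
    (hconic : a ^ 2 + B ^ 2 - tr2 G * a * B - t * a + ε * t * B + 1 = 0) :
    ∃ Y₁ Y₂ : Matrix.SpecialLinearGroup (Fin 2) F, tr2 Y₁ = t ∧ tr2 Y₂ = ε * t ∧ Y₁ * Y₂ = G := by
  obtain ⟨W, hW⟩ := exists_conj_apply_one_zero_ne_zero G hG
  obtain ⟨Y₁, Y₂, h1, h2, h3⟩ := exists_factor_of_conic (W * G * W⁻¹) hW t ε a B
    (by rw [tr2_conj]; exact hconic)
  refine ⟨W⁻¹ * Y₁ * W, W⁻¹ * Y₂ * W, ?_, ?_, ?_⟩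
  · have := tr2_conj W⁻¹ Y₁
    rw [inv_inv] at this
    rw [this, h1]
  · have := tr2_conj W⁻¹ Y₂
    rw [inv_inv] at this
    rw [this, h2]
  · calc W⁻¹ * Y₁ * W * (W⁻¹ * Y₂ * W) = W⁻¹ * (Y₁ * Y₂) * W := by group
      _ = G := by rw [h3]; group

end Cfsg.Agent.Lib.Helper41
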