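import Mathlib
import Cfsg.Agent.Lib.Helper41.SL2Basic

set_option autoImplicit false

/-!
# Frobenius trick for `SL₂` in characteristic `p` (helper41)

`A^p + A^{-p} = (tr A)^p`.
-/

namespace Cfsg.Agent.Lib.Helper41

variable {F : Type*} [Field F]

theorem coe_commute_coe_inv (A : Matrix.SpecialLinearGroup (Fin 2) F) :
    Commute (A : Matrix (Fin 2) (Fin 2) F)
      ((A⁻¹ : Matrix.SpecialLinearGroup (Fin 2) F) : Matrix (Fin 2) (Fin 2) F) := by
  rw [Commute, SemiconjBy, coe_mul_coe_inv, coe_inv_mul_coe]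

theorem smul_one_pow (c : F) (n : ℕ) :
    (c • (1 : Matrix (Fin 2) (Fin 2) F)) ^ n = c ^ n • (1 : Matrix (Fin 2) (Fin 2) F) := by
  rw [smul_pow, one_pow]

theorem frob_p (p : ℕ) [Fact p.Prime] [CharP F p] (A : Matrix.SpecialLinearGroup (Fin 2) F) :
    (A : Matrix (Fin 2) (Fin 2) F) ^ p
      + ((A⁻¹ : Matrix.SpecialLinearGroup (Fin 2) F) : Matrix (Fin 2) (Fin 2) F) ^ p
      = (tr2 A) ^ p • (1 : Matrix (Fin 2) (Fin 2) F) := by
  rw [← add_pow_char_of_commute p (coe_commute_coe_inv A), coe_add_coe_inv, smul_one_pow]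

theorem frob_pn (p : ℕ) [Fact p.Prime] [CharP F p] (n : ℕ) (A : Matrix.SpecialLinearGroup (Fin 2) F) :
    (A : Matrix (Fin 2) (Fin 2) F) ^ (p ^ n)
      + ((A⁻¹ : Matrix.SpecialLinearGroup (Fin 2) F) : Matrix (Fin 2) (Fin 2) F) ^ (p ^ n)
      = (tr2 A) ^ (p ^ n) • (1 : Matrix (Fin 2) (Fin 2) F) := by
  rw [← add_pow_char_pow_of_commute p n (coe_commute_coe_inv A), coe_add_coe_inv, smul_one_pow]

theorem frob_card [Fintype F] (A : Matrix.SpecialLinearGroup (Fin 2) F) :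
    (A : Matrix (Fin 2) (Fin 2) F) ^ (Fintype.card F)
      + ((A⁻¹ : Matrix.SpecialLinearGroup (Fin 2) F) : Matrix (Fin 2) (Fin 2) F) ^ (Fintype.card F)
      = (tr2 A) • (1 : Matrix (Fin 2) (Fin 2) F) := by
  obtain ⟨p, hp⟩ := CharP.exists F
  have : Fact p.Prime := ⟨CharP.char_is_prime F p⟩
  obtain ⟨n, hp', hn⟩ := FiniteField.card F p
  rw [hn]
  have := frob_pn p (n : ℕ) A
  rw [this, ← hn, FiniteField.pow_card]

/-- the inverse power is the inverse of the power -/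
theorem coe_inv_pow_mul (A : Matrix.SpecialLinearGroup (Fin 2) F) (n : ℕ) :
    ((A⁻¹ : Matrix.SpecialLinearGroup (Fin 2) F) : Matrix (Fin 2) (Fin 2) F) ^ n
      * (A : Matrix (Fin 2) (Fin 2) F) ^ n = 1 := by
  rw [← (coe_commute_coe_inv A).symm.mul_pow, coe_inv_mul_coe, one_pow]

theorem inv_pow_eq_of_mul_eq_one (A : Matrix.SpecialLinearGroup (Fin 2) F) (n : ℕ)
    (B : Matrix (Fin 2) (Fin 2) F) (h : (A : Matrix (Fin 2) (Fin 2) F) ^ n * B = 1) :
    ((A⁻¹ : Matrix.SpecialLinearGroup (Fin 2) F) : Matrix (Fin 2) (Fin 2) F) ^ n = B := by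
  calc ((A⁻¹ : Matrix.SpecialLinearGroup (Fin 2) F) : Matrix (Fin 2) (Fin 2) F) ^ n
      = ((A⁻¹ : Matrix.SpecialLinearGroup (Fin 2) F) : Matrix (Fin 2) (Fin 2) F) ^ n
          * ((A : Matrix (Fin 2) (Fin 2) F) ^ n * B) := by rw [h, mul_one]
    _ = B := by rw [← mul_assoc, coe_inv_pow_mul, one_mul]

/-- In odd characteristic `p`: if `A^(2p) = 1` then `A^p` is scalar. -/
theorem pow_p_scalar_of_pow_two_p_eq_one (p : ℕ) [Fact p.Prime] [CharP F p] (hp : p ≠ 2)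
    (A : Matrix.SpecialLinearGroup (Fin 2) F)
    (h : (A : Matrix (Fin 2) (Fin 2) F) ^ (2 * p) = 1) :
    ∃ c : F, (A : Matrix (Fin 2) (Fin 2) F) ^ p = c • (1 : Matrix (Fin 2) (Fin 2) F) := by
  have h2 : (2 : F) ≠ 0 := by
    intro h2
    have : ((2 : ℕ) : F) = 0 := by exact_mod_cast h2
    rw [CharP.cast_eq_zero_iff F p] at this
    have hp2 := (Nat.prime_dvd_prime_iff_eq (Fact.out : p.Prime) Nat.prime_two).mp this
    exact hp hp2
  have hinv := inv_pow_eq_of_mul_eq_one A p ((A : Matrix (Fin 2) (Fin 2) F) ^ p)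
    (by rw [← pow_add, ← two_mul, h])
  have hf := frob_p p A
  rw [hinv, ← two_smul F] at hf
  refine ⟨(2 : F)⁻¹ * (tr2 A) ^ p, ?_⟩
  rw [mul_smul, ← hf, smul_smul, inv_mul_cancel₀ h2, one_smul]

/-- In odd characteristic `p`: if `A^(2p) = -1` then `A * A = -1`. -/
theorem sq_eq_neg_one_of_pow_two_p_eq_neg_one (p : ℕ) [Fact p.Prime] [CharP F p]
    (A : Matrix.SpecialLinearGroup (Fin 2) F)
    (h : (A : Matrix (Fin 2) (Fin 2) F) ^ (2 * p) = -1) :
    (A : Matrix (Fin 2) (Fin 2) F) * (A : Matrix (Fin 2) (Fin 2) F) = -1 := by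
  have hinv := inv_pow_eq_of_mul_eq_one A p (-(A : Matrix (Fin 2) (Fin 2) F) ^ p)
    (by rw [mul_neg, ← pow_add, ← two_mul, h, neg_neg])
  have hf := frob_p p A
  rw [hinv, add_neg_cancel] at hf
  have ht : (tr2 A) ^ p = 0 := by
    have := congrFun (congrFun hf 0) 0
    simpa using this.symm
  have ht0 : tr2 A = 0 := pow_eq_zero_iff (Fact.out : p.Prime).ne_zero |>.mp ht
  rw [cayley_hamilton, ht0, zero_smul, zero_sub]

end Cfsg.Agent.Lib.Helper41
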